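import Cfsg.Agent.Helper17.SuzP3TC.FinLast
import Cfsg.Agent.Helper17.TCGeneric
import Cfsg.Agent.Helper17.TCGeneric2

set_option autoImplicit false
set_option linter.all false
set_option maxRecDepth 100000
set_option maxHeartbeats 0
set_option Elab.async false

noncomputable section

namespace Cfsg.Agent.Helper17.SuzP3TC

open Cfsg.Spor Cfsg.Agent.Helper17.TCG Cfsg.Agent.Helper17.SuzSub

def c0 : ℕ := 0x86f0da1ac2b8670aa18c3085d0be1642d8690ca14c1582501612c0e83102a10c2083f066003f37e2fd60f42382d05e1441382909e08bcf7c9091e2bc47d9089e13d1780efa133bc792fa200c1d75aff9fcbb3772fe9febc8746fda0d3eb838e6a0db95768f55c9c0b7e8f95c5c027bee19f540f7c2df9f1b7c7cedd9bab747b2dc5edb91702ef5f73646c4e7e04372820d95ad35d6fed5a01bf86a4e3606c0c69d025a6c07693019eb404688d09fdb416a8e119fbef7f8ce1ce33666acc9ffb2d74ad79acb24672e81d5b3b7eed4d8eba67a4c5dc7bb162afc98938e6cec39f83337dac25ec31373ae61e33017d2bfdbcb0b6f0f99bd3b65eebd9ebaf1796f89773e05d6e15c4b875c8f79eebdc5bef41ed2dc68adb5b72db5b2c156c32972e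b4de73d45a0f4da42cd5c4ea9e62d1590f35d4aca5def297d3b7744f1d8f33456af0de0ab368eac9dfb61696abdb7bbb556ee9dc2a976aa959e33d748a91d3bb253eec1d7b50728eb988a9952ca51d629363ec9db4290654a4546ba8620a318c286656d45d0abc502b993f32173c9edcda77720e6598b234e6e5938a9a710a61c926c6049adb52764d0c1dc626771499573a6e4c4d5530ae8706e092fa5e4b8b31c02576aedf52a2c66f6945292f85fac6927377498d7d5c24a6e6a3d23b706d8ab5b5b694829011e2c46cc8e5ae36346aac1b02f2462d611bb5b536bb1612d444eb15172284aa8994f31c54e88151ae143aa11a7a1a698d290bace68c8516d244686841a020e5768359f33a57282d4ea0866eaf550a0558ec319830a3fccbcfe32e6587e5933285bc7e192b2249e7cd3e1f0500c80f6ab64007a98da873d0c64f3a8962c7953a1e4628c10f0a7961e781869de404bf0edb0860c764f13036007557f1d23b8bed7c9ce5eabd0e52f34b08ece3a5b5e07215faed384ba5751c1516b94deae338cb80dd1f75ba6dcf92ac3688456bad63646c4d7ad54b46b5691aa59269d679a642a8bd659a3464b04d21a834480ccf2c0586af8ce99c40c65ce62ba32c8295b9933d8ad0c898f56263919aae316631212aa312aa153185544878c1aa030088d4e17d4549bcb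ca832f0a5cbb2953ea5d14928e4905c8fd96f514914b6a882d65a942a1b2d0a08b3a7f4fa5913d2782c49a53aa722bc9c0ada634da55d351562c074d331533ac990aa1592a4980a7a2129c974a62564b292ca59be29094d2814628871126943294924a017148c4f89e2432768fd1f13747a6ad1d13435c8e09aa2c46c8d097a2d4608ac9712d2f48a512a2425049cbf12544487c919824384810c91e4308588da124264690791822c4e50611541265089a072246650210f22067d009ff2167f4999fa2107d8dc1063e8414f89033de7b8809eb3d23f47f1e61f678c7d1d72b877c7b95f3ba3e0e80f63b4760789d13a873c780ef39a72c751c938a6ec741c31ca700719bf378384739b91bc6d86e1b5366368c30d936035cd49ac2ea358950d334a684d00d11a04c46719b334330cc12132a32492192194640860c631a6286218818461cc20c03025fc5e97b2f82f05d11d2ee2e46a97316c5c0b70b32d8320b48b015c594b30ad2c65845495a2ba560540a71d6290aa9512a02885089f1e65344f149282270a389b28a37ca10981c44fc4c93d12e4e89c09226c4c8848902602349612b1164a44512611047c9110210e4704211910445c5a1140fe2008890e0fa4348507a11e41c3b8c12081d8431000e43fc7e0701261b87c8f51e81b0358f20d23b8768671d83a4328e61c81886e8e01b61843005d1563602e0d416e1686905919e3342b0cb18e2c42a0c50a230c278be17e1385d84c0f02e02507b16a2c8240530962bc248ac0882a8218a614a1045184014015c4e83d07c2684b0950760e84a09106e238460340cc224198850e80c44182f1021f81687c0e61e4388750520ac1506f0da0983506804618c320220be178100350b60781c0580aa0702901f0a00742681808c1142381702c1080982407e0f0088390600d81703201a03c0702c05009c0501404a048108070340640d80600a054048080200300580100600802000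

def c1 : ℕ := 0x8690ca16c3784d0da1142485f0b21ac2e83d05e06c0c8130ce024308370c5febfb7ef0ae0ec0a846fba0cbe9855059eebdc7b4f49e6c0f820f9e14c2878707213bc17c4f51eb425770fc1d7bf9764eb210ba8840e9a003bb83ee85cfb9e7e6fb5cb402729069f93c7720e5e0c38a81ce11f23e574101df0bb97bedde0ac146e704db836b6cd015e140675d049b0b5f79cf3e08bcb798d6daab697d8d45a834f816f560434a6fad21deb6f7f0db5f0403680d05d833c674ffd9bbb5802f4d973fe658ca9b03fc644fe99031e68cd0dfb3e37eafd18b32567cc4dc93797d4fc586bef62ee65833eb608c0d81333710fa17f38b5f6be97cbe6628dedbfb27702c65dfb7c704ba5cc2e77bcb8d70ae07b6b796ebd9778d4ddd2d87b0b5de42d56caf5db3b4d5dab3de8ba97a0b31ae35d794b1d62ac2580af9e4abd6dcadde33c5788ad1b233063af0158bbe68ee8da2aac744aa9db3b7552e6d803b4546ecd512a0762a794e334718b954d34c52eeb550bab524ea948a95700b49ce30f518e9d8dba550ae91a5a84642a0dbf27d726e753c3837349d93aa74648c2dcaa7061c9b53daf5572e453538f71ce3533b3d5f8e25322ff70ee19c2a6054c985842ea4ba96d2c28f4acb99b1a534a4bd1bd2506f0bb99924d6ec92dbab74492dc9b8a4648890d5d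36c6d4ab9b423b5a2c9969a366c48d11935e4748bd16a2b6b48a5aca284b2d611335744ad59aa222442b6583ab56a48715c34e430a09a4a1655eb5909344420d099fa8a482bdd06272676ce596b3840ecd94eb35536cc4ffa0265e7f5941fb3f4cad949f85e08e0fa3233eeaa13f9f13de7b98fb1c634ac8f49ec5127a98c1e66128fd05b153c6c4988b103c0a913730c3ba9c5851da43ec14ec1d660277ce9afd3a273d7b2f8396739799c95e472161af138cbbce29c35d8bace0ae837e6f9721bc5c491d6f9b9494b70daadb5b46cd539b44f484cd81ae5a8b2cd5a8e352b40e22ce34ab34d21ac594689649a1590681632c433ab055fa04412af15d9964d66550d2b632487507ab3400ac0c698c47cab4c52ab43261cc32a54f2625119f553e5fd02a242f6a60fb2175325dd4b175528a4cb9a905168050428d2dc5c54416c50ea18b4a802e09f9409662ca9f0b19844ee584afa734cc5713795a2b09b0e62692aa9a0aa15d4ca549319514c4978cd9d94be5352e25a29695d2aa354a851d2894949e938a1a4c2846dd2413f37454122a404844e09da3d26c8f09aa304724cd1b9322624c119a3125c8b91622a2564a51392d39a5f0c09262488810f12224286c8f98823a4710aa142348450519041c8348a9e4228460cc96f40c4448819a4064388690c3fc428fe16a3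f241cf91eb3007cc821f02045d0f68ff1fc7a0f38fc3ca4e4f10f93c23e0ea1de1ec7707a9db1e63c8eb9d51e0748e81b61d83ace50e938e3bce012a384390730e237a6ec700df370374768db3624b0b11b21b06bcd68d63546a0d39a61a468cce13a33e520cf0cd1a066065997194650c98c832231cc798e18a62c6a18219e304c298317e2f8bf17d1785e8bc9781725d85c1012e42d45a16d1645ac840f42d059c569641562a8b015e15056cac9002ae558519532943b89e94f29c278a609d142514671461345104c94128025c9f096278250499371224d05391918c4bc4612722e3949408924a48c4392023c34c8d88311c2048b0802264483f10f10a1ec859090f21e0831050ec40c3a87314a1c47e8951f63e8368f71aa2985786e1e21a0738a00cc3a8740640c638c708611bc370560da1b21706b85b0d630c420d10b015c660551921805d88d188140610c009c2f42685217412c5b8b60922cc58847160118570450bc2905484211e1a8218a207e27c1f09c1360f04c0860be1bc1c0921200d81a88b1140cc440320741f01808205c1fc3e82c0f40ac3b82a0e81c8380270d21b0128240ce1941106204214c1c85d03e1682c81d0ac1500d85103413c0c84c0941200b028088050208400240f41d81006e03c1a00e0620bc1680b0180a40a82601208c0402003c070028170300100981100400c0680a00c01c00001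

def c2 : ℕ := 0x8630ce14c2786d08e1bc208510560a4138250621ac2f86906e0fc03865025ff43084afd1ffbf284cfd5f5c2a7c903e1742d8590ae00c1082cf25ee40c7b0f0a113d380eefdf8bbb848ece08bad83b085d5be8770fd9d2bf77f0fea0d41e73507202bb472ae4deab91832e2df2bfc70ae19f4c176fcf85f137b6f4f65ed40d6ecf75ef40b700d95f6b63810e79b137379eef5adb586aeebe073a371ad49ba3c4775029a63c080cd25e7344808f0da0bfb74ee099f3f0804ec9cdb37794cc20032c7fad8194b8976ec85fcb43790c718db1862ef49b5315762fcd8a31161cd9df7b0c7dcc21f639060acc5e3b037d4bf9d430b6eef99f3af65eaed978bd75def8d76aeb7c0f7d922e470ef6db8bc57a0b7dbaafb5b4b65b5adb6dae756b35972cb49eb2d07a8f45673aa5c6b35652c979ab21b43cc796cd57cb39578f195b2b5668d0959bc1564d1ddf2b0694ab956bbc748d39dcaa854aed55233a556cf1aa338760a7dab34f534a65c73ae63ec8149bac52ca45d4a9264cc9d8837951aa29d332e65ea1140ba2742b953eba073e9e9ce3996269ddcc3254eae5d38394710a5d363924d6c09c7a69718c19342664cae2945a636e0985aaabf4bee11c1a5d5d8b2dc0a646fe951beaf36f894d74a5549e9398d3786be931252b86e492123a626d8dbdb7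24047eda56223c472d991bb64468d85af2315e4d75ae35a454971142d5452b01172c25f089111b5354c8890f2e0438d45a821969ad2d0b348428d19a2a4367683d0734041aaed9fb3d4148250429d66c81950204406ccd991fe614cacfea8665aca1951f93ee7d9919f35fac88f827c4fea5136b1e3fe7a58e9e850e79d8ca883cac58f227462478987a783c277cef30d40277142b0960e761823013aac017faf05f8b717d1cd5ee7297a2c63908e8e4a563a4961742ee5d4948e11c05ceb98dfae2376b84dcade5ba6d8f89b45588b0d92d85ae6c10aad435a969699dd5a2860d32cf35e691661a545ab0517a42340b1d61ac533c670cdabe57aae8e599732aae4c9ab73d66455a23631cac51eaaf31a848d4189554aa553987306a8d512a12fea78bea9c5365e537978506a614a9762e87d54817251ea38fd16e5185b522a892d85a8ed96843659d412804fc6d53da792c29d93995e4e49c51c26e3da58cab26a2c0551339553a295ce99d02a053d3014e4429792ca5b298528a494837c944a325049a70ca21424965012497027c918f32442749049ba3e4664d51d93635256cd5a1131e8d51823225e4b49622b32089c9422644a4989297e44048d0f98143a4fd0d19f34e85d0998c236465081174184e08b11441644cca11240e661029112f64790120021a7f0849fb2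0e7e0831b820a7d0f91ef2067b8801ec3d43fc7f13c3b43e8f19d71f07807c95a354570ac8f41f6764ea1d61e23bc771cf39c730761c71d0718e29c41c8704719bd1c26f0731ba3246dc9e9641b46cc6c9863626b0d70d71aa3506992a346344d11a119e4c06699d198668cc8ca32c32c8f8de2425e86310c316310c50c231061460184304600be11017a2ecbb91c1742e0ba8b62e65c4b78b52d62c4581692cc594570ac2ae588ae95f15229c531581483aca98a22a45445014d1e427c4e94b1385044d94728a264a189a1ba4806f8dc12a4ec9c894268240999322622309708b256228949272444904408610a4744191a104460401151022d08787d21c42c3d10a11c420820be0ee1d48110115e3f4380fc0dc24c7b86c1ec3d4350f30d03c0338ed1d4194748e71ca380710620c017c6d8d81541742d8d60b42dc2c8d21a03382c0c90a83206385118a30c5f8c109e1345e04c0962e428073166120590520f01c8228ad0de2ac210a8082294200a31420f84f03f0ae2601d89712c0e44903712223c468890c60d0190870621d0420790fe0b43f07c0f60bc150760580a03884404c1b4358690c8198118210c20802f01f0b809418056038154298350940642704702e1240c04602a10c1b01407a0441e03a07004c07033020030170290560281382403c0201101b00c0740381a0080580181201a03c0080b01200002802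

def c3 : ℕ := 0x86b0c21bc2d84b09210c3683307a1a42b85903a08c0b81101219c32804ff618bfa7ed0b9f9c007e101a17be87cef7df63db7b2f4614bcc7970a9e6bc3850fe5e0c2777f069de42676f08dff41c763006113a774d082053a274307ddf39d83ae65cac1b748f51c941571ef5dc541882eec1c0b7f7c0df5be3e382cf4de3b73828dc209b6a7d4dbdb23ee7bcd860935e6bad7206c1081eea5aa3537bae31ad34e818d3604b4980efd5a2c05686db1d0340806cfdc233b672cddffbe6758dddce3af656dc9e53227f8fed8fbef63afe1fbbb9690c59fa3ad628c49f93786ccc35f8b1e612fb582b047d6e1d80bc65fefa57eafc71ccd97c3b567cbd1f2af07c8bb9f13e15d4ba173b9875cd89a92df7b8ea96e3da7acda56c3ba5aef61b73285a6e5d68bd55d8dd9e935b598f41e7bce6c0f15ab2c157ed655ebc9790dd599ac7568f11e132f68cac5e039f55ed2ddeaab776b6d54bb876ce0d5caa3768a89d9a9f764e1996a9b6a2b914c297698c959aa92756b794836851ea399728c61eea144a8574ae51d1a804fe9f97327c4f6e793bb9b4ece69852736469c5cb26f4dcc45c9af36009a9c8b905f699dc6b07716991c4b88606a793038554a9792eb82610b892bb804aadf929b634a2ded2837a6f2c6526b3259ebc95ba496e8ca92337168490920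b6d6d68f94aac36ce8e1b2ac65c68cd6435f4608b9162cd6a0b415f2275a8899ac2256aeb15aaa87440a9d9ea1d5c286d0d34f52c85da521568e84d08a10688911a0a885748317ba0b678ce94e207670be902aa1668808ff331660acd6aa8d3f2cb0fc32964ec994a3243e47c590aa85787b5901ec3d4800f431c636c68f331862e8f5391e362ac4d369e06209e5871dd618c2d3aa5c3b2c18eba62604750e92fe3a09a0e72f9394bd97aa6c49671d1d9c65e2715779c25da70575ae948a6f572a354b66e9701b836eb7527aaa366b696c9b1360b593d1fc4b26b0d52d23508a5261a559c8acd1acb344b28d0ac946467d1b19d588b096019a3327bccb2bb3986515c19256cad4c81fd5646355818b55c62956aac3107c0c2aa6548608c09805405f94e97c2f4a68f5a822eea650c23c3e85cd49a912e25c0b79fb2daa2d4520e4445a543284402a0cb32812c89f4d79624f0580eda742ba56d381593c2725359554d273ca9a662a4994a8a633ac984cc21f29a97ced14b4b49612b1bc28e9512914536a50d271c42829289fa4848e4f4df93b4864dd2023f3ca5d49a23a2668e49923733c4bd1a12e4628bd1692b45469d1412724c891119cd2d68849121e2408708f2192ec46d0b11a4288488c20f2d84550693922682904a0822281887a0421c80cb410b3fe63cd71083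f4418fb9f63ea410f998732e404f71791fa7a47e1e726c7907c9e22b03dcef8f63bc3d4ee15f2983c4ec0f03aa74ce88ed24a3a8e595739039c730e538638ce013c37c380dd8de372370db14436845cc20d836458c6b1ad3566a4948d234c690680cf340338988cc33866ca79021926546419318e644850c531c6306198927440cc30bf3062f4bf8bc2fa5ec7f8b92f04745b97416a5c85996e22c490b50af21a2b4b39651ae2a4b08a82bc570ad0a51d228cab154142280a80cb13c5387989c294524a409a28c36c4c14212e5004b13e1c4308491381f64d44788e11a4c04592d2584a8449281d821c9192123e2108e0822323685907f2281f8891100f82b8860792121dc8387620a3043a0722002e87f06f1221b47d0f80d61a87a0691e419c778ee1103ac320e80c4390308e11be3742f0810b83645585a1aa350698581a21586689f19414c290c60a03104a04e1802f8260bb0e21285c04916c2d0238b108c2c03d84415810c5504114e2985203f1441541e89d07826c4c83a0722542789306c2401a08c0662283303110c214178830ba2001607d0561e83c0290ea1cc138700dc094360230d0088328630401802f82e03c16c0e8590ae06c2a01a0a20e00c04d0960582401508a04c210120800f80803b01e0dc1a80d0640c00582d0140a81400904c0900382103e0140e00403205c0a0020220040700c00002003003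

def colOf : ℕ → ℕ
  | 0 => c0
  | 1 => c1
  | 2 => c2
  | 3 => c3
  | _ => 0

def subW : ℕ → List ℕ
  | 0 => [0]
  | _ => []

def nsub : ℕ := 1

def idx : Gn → ℕ
  | .a => 0
  | .b => 1
  | .c => 2
  | .d => 3

def subS : Set (FreeGroup Gn) := {SuzP3.a}

def lkc (c i : ℕ) : ℕ := Nat.land (Nat.shiftRight c (Nat.mul 11 i)) 2047

def lk2 (l i : ℕ) : ℕ := lkc (colOf l) i

def tb (i l : ℕ) : ℕ := lk2 l i

theorem tb_eq (i l : ℕ) : tb i l = lk2 l i := rfl

def evalC (w : List ℕ) (i : ℕ) : ℕ :=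
  List.rec (motive := fun _ => ℕ → ℕ) (fun i => i) (fun l _ ih i => ih (lk2 l i)) w i

theorem evalC_cons (l : ℕ) (w : List ℕ) (i : ℕ) : evalC (l :: w) i = evalC w (lk2 l i) := rfl

/-- kernel-fast evaluation on a list of column literals -/
def evalK (cw : List ℕ) (i : ℕ) : ℕ :=
  List.rec (motive := fun _ => ℕ → ℕ) (fun i => i) (fun c _ ih i => ih (lkc c i)) cw i

theorem evalK_cons (c : ℕ) (w : List ℕ) (i : ℕ) : evalK (c :: w) i = evalK w (lkc c i) := rfl

theorem evalC_eq_evalK (w : List ℕ) (i : ℕ) : evalC w i = evalK (w.map colOf) i := by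
  induction w generalizing i with
  | nil => rfl
  | cons l w ih => rw [evalC_cons, List.map_cons, evalK_cons, ih]; rfl

def pK (cw : List ℕ) (i : ℕ) : Bool := Nat.beq (evalK cw i) i

def ltAll (w : List ℕ) : Bool := w.all fun l => Nat.blt l nl

theorem ltAll_spec {w : List ℕ} (h : ltAll w = true) : ∀ l ∈ w, l < nl := by
  intro l hl
  simp only [ltAll, List.all_eq_true] at h
  have := h l hl
  rwa [Nat.blt_eq] at this

def pInvK (c i : ℕ) : Bool := Nat.ble (Nat.succ (lkc c i)) N && Nat.beq (lkc c (lkc c i)) i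

def pInv (l i : ℕ) : Bool := pInvK (colOf l) i

theorem INV0_0 : allR 0 1080 (pInvK c0) = true := by decide +kernel

theorem INV0_all : ∀ i, i < N → (pInvK c0) i = true := by
  intro i hi
  have hN : N = 1080 := rfl
  exact (allR_iff _ _ _).mp INV0_0 i (by omega) (by omega)

theorem INV1_0 : allR 0 1080 (pInvK c1) = true := by decide +kernel

theorem INV1_all : ∀ i, i < N → (pInvK c1) i = true := by
  intro i hi
  have hN : N = 1080 := rfl
  exact (allR_iff _ _ _).mp INV1_0 i (by omega) (by omega)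

theorem INV2_0 : allR 0 1080 (pInvK c2) = true := by decide +kernel

theorem INV2_all : ∀ i, i < N → (pInvK c2) i = true := by
  intro i hi
  have hN : N = 1080 := rfl
  exact (allR_iff _ _ _).mp INV2_0 i (by omega) (by omega)

theorem INV3_0 : allR 0 1080 (pInvK c3) = true := by decide +kernel

theorem INV3_all : ∀ i, i < N → (pInvK c3) i = true := by
  intro i hi
  have hN : N = 1080 := rfl
  exact (allR_iff _ _ _).mp INV3_0 i (by omega) (by omega)

theorem INV_all : ∀ l, l < nl → ∀ i, i < N → pInv l i = true := by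
  intro l hl
  unfold nl at hl
  interval_cases l
  · exact INV0_all
  · exact INV1_all
  · exact INV2_all
  · exact INV3_all

theorem tb_spec {i l : ℕ} (hl : l < nl) (hi : i < N) : tb i l < N ∧ tb (tb i l) l = i := by
  have h := INV_all l hl i hi
  simp only [pInv, pInvK, Bool.and_eq_true, nble_succ, nbeq] at h
  rw [tb_eq, tb_eq]
  exact h

def sg (l i : ℕ) : ℕ := if l < nl ∧ i < N then tb i l else i

theorem sg_sg (l i : ℕ) : sg l (sg l i) = i := by
  unfold sg
  by_cases h : l < nl ∧ i < N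
  · obtain ⟨h1, h2⟩ := tb_spec h.1 h.2
    rw [if_pos h, if_pos ⟨h.1, h1⟩, h2]
  · rw [if_neg h, if_neg h]

theorem sg_lt {l i : ℕ} (hi : i < N) : sg l i < N := by
  unfold sg
  split_ifs with h
  · exact (tb_spec h.1 h.2).1
  · exact hi

theorem sg_ge {l i : ℕ} (hi : N ≤ i) : sg l i = i := by
  unfold sg; rw [if_neg]; omega

def σ (l : ℕ) : Equiv.Perm ℕ := ⟨sg l, sg l, sg_sg l, sg_sg l⟩

theorem σ_apply (l i : ℕ) : σ l i = sg l i := rfl

theorem σ_mul_self (l : ℕ) : σ l * σ l = 1 := by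
  ext i; simp [σ_apply, sg_sg]

theorem σ_inv (l : ℕ) : (σ l)⁻¹ = σ l := by
  rw [inv_eq_iff_mul_eq_one]; exact σ_mul_self l

def evalw : List ℕ → ℕ → ℕ
  | [], i => i
  | l :: w, i => evalw w (sg l i)

def permw : List ℕ → Equiv.Perm ℕ
  | [] => 1
  | l :: w => permw w * σ l

theorem permw_apply (w : List ℕ) (i : ℕ) : permw w i = evalw w i := by
  induction w generalizing i with
  | nil => rfl
  | cons l w ih => simp [permw, evalw, ih, σ_apply]

theorem evalw_ge (w : List ℕ) {i : ℕ} (hi : N ≤ i) : evalw w i = i := by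
  induction w with
  | nil => rfl
  | cons l w ih => rw [evalw, sg_ge hi, ih]

theorem evalw_lt (w : List ℕ) {i : ℕ} (hi : i < N) : evalw w i < N := by
  induction w generalizing i with
  | nil => exact hi
  | cons l w ih => rw [evalw]; exact ih (sg_lt hi)

theorem evalw_eq_evalC (w : List ℕ) (hw : ∀ l ∈ w, l < nl) {i : ℕ} (hi : i < N) :
    evalw w i = evalC w i := by
  induction w generalizing i with
  | nil => rfl
  | cons l w ih =>
    have hl : l < nl := hw l (List.mem_cons_self ..)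
    have e : sg l i = lk2 l i := by unfold sg; rw [if_pos ⟨hl, hi⟩, tb_eq]
    show evalw w (sg l i) = evalC (l :: w) i
    rw [evalC_cons, ← e]
    exact ih (fun l' h' => hw l' (List.mem_cons_of_mem _ h')) (sg_lt hi)

def pW (w : List ℕ) (i : ℕ) : Bool := Nat.beq (evalC w i) i

theorem permw_one {w : List ℕ} (h1 : ltAll w = true) (h2 : ∀ i, i < N → pW w i = true) :
    permw w = 1 := by
  ext i
  rw [permw_apply, Equiv.Perm.one_apply]
  by_cases hi : i < N
  · rw [evalw_eq_evalC w (ltAll_spec h1) hi]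
    exact nbeq.mp (h2 i hi)
  · exact evalw_ge w (not_lt.mp hi)

theorem gen_idx (a : Gn) : gen (idx a) = a := by cases a <;> rfl

theorem idx_lt (a : Gn) : idx a < nl := by cases a <;> decide

theorem idx_gen {l : ℕ} (hl : l < nl) : idx (gen l) = l := by
  unfold nl at hl; interval_cases l <;> rfl

def fG (a : Gn) : Equiv.Perm ℕ := σ (idx a)

def coxW (i j m : ℕ) : List ℕ := (List.replicate m [j, i]).flatten

def coxK (ci cj m : ℕ) : List ℕ := (List.replicate m [cj, ci]).flatten

theorem coxW_map (i j m : ℕ) : (coxW i j m).map colOf = coxK (colOf i) (colOf j) m := by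
  induction m with
  | zero => rfl
  | succ m ih =>
    simp only [coxW, coxK, List.replicate_succ, List.flatten_cons, List.map_append, List.map_cons,
      List.map_nil] at ih ⊢
    rw [ih]

theorem pW_of_pK {w cw : List ℕ} (hm : w.map colOf = cw) (h : ∀ i, i < N → pK cw i = true) :
    ∀ i, i < N → pW w i = true := by
  intro i hi
  rw [pW, evalC_eq_evalK, hm]
  exact h i hi

theorem permw_coxW (i j m : ℕ) : permw (coxW i j m) = (σ i * σ j) ^ m := by
  induction m with
  | zero => rfl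
  | succ m ih =>
    rw [pow_succ, ← ih]
    simp [coxW, List.replicate_succ, permw, mul_assoc]

theorem pow_swap {i j m : ℕ} (h : (σ j * σ i) ^ m = 1) : (σ i * σ j) ^ m = 1 := by
  have e : σ i * σ j = (σ j * σ i)⁻¹ := by rw [mul_inv_rev, σ_inv, σ_inv]
  rw [e, inv_pow, h, inv_one]

def PC (i j : ℕ) : Prop := (σ i * σ j) ^ coxLabel SuzP3.edges (gen i) (gen j) = 1

theorem CX_0_1_0 : allR 0 1080 (pK (coxK c0 c1 5)) = true := by decide +kernel

theorem CX_0_1_all : ∀ i, i < N → (pK (coxK c0 c1 5)) i = true := by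
  intro i hi
  have hN : N = 1080 := rfl
  exact (allR_iff _ _ _).mp CX_0_1_0 i (by omega) (by omega)

theorem CX_0_2_0 : allR 0 1080 (pK (coxK c0 c2 2)) = true := by decide +kernel

theorem CX_0_2_all : ∀ i, i < N → (pK (coxK c0 c2 2)) i = true := by
  intro i hi
  have hN : N = 1080 := rfl
  exact (allR_iff _ _ _).mp CX_0_2_0 i (by omega) (by omega)

theorem CX_0_3_0 : allR 0 1080 (pK (coxK c0 c3 2)) = true := by decide +kernel

theorem CX_0_3_all : ∀ i, i < N → (pK (coxK c0 c3 2)) i = true := by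
  intro i hi
  have hN : N = 1080 := rfl
  exact (allR_iff _ _ _).mp CX_0_3_0 i (by omega) (by omega)

theorem CX_1_2_0 : allR 0 1080 (pK (coxK c1 c2 3)) = true := by decide +kernel

theorem CX_1_2_all : ∀ i, i < N → (pK (coxK c1 c2 3)) i = true := by
  intro i hi
  have hN : N = 1080 := rfl
  exact (allR_iff _ _ _).mp CX_1_2_0 i (by omega) (by omega)

theorem CX_1_3_0 : allR 0 1080 (pK (coxK c1 c3 2)) = true := by decide +kernel

theorem CX_1_3_all : ∀ i, i < N → (pK (coxK c1 c3 2)) i = true := by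
  intro i hi
  have hN : N = 1080 := rfl
  exact (allR_iff _ _ _).mp CX_1_3_0 i (by omega) (by omega)

theorem CX_2_3_0 : allR 0 1080 (pK (coxK c2 c3 8)) = true := by decide +kernel

theorem CX_2_3_all : ∀ i, i < N → (pK (coxK c2 c3 8)) i = true := by
  intro i hi
  have hN : N = 1080 := rfl
  exact (allR_iff _ _ _).mp CX_2_3_0 i (by omega) (by omega)


theorem HC_0_0 : PC 0 0 := by
  unfold PC
  rw [show coxLabel SuzP3.edges (gen 0) (gen 0) = 1 from by decide, pow_one]
  exact σ_mul_self 0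
theorem HC_0_1 : PC 0 1 := by
  unfold PC
  rw [show coxLabel SuzP3.edges (gen 0) (gen 1) = 5 from by decide, ← permw_coxW]
  exact permw_one (by decide) (pW_of_pK (coxW_map 0 1 5) CX_0_1_all)
theorem HC_0_2 : PC 0 2 := by
  unfold PC
  rw [show coxLabel SuzP3.edges (gen 0) (gen 2) = 2 from by decide, ← permw_coxW]
  exact permw_one (by decide) (pW_of_pK (coxW_map 0 2 2) CX_0_2_all)
theorem HC_0_3 : PC 0 3 := by
  unfold PC
  rw [show coxLabel SuzP3.edges (gen 0) (gen 3) = 2 from by decide, ← permw_coxW]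
  exact permw_one (by decide) (pW_of_pK (coxW_map 0 3 2) CX_0_3_all)
theorem HC_1_1 : PC 1 1 := by
  unfold PC
  rw [show coxLabel SuzP3.edges (gen 1) (gen 1) = 1 from by decide, pow_one]
  exact σ_mul_self 1
theorem HC_1_2 : PC 1 2 := by
  unfold PC
  rw [show coxLabel SuzP3.edges (gen 1) (gen 2) = 3 from by decide, ← permw_coxW]
  exact permw_one (by decide) (pW_of_pK (coxW_map 1 2 3) CX_1_2_all)
theorem HC_1_3 : PC 1 3 := by
  unfold PC
  rw [show coxLabel SuzP3.edges (gen 1) (gen 3) = 2 from by decide, ← permw_coxW]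
  exact permw_one (by decide) (pW_of_pK (coxW_map 1 3 2) CX_1_3_all)
theorem HC_2_2 : PC 2 2 := by
  unfold PC
  rw [show coxLabel SuzP3.edges (gen 2) (gen 2) = 1 from by decide, pow_one]
  exact σ_mul_self 2
theorem HC_2_3 : PC 2 3 := by
  unfold PC
  rw [show coxLabel SuzP3.edges (gen 2) (gen 3) = 8 from by decide, ← permw_coxW]
  exact permw_one (by decide) (pW_of_pK (coxW_map 2 3 8) CX_2_3_all)
theorem HC_3_3 : PC 3 3 := by
  unfold PC
  rw [show coxLabel SuzP3.edges (gen 3) (gen 3) = 1 from by decide, pow_one]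
  exact σ_mul_self 3
theorem HC_1_0 : PC 1 0 := by
  have h := HC_0_1
  unfold PC at h ⊢
  rw [show coxLabel SuzP3.edges (gen 0) (gen 1) = 5 from by decide] at h
  rw [show coxLabel SuzP3.edges (gen 1) (gen 0) = 5 from by decide]
  exact pow_swap h
theorem HC_2_0 : PC 2 0 := by
  have h := HC_0_2
  unfold PC at h ⊢
  rw [show coxLabel SuzP3.edges (gen 0) (gen 2) = 2 from by decide] at h
  rw [show coxLabel SuzP3.edges (gen 2) (gen 0) = 2 from by decide]
  exact pow_swap h
theorem HC_2_1 : PC 2 1 := by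
  have h := HC_1_2
  unfold PC at h ⊢
  rw [show coxLabel SuzP3.edges (gen 1) (gen 2) = 3 from by decide] at h
  rw [show coxLabel SuzP3.edges (gen 2) (gen 1) = 3 from by decide]
  exact pow_swap h
theorem HC_3_0 : PC 3 0 := by
  have h := HC_0_3
  unfold PC at h ⊢
  rw [show coxLabel SuzP3.edges (gen 0) (gen 3) = 2 from by decide] at h
  rw [show coxLabel SuzP3.edges (gen 3) (gen 0) = 2 from by decide]
  exact pow_swap h
theorem HC_3_1 : PC 3 1 := by
  have h := HC_1_3
  unfold PC at h ⊢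
  rw [show coxLabel SuzP3.edges (gen 1) (gen 3) = 2 from by decide] at h
  rw [show coxLabel SuzP3.edges (gen 3) (gen 1) = 2 from by decide]
  exact pow_swap h
theorem HC_3_2 : PC 3 2 := by
  have h := HC_2_3
  unfold PC at h ⊢
  rw [show coxLabel SuzP3.edges (gen 2) (gen 3) = 8 from by decide] at h
  rw [show coxLabel SuzP3.edges (gen 3) (gen 2) = 8 from by decide]
  exact pow_swap h

theorem hcoxT : ∀ t, t < nl * nl → PC (t / nl) (t % nl) := by
  intro t ht
  have ht' : t < 16 := ht
  interval_cases t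
  · exact HC_0_0
  · exact HC_0_1
  · exact HC_0_2
  · exact HC_0_3
  · exact HC_1_0
  · exact HC_1_1
  · exact HC_1_2
  · exact HC_1_3
  · exact HC_2_0
  · exact HC_2_1
  · exact HC_2_2
  · exact HC_2_3
  · exact HC_3_0
  · exact HC_3_1
  · exact HC_3_2
  · exact HC_3_3

theorem hcox (x y : Gn) : (fG x * fG y) ^ coxLabel SuzP3.edges x y = 1 := by
  have hx := idx_lt x
  have hy := idx_lt y
  have ht : idx x * nl + idx y < nl * nl := by
    have : idx x * nl + idx y < idx x * nl + nl := by omega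
    calc idx x * nl + idx y < idx x * nl + nl := this
      _ = (idx x + 1) * nl := by ring
      _ ≤ nl * nl := Nat.mul_le_mul_right nl hx
  have h := hcoxT _ ht
  have e1 : (idx x * nl + idx y) / nl = idx x := by
    rw [Nat.add_comm, Nat.add_mul_div_right _ _ (by decide : 0 < nl), Nat.div_eq_of_lt hy, zero_add]
  have e2 : (idx x * nl + idx y) % nl = idx y := by
    rw [Nat.add_comm, Nat.add_mul_mod_self_right, Nat.mod_eq_of_lt hy]
  rw [e1, e2] at h
  unfold PC at h
  rw [gen_idx, gen_idx] at h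
  exact h

def wX0 : List ℕ := [2, 3, 2, 3, 2, 3, 2, 3, 0]

def kX0 : List ℕ := [c2, c3, c2, c3, c2, c3, c2, c3, c0]

theorem mX0 : wX0.map colOf = kX0 := rfl

theorem XS0_0 : allR 0 1080 (pK kX0) = true := by decide +kernel

theorem XS0_all : ∀ i, i < N → (pK kX0) i = true := by
  intro i hi
  have hN : N = 1080 := rfl
  exact (allR_iff _ _ _).mp XS0_0 i (by omega) (by omega)

theorem X0 : FreeGroup.lift fG (SuzP3.a * ((SuzP3.c * SuzP3.d) ^ 4)⁻¹) = 1 := by
  have h : permw wX0 = 1 := permw_one (by decide) (pW_of_pK mX0 XS0_all)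
  simp only [map_mul, map_inv, map_pow, FreeGroup.lift_apply_of, fG, idx]
  simp only [pow_succ, pow_zero, one_mul, mul_inv_rev, σ_inv, mul_assoc]
  simp only [wX0, permw, one_mul, mul_assoc] at h
  exact h

theorem hextra : ∀ r ∈ SuzP3.extra, FreeGroup.lift fG r = 1 := by
  intro r hr
  simp only [SuzP3.extra, List.mem_cons, List.mem_singleton, List.not_mem_nil, or_false] at hr
  rcases hr with rfl
  · exact X0

theorem hrel : ∀ r ∈ Rels, FreeGroup.lift fG r = 1 := by
  intro r hr
  rcases hr with ⟨x, _, y, _, rfl⟩ | hr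
  · rw [map_pow, map_mul, FreeGroup.lift_apply_of, FreeGroup.lift_apply_of]
    exact hcox x y
  · exact hextra r hr

def phi : G →* Equiv.Perm ℕ := PresentedGroup.toGroup hrel

theorem phi_mk (x : FreeGroup Gn) : phi (PresentedGroup.mk Rels x) = FreeGroup.lift fG x := rfl

theorem phi_gG {l : ℕ} (hl : l < nl) : phi (gG l) = σ l := by
  unfold gG phi
  rw [PresentedGroup.toGroup.of, fG, idx_gen hl]

theorem Hs_eq : Hs = (Subgroup.closure subS).map (PresentedGroup.mk Rels) := rfl

theorem Y0 : phi (PresentedGroup.mk Rels (SuzP3.a)) = permw (subW 0) := by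
  rw [phi_mk, show subW 0 = [0] from rfl]
  simp only [map_mul, map_inv, map_pow, FreeGroup.lift_apply_of, fG, idx]
  try simp only [pow_succ, pow_zero, one_mul, mul_inv_rev, σ_inv, mul_assoc]
  simp only [permw, one_mul, mul_assoc]

theorem subgen_cases (P : FreeGroup Gn → Prop) (h0 : P (SuzP3.a)) :
    ∀ s ∈ subS, P s := by
  intro s hs
  simp only [subS, Set.mem_insert_iff, Set.mem_singleton_iff] at hs
  rcases hs with rfl
  · exact h0

theorem subgen_perm : ∀ s ∈ subS, ∃ k, k < nsub ∧ phi (PresentedGroup.mk Rels s) = permw (subW k) :=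
  subgen_cases _ ⟨0, by decide, Y0⟩

theorem subW_mem : ∀ k, k < nsub → ∃ s ∈ subS, phi (PresentedGroup.mk Rels s) = permw (subW k) := by
  intro k hk
  unfold nsub at hk
  interval_cases k
  · exact ⟨SuzP3.a, rfl, Y0⟩

theorem phi_ge (g : G) {i : ℕ} (hi : N ≤ i) : phi g i = i := by
  induction g using PresentedGroup.induction_on with
  | H z =>
    rw [phi_mk]
    induction z using FreeGroup.induction_on with
    | C1 => simp
    | of a => rw [FreeGroup.lift_apply_of, fG, σ_apply, sg_ge hi]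
    | inv_of a h =>
      rw [map_inv, Equiv.Perm.inv_eq_iff_eq]
      exact h.symm
    | mul x y hx hy => rw [map_mul, Equiv.Perm.mul_apply, hy, hx]

theorem phi_lt (g : G) {i : ℕ} (hi : i < N) : phi g i < N := by
  by_contra hcon
  have h1 := phi_ge g⁻¹ (not_lt.mp hcon)
  rw [map_inv, Equiv.Perm.inv_eq_iff_eq] at h1
  have h2 := (phi g).injective h1
  omega

theorem Hs_le (T : Subgroup (Equiv.Perm ℕ)) (hT : ∀ k, k < nsub → permw (subW k) ∈ T) :
    ∀ h ∈ Hs, phi h ∈ T := by
  intro h hh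
  rw [Hs_eq, Subgroup.mem_map] at hh
  obtain ⟨s, hs, rfl⟩ := hh
  induction hs using Subgroup.closure_induction with
  | mem x hx =>
    obtain ⟨k, hk, e⟩ := subgen_perm x hx
    rw [e]; exact hT k hk
  | one => rw [map_one, map_one]; exact T.one_mem
  | mul x y _ _ hx hy => rw [map_mul, map_mul]; exact T.mul_mem hx hy
  | inv x _ hx => rw [map_inv, map_inv]; exact T.inv_mem hx

def chkSubL : Bool := allD nsub fun k => ltAll (subW k)

theorem chkSubL_ok : chkSubL = true := by decide +kernel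

theorem subW_lt {k : ℕ} (hk : k < nsub) : ∀ l ∈ subW k, l < nl := by
  have h := chkSubL_ok
  simp only [chkSubL, allD_iff] at h
  exact ltAll_spec (h k hk)

def chkSub0 : Bool := allD nsub fun k => Nat.beq (evalC (subW k) 0) 0

theorem chkSub0_ok : chkSub0 = true := by decide +kernel

theorem N_pos : 0 < N := by decide

theorem hH : ∀ h ∈ Hs, phi h 0 = 0 := by
  intro h hh
  have := Hs_le (MulAction.stabilizer (Equiv.Perm ℕ) (0 : ℕ)) (fun k hk => by
    rw [MulAction.mem_stabilizer_iff, Equiv.Perm.smul_def, permw_apply,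
      evalw_eq_evalC _ (subW_lt hk) N_pos]
    have h := chkSub0_ok
    simp only [chkSub0, allD_iff, nbeq] at h
    exact h k hk) h hh
  rwa [MulAction.mem_stabilizer_iff, Equiv.Perm.smul_def] at this

abbrev psiQ : Q → ℕ := TCG.psi Hs phi hH

theorem psi_act {l : ℕ} (hl : l < nl) (q : Q) : psiQ (act l q) = sg l (psiQ q) := by
  unfold act psiQ
  rw [TCG.psi_smul, phi_gG hl, σ_apply]

theorem psi_n0 : psiQ n0 = 0 := by
  unfold n0 psiQ
  rw [TCG.psi_mk, map_one, Equiv.Perm.one_apply]

def parK (i : ℕ) : ℕ := Nat.land (Nat.shiftRight parT (Nat.mul 11 i)) 2047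

def pletK (i : ℕ) : ℕ := Nat.land (Nat.shiftRight pletT (Nat.mul 2 i)) 3

theorem parK_eq (i : ℕ) : parK i = par i := rfl

theorem pletK_eq (i : ℕ) : pletK i = plet i := rfl

def pPar (i : ℕ) : Bool :=
  Nat.beq i 0 || (Nat.ble (Nat.succ (parK i)) i && Nat.ble (Nat.succ (pletK i)) nl &&
    Nat.beq (lk2 (pletK i) (parK i)) i)

theorem PAR_0 : allR 0 1080 (pPar) = true := by decide +kernel

theorem PAR_all : ∀ i, i < N → (pPar) i = true := by
  intro i hi
  have hN : N = 1080 := rfl
  exact (allR_iff _ _ _).mp PAR_0 i (by omega) (by omega)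

theorem par_spec {i : ℕ} (hi : i < N) (h0 : 0 < i) :
    par i < i ∧ plet i < nl ∧ tb (par i) (plet i) = i := by
  have h := PAR_all i hi
  simp only [pPar, parK_eq, pletK_eq, Bool.or_eq_true, Bool.and_eq_true, nble_succ, nbeq] at h
  rcases h with h | h
  · omega
  · exact ⟨h.1.1, h.1.2, by rw [tb_eq]; exact h.2⟩

theorem hpsi : ∀ i, i < N → psiQ (nd i) = i := by
  intro i
  induction i using Nat.strong_induction_on with
  | _ i ih =>
    intro hi
    rcases Nat.eq_zero_or_pos i with rfl | h0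
    · rw [nd_zero, psi_n0]
    · obtain ⟨h1, h2, h3⟩ := par_spec hi h0
      have hc : chk i (par i) (plet i) = true := by
        simp [chk, h0, hi, h1]
      rw [nd_step hc, psi_act h2, ih _ h1 (lt_trans h1 hi)]
      unfold sg
      rw [if_pos ⟨h2, lt_trans h1 hi⟩, h3]

theorem hsurj : ∀ q : Q, ∃ i, i < N ∧ q = nd i := by
  have hgen : Subgroup.closure {g : G | ∃ l, l < nl ∧ g = gG l} = ⊤ := by
    rw [eq_top_iff, ← PresentedGroup.closure_range_of]
    apply Subgroup.closure_mono
    rintro _ ⟨a, rfl⟩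
    exact ⟨idx a, idx_lt a, by rw [gG, gen_idx]⟩
  have hall := TCG.exists_nd_of_closed Hs _ hgen
    (by rintro _ ⟨l, hl, rfl⟩; exact ⟨l, hl, gG_inv l⟩) nd nd_zero
    (by
      rintro i _ ⟨l, hl, rfl⟩
      by_cases hi : i < N
      · exact closedN i hi l hl
      · rw [nd_ge (not_lt.mp hi), ← nd_zero]
        exact closedN 0 N_pos l hl)
  intro q
  obtain ⟨i, rfl⟩ := hall q
  by_cases hi : i < N
  · exact ⟨i, hi, rfl⟩
  · exact ⟨0, N_pos, by rw [nd_ge (not_lt.mp hi), nd_zero]⟩

theorem card_Q : Nat.card Q = N := (TCG.card_eq Hs phi hH N nd hsurj hpsi).1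

theorem psi_inj : Function.Injective psiQ := (TCG.card_eq Hs phi hH N nd hsurj hpsi).2


end Cfsg.Agent.Helper17.SuzP3TC
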