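import Cfsg.Agent.Helper17.SuzP3TC.Lemmas

set_option autoImplicit false
set_option linter.all false

noncomputable section

namespace Cfsg.Agent.Helper17.SuzP3TC

theorem F1 : act 0 n0 = n0 := d7_0 B0 
def n1 : Q := act 1 n0
theorem D1 : act 1 n0 = n1 := rfl
def n2 : Q := act 2 n0
theorem D2 : act 2 n0 = n2 := rfl
theorem F2 : act 0 n2 = n2 := d1_1 D2 (iv D2) F1
def n3 : Q := act 3 n0
theorem D3 : act 3 n0 = n3 := rfl
theorem F3 : act 0 n3 = n3 := d2_1 D3 (iv D3) F1
def n4 : Q := act 0 n1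
theorem D4 : act 0 n1 = n4 := rfl
def n5 : Q := act 2 n1
theorem D5 : act 2 n1 = n5 := rfl
def n6 : Q := act 3 n1
theorem D6 : act 3 n1 = n6 := rfl
theorem F4 : act 1 n6 = n3 := d4_1 D6 (iv D3) D1
def n7 : Q := act 1 n2
theorem D7 : act 1 n2 = n7 := rfl
def n8 : Q := act 3 n2
theorem D8 : act 3 n2 = n8 := rfl
theorem F5 : act 0 n8 = n8 := d2_1 D8 (iv D8) F2
def n9 : Q := act 2 n3
theorem D9 : act 2 n3 = n9 := rfl
theorem F6 : act 0 n9 = n9 := d1_1 D9 (iv D9) F3
def n10 : Q := act 1 n4
theorem D10 : act 1 n4 = n10 := rfl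
def n11 : Q := act 2 n4
theorem D11 : act 2 n4 = n11 := rfl
theorem F7 : act 0 n11 = n5 := d1_1 D11 (iv D5) D4
def n12 : Q := act 3 n4
theorem D12 : act 3 n4 = n12 := rfl
theorem F8 : act 0 n12 = n6 := d2_1 D12 (iv D6) D4
def n13 : Q := act 1 n5
theorem D13 : act 1 n5 = n13 := rfl
theorem F9 : act 2 n13 = n7 := d3_2 D5 D13 (iv D7) (iv D2) D1
def n14 : Q := act 3 n5
theorem D14 : act 3 n5 = n14 := rfl
def n15 : Q := act 2 n6
theorem D15 : act 2 n6 = n15 := rfl
def n16 : Q := act 0 n7
theorem D16 : act 0 n7 = n16 := rfl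
def n17 : Q := act 3 n7
theorem D17 : act 3 n7 = n17 := rfl
theorem F10 : act 1 n17 = n8 := d4_1 D17 (iv D8) D7
def n18 : Q := act 2 n8
theorem D18 : act 2 n8 = n18 := rfl
theorem F11 : act 0 n18 = n18 := d1_1 D18 (iv D18) F5
def n19 : Q := act 1 n9
theorem D19 : act 1 n9 = n19 := rfl
def n20 : Q := act 3 n9
theorem D20 : act 3 n9 = n20 := rfl
theorem F12 : act 0 n20 = n20 := d2_1 D20 (iv D20) F6
def n21 : Q := act 0 n10
theorem D21 : act 0 n10 = n21 := rfl
theorem F13 : act 1 n21 = n21 := d0_2 D10 D21 (iv D21) (iv D10) (iv D4) (iv D1) F1 D1 D4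
def n22 : Q := act 2 n10
theorem D22 : act 2 n10 = n22 := rfl
def n23 : Q := act 3 n10
theorem D23 : act 3 n10 = n23 := rfl
theorem F14 : act 1 n23 = n12 := d4_1 D23 (iv D12) D10
def n24 : Q := act 1 n11
theorem D24 : act 1 n11 = n24 := rfl
def n25 : Q := act 3 n11
theorem D25 : act 3 n11 = n25 := rfl
theorem F15 : act 0 n25 = n14 := d2_1 D25 (iv D14) (iv F7)
def n26 : Q := act 2 n12
theorem D26 : act 2 n12 = n26 := rfl
theorem F16 : act 0 n26 = n15 := d1_1 D26 (iv D15) (iv F8)
def n27 : Q := act 0 n13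
theorem D27 : act 0 n13 = n27 := rfl
theorem F17 : act 2 n27 = n16 := d1_2 (iv F9) D27 (iv D16)
def n28 : Q := act 3 n13
theorem D28 : act 3 n13 = n28 := rfl
theorem F18 : act 1 n28 = n14 := d4_1 D28 (iv D14) D13
def n29 : Q := act 2 n14
theorem D29 : act 2 n14 = n29 := rfl
def n30 : Q := act 1 n15
theorem D30 : act 1 n15 = n30 := rfl
theorem F19 : act 2 n30 = n19 := d3_2 D15 D30 (iv D19) (iv D9) (iv F4)
def n31 : Q := act 3 n15
theorem D31 : act 3 n15 = n31 := rfl
def n32 : Q := act 1 n16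
theorem D32 : act 1 n16 = n32 := rfl
def n33 : Q := act 3 n16
theorem D33 : act 3 n16 = n33 := rfl
theorem F20 : act 0 n33 = n17 := d2_1 D33 (iv D17) D16
def n34 : Q := act 2 n17
theorem D34 : act 2 n17 = n34 := rfl
def n35 : Q := act 1 n18
theorem D35 : act 1 n18 = n35 := rfl
def n36 : Q := act 3 n18
theorem D36 : act 3 n18 = n36 := rfl
theorem F21 : act 0 n36 = n36 := d2_1 D36 (iv D36) F11
theorem F22 : act 2 n36 = n20 := d6_2 D18 D36 (iv D20) (iv D9) (iv D3) D2 D8 F5
def n37 : Q := act 0 n19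
theorem D37 : act 0 n19 = n37 := rfl
def n38 : Q := act 3 n19
theorem D38 : act 3 n19 = n38 := rfl
theorem F23 : act 1 n38 = n20 := d4_1 D38 (iv D20) D19
def n39 : Q := act 2 n21
theorem D39 : act 2 n21 = n39 := rfl
theorem F24 : act 0 n39 = n22 := d1_1 D39 (iv D22) D21
def n40 : Q := act 3 n21
theorem D40 : act 3 n21 = n40 := rfl
theorem F25 : act 0 n40 = n23 := d2_1 D40 (iv D23) D21
theorem F26 : act 1 n40 = n40 := d4_1 D40 (iv D40) F13
def n41 : Q := act 1 n22
theorem D41 : act 1 n22 = n41 := rfl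
theorem F27 : act 2 n41 = n24 := d3_2 D22 D41 (iv D24) (iv D11) D10
def n42 : Q := act 3 n22
theorem D42 : act 3 n22 = n42 := rfl
def n43 : Q := act 2 n23
theorem D43 : act 2 n23 = n43 := rfl
def n44 : Q := act 0 n24
theorem D44 : act 0 n24 = n44 := rfl
def n45 : Q := act 3 n24
theorem D45 : act 3 n24 = n45 := rfl
theorem F28 : act 1 n45 = n25 := d4_1 D45 (iv D25) D24
def n46 : Q := act 2 n25
theorem D46 : act 2 n25 = n46 := rfl
theorem F29 : act 0 n46 = n29 := d1_1 D46 (iv D29) (iv F15)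
def n47 : Q := act 1 n26
theorem D47 : act 1 n26 = n47 := rfl
def n48 : Q := act 3 n26
theorem D48 : act 3 n26 = n48 := rfl
theorem F30 : act 0 n48 = n31 := d2_1 D48 (iv D31) (iv F16)
def n49 : Q := act 1 n27
theorem D49 : act 1 n27 = n49 := rfl
def n50 : Q := act 3 n27
theorem D50 : act 3 n27 = n50 := rfl
theorem F31 : act 0 n50 = n28 := d2_1 D50 (iv D28) D27
def n51 : Q := act 2 n28
theorem D51 : act 2 n28 = n51 := rfl
def n52 : Q := act 1 n29
theorem D52 : act 1 n29 = n52 := rfl
def n53 : Q := act 3 n29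
theorem D53 : act 3 n29 = n53 := rfl
theorem F32 : act 2 n53 = n48 := d6_2 D29 D53 (iv D48) (iv D26) (iv D12) D11 D25 F15
def n54 : Q := act 0 n30
theorem D54 : act 0 n30 = n54 := rfl
theorem F33 : act 2 n54 = n37 := d1_2 (iv F19) D54 (iv D37)
def n55 : Q := act 3 n30
theorem D55 : act 3 n30 = n55 := rfl
theorem F34 : act 1 n55 = n31 := d4_1 D55 (iv D31) D30
def n56 : Q := act 2 n31
theorem D56 : act 2 n31 = n56 := rfl
theorem F35 : act 0 n56 = n53 := d1_1 D56 F32 F30
theorem F36 : act 3 n56 = n46 := d5_2 D31 D56 (iv D46) (iv D25) (iv D11) D12 D26 D48 (iv F32) (iv D53) (iv D29) (iv D14) (iv D5) D6 D15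
def n57 : Q := act 0 n32
theorem D57 : act 0 n32 = n57 := rfl
theorem F37 : act 1 n57 = n57 := d0_2 D32 D57 (iv D57) (iv D32) (iv D16) (iv D7) F2 D7 D16
def n58 : Q := act 2 n32
theorem D58 : act 2 n32 = n58 := rfl
def n59 : Q := act 3 n32
theorem D59 : act 3 n32 = n59 := rfl
theorem F38 : act 1 n59 = n33 := d4_1 D59 (iv D33) D32
def n60 : Q := act 2 n33
theorem D60 : act 2 n33 = n60 := rfl
theorem F39 : act 0 n60 = n34 := d1_1 D60 (iv D34) (iv F20)
def n61 : Q := act 1 n34
theorem D61 : act 1 n34 = n61 := rfl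
theorem F40 : act 2 n61 = n35 := d3_2 D34 D61 (iv D35) (iv D18) (iv F10)
def n62 : Q := act 3 n34
theorem D62 : act 3 n34 = n62 := rfl
def n63 : Q := act 0 n35
theorem D63 : act 0 n35 = n63 := rfl
def n64 : Q := act 3 n35
theorem D64 : act 3 n35 = n64 := rfl
theorem F41 : act 1 n64 = n36 := d4_1 D64 (iv D36) D35
def n65 : Q := act 1 n37
theorem D65 : act 1 n37 = n65 := rfl
def n66 : Q := act 3 n37
theorem D66 : act 3 n37 = n66 := rfl
theorem F42 : act 0 n66 = n38 := d2_1 D66 (iv D38) D37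
def n67 : Q := act 2 n38
theorem D67 : act 2 n38 = n67 := rfl
def n68 : Q := act 1 n39
theorem D68 : act 1 n39 = n68 := rfl
theorem F43 : act 2 n68 = n68 := d3_2 D39 D68 (iv D68) (iv D39) F13
def n69 : Q := act 3 n39
theorem D69 : act 3 n39 = n69 := rfl
theorem F44 : act 0 n69 = n42 := d2_1 D69 (iv D42) (iv F24)
def n70 : Q := act 2 n40
theorem D70 : act 2 n40 = n70 := rfl
theorem F45 : act 0 n70 = n43 := d1_1 D70 (iv D43) (iv F25)
def n71 : Q := act 0 n41
theorem D71 : act 0 n41 = n71 := rfl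
theorem F46 : act 2 n71 = n44 := d1_2 (iv F27) D71 (iv D44)
def n72 : Q := act 3 n41
theorem D72 : act 3 n41 = n72 := rfl
theorem F47 : act 1 n72 = n42 := d4_1 D72 (iv D42) D41
def n73 : Q := act 2 n42
theorem D73 : act 2 n42 = n73 := rfl
def n74 : Q := act 1 n43
theorem D74 : act 1 n43 = n74 := rfl
theorem F48 : act 2 n74 = n47 := d3_2 D43 D74 (iv D47) (iv D26) (iv F14)
def n75 : Q := act 3 n43
theorem D75 : act 3 n43 = n75 := rfl
def n76 : Q := act 1 n44
theorem D76 : act 1 n44 = n76 := rfl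
def n77 : Q := act 3 n44
theorem D77 : act 3 n44 = n77 := rfl
theorem F49 : act 0 n77 = n45 := d2_1 D77 (iv D45) D44
def n78 : Q := act 2 n45
theorem D78 : act 2 n45 = n78 := rfl
def n79 : Q := act 1 n46
theorem D79 : act 1 n46 = n79 := rfl
def n80 : Q := act 0 n47
theorem D80 : act 0 n47 = n80 := rfl
def n81 : Q := act 3 n47
theorem D81 : act 3 n47 = n81 := rfl
theorem F50 : act 1 n81 = n48 := d4_1 D81 (iv D48) D47
def n82 : Q := act 0 n49
theorem D82 : act 0 n49 = n82 := rfl
def n83 : Q := act 2 n49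
theorem D83 : act 2 n49 = n83 := rfl
theorem F51 : act 1 n83 = n58 := d3_1 D83 (iv D58) (iv D32) (iv F17) D49
def n84 : Q := act 3 n49
theorem D84 : act 3 n49 = n84 := rfl
theorem F52 : act 1 n84 = n50 := d4_1 D84 (iv D50) D49
def n85 : Q := act 2 n50
theorem D85 : act 2 n50 = n85 := rfl
theorem F53 : act 0 n85 = n51 := d1_1 D85 (iv D51) (iv F31)
def n86 : Q := act 1 n51
theorem D86 : act 1 n51 = n86 := rfl
theorem F54 : act 2 n86 = n52 := d3_2 D51 D86 (iv D52) (iv D29) (iv F18)
def n87 : Q := act 3 n51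
theorem D87 : act 3 n51 = n87 := rfl
def n88 : Q := act 0 n52
theorem D88 : act 0 n52 = n88 := rfl
def n89 : Q := act 3 n52
theorem D89 : act 3 n52 = n89 := rfl
theorem F55 : act 1 n89 = n53 := d4_1 D89 (iv D53) D52
def n90 : Q := act 1 n54
theorem D90 : act 1 n54 = n90 := rfl
def n91 : Q := act 3 n54
theorem D91 : act 3 n54 = n91 := rfl
theorem F56 : act 0 n91 = n55 := d2_1 D91 (iv D55) D54
def n92 : Q := act 2 n55
theorem D92 : act 2 n55 = n92 := rfl
def n93 : Q := act 1 n56
theorem D93 : act 1 n56 = n93 := rfl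
theorem F57 : act 3 n93 = n79 := d4_2 (iv F36) D93 (iv D79)
def n94 : Q := act 2 n57
theorem D94 : act 2 n57 = n94 := rfl
theorem F58 : act 0 n94 = n58 := d1_1 D94 (iv D58) D57
def n95 : Q := act 3 n57
theorem D95 : act 3 n57 = n95 := rfl
theorem F59 : act 0 n95 = n59 := d2_1 D95 (iv D59) D57
theorem F60 : act 1 n95 = n95 := d4_1 D95 (iv D95) F37
def n96 : Q := act 3 n58
theorem D96 : act 3 n58 = n96 := rfl
def n97 : Q := act 2 n59
theorem D97 : act 2 n59 = n97 := rfl
def n98 : Q := act 1 n60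
theorem D98 : act 1 n60 = n98 := rfl
def n99 : Q := act 3 n60
theorem D99 : act 3 n60 = n99 := rfl
theorem F61 : act 0 n99 = n62 := d2_1 D99 (iv D62) (iv F39)
theorem F62 : act 2 n99 = n87 := d6_2 D60 D99 (iv D87) (iv D51) (iv D28) F9 D17 (iv F20)
def n100 : Q := act 0 n61
theorem D100 : act 0 n61 = n100 := rfl
theorem F63 : act 2 n100 = n63 := d1_2 (iv F40) D100 (iv D63)
def n101 : Q := act 3 n61
theorem D101 : act 3 n61 = n101 := rfl
theorem F64 : act 1 n101 = n62 := d4_1 D101 (iv D62) D61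
def n102 : Q := act 2 n62
theorem D102 : act 2 n62 = n102 := rfl
theorem F65 : act 0 n102 = n87 := d1_1 D102 (iv F62) F61
theorem F66 : act 3 n102 = n85 := d5_2 D62 D102 (iv D85) (iv D50) F17 D33 D60 D99 F62 (iv D87) (iv D51) (iv D28) F9 D17 D34
def n103 : Q := act 1 n63
theorem D103 : act 1 n63 = n103 := rfl
def n104 : Q := act 3 n63
theorem D104 : act 3 n63 = n104 := rfl
theorem F67 : act 0 n104 = n64 := d2_1 D104 (iv D64) D63
def n105 : Q := act 2 n64
theorem D105 : act 2 n64 = n105 := rfl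
theorem F68 : act 1 n105 = n67 := d3_1 D105 (iv D67) F23 (iv F22) (iv F41)
def n106 : Q := act 0 n65
theorem D106 : act 0 n65 = n106 := rfl
theorem F69 : act 1 n106 = n106 := d0_2 D65 D106 (iv D106) (iv D65) (iv D37) (iv D19) F6 D19 D37
def n107 : Q := act 2 n65
theorem D107 : act 2 n65 = n107 := rfl
def n108 : Q := act 3 n65
theorem D108 : act 3 n65 = n108 := rfl
theorem F70 : act 1 n108 = n66 := d4_1 D108 (iv D66) D65
def n109 : Q := act 2 n66
theorem D109 : act 2 n66 = n109 := rfl
theorem F71 : act 0 n109 = n67 := d1_1 D109 (iv D67) (iv F42)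
def n110 : Q := act 3 n67
theorem D110 : act 3 n67 = n110 := rfl
def n111 : Q := act 0 n68
theorem D111 : act 0 n68 = n111 := rfl
theorem F72 : act 2 n111 = n111 := d1_2 F43 D111 (iv D111)
def n112 : Q := act 3 n68
theorem D112 : act 3 n68 = n112 := rfl
theorem F73 : act 1 n112 = n69 := d4_1 D112 (iv D69) D68
def n113 : Q := act 2 n69
theorem D113 : act 2 n69 = n113 := rfl
theorem F74 : act 0 n113 = n73 := d1_1 D113 (iv D73) (iv F44)
def n114 : Q := act 1 n70
theorem D114 : act 1 n70 = n114 := rfl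
theorem F75 : act 2 n114 = n114 := d3_2 D70 D114 (iv D114) (iv D70) F26
def n115 : Q := act 3 n70
theorem D115 : act 3 n70 = n115 := rfl
theorem F76 : act 0 n115 = n75 := d2_1 D115 (iv D75) (iv F45)
def n116 : Q := act 1 n71
theorem D116 : act 1 n71 = n116 := rfl
def n117 : Q := act 3 n71
theorem D117 : act 3 n71 = n117 := rfl
theorem F77 : act 0 n117 = n72 := d2_1 D117 (iv D72) D71
def n118 : Q := act 2 n72
theorem D118 : act 2 n72 = n118 := rfl
def n119 : Q := act 1 n73
theorem D119 : act 1 n73 = n119 := rfl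
def n120 : Q := act 3 n73
theorem D120 : act 3 n73 = n120 := rfl
theorem F78 : act 2 n120 = n115 := d6_2 D73 D120 (iv D115) (iv D70) (iv D40) D39 D69 F44
def n121 : Q := act 0 n74
theorem D121 : act 0 n74 = n121 := rfl
theorem F79 : act 2 n121 = n80 := d1_2 (iv F48) D121 (iv D80)
def n122 : Q := act 3 n74
theorem D122 : act 3 n74 = n122 := rfl
theorem F80 : act 1 n122 = n75 := d4_1 D122 (iv D75) D74
def n123 : Q := act 2 n75
theorem D123 : act 2 n75 = n123 := rfl
theorem F81 : act 0 n123 = n120 := d1_1 D123 F78 F76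
theorem F82 : act 3 n123 = n113 := d5_2 D75 D123 (iv D113) (iv D69) (iv D39) D40 D70 D115 (iv F78) (iv D120) (iv D73) (iv D42) (iv D22) D23 D43
def n124 : Q := act 0 n76
theorem D124 : act 0 n76 = n124 := rfl
theorem F83 : act 1 n124 = n82 := d0_2 D76 D124 (iv D82) (iv D49) (iv D27) (iv D13) (iv F7) D24 D44
def n125 : Q := act 2 n76
theorem D125 : act 2 n76 = n125 := rfl
def n126 : Q := act 3 n76
theorem D126 : act 3 n76 = n126 := rfl
theorem F84 : act 1 n126 = n77 := d4_1 D126 (iv D77) D76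
def n127 : Q := act 2 n77
theorem D127 : act 2 n77 = n127 := rfl
theorem F85 : act 0 n127 = n78 := d1_1 D127 (iv D78) (iv F49)
def n128 : Q := act 1 n78
theorem D128 : act 1 n78 = n128 := rfl
theorem F86 : act 2 n128 = n79 := d3_2 D78 D128 (iv D79) (iv D46) (iv F28)
def n129 : Q := act 3 n78
theorem D129 : act 3 n78 = n129 := rfl
def n130 : Q := act 0 n79
theorem D130 : act 0 n79 = n130 := rfl
def n131 : Q := act 1 n80
theorem D131 : act 1 n80 = n131 := rfl
def n132 : Q := act 3 n80
theorem D132 : act 3 n80 = n132 := rfl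
theorem F87 : act 0 n132 = n81 := d2_1 D132 (iv D81) D80
def n133 : Q := act 2 n81
theorem D133 : act 2 n81 = n133 := rfl
def n134 : Q := act 2 n82
theorem D134 : act 2 n82 = n134 := rfl
theorem F88 : act 0 n134 = n83 := d1_1 D134 (iv D83) D82
def n135 : Q := act 3 n82
theorem D135 : act 3 n82 = n135 := rfl
theorem F89 : act 0 n135 = n84 := d2_1 D135 (iv D84) D82
def n136 : Q := act 3 n83
theorem D136 : act 3 n83 = n136 := rfl
theorem F90 : act 1 n136 = n96 := d4_1 D136 (iv D96) (iv F51)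
def n137 : Q := act 2 n84
theorem D137 : act 2 n84 = n137 := rfl
def n138 : Q := act 1 n85
theorem D138 : act 1 n85 = n138 := rfl
def n139 : Q := act 0 n86
theorem D139 : act 0 n86 = n139 := rfl
theorem F91 : act 2 n139 = n88 := d1_2 (iv F54) D139 (iv D88)
def n140 : Q := act 3 n86
theorem D140 : act 3 n86 = n140 := rfl
theorem F92 : act 1 n140 = n87 := d4_1 D140 (iv D87) D86
def n141 : Q := act 1 n88
theorem D141 : act 1 n88 = n141 := rfl
def n142 : Q := act 3 n88
theorem D142 : act 3 n88 = n142 := rfl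
theorem F93 : act 0 n142 = n89 := d2_1 D142 (iv D89) D88
def n143 : Q := act 2 n89
theorem D143 : act 2 n89 = n143 := rfl
theorem F94 : act 1 n143 = n133 := d3_1 D143 (iv D133) F50 (iv F32) (iv F55)
def n144 : Q := act 0 n90
theorem D144 : act 0 n90 = n144 := rfl
def n145 : Q := act 2 n90
theorem D145 : act 2 n90 = n145 := rfl
theorem F95 : act 1 n145 = n107 := d3_1 D145 (iv D107) (iv D65) (iv F33) D90
def n146 : Q := act 3 n90
theorem D146 : act 3 n90 = n146 := rfl
theorem F96 : act 1 n146 = n91 := d4_1 D146 (iv D91) D90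
def n147 : Q := act 2 n91
theorem D147 : act 2 n91 = n147 := rfl
theorem F97 : act 0 n147 = n92 := d1_1 D147 (iv D92) (iv F56)
def n148 : Q := act 1 n92
theorem D148 : act 1 n92 = n148 := rfl
theorem F98 : act 2 n148 = n93 := d3_2 D92 D148 (iv D93) (iv D56) (iv F34)
def n149 : Q := act 3 n92
theorem D149 : act 3 n92 = n149 := rfl
def n150 : Q := act 0 n93
theorem D150 : act 0 n93 = n150 := rfl
theorem F99 : act 3 n150 = n130 := d2_2 (iv F57) D150 (iv D130)
def n151 : Q := act 1 n94
theorem D151 : act 1 n94 = n151 := rfl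
theorem F100 : act 2 n151 = n151 := d3_2 D94 D151 (iv D151) (iv D94) F37
def n152 : Q := act 3 n94
theorem D152 : act 3 n94 = n152 := rfl
theorem F101 : act 0 n152 = n96 := d2_1 D152 (iv D96) (iv F58)
def n153 : Q := act 2 n95
theorem D153 : act 2 n95 = n153 := rfl
theorem F102 : act 0 n153 = n97 := d1_1 D153 (iv D97) (iv F59)
def n154 : Q := act 2 n96
theorem D154 : act 2 n96 = n154 := rfl
def n155 : Q := act 1 n97
theorem D155 : act 1 n97 = n155 := rfl
theorem F103 : act 2 n155 = n98 := d3_2 D97 D155 (iv D98) (iv D60) (iv F38)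
def n156 : Q := act 3 n97
theorem D156 : act 3 n97 = n156 := rfl
def n157 : Q := act 0 n98
theorem D157 : act 0 n98 = n157 := rfl
def n158 : Q := act 3 n98
theorem D158 : act 3 n98 = n158 := rfl
theorem F104 : act 1 n158 = n99 := d4_1 D158 (iv D99) D98
def n159 : Q := act 1 n100
theorem D159 : act 1 n100 = n159 := rfl
def n160 : Q := act 3 n100
theorem D160 : act 3 n100 = n160 := rfl
theorem F105 : act 0 n160 = n101 := d2_1 D160 (iv D101) D100
def n161 : Q := act 2 n101
theorem D161 : act 2 n101 = n161 := rfl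
def n162 : Q := act 1 n102
theorem D162 : act 1 n102 = n162 := rfl
theorem F106 : act 3 n162 = n138 := d4_2 (iv F66) D162 (iv D138)
def n163 : Q := act 0 n103
theorem D163 : act 0 n103 = n163 := rfl
theorem F107 : act 1 n163 = n163 := d0_2 D103 D163 (iv D163) (iv D103) (iv D63) (iv D35) F11 D35 D63
def n164 : Q := act 2 n103
theorem D164 : act 2 n103 = n164 := rfl
def n165 : Q := act 3 n103
theorem D165 : act 3 n103 = n165 := rfl
theorem F108 : act 1 n165 = n104 := d4_1 D165 (iv D104) D103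
def n166 : Q := act 2 n104
theorem D166 : act 2 n104 = n166 := rfl
theorem F109 : act 0 n166 = n105 := d1_1 D166 (iv D105) (iv F67)
def n167 : Q := act 3 n105
theorem D167 : act 3 n105 = n167 := rfl
theorem F110 : act 1 n167 = n110 := d4_1 D167 (iv D110) (iv F68)
def n168 : Q := act 2 n106
theorem D168 : act 2 n106 = n168 := rfl
theorem F111 : act 0 n168 = n107 := d1_1 D168 (iv D107) D106
def n169 : Q := act 3 n106
theorem D169 : act 3 n106 = n169 := rfl
theorem F112 : act 0 n169 = n108 := d2_1 D169 (iv D108) D106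
theorem F113 : act 1 n169 = n169 := d4_1 D169 (iv D169) F69
def n170 : Q := act 3 n107
theorem D170 : act 3 n107 = n170 := rfl
def n171 : Q := act 2 n108
theorem D171 : act 2 n108 = n171 := rfl
def n172 : Q := act 1 n109
theorem D172 : act 1 n109 = n172 := rfl
def n173 : Q := act 3 n109
theorem D173 : act 3 n109 = n173 := rfl
theorem F114 : act 0 n173 = n110 := d2_1 D173 (iv D110) (iv F71)
theorem F115 : act 2 n173 = n149 := d6_2 D109 D173 (iv D149) (iv D92) (iv D55) F19 D38 (iv F42)
def n174 : Q := act 2 n110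
theorem D174 : act 2 n110 = n174 := rfl
theorem F116 : act 0 n174 = n149 := d1_1 D174 (iv F115) F114
theorem F117 : act 3 n174 = n147 := d5_2 D110 D174 (iv D147) (iv D91) F33 D66 D109 D173 F115 (iv D149) (iv D92) (iv D55) F19 D38 D67
def n175 : Q := act 1 n111
theorem D175 : act 1 n111 = n175 := rfl
def n176 : Q := act 3 n111
theorem D176 : act 3 n111 = n176 := rfl
theorem F118 : act 0 n176 = n112 := d2_1 D176 (iv D112) D111
def n177 : Q := act 2 n112
theorem D177 : act 2 n112 = n177 := rfl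
def n178 : Q := act 1 n113
theorem D178 : act 1 n113 = n178 := rfl
def n179 : Q := act 0 n114
theorem D179 : act 0 n114 = n179 := rfl
theorem F119 : act 2 n179 = n179 := d1_2 F75 D179 (iv D179)
def n180 : Q := act 3 n114
theorem D180 : act 3 n114 = n180 := rfl
theorem F120 : act 1 n180 = n115 := d4_1 D180 (iv D115) D114
def n181 : Q := act 0 n116
theorem D181 : act 0 n116 = n181 := rfl
def n182 : Q := act 2 n116
theorem D182 : act 2 n116 = n182 := rfl
theorem F121 : act 1 n182 = n125 := d3_1 D182 (iv D125) (iv D76) (iv F46) D116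
def n183 : Q := act 3 n116
theorem D183 : act 3 n116 = n183 := rfl
theorem F122 : act 1 n183 = n117 := d4_1 D183 (iv D117) D116
def n184 : Q := act 2 n117
theorem D184 : act 2 n117 = n184 := rfl
theorem F123 : act 0 n184 = n118 := d1_1 D184 (iv D118) (iv F77)
def n185 : Q := act 1 n118
theorem D185 : act 1 n118 = n185 := rfl
theorem F124 : act 2 n185 = n119 := d3_2 D118 D185 (iv D119) (iv D73) (iv F47)
def n186 : Q := act 3 n118
theorem D186 : act 3 n118 = n186 := rfl
def n187 : Q := act 0 n119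
theorem D187 : act 0 n119 = n187 := rfl
def n188 : Q := act 3 n119
theorem D188 : act 3 n119 = n188 := rfl
theorem F125 : act 1 n188 = n120 := d4_1 D188 (iv D120) D119
def n189 : Q := act 1 n121
theorem D189 : act 1 n121 = n189 := rfl
def n190 : Q := act 3 n121
theorem D190 : act 3 n121 = n190 := rfl
theorem F126 : act 0 n190 = n122 := d2_1 D190 (iv D122) D121
def n191 : Q := act 2 n122
theorem D191 : act 2 n122 = n191 := rfl
def n192 : Q := act 1 n123
theorem D192 : act 1 n123 = n192 := rfl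
theorem F127 : act 3 n192 = n178 := d4_2 (iv F82) D192 (iv D178)
def n193 : Q := act 2 n124
theorem D193 : act 2 n124 = n193 := rfl
theorem F128 : act 0 n193 = n125 := d1_1 D193 (iv D125) D124
def n194 : Q := act 3 n124
theorem D194 : act 3 n124 = n194 := rfl
theorem F129 : act 0 n194 = n126 := d2_1 D194 (iv D126) D124
theorem F130 : act 1 n194 = n135 := d4_1 D194 (iv D135) (iv F83)
def n195 : Q := act 3 n125
theorem D195 : act 3 n125 = n195 := rfl
def n196 : Q := act 2 n126
theorem D196 : act 2 n126 = n196 := rfl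
def n197 : Q := act 1 n127
theorem D197 : act 1 n127 = n197 := rfl
def n198 : Q := act 3 n127
theorem D198 : act 3 n127 = n198 := rfl
theorem F131 : act 0 n198 = n129 := d2_1 D198 (iv D129) (iv F85)
theorem F132 : act 2 n198 = n186 := d6_2 D127 D198 (iv D186) (iv D118) (iv D72) F27 D45 (iv F49)
def n199 : Q := act 0 n128
theorem D199 : act 0 n128 = n199 := rfl
theorem F133 : act 2 n199 = n130 := d1_2 (iv F86) D199 (iv D130)
def n200 : Q := act 3 n128
theorem D200 : act 3 n128 = n200 := rfl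
theorem F134 : act 1 n200 = n129 := d4_1 D200 (iv D129) D128
def n201 : Q := act 2 n129
theorem D201 : act 2 n129 = n201 := rfl
theorem F135 : act 0 n201 = n186 := d1_1 D201 (iv F132) F131
theorem F136 : act 3 n201 = n184 := d5_2 D129 D201 (iv D184) (iv D117) F46 D77 D127 D198 F132 (iv D186) (iv D118) (iv D72) F27 D45 D78
def n202 : Q := act 1 n130
theorem D202 : act 1 n130 = n202 := rfl
def n203 : Q := act 0 n131
theorem D203 : act 0 n131 = n203 := rfl
theorem F137 : act 1 n203 = n144 := d0_2 D131 D203 (iv D144) (iv D90) (iv D54) (iv D30) (iv F16) D47 D80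
def n204 : Q := act 2 n131
theorem D204 : act 2 n131 = n204 := rfl
def n205 : Q := act 3 n131
theorem D205 : act 3 n131 = n205 := rfl
theorem F138 : act 1 n205 = n132 := d4_1 D205 (iv D132) D131
def n206 : Q := act 2 n132
theorem D206 : act 2 n132 = n206 := rfl
theorem F139 : act 0 n206 = n133 := d1_1 D206 (iv D133) (iv F87)
def n207 : Q := act 3 n133
theorem D207 : act 3 n133 = n207 := rfl
def n208 : Q := act 1 n134
theorem D208 : act 1 n134 = n208 := rfl
def n209 : Q := act 3 n134
theorem D209 : act 3 n134 = n209 := rfl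
theorem F140 : act 0 n209 = n136 := d2_1 D209 (iv D136) (iv F88)
def n210 : Q := act 2 n135
theorem D210 : act 2 n135 = n210 := rfl
theorem F141 : act 0 n210 = n137 := d1_1 D210 (iv D137) (iv F89)
def n211 : Q := act 2 n136
theorem D211 : act 2 n136 = n211 := rfl
def n212 : Q := act 1 n137
theorem D212 : act 1 n137 = n212 := rfl
theorem F142 : act 2 n212 = n138 := d3_2 D137 D212 (iv D138) (iv D85) (iv F52)
def n213 : Q := act 3 n137
theorem D213 : act 3 n137 = n213 := rfl
def n214 : Q := act 0 n138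
theorem D214 : act 0 n138 = n214 := rfl
def n215 : Q := act 1 n139
theorem D215 : act 1 n139 = n215 := rfl
def n216 : Q := act 3 n139
theorem D216 : act 3 n139 = n216 := rfl
theorem F143 : act 0 n216 = n140 := d2_1 D216 (iv D140) D139
def n217 : Q := act 2 n140
theorem D217 : act 2 n140 = n217 := rfl
def n218 : Q := act 0 n141
theorem D218 : act 0 n141 = n218 := rfl
def n219 : Q := act 2 n141
theorem D219 : act 2 n141 = n219 := rfl
def n220 : Q := act 3 n141
theorem D220 : act 3 n141 = n220 := rfl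
theorem F144 : act 1 n220 = n142 := d4_1 D220 (iv D142) D141
def n221 : Q := act 2 n142
theorem D221 : act 2 n142 = n221 := rfl
theorem F145 : act 0 n221 = n143 := d1_1 D221 (iv D143) (iv F93)
def n222 : Q := act 3 n143
theorem D222 : act 3 n143 = n222 := rfl
theorem F146 : act 1 n222 = n207 := d4_1 D222 (iv D207) (iv F94)
def n223 : Q := act 2 n144
theorem D223 : act 2 n144 = n223 := rfl
theorem F147 : act 0 n223 = n145 := d1_1 D223 (iv D145) D144
def n224 : Q := act 3 n144
theorem D224 : act 3 n144 = n224 := rfl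
theorem F148 : act 0 n224 = n146 := d2_1 D224 (iv D146) D144
def n225 : Q := act 3 n145
theorem D225 : act 3 n145 = n225 := rfl
theorem F149 : act 1 n225 = n170 := d4_1 D225 (iv D170) (iv F95)
def n226 : Q := act 2 n146
theorem D226 : act 2 n146 = n226 := rfl
def n227 : Q := act 1 n147
theorem D227 : act 1 n147 = n227 := rfl
def n228 : Q := act 0 n148
theorem D228 : act 0 n148 = n228 := rfl
theorem F150 : act 2 n228 = n150 := d1_2 (iv F98) D228 (iv D150)
def n229 : Q := act 3 n148
theorem D229 : act 3 n148 = n229 := rfl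
theorem F151 : act 1 n229 = n149 := d4_1 D229 (iv D149) D148
def n230 : Q := act 1 n150
theorem D230 : act 1 n150 = n230 := rfl
theorem F152 : act 3 n230 = n202 := d4_2 (iv F99) D230 (iv D202)
def n231 : Q := act 0 n151
theorem D231 : act 0 n151 = n231 := rfl
def n232 : Q := act 3 n151
theorem D232 : act 3 n151 = n232 := rfl
theorem F154 : act 1 n232 = n152 := d4_1 D232 (iv D152) D151
def n233 : Q := act 2 n152
theorem D233 : act 2 n152 = n233 := rfl
theorem F155 : act 0 n233 = n154 := d1_1 D233 (iv D154) (iv F101)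
def n234 : Q := act 1 n153
theorem D234 : act 1 n153 = n234 := rfl
theorem F156 : act 2 n234 = n234 := d3_2 D153 D234 (iv D234) (iv D153) F60
def n235 : Q := act 3 n153
theorem D235 : act 3 n153 = n235 := rfl
theorem F157 : act 0 n235 = n156 := d2_1 D235 (iv D156) (iv F102)
def n236 : Q := act 1 n154
theorem D236 : act 1 n154 = n236 := rfl
def n237 : Q := act 3 n154
theorem D237 : act 3 n154 = n237 := rfl
theorem F158 : act 2 n237 = n235 := d6_2 D154 D237 (iv D235) (iv D153) (iv D95) D94 D152 F101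
def n238 : Q := act 0 n155
theorem D238 : act 0 n155 = n238 := rfl
theorem F159 : act 2 n238 = n157 := d1_2 (iv F103) D238 (iv D157)
def n239 : Q := act 3 n155
theorem D239 : act 3 n155 = n239 := rfl
theorem F160 : act 1 n239 = n156 := d4_1 D239 (iv D156) D155
def n240 : Q := act 2 n156
theorem D240 : act 2 n156 = n240 := rfl
theorem F161 : act 0 n240 = n237 := d1_1 D240 F158 F157
theorem F162 : act 3 n240 = n233 := d5_2 D156 D240 (iv D233) (iv D152) (iv D94) D95 D153 D235 (iv F158) (iv D237) (iv D154) (iv D96) (iv D58) D59 D97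
def n241 : Q := act 1 n157
theorem D241 : act 1 n157 = n241 := rfl
def n242 : Q := act 3 n157
theorem D242 : act 3 n157 = n242 := rfl
theorem F163 : act 0 n242 = n158 := d2_1 D242 (iv D158) D157
def n243 : Q := act 2 n158
theorem D243 : act 2 n158 = n243 := rfl
theorem F164 : act 1 n243 = n217 := d3_1 D243 (iv D217) F92 (iv F62) (iv F104)
def n244 : Q := act 0 n159
theorem D244 : act 0 n159 = n244 := rfl
def n245 : Q := act 2 n159
theorem D245 : act 2 n159 = n245 := rfl
theorem F165 : act 1 n245 = n164 := d3_1 D245 (iv D164) (iv D103) (iv F63) D159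
def n246 : Q := act 3 n159
theorem D246 : act 3 n159 = n246 := rfl
theorem F166 : act 1 n246 = n160 := d4_1 D246 (iv D160) D159
def n247 : Q := act 2 n160
theorem D247 : act 2 n160 = n247 := rfl
theorem F167 : act 0 n247 = n161 := d1_1 D247 (iv D161) (iv F105)
def n248 : Q := act 1 n161
theorem D248 : act 1 n161 = n248 := rfl
theorem F168 : act 2 n248 = n162 := d3_2 D161 D248 (iv D162) (iv D102) (iv F64)
def n249 : Q := act 3 n161
theorem D249 : act 3 n161 = n249 := rfl
def n250 : Q := act 0 n162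
theorem D250 : act 0 n162 = n250 := rfl
theorem F169 : act 3 n250 = n214 := d2_2 (iv F106) D250 (iv D214)
def n251 : Q := act 2 n163
theorem D251 : act 2 n163 = n251 := rfl
theorem F170 : act 0 n251 = n164 := d1_1 D251 (iv D164) D163
def n252 : Q := act 3 n163
theorem D252 : act 3 n163 = n252 := rfl
theorem F171 : act 0 n252 = n165 := d2_1 D252 (iv D165) D163
theorem F172 : act 1 n252 = n252 := d4_1 D252 (iv D252) F107
def n253 : Q := act 3 n164
theorem D253 : act 3 n164 = n253 := rfl
def n254 : Q := act 2 n165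
theorem D254 : act 2 n165 = n254 := rfl
def n255 : Q := act 1 n166
theorem D255 : act 1 n166 = n255 := rfl
def n256 : Q := act 3 n166
theorem D256 : act 3 n166 = n256 := rfl
theorem F173 : act 0 n256 = n167 := d2_1 D256 (iv D167) (iv F109)
theorem F174 : act 2 n256 = n249 := d6_2 D166 D256 (iv D249) (iv D161) (iv D101) F40 D64 (iv F67)
def n257 : Q := act 2 n167
theorem D257 : act 2 n167 = n257 := rfl
theorem F175 : act 0 n257 = n249 := d1_1 D257 (iv F174) F173
theorem F176 : act 3 n257 = n247 := d5_2 D167 D257 (iv D247) (iv D160) F63 D104 D166 D256 F174 (iv D249) (iv D161) (iv D101) F40 D64 D105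
def n258 : Q := act 1 n168
theorem D258 : act 1 n168 = n258 := rfl
theorem F177 : act 2 n258 = n258 := d3_2 D168 D258 (iv D258) (iv D168) F69
def n259 : Q := act 3 n168
theorem D259 : act 3 n168 = n259 := rfl
theorem F178 : act 0 n259 = n170 := d2_1 D259 (iv D170) (iv F111)
def n260 : Q := act 2 n169
theorem D260 : act 2 n169 = n260 := rfl
theorem F179 : act 0 n260 = n171 := d1_1 D260 (iv D171) (iv F112)
def n261 : Q := act 2 n170
theorem D261 : act 2 n170 = n261 := rfl
def n262 : Q := act 1 n171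
theorem D262 : act 1 n171 = n262 := rfl
theorem F180 : act 2 n262 = n172 := d3_2 D171 D262 (iv D172) (iv D109) (iv F70)
def n263 : Q := act 3 n171
theorem D263 : act 3 n171 = n263 := rfl
def n264 : Q := act 0 n172
theorem D264 : act 0 n172 = n264 := rfl
def n265 : Q := act 3 n172
theorem D265 : act 3 n172 = n265 := rfl
theorem F181 : act 1 n265 = n173 := d4_1 D265 (iv D173) D172
def n266 : Q := act 1 n174
theorem D266 : act 1 n174 = n266 := rfl
theorem F182 : act 3 n266 = n227 := d4_2 (iv F117) D266 (iv D227)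
def n267 : Q := act 0 n175
theorem D267 : act 0 n175 = n267 := rfl
theorem F183 : act 1 n267 = n181 := d0_2 D175 D267 (iv D181) (iv D116) (iv D71) (iv D41) (iv F24) D68 D111
def n268 : Q := act 2 n175
theorem D268 : act 2 n175 = n268 := rfl
theorem F184 : act 1 n268 = n268 := d3_1 D268 (iv D268) (iv D175) F72 D175
def n269 : Q := act 3 n175
theorem D269 : act 3 n175 = n269 := rfl
theorem F185 : act 1 n269 = n176 := d4_1 D269 (iv D176) D175
def n270 : Q := act 2 n176
theorem D270 : act 2 n176 = n270 := rfl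
theorem F186 : act 0 n270 = n177 := d1_1 D270 (iv D177) (iv F118)
def n271 : Q := act 1 n177
theorem D271 : act 1 n177 = n271 := rfl
theorem F187 : act 2 n271 = n178 := d3_2 D177 D271 (iv D178) (iv D113) (iv F73)
def n272 : Q := act 3 n177
theorem D272 : act 3 n177 = n272 := rfl
def n273 : Q := act 0 n178
theorem D273 : act 0 n178 = n273 := rfl
def n274 : Q := act 1 n179
theorem D274 : act 1 n179 = n274 := rfl
def n275 : Q := act 3 n179
theorem D275 : act 3 n179 = n275 := rfl
theorem F188 : act 0 n275 = n180 := d2_1 D275 (iv D180) D179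
def n276 : Q := act 2 n180
theorem D276 : act 2 n180 = n276 := rfl
def n277 : Q := act 2 n181
theorem D277 : act 2 n181 = n277 := rfl
theorem F189 : act 0 n277 = n182 := d1_1 D277 (iv D182) D181
def n278 : Q := act 3 n181
theorem D278 : act 3 n181 = n278 := rfl
theorem F190 : act 0 n278 = n183 := d2_1 D278 (iv D183) D181
def n279 : Q := act 3 n182
theorem D279 : act 3 n182 = n279 := rfl
theorem F191 : act 1 n279 = n195 := d4_1 D279 (iv D195) (iv F121)
def n280 : Q := act 2 n183
theorem D280 : act 2 n183 = n280 := rfl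
def n281 : Q := act 1 n184
theorem D281 : act 1 n184 = n281 := rfl
def n282 : Q := act 0 n185
theorem D282 : act 0 n185 = n282 := rfl
theorem F192 : act 2 n282 = n187 := d1_2 (iv F124) D282 (iv D187)
def n283 : Q := act 3 n185
theorem D283 : act 3 n185 = n283 := rfl
theorem F193 : act 1 n283 = n186 := d4_1 D283 (iv D186) D185
def n284 : Q := act 1 n187
theorem D284 : act 1 n187 = n284 := rfl
def n285 : Q := act 3 n187
theorem D285 : act 3 n187 = n285 := rfl
theorem F194 : act 0 n285 = n188 := d2_1 D285 (iv D188) D187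
def n286 : Q := act 2 n188
theorem D286 : act 2 n188 = n286 := rfl
theorem F195 : act 1 n286 = n276 := d3_1 D286 (iv D276) F120 (iv F78) (iv F125)
def n287 : Q := act 0 n189
theorem D287 : act 0 n189 = n287 := rfl
def n288 : Q := act 2 n189
theorem D288 : act 2 n189 = n288 := rfl
theorem F196 : act 1 n288 = n204 := d3_1 D288 (iv D204) (iv D131) (iv F79) D189
def n289 : Q := act 3 n189
theorem D289 : act 3 n189 = n289 := rfl
theorem F197 : act 1 n289 = n190 := d4_1 D289 (iv D190) D189
def n290 : Q := act 2 n190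
theorem D290 : act 2 n190 = n290 := rfl
theorem F198 : act 0 n290 = n191 := d1_1 D290 (iv D191) (iv F126)
def n291 : Q := act 1 n191
theorem D291 : act 1 n191 = n291 := rfl
theorem F199 : act 2 n291 = n192 := d3_2 D191 D291 (iv D192) (iv D123) (iv F80)
def n292 : Q := act 3 n191
theorem D292 : act 3 n191 = n292 := rfl
def n293 : Q := act 0 n192
theorem D293 : act 0 n192 = n293 := rfl
theorem F200 : act 3 n293 = n273 := d2_2 (iv F127) D293 (iv D273)
def n294 : Q := act 1 n193
theorem D294 : act 1 n193 = n294 := rfl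
theorem F201 : act 2 n294 = n208 := d3_2 D193 D294 (iv D208) (iv D134) (iv F83)
def n295 : Q := act 3 n193
theorem D295 : act 3 n193 = n295 := rfl
theorem F202 : act 0 n295 = n195 := d2_1 D295 (iv D195) (iv F128)
def n296 : Q := act 2 n194
theorem D296 : act 2 n194 = n296 := rfl
theorem F203 : act 0 n296 = n196 := d1_1 D296 (iv D196) (iv F129)
def n297 : Q := act 2 n195
theorem D297 : act 2 n195 = n297 := rfl
def n298 : Q := act 1 n196
theorem D298 : act 1 n196 = n298 := rfl
theorem F204 : act 2 n298 = n197 := d3_2 D196 D298 (iv D197) (iv D127) (iv F84)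
def n299 : Q := act 3 n196
theorem D299 : act 3 n196 = n299 := rfl
def n300 : Q := act 0 n197
theorem D300 : act 0 n197 = n300 := rfl
def n301 : Q := act 3 n197
theorem D301 : act 3 n197 = n301 := rfl
theorem F205 : act 1 n301 = n198 := d4_1 D301 (iv D198) D197
def n302 : Q := act 1 n199
theorem D302 : act 1 n199 = n302 := rfl
def n303 : Q := act 3 n199
theorem D303 : act 3 n199 = n303 := rfl
theorem F206 : act 0 n303 = n200 := d2_1 D303 (iv D200) D199
def n304 : Q := act 2 n200
theorem D304 : act 2 n200 = n304 := rfl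
def n305 : Q := act 1 n201
theorem D305 : act 1 n201 = n305 := rfl
theorem F207 : act 3 n305 = n281 := d4_2 (iv F136) D305 (iv D281)
def n306 : Q := act 0 n202
theorem D306 : act 0 n202 = n306 := rfl
theorem F208 : act 1 n306 = n218 := d0_2 D202 D306 (iv D218) (iv D141) (iv D88) (iv D52) (iv F29) D79 D130
def n307 : Q := act 2 n202
theorem D307 : act 2 n202 = n307 := rfl
def n308 : Q := act 2 n203
theorem D308 : act 2 n203 = n308 := rfl
theorem F209 : act 0 n308 = n204 := d1_1 D308 (iv D204) D203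
def n309 : Q := act 3 n203
theorem D309 : act 3 n203 = n309 := rfl
theorem F210 : act 0 n309 = n205 := d2_1 D309 (iv D205) D203
theorem F211 : act 1 n309 = n224 := d4_1 D309 (iv D224) (iv F137)
def n310 : Q := act 3 n204
theorem D310 : act 3 n204 = n310 := rfl
def n311 : Q := act 2 n205
theorem D311 : act 2 n205 = n311 := rfl
def n312 : Q := act 1 n206
theorem D312 : act 1 n206 = n312 := rfl
def n313 : Q := act 3 n206
theorem D313 : act 3 n206 = n313 := rfl
theorem F212 : act 0 n313 = n207 := d2_1 D313 (iv D207) (iv F139)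
theorem F213 : act 2 n313 = n292 := d6_2 D206 D313 (iv D292) (iv D191) (iv D122) F48 D81 (iv F87)
def n314 : Q := act 2 n207
theorem D314 : act 2 n207 = n314 := rfl
theorem F214 : act 0 n314 = n292 := d1_1 D314 (iv F213) F212
theorem F215 : act 3 n314 = n290 := d5_2 D207 D314 (iv D290) (iv D190) F79 D132 D206 D313 F213 (iv D292) (iv D191) (iv D122) F48 D81 D133
def n315 : Q := act 0 n208
theorem D315 : act 0 n208 = n315 := rfl
def n316 : Q := act 3 n208
theorem D316 : act 3 n208 = n316 := rfl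
theorem F216 : act 1 n316 = n209 := d4_1 D316 (iv D209) D208
def n317 : Q := act 2 n209
theorem D317 : act 2 n209 = n317 := rfl
theorem F217 : act 0 n317 = n211 := d1_1 D317 (iv D211) (iv F140)
def n318 : Q := act 1 n210
theorem D318 : act 1 n210 = n318 := rfl
def n319 : Q := act 3 n210
theorem D319 : act 3 n210 = n319 := rfl
theorem F218 : act 0 n319 = n213 := d2_1 D319 (iv D213) (iv F141)
def n320 : Q := act 1 n211
theorem D320 : act 1 n211 = n320 := rfl
theorem F219 : act 2 n320 = n236 := d3_2 D211 D320 (iv D236) (iv D154) (iv F90)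
def n321 : Q := act 3 n211
theorem D321 : act 3 n211 = n321 := rfl
theorem F220 : act 2 n321 = n319 := d6_2 D211 D321 (iv D319) (iv D210) (iv D135) D134 D209 F140
def n322 : Q := act 0 n212
theorem D322 : act 0 n212 = n322 := rfl
theorem F221 : act 2 n322 = n214 := d1_2 (iv F142) D322 (iv D214)
def n323 : Q := act 3 n212
theorem D323 : act 3 n212 = n323 := rfl
theorem F222 : act 1 n323 = n213 := d4_1 D323 (iv D213) D212
def n324 : Q := act 2 n213
theorem D324 : act 2 n213 = n324 := rfl
theorem F223 : act 0 n324 = n321 := d1_1 D324 F220 F218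
theorem F224 : act 3 n324 = n317 := d5_2 D213 D324 (iv D317) (iv D209) (iv D134) D135 D210 D319 (iv F220) (iv D321) (iv D211) (iv D136) (iv D83) D84 D137
def n325 : Q := act 1 n214
theorem D325 : act 1 n214 = n325 := rfl
def n326 : Q := act 0 n215
theorem D326 : act 0 n215 = n326 := rfl
def n327 : Q := act 2 n215
theorem D327 : act 2 n215 = n327 := rfl
theorem F225 : act 1 n327 = n219 := d3_1 D327 (iv D219) (iv D141) (iv F91) D215
def n328 : Q := act 3 n215
theorem D328 : act 3 n215 = n328 := rfl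
theorem F226 : act 1 n328 = n216 := d4_1 D328 (iv D216) D215
def n329 : Q := act 2 n216
theorem D329 : act 2 n216 = n329 := rfl
theorem F227 : act 0 n329 = n217 := d1_1 D329 (iv D217) (iv F143)
def n330 : Q := act 3 n217
theorem D330 : act 3 n217 = n330 := rfl
def n331 : Q := act 2 n218
theorem D331 : act 2 n218 = n331 := rfl
theorem F228 : act 0 n331 = n219 := d1_1 D331 (iv D219) D218
def n332 : Q := act 3 n218
theorem D332 : act 3 n218 = n332 := rfl
theorem F229 : act 0 n332 = n220 := d2_1 D332 (iv D220) D218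
def n333 : Q := act 3 n219
theorem D333 : act 3 n219 = n333 := rfl
def n334 : Q := act 2 n220
theorem D334 : act 2 n220 = n334 := rfl
def n335 : Q := act 1 n221
theorem D335 : act 1 n221 = n335 := rfl
def n336 : Q := act 3 n221
theorem D336 : act 3 n221 = n336 := rfl
theorem F230 : act 0 n336 = n222 := d2_1 D336 (iv D222) (iv F145)
theorem F231 : act 2 n336 = n330 := d6_2 D221 D336 (iv D330) (iv D217) (iv D140) F54 D89 (iv F93)
def n337 : Q := act 2 n222
theorem D337 : act 2 n222 = n337 := rfl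
theorem F232 : act 0 n337 = n330 := d1_1 D337 (iv F231) F230
theorem F233 : act 3 n337 = n329 := d5_2 D222 D337 (iv D329) (iv D216) F91 D142 D221 D336 F231 (iv D330) (iv D217) (iv D140) F54 D89 D143
def n338 : Q := act 1 n223
theorem D338 : act 1 n223 = n338 := rfl
def n339 : Q := act 3 n223
theorem D339 : act 3 n223 = n339 := rfl
theorem F234 : act 0 n339 = n225 := d2_1 D339 (iv D225) (iv F147)
def n340 : Q := act 2 n224
theorem D340 : act 2 n224 = n340 := rfl
theorem F235 : act 0 n340 = n226 := d1_1 D340 (iv D226) (iv F148)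
def n341 : Q := act 2 n225
theorem D341 : act 2 n225 = n341 := rfl
def n342 : Q := act 1 n226
theorem D342 : act 1 n226 = n342 := rfl
theorem F236 : act 2 n342 = n227 := d3_2 D226 D342 (iv D227) (iv D147) (iv F96)
def n343 : Q := act 3 n226
theorem D343 : act 3 n226 = n343 := rfl
def n344 : Q := act 0 n227
theorem D344 : act 0 n227 = n344 := rfl
def n345 : Q := act 1 n228
theorem D345 : act 1 n228 = n345 := rfl
def n346 : Q := act 3 n228
theorem D346 : act 3 n228 = n346 := rfl
theorem F237 : act 0 n346 = n229 := d2_1 D346 (iv D229) D228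
def n347 : Q := act 2 n229
theorem D347 : act 2 n229 = n347 := rfl
def n348 : Q := act 0 n230
theorem D348 : act 0 n230 = n348 := rfl
theorem F238 : act 1 n348 = n332 := d0_2 D230 D348 F229 F144 F93 F55 (iv F35) D93 D150
theorem F239 : act 3 n348 = n306 := d2_2 (iv F152) D348 (iv D306)
def n349 : Q := act 2 n230
theorem D349 : act 2 n230 = n349 := rfl
def n350 : Q := act 1 n231
theorem D350 : act 1 n231 = n350 := rfl
def n351 : Q := act 3 n231
theorem D351 : act 3 n231 = n351 := rfl
theorem F240 : act 0 n351 = n232 := d2_1 D351 (iv D232) D231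
def n352 : Q := act 2 n232
theorem D352 : act 2 n232 = n352 := rfl
def n353 : Q := act 1 n233
theorem D353 : act 1 n233 = n353 := rfl
def n354 : Q := act 0 n234
theorem D354 : act 0 n234 = n354 := rfl
theorem F241 : act 2 n354 = n354 := d1_2 F156 D354 (iv D354)
def n355 : Q := act 3 n234
theorem D355 : act 3 n234 = n355 := rfl
theorem F242 : act 1 n355 = n235 := d4_1 D355 (iv D235) D234
def n356 : Q := act 0 n236
theorem D356 : act 0 n236 = n356 := rfl
def n357 : Q := act 3 n236
theorem D357 : act 3 n236 = n357 := rfl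
theorem F243 : act 1 n357 = n237 := d4_1 D357 (iv D237) D236
def n358 : Q := act 1 n238
theorem D358 : act 1 n238 = n358 := rfl
def n359 : Q := act 3 n238
theorem D359 : act 3 n238 = n359 := rfl
theorem F244 : act 0 n359 = n239 := d2_1 D359 (iv D239) D238
def n360 : Q := act 2 n239
theorem D360 : act 2 n239 = n360 := rfl
def n361 : Q := act 1 n240
theorem D361 : act 1 n240 = n361 := rfl
theorem F245 : act 3 n361 = n353 := d4_2 (iv F162) D361 (iv D353)
def n362 : Q := act 0 n241
theorem D362 : act 0 n241 = n362 := rfl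
theorem F246 : act 1 n362 = n244 := d0_2 D241 D362 (iv D244) (iv D159) (iv D100) (iv D61) (iv F39) D98 D157
def n363 : Q := act 2 n241
theorem D363 : act 2 n241 = n363 := rfl
def n364 : Q := act 3 n241
theorem D364 : act 3 n241 = n364 := rfl
theorem F247 : act 1 n364 = n242 := d4_1 D364 (iv D242) D241
def n365 : Q := act 2 n242
theorem D365 : act 2 n242 = n365 := rfl
theorem F248 : act 0 n365 = n243 := d1_1 D365 (iv D243) (iv F163)
def n366 : Q := act 3 n243
theorem D366 : act 3 n243 = n366 := rfl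
theorem F249 : act 1 n366 = n330 := d4_1 D366 (iv D330) (iv F164)
def n367 : Q := act 2 n244
theorem D367 : act 2 n244 = n367 := rfl
theorem F250 : act 0 n367 = n245 := d1_1 D367 (iv D245) D244
def n368 : Q := act 3 n244
theorem D368 : act 3 n244 = n368 := rfl
theorem F251 : act 0 n368 = n246 := d2_1 D368 (iv D246) D244
def n369 : Q := act 3 n245
theorem D369 : act 3 n245 = n369 := rfl
theorem F252 : act 1 n369 = n253 := d4_1 D369 (iv D253) (iv F165)
def n370 : Q := act 2 n246
theorem D370 : act 2 n246 = n370 := rfl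
def n371 : Q := act 1 n247
theorem D371 : act 1 n247 = n371 := rfl
def n372 : Q := act 0 n248
theorem D372 : act 0 n248 = n372 := rfl
theorem F253 : act 2 n372 = n250 := d1_2 (iv F168) D372 (iv D250)
def n373 : Q := act 3 n248
theorem D373 : act 3 n248 = n373 := rfl
theorem F254 : act 1 n373 = n249 := d4_1 D373 (iv D249) D248
def n374 : Q := act 1 n250
theorem D374 : act 1 n250 = n374 := rfl
theorem F255 : act 3 n374 = n325 := d4_2 (iv F169) D374 (iv D325)
def n375 : Q := act 1 n251
theorem D375 : act 1 n251 = n375 := rfl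
theorem F256 : act 2 n375 = n375 := d3_2 D251 D375 (iv D375) (iv D251) F107
def n376 : Q := act 3 n251
theorem D376 : act 3 n251 = n376 := rfl
theorem F257 : act 0 n376 = n253 := d2_1 D376 (iv D253) (iv F170)
def n377 : Q := act 2 n252
theorem D377 : act 2 n252 = n377 := rfl
theorem F258 : act 0 n377 = n254 := d1_1 D377 (iv D254) (iv F171)
def n378 : Q := act 2 n253
theorem D378 : act 2 n253 = n378 := rfl
def n379 : Q := act 1 n254
theorem D379 : act 1 n254 = n379 := rfl
theorem F259 : act 2 n379 = n255 := d3_2 D254 D379 (iv D255) (iv D166) (iv F108)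
def n380 : Q := act 3 n254
theorem D380 : act 3 n254 = n380 := rfl
def n381 : Q := act 0 n255
theorem D381 : act 0 n255 = n381 := rfl
def n382 : Q := act 3 n255
theorem D382 : act 3 n255 = n382 := rfl
theorem F260 : act 1 n382 = n256 := d4_1 D382 (iv D256) D255
def n383 : Q := act 1 n257
theorem D383 : act 1 n257 = n383 := rfl
theorem F261 : act 2 n383 = n266 := d3_2 D257 D383 (iv D266) (iv D174) (iv F110)
theorem F262 : act 3 n383 = n371 := d4_2 (iv F176) D383 (iv D371)
def n384 : Q := act 0 n258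
theorem D384 : act 0 n258 = n384 := rfl
theorem F263 : act 2 n384 = n384 := d1_2 F177 D384 (iv D384)
def n385 : Q := act 3 n258
theorem D385 : act 3 n258 = n385 := rfl
theorem F264 : act 1 n385 = n259 := d4_1 D385 (iv D259) D258
def n386 : Q := act 2 n259
theorem D386 : act 2 n259 = n386 := rfl
theorem F265 : act 0 n386 = n261 := d1_1 D386 (iv D261) (iv F178)
def n387 : Q := act 1 n260
theorem D387 : act 1 n260 = n387 := rfl
theorem F266 : act 2 n387 = n387 := d3_2 D260 D387 (iv D387) (iv D260) F113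
def n388 : Q := act 3 n260
theorem D388 : act 3 n260 = n388 := rfl
theorem F267 : act 0 n388 = n263 := d2_1 D388 (iv D263) (iv F179)
def n389 : Q := act 1 n261
theorem D389 : act 1 n261 = n389 := rfl
def n390 : Q := act 3 n261
theorem D390 : act 3 n261 = n390 := rfl
theorem F268 : act 2 n390 = n388 := d6_2 D261 D390 (iv D388) (iv D260) (iv D169) D168 D259 F178
def n391 : Q := act 0 n262
theorem D391 : act 0 n262 = n391 := rfl
theorem F269 : act 2 n391 = n264 := d1_2 (iv F180) D391 (iv D264)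
def n392 : Q := act 3 n262
theorem D392 : act 3 n262 = n392 := rfl
theorem F270 : act 1 n392 = n263 := d4_1 D392 (iv D263) D262
def n393 : Q := act 2 n263
theorem D393 : act 2 n263 = n393 := rfl
theorem F271 : act 0 n393 = n390 := d1_1 D393 F268 F267
theorem F272 : act 3 n393 = n386 := d5_2 D263 D393 (iv D386) (iv D259) (iv D168) D169 D260 D388 (iv F268) (iv D390) (iv D261) (iv D170) (iv D107) D108 D171
def n394 : Q := act 1 n264
theorem D394 : act 1 n264 = n394 := rfl
def n395 : Q := act 3 n264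
theorem D395 : act 3 n264 = n395 := rfl
theorem F273 : act 0 n395 = n265 := d2_1 D395 (iv D265) D264
def n396 : Q := act 2 n265
theorem D396 : act 2 n265 = n396 := rfl
theorem F274 : act 1 n396 = n347 := d3_1 D396 (iv D347) F151 (iv F115) (iv F181)
def n397 : Q := act 0 n266
theorem D397 : act 0 n266 = n397 := rfl
theorem F275 : act 3 n397 = n344 := d2_2 (iv F182) D397 (iv D344)
def n398 : Q := act 2 n267
theorem D398 : act 2 n267 = n398 := rfl
theorem F276 : act 0 n398 = n268 := d1_1 D398 (iv D268) D267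
def n399 : Q := act 3 n267
theorem D399 : act 3 n267 = n399 := rfl
theorem F277 : act 0 n399 = n269 := d2_1 D399 (iv D269) D267
theorem F278 : act 1 n399 = n278 := d4_1 D399 (iv D278) (iv F183)
def n400 : Q := act 3 n268
theorem D400 : act 3 n268 = n400 := rfl
theorem F279 : act 1 n400 = n400 := d4_1 D400 (iv D400) F184
def n401 : Q := act 2 n269
theorem D401 : act 2 n269 = n401 := rfl
def n402 : Q := act 1 n270
theorem D402 : act 1 n270 = n402 := rfl
def n403 : Q := act 3 n270
theorem D403 : act 3 n270 = n403 := rfl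
theorem F280 : act 0 n403 = n272 := d2_1 D403 (iv D272) (iv F186)
theorem F281 : act 2 n403 = n272 := d6_2 D270 D403 (iv D272) (iv D177) (iv D112) F43 D112 (iv F118)
def n404 : Q := act 0 n271
theorem D404 : act 0 n271 = n404 := rfl
theorem F282 : act 2 n404 = n273 := d1_2 (iv F187) D404 (iv D273)
def n405 : Q := act 3 n271
theorem D405 : act 3 n271 = n405 := rfl
theorem F283 : act 1 n405 = n272 := d4_1 D405 (iv D272) D271
def n406 : Q := act 1 n273
theorem D406 : act 1 n273 = n406 := rfl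
def n407 : Q := act 0 n274
theorem D407 : act 0 n274 = n407 := rfl
theorem F284 : act 1 n407 = n287 := d0_2 D274 D407 (iv D287) (iv D189) (iv D121) (iv D74) (iv F45) D114 D179
def n408 : Q := act 2 n274
theorem D408 : act 2 n274 = n408 := rfl
theorem F285 : act 1 n408 = n408 := d3_1 D408 (iv D408) (iv D274) F119 D274
def n409 : Q := act 3 n274
theorem D409 : act 3 n274 = n409 := rfl
theorem F286 : act 1 n409 = n275 := d4_1 D409 (iv D275) D274
def n410 : Q := act 2 n275
theorem D410 : act 2 n275 = n410 := rfl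
theorem F287 : act 0 n410 = n276 := d1_1 D410 (iv D276) (iv F188)
def n411 : Q := act 3 n276
theorem D411 : act 3 n276 = n411 := rfl
def n412 : Q := act 1 n277
theorem D412 : act 1 n277 = n412 := rfl
def n413 : Q := act 3 n277
theorem D413 : act 3 n277 = n413 := rfl
theorem F288 : act 0 n413 = n279 := d2_1 D413 (iv D279) (iv F189)
def n414 : Q := act 2 n278
theorem D414 : act 2 n278 = n414 := rfl
theorem F289 : act 0 n414 = n280 := d1_1 D414 (iv D280) (iv F190)
def n415 : Q := act 2 n279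
theorem D415 : act 2 n279 = n415 := rfl
def n416 : Q := act 1 n280
theorem D416 : act 1 n280 = n416 := rfl
theorem F290 : act 2 n416 = n281 := d3_2 D280 D416 (iv D281) (iv D184) (iv F122)
def n417 : Q := act 3 n280
theorem D417 : act 3 n280 = n417 := rfl
def n418 : Q := act 0 n281
theorem D418 : act 0 n281 = n418 := rfl
def n419 : Q := act 1 n282
theorem D419 : act 1 n282 = n419 := rfl
def n420 : Q := act 3 n282
theorem D420 : act 3 n282 = n420 := rfl
theorem F291 : act 0 n420 = n283 := d2_1 D420 (iv D283) D282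
def n421 : Q := act 2 n283
theorem D421 : act 2 n283 = n421 := rfl
def n422 : Q := act 0 n284
theorem D422 : act 0 n284 = n422 := rfl
def n423 : Q := act 2 n284
theorem D423 : act 2 n284 = n423 := rfl
def n424 : Q := act 3 n284
theorem D424 : act 3 n284 = n424 := rfl
theorem F292 : act 1 n424 = n285 := d4_1 D424 (iv D285) D284
def n425 : Q := act 2 n285
theorem D425 : act 2 n285 = n425 := rfl
theorem F293 : act 0 n425 = n286 := d1_1 D425 (iv D286) (iv F194)
def n426 : Q := act 3 n286
theorem D426 : act 3 n286 = n426 := rfl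
theorem F294 : act 1 n426 = n411 := d4_1 D426 (iv D411) (iv F195)
def n427 : Q := act 2 n287
theorem D427 : act 2 n287 = n427 := rfl
theorem F295 : act 0 n427 = n288 := d1_1 D427 (iv D288) D287
def n428 : Q := act 3 n287
theorem D428 : act 3 n287 = n428 := rfl
theorem F296 : act 0 n428 = n289 := d2_1 D428 (iv D289) D287
def n429 : Q := act 3 n288
theorem D429 : act 3 n288 = n429 := rfl
theorem F297 : act 1 n429 = n310 := d4_1 D429 (iv D310) (iv F196)
def n430 : Q := act 2 n289
theorem D430 : act 2 n289 = n430 := rfl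
def n431 : Q := act 1 n290
theorem D431 : act 1 n290 = n431 := rfl
def n432 : Q := act 0 n291
theorem D432 : act 0 n291 = n432 := rfl
theorem F298 : act 2 n432 = n293 := d1_2 (iv F199) D432 (iv D293)
def n433 : Q := act 3 n291
theorem D433 : act 3 n291 = n433 := rfl
theorem F299 : act 1 n433 = n292 := d4_1 D433 (iv D292) D291
def n434 : Q := act 1 n293
theorem D434 : act 1 n293 = n434 := rfl
theorem F300 : act 3 n434 = n406 := d4_2 (iv F200) D434 (iv D406)
def n435 : Q := act 0 n294
theorem D435 : act 0 n294 = n435 := rfl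
theorem F301 : act 2 n435 = n315 := d1_2 (iv F201) D435 (iv D315)
def n436 : Q := act 3 n294
theorem D436 : act 3 n294 = n436 := rfl
theorem F302 : act 1 n436 = n295 := d4_1 D436 (iv D295) D294
def n437 : Q := act 2 n295
theorem D437 : act 2 n295 = n437 := rfl
theorem F303 : act 0 n437 = n297 := d1_1 D437 (iv D297) (iv F202)
def n438 : Q := act 1 n296
theorem D438 : act 1 n296 = n438 := rfl
theorem F304 : act 2 n438 = n318 := d3_2 D296 D438 (iv D318) (iv D210) (iv F130)
def n439 : Q := act 3 n296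
theorem D439 : act 3 n296 = n439 := rfl
theorem F305 : act 0 n439 = n299 := d2_1 D439 (iv D299) (iv F203)
def n440 : Q := act 1 n297
theorem D440 : act 1 n297 = n440 := rfl
def n441 : Q := act 3 n297
theorem D441 : act 3 n297 = n441 := rfl
theorem F306 : act 2 n441 = n439 := d6_2 D297 D441 (iv D439) (iv D296) (iv D194) D193 D295 F202
def n442 : Q := act 0 n298
theorem D442 : act 0 n298 = n442 := rfl
theorem F307 : act 2 n442 = n300 := d1_2 (iv F204) D442 (iv D300)
def n443 : Q := act 3 n298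
theorem D443 : act 3 n298 = n443 := rfl
theorem F308 : act 1 n443 = n299 := d4_1 D443 (iv D299) D298
def n444 : Q := act 2 n299
theorem D444 : act 2 n299 = n444 := rfl
theorem F309 : act 0 n444 = n441 := d1_1 D444 F306 F305
theorem F310 : act 3 n444 = n437 := d5_2 D299 D444 (iv D437) (iv D295) (iv D193) D194 D296 D439 (iv F306) (iv D441) (iv D297) (iv D195) (iv D125) D126 D196
def n445 : Q := act 1 n300
theorem D445 : act 1 n300 = n445 := rfl
def n446 : Q := act 3 n300
theorem D446 : act 3 n300 = n446 := rfl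
theorem F311 : act 0 n446 = n301 := d2_1 D446 (iv D301) D300
def n447 : Q := act 2 n301
theorem D447 : act 2 n301 = n447 := rfl
theorem F312 : act 1 n447 = n421 := d3_1 D447 (iv D421) F193 (iv F132) (iv F205)
def n448 : Q := act 0 n302
theorem D448 : act 0 n302 = n448 := rfl
def n449 : Q := act 2 n302
theorem D449 : act 2 n302 = n449 := rfl
theorem F313 : act 1 n449 = n307 := d3_1 D449 (iv D307) (iv D202) (iv F133) D302
def n450 : Q := act 3 n302
theorem D450 : act 3 n302 = n450 := rfl
theorem F314 : act 1 n450 = n303 := d4_1 D450 (iv D303) D302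
def n451 : Q := act 2 n303
theorem D451 : act 2 n303 = n451 := rfl
theorem F315 : act 0 n451 = n304 := d1_1 D451 (iv D304) (iv F206)
theorem F316 : act 3 n451 = n347 := d6_1 D451 (iv D347) (iv D229) F98 F57 (iv F86) D200 (iv F206)
def n452 : Q := act 1 n304
theorem D452 : act 1 n304 = n452 := rfl
theorem F317 : act 2 n452 = n305 := d3_2 D304 D452 (iv D305) (iv D201) (iv F134)
def n453 : Q := act 3 n304
theorem D453 : act 3 n304 = n453 := rfl
theorem F318 : act 0 n453 = n347 := d2_1 D453 (iv F316) F315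
theorem F319 : act 2 n453 = n346 := d5_1 D453 (iv D346) F150 F99 (iv F133) D303 D451 F316 (iv D347) (iv D229) F98 F57 (iv F86) D200 D304
def n454 : Q := act 0 n305
theorem D454 : act 0 n305 = n454 := rfl
theorem F320 : act 3 n454 = n418 := d2_2 (iv F207) D454 (iv D418)
def n455 : Q := act 2 n306
theorem D455 : act 2 n306 = n455 := rfl
theorem F321 : act 0 n455 = n307 := d1_1 D455 (iv D307) D306
def n456 : Q := act 3 n307
theorem D456 : act 3 n307 = n456 := rfl
def n457 : Q := act 1 n308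
theorem D457 : act 1 n308 = n457 := rfl
theorem F322 : act 2 n457 = n338 := d3_2 D308 D457 (iv D338) (iv D223) (iv F137)
def n458 : Q := act 3 n308
theorem D458 : act 3 n308 = n458 := rfl
theorem F323 : act 0 n458 = n310 := d2_1 D458 (iv D310) (iv F209)
def n459 : Q := act 2 n309
theorem D459 : act 2 n309 = n459 := rfl
theorem F324 : act 0 n459 = n311 := d1_1 D459 (iv D311) (iv F210)
def n460 : Q := act 2 n310
theorem D460 : act 2 n310 = n460 := rfl
def n461 : Q := act 1 n311
theorem D461 : act 1 n311 = n461 := rfl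
theorem F325 : act 2 n461 = n312 := d3_2 D311 D461 (iv D312) (iv D206) (iv F138)
def n462 : Q := act 3 n311
theorem D462 : act 3 n311 = n462 := rfl
def n463 : Q := act 0 n312
theorem D463 : act 0 n312 = n463 := rfl
def n464 : Q := act 3 n312
theorem D464 : act 3 n312 = n464 := rfl
theorem F326 : act 1 n464 = n313 := d4_1 D464 (iv D313) D312
def n465 : Q := act 1 n314
theorem D465 : act 1 n314 = n465 := rfl
theorem F327 : act 3 n465 = n431 := d4_2 (iv F215) D465 (iv D431)
def n466 : Q := act 1 n315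
theorem D466 : act 1 n315 = n466 := rfl
theorem F328 : act 0 n466 = n350 := d0_1 D466 (iv D350) (iv D231) (iv D151) F58 (iv F51) (iv F88) D208 D315
def n467 : Q := act 3 n315
theorem D467 : act 3 n315 = n467 := rfl
theorem F329 : act 0 n467 = n316 := d2_1 D467 (iv D316) D315
def n468 : Q := act 2 n316
theorem D468 : act 2 n316 = n468 := rfl
def n469 : Q := act 1 n317
theorem D469 : act 1 n317 = n469 := rfl
def n470 : Q := act 0 n318
theorem D470 : act 0 n318 = n470 := rfl
def n471 : Q := act 3 n318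
theorem D471 : act 3 n318 = n471 := rfl
theorem F330 : act 1 n471 = n319 := d4_1 D471 (iv D319) D318
def n472 : Q := act 0 n320
theorem D472 : act 0 n320 = n472 := rfl
theorem F331 : act 2 n472 = n356 := d1_2 (iv F219) D472 (iv D356)
def n473 : Q := act 3 n320
theorem D473 : act 3 n320 = n473 := rfl
theorem F332 : act 1 n473 = n321 := d4_1 D473 (iv D321) D320
def n474 : Q := act 1 n322
theorem D474 : act 1 n322 = n474 := rfl
def n475 : Q := act 3 n322
theorem D475 : act 3 n322 = n475 := rfl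
theorem F333 : act 0 n475 = n323 := d2_1 D475 (iv D323) D322
def n476 : Q := act 2 n323
theorem D476 : act 2 n323 = n476 := rfl
def n477 : Q := act 1 n324
theorem D477 : act 1 n324 = n477 := rfl
theorem F334 : act 3 n477 = n469 := d4_2 (iv F224) D477 (iv D469)
def n478 : Q := act 0 n325
theorem D478 : act 0 n325 = n478 := rfl
theorem F335 : act 1 n478 = n326 := d0_2 D325 D478 (iv D326) (iv D215) (iv D139) (iv D86) (iv F53) D138 D214
def n479 : Q := act 2 n325
theorem D479 : act 2 n325 = n479 := rfl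
def n480 : Q := act 2 n326
theorem D480 : act 2 n326 = n480 := rfl
theorem F336 : act 0 n480 = n327 := d1_1 D480 (iv D327) D326
def n481 : Q := act 3 n326
theorem D481 : act 3 n326 = n481 := rfl
theorem F337 : act 0 n481 = n328 := d2_1 D481 (iv D328) D326
def n482 : Q := act 3 n327
theorem D482 : act 3 n327 = n482 := rfl
theorem F338 : act 1 n482 = n333 := d4_1 D482 (iv D333) (iv F225)
def n483 : Q := act 2 n328
theorem D483 : act 2 n328 = n483 := rfl
def n484 : Q := act 1 n329
theorem D484 : act 1 n329 = n484 := rfl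
def n485 : Q := act 1 n331
theorem D485 : act 1 n331 = n485 := rfl
def n486 : Q := act 3 n331
theorem D486 : act 3 n331 = n486 := rfl
theorem F339 : act 0 n486 = n333 := d2_1 D486 (iv D333) (iv F228)
def n487 : Q := act 2 n332
theorem D487 : act 2 n332 = n487 := rfl
theorem F340 : act 0 n487 = n334 := d1_1 D487 (iv D334) (iv F229)
def n488 : Q := act 2 n333
theorem D488 : act 2 n333 = n488 := rfl
def n489 : Q := act 1 n334
theorem D489 : act 1 n334 = n489 := rfl
theorem F341 : act 2 n489 = n335 := d3_2 D334 D489 (iv D335) (iv D221) (iv F144)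
def n490 : Q := act 3 n334
theorem D490 : act 3 n334 = n490 := rfl
def n491 : Q := act 0 n335
theorem D491 : act 0 n335 = n491 := rfl
def n492 : Q := act 3 n335
theorem D492 : act 3 n335 = n492 := rfl
theorem F342 : act 1 n492 = n336 := d4_1 D492 (iv D336) D335
def n493 : Q := act 1 n337
theorem D493 : act 1 n337 = n493 := rfl
theorem F343 : act 2 n493 = n465 := d3_2 D337 D493 (iv D465) (iv D314) (iv F146)
theorem F344 : act 3 n493 = n484 := d4_2 (iv F233) D493 (iv D484)
def n494 : Q := act 0 n338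
theorem D494 : act 0 n338 = n494 := rfl
def n495 : Q := act 3 n338
theorem D495 : act 3 n338 = n495 := rfl
theorem F345 : act 1 n495 = n339 := d4_1 D495 (iv D339) D338
def n496 : Q := act 2 n339
theorem D496 : act 2 n339 = n496 := rfl
theorem F346 : act 0 n496 = n341 := d1_1 D496 (iv D341) (iv F234)
def n497 : Q := act 1 n340
theorem D497 : act 1 n340 = n497 := rfl
def n498 : Q := act 3 n340
theorem D498 : act 3 n340 = n498 := rfl
theorem F347 : act 0 n498 = n343 := d2_1 D498 (iv D343) (iv F235)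
def n499 : Q := act 1 n341
theorem D499 : act 1 n341 = n499 := rfl
theorem F348 : act 2 n499 = n389 := d3_2 D341 D499 (iv D389) (iv D261) (iv F149)
def n500 : Q := act 3 n341
theorem D500 : act 3 n341 = n500 := rfl
theorem F349 : act 2 n500 = n498 := d6_2 D341 D500 (iv D498) (iv D340) (iv D224) D223 D339 F234
def n501 : Q := act 0 n342
theorem D501 : act 0 n342 = n501 := rfl
theorem F350 : act 2 n501 = n344 := d1_2 (iv F236) D501 (iv D344)
def n502 : Q := act 3 n342
theorem D502 : act 3 n342 = n502 := rfl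
theorem F351 : act 1 n502 = n343 := d4_1 D502 (iv D343) D342
def n503 : Q := act 2 n343
theorem D503 : act 2 n343 = n503 := rfl
theorem F352 : act 0 n503 = n500 := d1_1 D503 F349 F347
theorem F353 : act 3 n503 = n496 := d5_2 D343 D503 (iv D496) (iv D339) (iv D223) D224 D340 D498 (iv F349) (iv D500) (iv D341) (iv D225) (iv D145) D146 D226
def n504 : Q := act 1 n344
theorem D504 : act 1 n344 = n504 := rfl
def n505 : Q := act 0 n345
theorem D505 : act 0 n345 = n505 := rfl
def n506 : Q := act 2 n345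
theorem D506 : act 2 n345 = n506 := rfl
theorem F354 : act 1 n506 = n349 := d3_1 D506 (iv D349) (iv D230) (iv F150) D345
def n507 : Q := act 3 n345
theorem D507 : act 3 n345 = n507 := rfl
theorem F355 : act 1 n507 = n346 := d4_1 D507 (iv D346) D345
def n508 : Q := act 2 n348
theorem D508 : act 2 n348 = n508 := rfl
theorem F356 : act 0 n508 = n349 := d1_1 D508 (iv D349) D348
def n509 : Q := act 3 n349
theorem D509 : act 3 n349 = n509 := rfl
def n510 : Q := act 2 n350
theorem D510 : act 2 n350 = n510 := rfl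
def n511 : Q := act 3 n350
theorem D511 : act 3 n350 = n511 := rfl
theorem F358 : act 1 n511 = n351 := d4_1 D511 (iv D351) D350
def n512 : Q := act 2 n351
theorem D512 : act 2 n351 = n512 := rfl
theorem F359 : act 0 n512 = n352 := d1_1 D512 (iv D352) (iv F240)
def n513 : Q := act 1 n352
theorem D513 : act 1 n352 = n513 := rfl
theorem F360 : act 2 n513 = n353 := d3_2 D352 D513 (iv D353) (iv D233) (iv F154)
def n514 : Q := act 3 n352
theorem D514 : act 3 n352 = n514 := rfl
def n515 : Q := act 0 n353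
theorem D515 : act 0 n353 = n515 := rfl
def n516 : Q := act 1 n354
theorem D516 : act 1 n354 = n516 := rfl
def n517 : Q := act 3 n354
theorem D517 : act 3 n354 = n517 := rfl
theorem F361 : act 0 n517 = n355 := d2_1 D517 (iv D355) D354
def n518 : Q := act 2 n355
theorem D518 : act 2 n355 = n518 := rfl
def n519 : Q := act 1 n356
theorem D519 : act 1 n356 = n519 := rfl
def n520 : Q := act 3 n356
theorem D520 : act 3 n356 = n520 := rfl
theorem F362 : act 0 n520 = n357 := d2_1 D520 (iv D357) D356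
def n521 : Q := act 2 n357
theorem D521 : act 2 n357 = n521 := rfl
theorem F363 : act 1 n521 = n518 := d3_1 D521 (iv D518) F242 (iv F158) (iv F243)
def n522 : Q := act 0 n358
theorem D522 : act 0 n358 = n522 := rfl
def n523 : Q := act 2 n358
theorem D523 : act 2 n358 = n523 := rfl
theorem F364 : act 1 n523 = n363 := d3_1 D523 (iv D363) (iv D241) (iv F159) D358
def n524 : Q := act 3 n358
theorem D524 : act 3 n358 = n524 := rfl
theorem F365 : act 1 n524 = n359 := d4_1 D524 (iv D359) D358
def n525 : Q := act 2 n359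
theorem D525 : act 2 n359 = n525 := rfl
theorem F366 : act 0 n525 = n360 := d1_1 D525 (iv D360) (iv F244)
def n526 : Q := act 1 n360
theorem D526 : act 1 n360 = n526 := rfl
theorem F367 : act 2 n526 = n361 := d3_2 D360 D526 (iv D361) (iv D240) (iv F160)
def n527 : Q := act 3 n360
theorem D527 : act 3 n360 = n527 := rfl
def n528 : Q := act 0 n361
theorem D528 : act 0 n361 = n528 := rfl
theorem F368 : act 3 n528 = n515 := d2_2 (iv F245) D528 (iv D515)
def n529 : Q := act 2 n362
theorem D529 : act 2 n362 = n529 := rfl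
theorem F369 : act 0 n529 = n363 := d1_1 D529 (iv D363) D362
def n530 : Q := act 3 n362
theorem D530 : act 3 n362 = n530 := rfl
theorem F370 : act 0 n530 = n364 := d2_1 D530 (iv D364) D362
theorem F371 : act 1 n530 = n368 := d4_1 D530 (iv D368) (iv F246)
def n531 : Q := act 3 n363
theorem D531 : act 3 n363 = n531 := rfl
def n532 : Q := act 2 n364
theorem D532 : act 2 n364 = n532 := rfl
def n533 : Q := act 1 n365
theorem D533 : act 1 n365 = n533 := rfl
def n534 : Q := act 3 n365
theorem D534 : act 3 n365 = n534 := rfl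
theorem F372 : act 0 n534 = n366 := d2_1 D534 (iv D366) (iv F248)
theorem F373 : act 2 n534 = n527 := d6_2 D365 D534 (iv D527) (iv D360) (iv D239) F103 D158 (iv F163)
def n535 : Q := act 2 n366
theorem D535 : act 2 n366 = n535 := rfl
theorem F374 : act 0 n535 = n527 := d1_1 D535 (iv F373) F372
theorem F375 : act 3 n535 = n525 := d5_2 D366 D535 (iv D525) (iv D359) F159 D242 D365 D534 F373 (iv D527) (iv D360) (iv D239) F103 D158 D243
def n536 : Q := act 1 n367
theorem D536 : act 1 n367 = n536 := rfl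
def n537 : Q := act 3 n367
theorem D537 : act 3 n367 = n537 := rfl
theorem F376 : act 0 n537 = n369 := d2_1 D537 (iv D369) (iv F250)
def n538 : Q := act 2 n368
theorem D538 : act 2 n368 = n538 := rfl
theorem F377 : act 0 n538 = n370 := d1_1 D538 (iv D370) (iv F251)
def n539 : Q := act 2 n369
theorem D539 : act 2 n369 = n539 := rfl
def n540 : Q := act 1 n370
theorem D540 : act 1 n370 = n540 := rfl
theorem F378 : act 2 n540 = n371 := d3_2 D370 D540 (iv D371) (iv D247) (iv F166)
def n541 : Q := act 3 n370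
theorem D541 : act 3 n370 = n541 := rfl
def n542 : Q := act 0 n371
theorem D542 : act 0 n371 = n542 := rfl
def n543 : Q := act 1 n372
theorem D543 : act 1 n372 = n543 := rfl
def n544 : Q := act 3 n372
theorem D544 : act 3 n372 = n544 := rfl
theorem F379 : act 0 n544 = n373 := d2_1 D544 (iv D373) D372
def n545 : Q := act 2 n373
theorem D545 : act 2 n373 = n545 := rfl
def n546 : Q := act 0 n374
theorem D546 : act 0 n374 = n546 := rfl
theorem F380 : act 1 n546 = n481 := d0_2 D374 D546 F337 F226 F143 F92 (iv F65) D162 D250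
theorem F381 : act 3 n546 = n478 := d2_2 (iv F255) D546 (iv D478)
def n547 : Q := act 2 n374
theorem D547 : act 2 n374 = n547 := rfl
def n548 : Q := act 0 n375
theorem D548 : act 0 n375 = n548 := rfl
def n549 : Q := act 3 n375
theorem D549 : act 3 n375 = n549 := rfl
theorem F383 : act 1 n549 = n376 := d4_1 D549 (iv D376) D375
def n550 : Q := act 2 n376
theorem D550 : act 2 n376 = n550 := rfl
theorem F384 : act 0 n550 = n378 := d1_1 D550 (iv D378) (iv F257)
def n551 : Q := act 1 n377
theorem D551 : act 1 n377 = n551 := rfl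
theorem F385 : act 2 n551 = n551 := d3_2 D377 D551 (iv D551) (iv D377) F172
def n552 : Q := act 3 n377
theorem D552 : act 3 n377 = n552 := rfl
theorem F386 : act 0 n552 = n380 := d2_1 D552 (iv D380) (iv F258)
def n553 : Q := act 1 n378
theorem D553 : act 1 n378 = n553 := rfl
def n554 : Q := act 3 n378
theorem D554 : act 3 n378 = n554 := rfl
theorem F387 : act 2 n554 = n552 := d6_2 D378 D554 (iv D552) (iv D377) (iv D252) D251 D376 F257
def n555 : Q := act 0 n379
theorem D555 : act 0 n379 = n555 := rfl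
theorem F388 : act 2 n555 = n381 := d1_2 (iv F259) D555 (iv D381)
def n556 : Q := act 3 n379
theorem D556 : act 3 n379 = n556 := rfl
theorem F389 : act 1 n556 = n380 := d4_1 D556 (iv D380) D379
def n557 : Q := act 2 n380
theorem D557 : act 2 n380 = n557 := rfl
theorem F390 : act 0 n557 = n554 := d1_1 D557 F387 F386
theorem F391 : act 3 n557 = n550 := d5_2 D380 D557 (iv D550) (iv D376) (iv D251) D252 D377 D552 (iv F387) (iv D554) (iv D378) (iv D253) (iv D164) D165 D254
def n558 : Q := act 1 n381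
theorem D558 : act 1 n381 = n558 := rfl
theorem F392 : act 0 n558 = n394 := d0_1 D558 (iv D394) (iv D264) (iv D172) F71 (iv F68) (iv F109) D255 D381
def n559 : Q := act 3 n381
theorem D559 : act 3 n381 = n559 := rfl
theorem F393 : act 0 n559 = n382 := d2_1 D559 (iv D382) D381
def n560 : Q := act 2 n382
theorem D560 : act 2 n382 = n560 := rfl
theorem F394 : act 1 n560 = n545 := d3_1 D560 (iv D545) F254 (iv F174) (iv F260)
def n561 : Q := act 0 n383
theorem D561 : act 0 n383 = n561 := rfl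
theorem F395 : act 2 n561 = n397 := d1_2 (iv F261) D561 (iv D397)
theorem F396 : act 3 n561 = n542 := d2_2 (iv F262) D561 (iv D542)
def n562 : Q := act 1 n384
theorem D562 : act 1 n384 = n562 := rfl
def n563 : Q := act 3 n384
theorem D563 : act 3 n384 = n563 := rfl
theorem F397 : act 0 n563 = n385 := d2_1 D563 (iv D385) D384
def n564 : Q := act 2 n385
theorem D564 : act 2 n385 = n564 := rfl
def n565 : Q := act 1 n386
theorem D565 : act 1 n386 = n565 := rfl
def n566 : Q := act 0 n387
theorem D566 : act 0 n387 = n566 := rfl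
def n567 : Q := act 3 n387
theorem D567 : act 3 n387 = n567 := rfl
theorem F399 : act 1 n567 = n388 := d4_1 D567 (iv D388) D387
def n568 : Q := act 0 n389
theorem D568 : act 0 n389 = n568 := rfl
def n569 : Q := act 3 n389
theorem D569 : act 3 n389 = n569 := rfl
theorem F400 : act 1 n569 = n390 := d4_1 D569 (iv D390) D389
def n570 : Q := act 1 n391
theorem D570 : act 1 n391 = n570 := rfl
def n571 : Q := act 3 n391
theorem D571 : act 3 n391 = n571 := rfl
theorem F401 : act 0 n571 = n392 := d2_1 D571 (iv D392) D391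
def n572 : Q := act 2 n392
theorem D572 : act 2 n392 = n572 := rfl
def n573 : Q := act 1 n393
theorem D573 : act 1 n393 = n573 := rfl
theorem F402 : act 3 n573 = n565 := d4_2 (iv F272) D573 (iv D565)
def n574 : Q := act 2 n394
theorem D574 : act 2 n394 = n574 := rfl
def n575 : Q := act 3 n394
theorem D575 : act 3 n394 = n575 := rfl
theorem F403 : act 1 n575 = n395 := d4_1 D575 (iv D395) D394
def n576 : Q := act 2 n395
theorem D576 : act 2 n395 = n576 := rfl
theorem F404 : act 0 n576 = n396 := d1_1 D576 (iv D396) (iv F273)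
def n577 : Q := act 3 n396
theorem D577 : act 3 n396 = n577 := rfl
theorem F405 : act 1 n577 = n451 := d4_1 D577 F316 (iv F274)
def n578 : Q := act 1 n397
theorem D578 : act 1 n397 = n578 := rfl
theorem F406 : act 3 n578 = n504 := d4_2 (iv F275) D578 (iv D504)
def n579 : Q := act 1 n398
theorem D579 : act 1 n398 = n579 := rfl
theorem F407 : act 2 n579 = n412 := d3_2 D398 D579 (iv D412) (iv D277) (iv F183)
def n580 : Q := act 3 n398
theorem D580 : act 3 n398 = n580 := rfl
theorem F408 : act 0 n580 = n400 := d2_1 D580 (iv D400) (iv F276)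
def n581 : Q := act 2 n399
theorem D581 : act 2 n399 = n581 := rfl
theorem F409 : act 0 n581 = n401 := d1_1 D581 (iv D401) (iv F277)
def n582 : Q := act 2 n400
theorem D582 : act 2 n400 = n582 := rfl
def n583 : Q := act 1 n401
theorem D583 : act 1 n401 = n583 := rfl
theorem F410 : act 2 n583 = n402 := d3_2 D401 D583 (iv D402) (iv D270) (iv F185)
def n584 : Q := act 3 n401
theorem D584 : act 3 n401 = n584 := rfl
def n585 : Q := act 0 n402
theorem D585 : act 0 n402 = n585 := rfl
def n586 : Q := act 3 n402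
theorem D586 : act 3 n402 = n586 := rfl
theorem F411 : act 1 n586 = n403 := d4_1 D586 (iv D403) D402
def n587 : Q := act 1 n404
theorem D587 : act 1 n404 = n587 := rfl
def n588 : Q := act 3 n404
theorem D588 : act 3 n404 = n588 := rfl
theorem F412 : act 0 n588 = n405 := d2_1 D588 (iv D405) D404
def n589 : Q := act 2 n405
theorem D589 : act 2 n405 = n589 := rfl
def n590 : Q := act 0 n406
theorem D590 : act 0 n406 = n590 := rfl
theorem F413 : act 1 n590 = n422 := d0_2 D406 D590 (iv D422) (iv D284) (iv D187) (iv D119) (iv F74) D178 D273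
def n591 : Q := act 2 n406
theorem D591 : act 2 n406 = n591 := rfl
def n592 : Q := act 2 n407
theorem D592 : act 2 n407 = n592 := rfl
theorem F414 : act 0 n592 = n408 := d1_1 D592 (iv D408) D407
def n593 : Q := act 3 n407
theorem D593 : act 3 n407 = n593 := rfl
theorem F415 : act 0 n593 = n409 := d2_1 D593 (iv D409) D407
theorem F416 : act 1 n593 = n428 := d4_1 D593 (iv D428) (iv F284)
def n594 : Q := act 3 n408
theorem D594 : act 3 n408 = n594 := rfl
theorem F417 : act 1 n594 = n594 := d4_1 D594 (iv D594) F285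
def n595 : Q := act 2 n409
theorem D595 : act 2 n409 = n595 := rfl
def n596 : Q := act 1 n410
theorem D596 : act 1 n410 = n596 := rfl
def n597 : Q := act 3 n410
theorem D597 : act 3 n410 = n597 := rfl
theorem F418 : act 0 n597 = n411 := d2_1 D597 (iv D411) (iv F287)
theorem F419 : act 2 n597 = n411 := d6_2 D410 D597 (iv D411) (iv D276) (iv D180) F75 D180 (iv F188)
def n598 : Q := act 0 n412
theorem D598 : act 0 n412 = n598 := rfl
def n599 : Q := act 3 n412
theorem D599 : act 3 n412 = n599 := rfl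
theorem F420 : act 1 n599 = n413 := d4_1 D599 (iv D413) D412
def n600 : Q := act 2 n413
theorem D600 : act 2 n413 = n600 := rfl
theorem F421 : act 0 n600 = n415 := d1_1 D600 (iv D415) (iv F288)
def n601 : Q := act 1 n414
theorem D601 : act 1 n414 = n601 := rfl
def n602 : Q := act 3 n414
theorem D602 : act 3 n414 = n602 := rfl
theorem F422 : act 0 n602 = n417 := d2_1 D602 (iv D417) (iv F289)
def n603 : Q := act 1 n415
theorem D603 : act 1 n415 = n603 := rfl
theorem F423 : act 2 n603 = n440 := d3_2 D415 D603 (iv D440) (iv D297) (iv F191)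
def n604 : Q := act 3 n415
theorem D604 : act 3 n415 = n604 := rfl
theorem F424 : act 2 n604 = n602 := d6_2 D415 D604 (iv D602) (iv D414) (iv D278) D277 D413 F288
def n605 : Q := act 0 n416
theorem D605 : act 0 n416 = n605 := rfl
theorem F425 : act 2 n605 = n418 := d1_2 (iv F290) D605 (iv D418)
def n606 : Q := act 3 n416
theorem D606 : act 3 n416 = n606 := rfl
theorem F426 : act 1 n606 = n417 := d4_1 D606 (iv D417) D416
def n607 : Q := act 2 n417
theorem D607 : act 2 n417 = n607 := rfl
theorem F427 : act 0 n607 = n604 := d1_1 D607 F424 F422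
theorem F428 : act 3 n607 = n600 := d5_2 D417 D607 (iv D600) (iv D413) (iv D277) D278 D414 D602 (iv F424) (iv D604) (iv D415) (iv D279) (iv D182) D183 D280
def n608 : Q := act 1 n418
theorem D608 : act 1 n418 = n608 := rfl
def n609 : Q := act 0 n419
theorem D609 : act 0 n419 = n609 := rfl
def n610 : Q := act 2 n419
theorem D610 : act 2 n419 = n610 := rfl
theorem F429 : act 1 n610 = n423 := d3_1 D610 (iv D423) (iv D284) (iv F192) D419
def n611 : Q := act 3 n419
theorem D611 : act 3 n419 = n611 := rfl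
theorem F430 : act 1 n611 = n420 := d4_1 D611 (iv D420) D419
def n612 : Q := act 2 n420
theorem D612 : act 2 n420 = n612 := rfl
theorem F431 : act 0 n612 = n421 := d1_1 D612 (iv D421) (iv F291)
def n613 : Q := act 3 n421
theorem D613 : act 3 n421 = n613 := rfl
def n614 : Q := act 2 n422
theorem D614 : act 2 n422 = n614 := rfl
theorem F432 : act 0 n614 = n423 := d1_1 D614 (iv D423) D422
def n615 : Q := act 3 n422
theorem D615 : act 3 n422 = n615 := rfl
theorem F433 : act 0 n615 = n424 := d2_1 D615 (iv D424) D422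
def n616 : Q := act 3 n423
theorem D616 : act 3 n423 = n616 := rfl
def n617 : Q := act 2 n424
theorem D617 : act 2 n424 = n617 := rfl
def n618 : Q := act 1 n425
theorem D618 : act 1 n425 = n618 := rfl
def n619 : Q := act 3 n425
theorem D619 : act 3 n425 = n619 := rfl
theorem F434 : act 0 n619 = n426 := d2_1 D619 (iv D426) (iv F293)
theorem F435 : act 2 n619 = n613 := d6_2 D425 D619 (iv D613) (iv D421) (iv D283) F124 D188 (iv F194)
def n620 : Q := act 2 n426
theorem D620 : act 2 n426 = n620 := rfl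
theorem F436 : act 0 n620 = n613 := d1_1 D620 (iv F435) F434
theorem F437 : act 3 n620 = n612 := d5_2 D426 D620 (iv D612) (iv D420) F192 D285 D425 D619 F435 (iv D613) (iv D421) (iv D283) F124 D188 D286
def n621 : Q := act 1 n427
theorem D621 : act 1 n427 = n621 := rfl
def n622 : Q := act 3 n427
theorem D622 : act 3 n427 = n622 := rfl
theorem F438 : act 0 n622 = n429 := d2_1 D622 (iv D429) (iv F295)
def n623 : Q := act 2 n428
theorem D623 : act 2 n428 = n623 := rfl
theorem F439 : act 0 n623 = n430 := d1_1 D623 (iv D430) (iv F296)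
def n624 : Q := act 2 n429
theorem D624 : act 2 n429 = n624 := rfl
def n625 : Q := act 1 n430
theorem D625 : act 1 n430 = n625 := rfl
theorem F440 : act 2 n625 = n431 := d3_2 D430 D625 (iv D431) (iv D290) (iv F197)
def n626 : Q := act 3 n430
theorem D626 : act 3 n430 = n626 := rfl
def n627 : Q := act 0 n431
theorem D627 : act 0 n431 = n627 := rfl
def n628 : Q := act 1 n432
theorem D628 : act 1 n432 = n628 := rfl
def n629 : Q := act 3 n432
theorem D629 : act 3 n432 = n629 := rfl
theorem F441 : act 0 n629 = n433 := d2_1 D629 (iv D433) D432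
def n630 : Q := act 2 n433
theorem D630 : act 2 n433 = n630 := rfl
def n631 : Q := act 0 n434
theorem D631 : act 0 n434 = n631 := rfl
theorem F442 : act 1 n631 = n615 := d0_2 D434 D631 F433 F292 F194 F125 (iv F81) D192 D293
theorem F443 : act 3 n631 = n590 := d2_2 (iv F300) D631 (iv D590)
def n632 : Q := act 2 n434
theorem D632 : act 2 n434 = n632 := rfl
def n633 : Q := act 1 n435
theorem D633 : act 1 n435 = n633 := rfl
def n634 : Q := act 3 n435
theorem D634 : act 3 n435 = n634 := rfl
theorem F444 : act 0 n634 = n436 := d2_1 D634 (iv D436) D435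
def n635 : Q := act 2 n436
theorem D635 : act 2 n436 = n635 := rfl
def n636 : Q := act 1 n437
theorem D636 : act 1 n437 = n636 := rfl
def n637 : Q := act 0 n438
theorem D637 : act 0 n438 = n637 := rfl
theorem F445 : act 2 n637 = n470 := d1_2 (iv F304) D637 (iv D470)
def n638 : Q := act 3 n438
theorem D638 : act 3 n438 = n638 := rfl
theorem F446 : act 1 n638 = n439 := d4_1 D638 (iv D439) D438
def n639 : Q := act 0 n440
theorem D639 : act 0 n440 = n639 := rfl
def n640 : Q := act 3 n440
theorem D640 : act 3 n440 = n640 := rfl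
theorem F447 : act 1 n640 = n441 := d4_1 D640 (iv D441) D440
def n641 : Q := act 1 n442
theorem D641 : act 1 n442 = n641 := rfl
def n642 : Q := act 3 n442
theorem D642 : act 3 n442 = n642 := rfl
theorem F448 : act 0 n642 = n443 := d2_1 D642 (iv D443) D442
def n643 : Q := act 2 n443
theorem D643 : act 2 n443 = n643 := rfl
def n644 : Q := act 1 n444
theorem D644 : act 1 n444 = n644 := rfl
theorem F449 : act 3 n644 = n636 := d4_2 (iv F310) D644 (iv D636)
def n645 : Q := act 0 n445
theorem D645 : act 0 n445 = n645 := rfl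
theorem F450 : act 1 n645 = n448 := d0_2 D445 D645 (iv D448) (iv D302) (iv D199) (iv D128) (iv F85) D197 D300
def n646 : Q := act 2 n445
theorem D646 : act 2 n445 = n646 := rfl
def n647 : Q := act 3 n445
theorem D647 : act 3 n445 = n647 := rfl
theorem F451 : act 1 n647 = n446 := d4_1 D647 (iv D446) D445
def n648 : Q := act 2 n446
theorem D648 : act 2 n446 = n648 := rfl
theorem F452 : act 0 n648 = n447 := d1_1 D648 (iv D447) (iv F311)
def n649 : Q := act 3 n447
theorem D649 : act 3 n447 = n649 := rfl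
theorem F453 : act 1 n649 = n613 := d4_1 D649 (iv D613) (iv F312)
def n650 : Q := act 2 n448
theorem D650 : act 2 n448 = n650 := rfl
theorem F454 : act 0 n650 = n449 := d1_1 D650 (iv D449) D448
def n651 : Q := act 3 n448
theorem D651 : act 3 n448 = n651 := rfl
theorem F455 : act 0 n651 = n450 := d2_1 D651 (iv D450) D448
def n652 : Q := act 3 n449
theorem D652 : act 3 n449 = n652 := rfl
theorem F456 : act 1 n652 = n456 := d4_1 D652 (iv D456) (iv F313)
def n653 : Q := act 2 n450
theorem D653 : act 2 n450 = n653 := rfl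
def n654 : Q := act 0 n452
theorem D654 : act 0 n452 = n654 := rfl
theorem F457 : act 2 n654 = n454 := d1_2 (iv F317) D654 (iv D454)
def n655 : Q := act 3 n452
theorem D655 : act 3 n452 = n655 := rfl
theorem F458 : act 1 n655 = n453 := d4_1 D655 (iv D453) D452
def n656 : Q := act 1 n454
theorem D656 : act 1 n454 = n656 := rfl
theorem F459 : act 3 n656 = n608 := d4_2 (iv F320) D656 (iv D608)
def n657 : Q := act 1 n455
theorem D657 : act 1 n455 = n657 := rfl
theorem F460 : act 2 n657 = n485 := d3_2 D455 D657 (iv D485) (iv D331) (iv F208)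
def n658 : Q := act 3 n455
theorem D658 : act 3 n455 = n658 := rfl
theorem F461 : act 0 n658 = n456 := d2_1 D658 (iv D456) (iv F321)
def n659 : Q := act 2 n456
theorem D659 : act 2 n456 = n659 := rfl
def n660 : Q := act 0 n457
theorem D660 : act 0 n457 = n660 := rfl
theorem F462 : act 2 n660 = n494 := d1_2 (iv F322) D660 (iv D494)
def n661 : Q := act 3 n457
theorem D661 : act 3 n457 = n661 := rfl
theorem F463 : act 1 n661 = n458 := d4_1 D661 (iv D458) D457
def n662 : Q := act 2 n458
theorem D662 : act 2 n458 = n662 := rfl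
theorem F464 : act 0 n662 = n460 := d1_1 D662 (iv D460) (iv F323)
def n663 : Q := act 1 n459
theorem D663 : act 1 n459 = n663 := rfl
theorem F465 : act 2 n663 = n497 := d3_2 D459 D663 (iv D497) (iv D340) (iv F211)
def n664 : Q := act 3 n459
theorem D664 : act 3 n459 = n664 := rfl
theorem F466 : act 0 n664 = n462 := d2_1 D664 (iv D462) (iv F324)
def n665 : Q := act 1 n460
theorem D665 : act 1 n460 = n665 := rfl
def n666 : Q := act 3 n460
theorem D666 : act 3 n460 = n666 := rfl
theorem F467 : act 2 n666 = n664 := d6_2 D460 D666 (iv D664) (iv D459) (iv D309) D308 D458 F323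
def n667 : Q := act 0 n461
theorem D667 : act 0 n461 = n667 := rfl
theorem F468 : act 2 n667 = n463 := d1_2 (iv F325) D667 (iv D463)
def n668 : Q := act 3 n461
theorem D668 : act 3 n461 = n668 := rfl
theorem F469 : act 1 n668 = n462 := d4_1 D668 (iv D462) D461
def n669 : Q := act 2 n462
theorem D669 : act 2 n462 = n669 := rfl
theorem F471 : act 3 n669 = n662 := d5_2 D462 D669 (iv D662) (iv D458) (iv D308) D309 D459 D664 (iv F467) (iv D666) (iv D460) (iv D310) (iv D204) D205 D311
def n670 : Q := act 1 n463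
theorem D670 : act 1 n463 = n670 := rfl
def n671 : Q := act 3 n463
theorem D671 : act 3 n463 = n671 := rfl
theorem F472 : act 0 n671 = n464 := d2_1 D671 (iv D464) D463
def n672 : Q := act 2 n464
theorem D672 : act 2 n464 = n672 := rfl
theorem F473 : act 1 n672 = n630 := d3_1 D672 (iv D630) F299 (iv F213) (iv F326)
def n673 : Q := act 0 n465
theorem D673 : act 0 n465 = n673 := rfl
theorem F474 : act 3 n673 = n627 := d2_2 (iv F327) D673 (iv D627)
def n674 : Q := act 2 n466
theorem D674 : act 2 n466 = n674 := rfl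
theorem F475 : act 0 n674 = n510 := d1_1 D674 (iv D510) (iv F328)
def n675 : Q := act 3 n466
theorem D675 : act 3 n466 = n675 := rfl
theorem F476 : act 0 n675 = n511 := d2_1 D675 (iv D511) (iv F328)
theorem F477 : act 1 n675 = n467 := d4_1 D675 (iv D467) D466
def n676 : Q := act 2 n467
theorem D676 : act 2 n467 = n676 := rfl
theorem F478 : act 0 n676 = n468 := d1_1 D676 (iv D468) (iv F329)
def n677 : Q := act 1 n468
theorem D677 : act 1 n468 = n677 := rfl
theorem F479 : act 2 n677 = n469 := d3_2 D468 D677 (iv D469) (iv D317) (iv F216)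
def n678 : Q := act 3 n468
theorem D678 : act 3 n468 = n678 := rfl
def n679 : Q := act 0 n469
theorem D679 : act 0 n469 = n679 := rfl
def n680 : Q := act 1 n470
theorem D680 : act 1 n470 = n680 := rfl
def n681 : Q := act 3 n470
theorem D681 : act 3 n470 = n681 := rfl
theorem F480 : act 0 n681 = n471 := d2_1 D681 (iv D471) D470
def n682 : Q := act 2 n471
theorem D682 : act 2 n471 = n682 := rfl
def n683 : Q := act 1 n472
theorem D683 : act 1 n472 = n683 := rfl
def n684 : Q := act 3 n472
theorem D684 : act 3 n472 = n684 := rfl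
theorem F481 : act 0 n684 = n473 := d2_1 D684 (iv D473) D472
def n685 : Q := act 2 n473
theorem D685 : act 2 n473 = n685 := rfl
theorem F482 : act 1 n685 = n682 := d3_1 D685 (iv D682) F330 (iv F220) (iv F332)
def n686 : Q := act 0 n474
theorem D686 : act 0 n474 = n686 := rfl
def n687 : Q := act 2 n474
theorem D687 : act 2 n474 = n687 := rfl
theorem F483 : act 1 n687 = n479 := d3_1 D687 (iv D479) (iv D325) (iv F221) D474
def n688 : Q := act 3 n474
theorem D688 : act 3 n474 = n688 := rfl
theorem F484 : act 1 n688 = n475 := d4_1 D688 (iv D475) D474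
def n689 : Q := act 2 n475
theorem D689 : act 2 n475 = n689 := rfl
theorem F485 : act 0 n689 = n476 := d1_1 D689 (iv D476) (iv F333)
theorem F486 : act 3 n689 = n545 := d6_1 D689 (iv D545) (iv D373) F168 F106 (iv F142) D323 (iv F333)
def n690 : Q := act 1 n476
theorem D690 : act 1 n476 = n690 := rfl
theorem F487 : act 2 n690 = n477 := d3_2 D476 D690 (iv D477) (iv D324) (iv F222)
def n691 : Q := act 3 n476
theorem D691 : act 3 n476 = n691 := rfl
theorem F488 : act 0 n691 = n545 := d2_1 D691 (iv F486) F485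
theorem F489 : act 2 n691 = n544 := d5_1 D691 (iv D544) F253 F169 (iv F221) D475 D689 F486 (iv D545) (iv D373) F168 F106 (iv F142) D323 D476
def n692 : Q := act 0 n477
theorem D692 : act 0 n477 = n692 := rfl
theorem F490 : act 3 n692 = n679 := d2_2 (iv F334) D692 (iv D679)
def n693 : Q := act 2 n478
theorem D693 : act 2 n478 = n693 := rfl
theorem F491 : act 0 n693 = n479 := d1_1 D693 (iv D479) D478
def n694 : Q := act 3 n479
theorem D694 : act 3 n479 = n694 := rfl
def n695 : Q := act 1 n480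
theorem D695 : act 1 n480 = n695 := rfl
def n696 : Q := act 3 n480
theorem D696 : act 3 n480 = n696 := rfl
theorem F492 : act 0 n696 = n482 := d2_1 D696 (iv D482) (iv F336)
def n697 : Q := act 2 n481
theorem D697 : act 2 n481 = n697 := rfl
theorem F493 : act 0 n697 = n483 := d1_1 D697 (iv D483) (iv F337)
def n698 : Q := act 2 n482
theorem D698 : act 2 n482 = n698 := rfl
def n699 : Q := act 1 n483
theorem D699 : act 1 n483 = n699 := rfl
theorem F494 : act 2 n699 = n484 := d3_2 D483 D699 (iv D484) (iv D329) (iv F226)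
def n700 : Q := act 3 n483
theorem D700 : act 3 n483 = n700 := rfl
def n701 : Q := act 0 n484
theorem D701 : act 0 n484 = n701 := rfl
def n702 : Q := act 0 n485
theorem D702 : act 0 n485 = n702 := rfl
def n703 : Q := act 3 n485
theorem D703 : act 3 n485 = n703 := rfl
theorem F495 : act 1 n703 = n486 := d4_1 D703 (iv D486) D485
def n704 : Q := act 2 n486
theorem D704 : act 2 n486 = n704 := rfl
theorem F496 : act 0 n704 = n488 := d1_1 D704 (iv D488) (iv F339)
def n705 : Q := act 1 n487
theorem D705 : act 1 n487 = n705 := rfl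
def n706 : Q := act 3 n487
theorem D706 : act 3 n487 = n706 := rfl
theorem F497 : act 0 n706 = n490 := d2_1 D706 (iv D490) (iv F340)
def n707 : Q := act 1 n488
theorem D707 : act 1 n488 = n707 := rfl
def n708 : Q := act 3 n488
theorem D708 : act 3 n488 = n708 := rfl
theorem F498 : act 2 n708 = n706 := d6_2 D488 D708 (iv D706) (iv D487) (iv D332) D331 D486 F339
def n709 : Q := act 0 n489
theorem D709 : act 0 n489 = n709 := rfl
theorem F499 : act 2 n709 = n491 := d1_2 (iv F341) D709 (iv D491)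
def n710 : Q := act 3 n489
theorem D710 : act 3 n489 = n710 := rfl
theorem F500 : act 1 n710 = n490 := d4_1 D710 (iv D490) D489
def n711 : Q := act 2 n490
theorem D711 : act 2 n490 = n711 := rfl
theorem F501 : act 0 n711 = n708 := d1_1 D711 F498 F497
theorem F502 : act 3 n711 = n704 := d5_2 D490 D711 (iv D704) (iv D486) (iv D331) D332 D487 D706 (iv F498) (iv D708) (iv D488) (iv D333) (iv D219) D220 D334
def n712 : Q := act 1 n491
theorem D712 : act 1 n491 = n712 := rfl
theorem F503 : act 0 n712 = n670 := d0_1 D712 (iv D670) (iv D463) (iv D312) F139 (iv F94) (iv F145) D335 D491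
def n713 : Q := act 3 n491
theorem D713 : act 3 n491 = n713 := rfl
theorem F504 : act 0 n713 = n492 := d2_1 D713 (iv D492) D491
def n714 : Q := act 2 n492
theorem D714 : act 2 n492 = n714 := rfl
theorem F505 : act 1 n714 = n535 := d3_1 D714 (iv D535) F249 (iv F231) (iv F342)
def n715 : Q := act 0 n493
theorem D715 : act 0 n493 = n715 := rfl
theorem F506 : act 2 n715 = n673 := d1_2 (iv F343) D715 (iv D673)
theorem F507 : act 3 n715 = n701 := d2_2 (iv F344) D715 (iv D701)
def n716 : Q := act 1 n494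
theorem D716 : act 1 n494 = n716 := rfl
theorem F508 : act 0 n716 = n562 := d0_1 D716 (iv D562) (iv D384) (iv D258) F111 (iv F95) (iv F147) D338 D494
def n717 : Q := act 3 n494
theorem D717 : act 3 n494 = n717 := rfl
theorem F509 : act 0 n717 = n495 := d2_1 D717 (iv D495) D494
def n718 : Q := act 2 n495
theorem D718 : act 2 n495 = n718 := rfl
def n719 : Q := act 1 n496
theorem D719 : act 1 n496 = n719 := rfl
def n720 : Q := act 0 n497
theorem D720 : act 0 n497 = n720 := rfl
def n721 : Q := act 3 n497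
theorem D721 : act 3 n497 = n721 := rfl
theorem F510 : act 1 n721 = n498 := d4_1 D721 (iv D498) D497
def n722 : Q := act 0 n499
theorem D722 : act 0 n499 = n722 := rfl
theorem F511 : act 2 n722 = n568 := d1_2 (iv F348) D722 (iv D568)
def n723 : Q := act 3 n499
theorem D723 : act 3 n499 = n723 := rfl
theorem F512 : act 1 n723 = n500 := d4_1 D723 (iv D500) D499
def n724 : Q := act 1 n501
theorem D724 : act 1 n501 = n724 := rfl
def n725 : Q := act 3 n501
theorem D725 : act 3 n501 = n725 := rfl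
theorem F513 : act 0 n725 = n502 := d2_1 D725 (iv D502) D501
def n726 : Q := act 2 n502
theorem D726 : act 2 n502 = n726 := rfl
def n727 : Q := act 1 n503
theorem D727 : act 1 n503 = n727 := rfl
theorem F514 : act 3 n727 = n719 := d4_2 (iv F353) D727 (iv D719)
def n728 : Q := act 0 n504
theorem D728 : act 0 n504 = n728 := rfl
theorem F515 : act 1 n728 = n505 := d0_2 D504 D728 (iv D505) (iv D345) (iv D228) (iv D148) (iv F97) D227 D344
def n729 : Q := act 2 n504
theorem D729 : act 2 n504 = n729 := rfl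
def n730 : Q := act 2 n505
theorem D730 : act 2 n505 = n730 := rfl
theorem F516 : act 0 n730 = n506 := d1_1 D730 (iv D506) D505
def n731 : Q := act 3 n505
theorem D731 : act 3 n505 = n731 := rfl
theorem F517 : act 0 n731 = n507 := d2_1 D731 (iv D507) D505
def n732 : Q := act 3 n506
theorem D732 : act 3 n506 = n732 := rfl
theorem F518 : act 1 n732 = n509 := d4_1 D732 (iv D509) (iv F354)
def n733 : Q := act 2 n507
theorem D733 : act 2 n507 = n733 := rfl
def n734 : Q := act 1 n508
theorem D734 : act 1 n508 = n734 := rfl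
theorem F519 : act 2 n734 = n705 := d3_2 D508 D734 (iv D705) (iv D487) (iv F238)
def n735 : Q := act 3 n508
theorem D735 : act 3 n508 = n735 := rfl
theorem F520 : act 0 n735 = n509 := d2_1 D735 (iv D509) (iv F356)
def n736 : Q := act 2 n509
theorem D736 : act 2 n509 = n736 := rfl
def n737 : Q := act 3 n510
theorem D737 : act 3 n510 = n737 := rfl
def n738 : Q := act 2 n511
theorem D738 : act 2 n511 = n738 := rfl
def n739 : Q := act 1 n512
theorem D739 : act 1 n512 = n739 := rfl
def n740 : Q := act 3 n512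
theorem D740 : act 3 n512 = n740 := rfl
theorem F523 : act 2 n740 = n514 := d6_2 D512 D740 (iv D514) (iv D352) (iv D232) F100 D232 (iv F240)
def n741 : Q := act 0 n513
theorem D741 : act 0 n513 = n741 := rfl
theorem F524 : act 2 n741 = n515 := d1_2 (iv F360) D741 (iv D515)
def n742 : Q := act 3 n513
theorem D742 : act 3 n513 = n742 := rfl
theorem F525 : act 1 n742 = n514 := d4_1 D742 (iv D514) D513
def n743 : Q := act 1 n515
theorem D743 : act 1 n515 = n743 := rfl
def n744 : Q := act 0 n516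
theorem D744 : act 0 n516 = n744 := rfl
theorem F526 : act 1 n744 = n522 := d0_2 D516 D744 (iv D522) (iv D358) (iv D238) (iv D155) (iv F102) D234 D354
def n745 : Q := act 2 n516
theorem D745 : act 2 n516 = n745 := rfl
theorem F527 : act 1 n745 = n745 := d3_1 D745 (iv D745) (iv D516) F241 D516
def n746 : Q := act 3 n516
theorem D746 : act 3 n516 = n746 := rfl
theorem F528 : act 1 n746 = n517 := d4_1 D746 (iv D517) D516
def n747 : Q := act 2 n517
theorem D747 : act 2 n517 = n747 := rfl
theorem F529 : act 0 n747 = n518 := d1_1 D747 (iv D518) (iv F361)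
def n748 : Q := act 3 n518
theorem D748 : act 3 n518 = n748 := rfl
def n749 : Q := act 0 n519
theorem D749 : act 0 n519 = n749 := rfl
def n750 : Q := act 2 n519
theorem D750 : act 2 n519 = n750 := rfl
def n751 : Q := act 3 n519
theorem D751 : act 3 n519 = n751 := rfl
theorem F530 : act 1 n751 = n520 := d4_1 D751 (iv D520) D519
def n752 : Q := act 2 n520
theorem D752 : act 2 n520 = n752 := rfl
theorem F531 : act 0 n752 = n521 := d1_1 D752 (iv D521) (iv F362)
def n753 : Q := act 3 n521
theorem D753 : act 3 n521 = n753 := rfl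
theorem F532 : act 1 n753 = n748 := d4_1 D753 (iv D748) (iv F363)
def n754 : Q := act 2 n522
theorem D754 : act 2 n522 = n754 := rfl
theorem F533 : act 0 n754 = n523 := d1_1 D754 (iv D523) D522
def n755 : Q := act 3 n522
theorem D755 : act 3 n522 = n755 := rfl
theorem F534 : act 0 n755 = n524 := d2_1 D755 (iv D524) D522
def n756 : Q := act 3 n523
theorem D756 : act 3 n523 = n756 := rfl
theorem F535 : act 1 n756 = n531 := d4_1 D756 (iv D531) (iv F364)
def n757 : Q := act 2 n524
theorem D757 : act 2 n524 = n757 := rfl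
def n758 : Q := act 1 n525
theorem D758 : act 1 n525 = n758 := rfl
theorem F536 : act 3 n758 = n714 := d4_2 F375 D758 F505
def n759 : Q := act 0 n526
theorem D759 : act 0 n526 = n759 := rfl
theorem F537 : act 2 n759 = n528 := d1_2 (iv F367) D759 (iv D528)
def n760 : Q := act 3 n526
theorem D760 : act 3 n526 = n760 := rfl
theorem F538 : act 1 n760 = n527 := d4_1 D760 (iv D527) D526
def n761 : Q := act 1 n528
theorem D761 : act 1 n528 = n761 := rfl
theorem F539 : act 3 n761 = n743 := d4_2 (iv F368) D761 (iv D743)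
def n762 : Q := act 1 n529
theorem D762 : act 1 n529 = n762 := rfl
theorem F540 : act 2 n762 = n536 := d3_2 D529 D762 (iv D536) (iv D367) (iv F246)
def n763 : Q := act 3 n529
theorem D763 : act 3 n529 = n763 := rfl
theorem F541 : act 0 n763 = n531 := d2_1 D763 (iv D531) (iv F369)
def n764 : Q := act 2 n530
theorem D764 : act 2 n530 = n764 := rfl
theorem F542 : act 0 n764 = n532 := d1_1 D764 (iv D532) (iv F370)
def n765 : Q := act 2 n531
theorem D765 : act 2 n531 = n765 := rfl
def n766 : Q := act 1 n532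
theorem D766 : act 1 n532 = n766 := rfl
theorem F543 : act 2 n766 = n533 := d3_2 D532 D766 (iv D533) (iv D365) (iv F247)
def n767 : Q := act 3 n532
theorem D767 : act 3 n532 = n767 := rfl
def n768 : Q := act 0 n533
theorem D768 : act 0 n533 = n768 := rfl
def n769 : Q := act 3 n533
theorem D769 : act 3 n533 = n769 := rfl
theorem F544 : act 1 n769 = n534 := d4_1 D769 (iv D534) D533
def n770 : Q := act 0 n536
theorem D770 : act 0 n536 = n770 := rfl
def n771 : Q := act 3 n536
theorem D771 : act 3 n536 = n771 := rfl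
theorem F545 : act 1 n771 = n537 := d4_1 D771 (iv D537) D536
def n772 : Q := act 2 n537
theorem D772 : act 2 n537 = n772 := rfl
theorem F546 : act 0 n772 = n539 := d1_1 D772 (iv D539) (iv F376)
def n773 : Q := act 1 n538
theorem D773 : act 1 n538 = n773 := rfl
def n774 : Q := act 3 n538
theorem D774 : act 3 n538 = n774 := rfl
theorem F547 : act 0 n774 = n541 := d2_1 D774 (iv D541) (iv F377)
def n775 : Q := act 1 n539
theorem D775 : act 1 n539 = n775 := rfl
theorem F548 : act 2 n775 = n553 := d3_2 D539 D775 (iv D553) (iv D378) (iv F252)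
def n776 : Q := act 3 n539
theorem D776 : act 3 n539 = n776 := rfl
theorem F549 : act 2 n776 = n774 := d6_2 D539 D776 (iv D774) (iv D538) (iv D368) D367 D537 F376
def n777 : Q := act 0 n540
theorem D777 : act 0 n540 = n777 := rfl
theorem F550 : act 2 n777 = n542 := d1_2 (iv F378) D777 (iv D542)
theorem F551 : act 3 n726 = n777 := d6_7 F378 (iv F262) F261 F182 (iv F236) D502 D726 (iv D777)
def n778 : Q := act 3 n540
theorem D778 : act 3 n540 = n778 := rfl
theorem F552 : act 0 n778 = n726 := d2_1 D778 F551 (iv D777)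
theorem F553 : act 1 n778 = n541 := d4_1 D778 (iv D541) D540
theorem F554 : act 2 n778 = n725 := d5_1 D778 (iv D725) F350 (iv F275) (iv F395) F396 (iv F550) (iv F551) (iv D726) (iv D502) F236 (iv F182) (iv F261) F262 (iv F378)
def n779 : Q := act 2 n541
theorem D779 : act 2 n541 = n779 := rfl
theorem F555 : act 0 n779 = n776 := d1_1 D779 F549 F547
theorem F556 : act 3 n779 = n772 := d5_2 D541 D779 (iv D772) (iv D537) (iv D367) D368 D538 D774 (iv F549) (iv D776) (iv D539) (iv D369) (iv D245) D246 D370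
def n780 : Q := act 1 n542
theorem D780 : act 1 n542 = n780 := rfl
def n781 : Q := act 0 n543
theorem D781 : act 0 n543 = n781 := rfl
def n782 : Q := act 2 n543
theorem D782 : act 2 n543 = n782 := rfl
theorem F557 : act 1 n782 = n547 := d3_1 D782 (iv D547) (iv D374) (iv F253) D543
def n783 : Q := act 3 n543
theorem D783 : act 3 n543 = n783 := rfl
theorem F558 : act 1 n783 = n544 := d4_1 D783 (iv D544) D543
def n784 : Q := act 2 n546
theorem D784 : act 2 n546 = n784 := rfl
theorem F559 : act 0 n784 = n547 := d1_1 D784 (iv D547) D546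
def n785 : Q := act 3 n547
theorem D785 : act 3 n547 = n785 := rfl
def n786 : Q := act 1 n548
theorem D786 : act 1 n548 = n786 := rfl
def n787 : Q := act 3 n548
theorem D787 : act 3 n548 = n787 := rfl
theorem F560 : act 0 n787 = n549 := d2_1 D787 (iv D549) D548
def n788 : Q := act 2 n549
theorem D788 : act 2 n549 = n788 := rfl
def n789 : Q := act 1 n550
theorem D789 : act 1 n550 = n789 := rfl
def n790 : Q := act 0 n551
theorem D790 : act 0 n551 = n790 := rfl
def n791 : Q := act 3 n551
theorem D791 : act 3 n551 = n791 := rfl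
theorem F562 : act 1 n791 = n552 := d4_1 D791 (iv D552) D551
def n792 : Q := act 0 n553
theorem D792 : act 0 n553 = n792 := rfl
def n793 : Q := act 3 n553
theorem D793 : act 3 n553 = n793 := rfl
theorem F563 : act 1 n793 = n554 := d4_1 D793 (iv D554) D553
def n794 : Q := act 1 n555
theorem D794 : act 1 n555 = n794 := rfl
def n795 : Q := act 3 n555
theorem D795 : act 3 n555 = n795 := rfl
theorem F564 : act 0 n795 = n556 := d2_1 D795 (iv D556) D555
def n796 : Q := act 2 n556
theorem D796 : act 2 n556 = n796 := rfl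
def n797 : Q := act 1 n557
theorem D797 : act 1 n557 = n797 := rfl
theorem F565 : act 3 n797 = n789 := d4_2 (iv F391) D797 (iv D789)
def n798 : Q := act 2 n558
theorem D798 : act 2 n558 = n798 := rfl
theorem F566 : act 0 n798 = n574 := d1_1 D798 (iv D574) (iv F392)
def n799 : Q := act 3 n558
theorem D799 : act 3 n558 = n799 := rfl
theorem F567 : act 0 n799 = n575 := d2_1 D799 (iv D575) (iv F392)
theorem F568 : act 1 n799 = n559 := d4_1 D799 (iv D559) D558
def n800 : Q := act 2 n559
theorem D800 : act 2 n559 = n800 := rfl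
theorem F569 : act 0 n800 = n560 := d1_1 D800 (iv D560) (iv F393)
def n801 : Q := act 3 n560
theorem D801 : act 3 n560 = n801 := rfl
theorem F570 : act 1 n801 = n689 := d4_1 D801 F486 (iv F394)
def n802 : Q := act 1 n561
theorem D802 : act 1 n561 = n802 := rfl
theorem F571 : act 3 n802 = n780 := d4_2 (iv F396) D802 (iv D780)
def n803 : Q := act 2 n562
theorem D803 : act 2 n562 = n803 := rfl
theorem F572 : act 1 n803 = n803 := d3_1 D803 (iv D803) (iv D562) F263 D562
def n804 : Q := act 3 n562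
theorem D804 : act 3 n562 = n804 := rfl
theorem F573 : act 1 n804 = n563 := d4_1 D804 (iv D563) D562
def n805 : Q := act 2 n563
theorem D805 : act 2 n563 = n805 := rfl
theorem F574 : act 0 n805 = n564 := d1_1 D805 (iv D564) (iv F397)
def n806 : Q := act 1 n564
theorem D806 : act 1 n564 = n806 := rfl
theorem F575 : act 2 n806 = n565 := d3_2 D564 D806 (iv D565) (iv D386) (iv F264)
def n807 : Q := act 3 n564
theorem D807 : act 3 n564 = n807 := rfl
def n808 : Q := act 0 n565
theorem D808 : act 0 n565 = n808 := rfl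
def n809 : Q := act 1 n566
theorem D809 : act 1 n566 = n809 := rfl
def n810 : Q := act 3 n566
theorem D810 : act 3 n566 = n810 := rfl
theorem F576 : act 0 n810 = n567 := d2_1 D810 (iv D567) D566
def n811 : Q := act 2 n567
theorem D811 : act 2 n567 = n811 := rfl
def n812 : Q := act 1 n568
theorem D812 : act 1 n568 = n812 := rfl
def n813 : Q := act 3 n568
theorem D813 : act 3 n568 = n813 := rfl
theorem F577 : act 0 n813 = n569 := d2_1 D813 (iv D569) D568
def n814 : Q := act 2 n569
theorem D814 : act 2 n569 = n814 := rfl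
theorem F578 : act 1 n814 = n811 := d3_1 D814 (iv D811) F399 (iv F268) (iv F400)
def n815 : Q := act 0 n570
theorem D815 : act 0 n570 = n815 := rfl
def n816 : Q := act 2 n570
theorem D816 : act 2 n570 = n816 := rfl
theorem F579 : act 1 n816 = n574 := d3_1 D816 (iv D574) (iv D394) (iv F269) D570
def n817 : Q := act 3 n570
theorem D817 : act 3 n570 = n817 := rfl
theorem F580 : act 1 n817 = n571 := d4_1 D817 (iv D571) D570
def n818 : Q := act 2 n571
theorem D818 : act 2 n571 = n818 := rfl
theorem F581 : act 0 n818 = n572 := d1_1 D818 (iv D572) (iv F401)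
def n819 : Q := act 1 n572
theorem D819 : act 1 n572 = n819 := rfl
theorem F582 : act 2 n819 = n573 := d3_2 D572 D819 (iv D573) (iv D393) (iv F270)
def n820 : Q := act 3 n572
theorem D820 : act 3 n572 = n820 := rfl
def n821 : Q := act 0 n573
theorem D821 : act 0 n573 = n821 := rfl
theorem F583 : act 3 n821 = n808 := d2_2 (iv F402) D821 (iv D808)
def n822 : Q := act 3 n574
theorem D822 : act 3 n574 = n822 := rfl
def n823 : Q := act 2 n575
theorem D823 : act 2 n575 = n823 := rfl
def n824 : Q := act 1 n576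
theorem D824 : act 1 n576 = n824 := rfl
def n825 : Q := act 3 n576
theorem D825 : act 3 n576 = n825 := rfl
theorem F584 : act 0 n825 = n577 := d2_1 D825 (iv D577) (iv F404)
theorem F585 : act 2 n825 = n820 := d6_2 D576 D825 (iv D820) (iv D572) (iv D392) F180 D265 (iv F273)
def n826 : Q := act 2 n577
theorem D826 : act 2 n577 = n826 := rfl
theorem F586 : act 0 n826 = n820 := d1_1 D826 (iv F585) F584
theorem F587 : act 1 n826 = n653 := d3_1 D826 (iv D653) F314 D451 (iv F405)
theorem F588 : act 3 n826 = n818 := d5_2 D577 D826 (iv D818) (iv D571) F269 D395 D576 D825 F585 (iv D820) (iv D572) (iv D392) F180 D265 D396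
def n827 : Q := act 0 n578
theorem D827 : act 0 n578 = n827 := rfl
theorem F589 : act 1 n827 = n731 := d0_2 D578 D827 F517 F355 F237 F151 (iv F116) D266 D397
theorem F590 : act 3 n827 = n728 := d2_2 (iv F406) D827 (iv D728)
def n828 : Q := act 2 n578
theorem D828 : act 2 n578 = n828 := rfl
def n829 : Q := act 0 n579
theorem D829 : act 0 n579 = n829 := rfl
theorem F591 : act 2 n829 = n598 := d1_2 (iv F407) D829 (iv D598)
def n830 : Q := act 3 n579
theorem D830 : act 3 n579 = n830 := rfl
theorem F592 : act 1 n830 = n580 := d4_1 D830 (iv D580) D579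
def n831 : Q := act 2 n580
theorem D831 : act 2 n580 = n831 := rfl
theorem F593 : act 0 n831 = n582 := d1_1 D831 (iv D582) (iv F408)
def n832 : Q := act 1 n581
theorem D832 : act 1 n581 = n832 := rfl
theorem F594 : act 2 n832 = n601 := d3_2 D581 D832 (iv D601) (iv D414) (iv F278)
def n833 : Q := act 3 n581
theorem D833 : act 3 n581 = n833 := rfl
theorem F595 : act 0 n833 = n584 := d2_1 D833 (iv D584) (iv F409)
def n834 : Q := act 1 n582
theorem D834 : act 1 n582 = n834 := rfl
theorem F596 : act 2 n834 = n834 := d3_2 D582 D834 (iv D834) (iv D582) F279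
def n835 : Q := act 3 n582
theorem D835 : act 3 n582 = n835 := rfl
theorem F597 : act 2 n835 = n833 := d6_2 D582 D835 (iv D833) (iv D581) (iv D399) D398 D580 F408
def n836 : Q := act 0 n583
theorem D836 : act 0 n583 = n836 := rfl
theorem F598 : act 2 n836 = n585 := d1_2 (iv F410) D836 (iv D585)
def n837 : Q := act 3 n583
theorem D837 : act 3 n583 = n837 := rfl
theorem F599 : act 1 n837 = n584 := d4_1 D837 (iv D584) D583
def n838 : Q := act 2 n584
theorem D838 : act 2 n584 = n838 := rfl
theorem F600 : act 0 n838 = n835 := d1_1 D838 F597 F595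
theorem F601 : act 3 n838 = n831 := d5_2 D584 D838 (iv D831) (iv D580) (iv D398) D399 D581 D833 (iv F597) (iv D835) (iv D582) (iv D400) (iv D268) D269 D401
def n839 : Q := act 1 n585
theorem D839 : act 1 n585 = n839 := rfl
def n840 : Q := act 3 n585
theorem D840 : act 3 n585 = n840 := rfl
theorem F602 : act 0 n840 = n586 := d2_1 D840 (iv D586) D585
def n841 : Q := act 2 n586
theorem D841 : act 2 n586 = n841 := rfl
theorem F603 : act 1 n841 = n589 := d3_1 D841 (iv D589) F283 (iv F281) (iv F411)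
def n842 : Q := act 0 n587
theorem D842 : act 0 n587 = n842 := rfl
def n843 : Q := act 2 n587
theorem D843 : act 2 n587 = n843 := rfl
theorem F604 : act 1 n843 = n591 := d3_1 D843 (iv D591) (iv D406) (iv F282) D587
def n844 : Q := act 3 n587
theorem D844 : act 3 n587 = n844 := rfl
theorem F605 : act 1 n844 = n588 := d4_1 D844 (iv D588) D587
def n845 : Q := act 2 n588
theorem D845 : act 2 n588 = n845 := rfl
theorem F606 : act 0 n845 = n589 := d1_1 D845 (iv D589) (iv F412)
theorem F607 : act 3 n845 = n630 := d6_1 D845 (iv D630) (iv D433) F199 F127 (iv F187) D405 (iv F412)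
def n846 : Q := act 3 n589
theorem D846 : act 3 n589 = n846 := rfl
theorem F608 : act 0 n846 = n630 := d2_1 D846 (iv F607) F606
theorem F609 : act 2 n846 = n629 := d5_1 D846 (iv D629) F298 F200 (iv F282) D588 D845 F607 (iv D630) (iv D433) F199 F127 (iv F187) D405 D589
def n847 : Q := act 2 n590
theorem D847 : act 2 n590 = n847 := rfl
theorem F610 : act 0 n847 = n591 := d1_1 D847 (iv D591) D590
def n848 : Q := act 3 n591
theorem D848 : act 3 n591 = n848 := rfl
def n849 : Q := act 1 n592
theorem D849 : act 1 n592 = n849 := rfl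
theorem F611 : act 2 n849 = n621 := d3_2 D592 D849 (iv D621) (iv D427) (iv F284)
def n850 : Q := act 3 n592
theorem D850 : act 3 n592 = n850 := rfl
theorem F612 : act 0 n850 = n594 := d2_1 D850 (iv D594) (iv F414)
def n851 : Q := act 2 n593
theorem D851 : act 2 n593 = n851 := rfl
theorem F613 : act 0 n851 = n595 := d1_1 D851 (iv D595) (iv F415)
def n852 : Q := act 2 n594
theorem D852 : act 2 n594 = n852 := rfl
def n853 : Q := act 1 n595
theorem D853 : act 1 n595 = n853 := rfl
theorem F614 : act 2 n853 = n596 := d3_2 D595 D853 (iv D596) (iv D410) (iv F286)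
def n854 : Q := act 3 n595
theorem D854 : act 3 n595 = n854 := rfl
def n855 : Q := act 0 n596
theorem D855 : act 0 n596 = n855 := rfl
def n856 : Q := act 3 n596
theorem D856 : act 3 n596 = n856 := rfl
theorem F615 : act 1 n856 = n597 := d4_1 D856 (iv D597) D596
def n857 : Q := act 1 n598
theorem D857 : act 1 n598 = n857 := rfl
theorem F616 : act 0 n857 = n633 := d0_1 D857 (iv D633) (iv D435) (iv D294) F128 (iv F121) (iv F189) D412 D598
def n858 : Q := act 3 n598
theorem D858 : act 3 n598 = n858 := rfl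
theorem F617 : act 0 n858 = n599 := d2_1 D858 (iv D599) D598
def n859 : Q := act 2 n599
theorem D859 : act 2 n599 = n859 := rfl
def n860 : Q := act 1 n600
theorem D860 : act 1 n600 = n860 := rfl
def n861 : Q := act 0 n601
theorem D861 : act 0 n601 = n861 := rfl
def n862 : Q := act 3 n601
theorem D862 : act 3 n601 = n862 := rfl
theorem F618 : act 1 n862 = n602 := d4_1 D862 (iv D602) D601
def n863 : Q := act 0 n603
theorem D863 : act 0 n603 = n863 := rfl
theorem F619 : act 2 n863 = n639 := d1_2 (iv F423) D863 (iv D639)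
def n864 : Q := act 3 n603
theorem D864 : act 3 n603 = n864 := rfl
theorem F620 : act 1 n864 = n604 := d4_1 D864 (iv D604) D603
def n865 : Q := act 1 n605
theorem D865 : act 1 n605 = n865 := rfl
def n866 : Q := act 3 n605
theorem D866 : act 3 n605 = n866 := rfl
theorem F621 : act 0 n866 = n606 := d2_1 D866 (iv D606) D605
def n867 : Q := act 2 n606
theorem D867 : act 2 n606 = n867 := rfl
def n868 : Q := act 1 n607
theorem D868 : act 1 n607 = n868 := rfl
theorem F622 : act 3 n868 = n860 := d4_2 (iv F428) D868 (iv D860)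
def n869 : Q := act 0 n608
theorem D869 : act 0 n608 = n869 := rfl
theorem F623 : act 1 n869 = n609 := d0_2 D608 D869 (iv D609) (iv D419) (iv D282) (iv D185) (iv F123) D281 D418
def n870 : Q := act 2 n608
theorem D870 : act 2 n608 = n870 := rfl
def n871 : Q := act 2 n609
theorem D871 : act 2 n609 = n871 := rfl
theorem F624 : act 0 n871 = n610 := d1_1 D871 (iv D610) D609
def n872 : Q := act 3 n609
theorem D872 : act 3 n609 = n872 := rfl
theorem F625 : act 0 n872 = n611 := d2_1 D872 (iv D611) D609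
def n873 : Q := act 3 n610
theorem D873 : act 3 n610 = n873 := rfl
theorem F626 : act 1 n873 = n616 := d4_1 D873 (iv D616) (iv F429)
def n874 : Q := act 2 n611
theorem D874 : act 2 n611 = n874 := rfl
def n875 : Q := act 1 n612
theorem D875 : act 1 n612 = n875 := rfl
def n876 : Q := act 1 n614
theorem D876 : act 1 n614 = n876 := rfl
def n877 : Q := act 3 n614
theorem D877 : act 3 n614 = n877 := rfl
theorem F627 : act 0 n877 = n616 := d2_1 D877 (iv D616) (iv F432)
def n878 : Q := act 2 n615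
theorem D878 : act 2 n615 = n878 := rfl
theorem F628 : act 0 n878 = n617 := d1_1 D878 (iv D617) (iv F433)
def n879 : Q := act 2 n616
theorem D879 : act 2 n616 = n879 := rfl
def n880 : Q := act 1 n617
theorem D880 : act 1 n617 = n880 := rfl
theorem F629 : act 2 n880 = n618 := d3_2 D617 D880 (iv D618) (iv D425) (iv F292)
def n881 : Q := act 3 n617
theorem D881 : act 3 n617 = n881 := rfl
def n882 : Q := act 0 n618
theorem D882 : act 0 n618 = n882 := rfl
def n883 : Q := act 3 n618
theorem D883 : act 3 n618 = n883 := rfl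
theorem F630 : act 1 n883 = n619 := d4_1 D883 (iv D619) D618
def n884 : Q := act 1 n620
theorem D884 : act 1 n620 = n884 := rfl
theorem F631 : act 2 n884 = n856 := d3_2 D620 D884 F615 F419 (iv F294)
theorem F632 : act 3 n884 = n875 := d4_2 (iv F437) D884 (iv D875)
def n885 : Q := act 0 n621
theorem D885 : act 0 n621 = n885 := rfl
def n886 : Q := act 3 n621
theorem D886 : act 3 n621 = n886 := rfl
theorem F633 : act 1 n886 = n622 := d4_1 D886 (iv D622) D621
def n887 : Q := act 2 n622
theorem D887 : act 2 n622 = n887 := rfl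
theorem F634 : act 0 n887 = n624 := d1_1 D887 (iv D624) (iv F438)
def n888 : Q := act 1 n623
theorem D888 : act 1 n623 = n888 := rfl
def n889 : Q := act 3 n623
theorem D889 : act 3 n623 = n889 := rfl
theorem F635 : act 0 n889 = n626 := d2_1 D889 (iv D626) (iv F439)
def n890 : Q := act 1 n624
theorem D890 : act 1 n624 = n890 := rfl
theorem F636 : act 2 n890 = n665 := d3_2 D624 D890 (iv D665) (iv D460) (iv F297)
def n891 : Q := act 3 n624
theorem D891 : act 3 n624 = n891 := rfl
theorem F637 : act 2 n891 = n889 := d6_2 D624 D891 (iv D889) (iv D623) (iv D428) D427 D622 F438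
def n892 : Q := act 0 n625
theorem D892 : act 0 n625 = n892 := rfl
theorem F638 : act 2 n892 = n627 := d1_2 (iv F440) D892 (iv D627)
def n893 : Q := act 3 n625
theorem D893 : act 3 n625 = n893 := rfl
theorem F639 : act 1 n893 = n626 := d4_1 D893 (iv D626) D625
def n894 : Q := act 2 n626
theorem D894 : act 2 n626 = n894 := rfl
theorem F640 : act 0 n894 = n891 := d1_1 D894 F637 F635
theorem F641 : act 3 n894 = n887 := d5_2 D626 D894 (iv D887) (iv D622) (iv D427) D428 D623 D889 (iv F637) (iv D891) (iv D624) (iv D429) (iv D288) D289 D430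
def n895 : Q := act 1 n627
theorem D895 : act 1 n627 = n895 := rfl
def n896 : Q := act 0 n628
theorem D896 : act 0 n628 = n896 := rfl
def n897 : Q := act 2 n628
theorem D897 : act 2 n628 = n897 := rfl
theorem F642 : act 1 n897 = n632 := d3_1 D897 (iv D632) (iv D434) (iv F298) D628
def n898 : Q := act 3 n628
theorem D898 : act 3 n628 = n898 := rfl
theorem F643 : act 1 n898 = n629 := d4_1 D898 (iv D629) D628
def n899 : Q := act 2 n631
theorem D899 : act 2 n631 = n899 := rfl
theorem F644 : act 0 n899 = n632 := d1_1 D899 (iv D632) D631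
def n900 : Q := act 3 n632
theorem D900 : act 3 n632 = n900 := rfl
def n901 : Q := act 2 n633
theorem D901 : act 2 n633 = n901 := rfl
theorem F645 : act 1 n901 = n674 := d3_1 D901 (iv D674) (iv D466) (iv F301) D633
def n902 : Q := act 3 n633
theorem D902 : act 3 n633 = n902 := rfl
theorem F646 : act 1 n902 = n634 := d4_1 D902 (iv D634) D633
def n903 : Q := act 2 n634
theorem D903 : act 2 n634 = n903 := rfl
theorem F647 : act 0 n903 = n635 := d1_1 D903 (iv D635) (iv F444)
def n904 : Q := act 1 n635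
theorem D904 : act 1 n635 = n904 := rfl
theorem F648 : act 2 n904 = n636 := d3_2 D635 D904 (iv D636) (iv D437) (iv F302)
def n905 : Q := act 3 n635
theorem D905 : act 3 n635 = n905 := rfl
def n906 : Q := act 0 n636
theorem D906 : act 0 n636 = n906 := rfl
def n907 : Q := act 1 n637
theorem D907 : act 1 n637 = n907 := rfl
def n908 : Q := act 3 n637
theorem D908 : act 3 n637 = n908 := rfl
theorem F649 : act 0 n908 = n638 := d2_1 D908 (iv D638) D637
def n909 : Q := act 2 n638
theorem D909 : act 2 n638 = n909 := rfl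
def n910 : Q := act 1 n639
theorem D910 : act 1 n639 = n910 := rfl
def n911 : Q := act 3 n639
theorem D911 : act 3 n639 = n911 := rfl
theorem F650 : act 0 n911 = n640 := d2_1 D911 (iv D640) D639
def n912 : Q := act 2 n640
theorem D912 : act 2 n640 = n912 := rfl
theorem F651 : act 1 n912 = n909 := d3_1 D912 (iv D909) F446 (iv F306) (iv F447)
def n913 : Q := act 0 n641
theorem D913 : act 0 n641 = n913 := rfl
def n914 : Q := act 2 n641
theorem D914 : act 2 n641 = n914 := rfl
theorem F652 : act 1 n914 = n646 := d3_1 D914 (iv D646) (iv D445) (iv F307) D641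
def n915 : Q := act 3 n641
theorem D915 : act 3 n641 = n915 := rfl
theorem F653 : act 1 n915 = n642 := d4_1 D915 (iv D642) D641
def n916 : Q := act 2 n642
theorem D916 : act 2 n642 = n916 := rfl
theorem F654 : act 0 n916 = n643 := d1_1 D916 (iv D643) (iv F448)
def n917 : Q := act 1 n643
theorem D917 : act 1 n643 = n917 := rfl
theorem F655 : act 2 n917 = n644 := d3_2 D643 D917 (iv D644) (iv D444) (iv F308)
def n918 : Q := act 3 n643
theorem D918 : act 3 n643 = n918 := rfl
def n919 : Q := act 0 n644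
theorem D919 : act 0 n644 = n919 := rfl
theorem F656 : act 3 n919 = n906 := d2_2 (iv F449) D919 (iv D906)
def n920 : Q := act 2 n645
theorem D920 : act 2 n645 = n920 := rfl
theorem F657 : act 0 n920 = n646 := d1_1 D920 (iv D646) D645
def n921 : Q := act 3 n645
theorem D921 : act 3 n645 = n921 := rfl
theorem F658 : act 0 n921 = n647 := d2_1 D921 (iv D647) D645
theorem F659 : act 1 n921 = n651 := d4_1 D921 (iv D651) (iv F450)
def n922 : Q := act 3 n646
theorem D922 : act 3 n646 = n922 := rfl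
def n923 : Q := act 2 n647
theorem D923 : act 2 n647 = n923 := rfl
def n924 : Q := act 1 n648
theorem D924 : act 1 n648 = n924 := rfl
def n925 : Q := act 3 n648
theorem D925 : act 3 n648 = n925 := rfl
theorem F660 : act 0 n925 = n649 := d2_1 D925 (iv D649) (iv F452)
theorem F661 : act 2 n925 = n918 := d6_2 D648 D925 (iv D918) (iv D643) (iv D443) F204 D301 (iv F311)
def n926 : Q := act 2 n649
theorem D926 : act 2 n649 = n926 := rfl
theorem F662 : act 0 n926 = n918 := d1_1 D926 (iv F661) F660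
theorem F663 : act 3 n926 = n916 := d5_2 D649 D926 (iv D916) (iv D642) F307 D446 D648 D925 F661 (iv D918) (iv D643) (iv D443) F204 D301 D447
def n927 : Q := act 1 n650
theorem D927 : act 1 n650 = n927 := rfl
def n928 : Q := act 3 n650
theorem D928 : act 3 n650 = n928 := rfl
theorem F664 : act 0 n928 = n652 := d2_1 D928 (iv D652) (iv F454)
def n929 : Q := act 2 n651
theorem D929 : act 2 n651 = n929 := rfl
theorem F665 : act 0 n929 = n653 := d1_1 D929 (iv D653) (iv F455)
def n930 : Q := act 2 n652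
theorem D930 : act 2 n652 = n930 := rfl
def n931 : Q := act 3 n653
theorem D931 : act 3 n653 = n931 := rfl
theorem F666 : act 1 n931 = n818 := d4_1 D931 (iv F588) F587
def n932 : Q := act 1 n654
theorem D932 : act 1 n654 = n932 := rfl
def n933 : Q := act 3 n654
theorem D933 : act 3 n654 = n933 := rfl
theorem F667 : act 0 n933 = n655 := d2_1 D933 (iv D655) D654
def n934 : Q := act 2 n655
theorem D934 : act 2 n655 = n934 := rfl
theorem F668 : act 1 n934 = n733 := d3_1 D934 (iv D733) F355 (iv F319) (iv F458)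
def n935 : Q := act 0 n656
theorem D935 : act 0 n656 = n935 := rfl
theorem F669 : act 1 n935 = n872 := d0_2 D656 D935 F625 F430 F291 F193 (iv F135) D305 D454
theorem F670 : act 3 n935 = n869 := d2_2 (iv F459) D935 (iv D869)
def n936 : Q := act 2 n656
theorem D936 : act 2 n656 = n936 := rfl
def n937 : Q := act 0 n657
theorem D937 : act 0 n657 = n937 := rfl
theorem F671 : act 2 n937 = n702 := d1_2 (iv F460) D937 (iv D702)
def n938 : Q := act 3 n657
theorem D938 : act 3 n657 = n938 := rfl
theorem F672 : act 1 n938 = n658 := d4_1 D938 (iv D658) D657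
def n939 : Q := act 2 n658
theorem D939 : act 2 n658 = n939 := rfl
theorem F673 : act 0 n939 = n659 := d1_1 D939 (iv D659) (iv F461)
theorem F674 : act 3 n939 = n736 := d6_1 D939 (iv D736) (iv D509) (iv D349) F152 D307 D456 (iv F461)
def n940 : Q := act 1 n659
theorem D940 : act 1 n659 = n940 := rfl
def n941 : Q := act 3 n659
theorem D941 : act 3 n659 = n941 := rfl
theorem F675 : act 0 n941 = n736 := d2_1 D941 (iv F674) F673
theorem F676 : act 2 n941 = n735 := d5_1 D941 (iv D735) (iv D508) F239 D455 D658 D939 F674 (iv D736) (iv D509) (iv D349) F152 D307 D456 D659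
def n942 : Q := act 1 n660
theorem D942 : act 1 n660 = n942 := rfl
def n943 : Q := act 3 n660
theorem D943 : act 3 n660 = n943 := rfl
theorem F677 : act 0 n943 = n661 := d2_1 D943 (iv D661) D660
def n944 : Q := act 2 n661
theorem D944 : act 2 n661 = n944 := rfl
def n945 : Q := act 1 n662
theorem D945 : act 1 n662 = n945 := rfl
def n946 : Q := act 0 n663
theorem D946 : act 0 n663 = n946 := rfl
theorem F678 : act 2 n946 = n720 := d1_2 (iv F465) D946 (iv D720)
def n947 : Q := act 3 n663
theorem D947 : act 3 n663 = n947 := rfl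
theorem F679 : act 1 n947 = n664 := d4_1 D947 (iv D664) D663
def n948 : Q := act 0 n665
theorem D948 : act 0 n665 = n948 := rfl
def n949 : Q := act 3 n665
theorem D949 : act 3 n665 = n949 := rfl
theorem F680 : act 1 n949 = n666 := d4_1 D949 (iv D666) D665
def n950 : Q := act 1 n667
theorem D950 : act 1 n667 = n950 := rfl
def n951 : Q := act 3 n667
theorem D951 : act 3 n667 = n951 := rfl
theorem F681 : act 0 n951 = n668 := d2_1 D951 (iv D668) D667
def n952 : Q := act 2 n668
theorem D952 : act 2 n668 = n952 := rfl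
def n953 : Q := act 1 n669
theorem D953 : act 1 n669 = n953 := rfl
theorem F682 : act 3 n953 = n945 := d4_2 (iv F471) D953 (iv D945)
def n954 : Q := act 2 n670
theorem D954 : act 2 n670 = n954 := rfl
def n955 : Q := act 3 n670
theorem D955 : act 3 n670 = n955 := rfl
theorem F683 : act 1 n955 = n671 := d4_1 D955 (iv D671) D670
def n956 : Q := act 2 n671
theorem D956 : act 2 n671 = n956 := rfl
theorem F684 : act 0 n956 = n672 := d1_1 D956 (iv D672) (iv F472)
def n957 : Q := act 3 n672
theorem D957 : act 3 n672 = n957 := rfl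
theorem F685 : act 1 n957 = n845 := d4_1 D957 F607 (iv F473)
def n958 : Q := act 1 n673
theorem D958 : act 1 n673 = n958 := rfl
theorem F686 : act 3 n958 = n895 := d4_2 (iv F474) D958 (iv D895)
def n959 : Q := act 3 n674
theorem D959 : act 3 n674 = n959 := rfl
theorem F687 : act 0 n959 = n737 := d2_1 D959 (iv D737) (iv F475)
def n960 : Q := act 2 n675
theorem D960 : act 2 n675 = n960 := rfl
theorem F688 : act 0 n960 = n738 := d1_1 D960 (iv D738) (iv F476)
def n961 : Q := act 1 n676
theorem D961 : act 1 n676 = n961 := rfl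
def n962 : Q := act 3 n676
theorem D962 : act 3 n676 = n962 := rfl
theorem F689 : act 0 n962 = n678 := d2_1 D962 (iv D678) (iv F478)
theorem F690 : act 2 n962 = n905 := d6_2 D676 D962 (iv D905) (iv D635) (iv D436) F201 D316 (iv F329)
def n963 : Q := act 0 n677
theorem D963 : act 0 n677 = n963 := rfl
theorem F691 : act 2 n963 = n679 := d1_2 (iv F479) D963 (iv D679)
def n964 : Q := act 3 n677
theorem D964 : act 3 n677 = n964 := rfl
theorem F692 : act 1 n964 = n678 := d4_1 D964 (iv D678) D677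
def n965 : Q := act 2 n678
theorem D965 : act 2 n678 = n965 := rfl
theorem F693 : act 0 n965 = n905 := d1_1 D965 (iv F690) F689
theorem F694 : act 3 n965 = n903 := d5_2 D678 D965 (iv D903) (iv D634) F301 D467 D676 D962 F690 (iv D905) (iv D635) (iv D436) F201 D316 D468
def n966 : Q := act 1 n679
theorem D966 : act 1 n679 = n966 := rfl
def n967 : Q := act 0 n680
theorem D967 : act 0 n680 = n967 := rfl
theorem F695 : act 1 n967 = n686 := d0_2 D680 D967 (iv D686) (iv D474) (iv D322) (iv D212) (iv F141) D318 D470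
def n968 : Q := act 2 n680
theorem D968 : act 2 n680 = n968 := rfl
def n969 : Q := act 3 n680
theorem D969 : act 3 n680 = n969 := rfl
theorem F696 : act 1 n969 = n681 := d4_1 D969 (iv D681) D680
def n970 : Q := act 2 n681
theorem D970 : act 2 n681 = n970 := rfl
theorem F697 : act 0 n970 = n682 := d1_1 D970 (iv D682) (iv F480)
def n971 : Q := act 3 n682
theorem D971 : act 3 n682 = n971 := rfl
def n972 : Q := act 0 n683
theorem D972 : act 0 n683 = n972 := rfl
def n973 : Q := act 2 n683
theorem D973 : act 2 n683 = n973 := rfl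
theorem F698 : act 1 n973 = n750 := d3_1 D973 (iv D750) (iv D519) (iv F331) D683
def n974 : Q := act 3 n683
theorem D974 : act 3 n683 = n974 := rfl
theorem F699 : act 1 n974 = n684 := d4_1 D974 (iv D684) D683
def n975 : Q := act 2 n684
theorem D975 : act 2 n684 = n975 := rfl
theorem F700 : act 0 n975 = n685 := d1_1 D975 (iv D685) (iv F481)
def n976 : Q := act 3 n685
theorem D976 : act 3 n685 = n976 := rfl
theorem F701 : act 1 n976 = n971 := d4_1 D976 (iv D971) (iv F482)
def n977 : Q := act 2 n686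
theorem D977 : act 2 n686 = n977 := rfl
theorem F702 : act 0 n977 = n687 := d1_1 D977 (iv D687) D686
def n978 : Q := act 3 n686
theorem D978 : act 3 n686 = n978 := rfl
theorem F703 : act 0 n978 = n688 := d2_1 D978 (iv D688) D686
def n979 : Q := act 3 n687
theorem D979 : act 3 n687 = n979 := rfl
theorem F704 : act 1 n979 = n694 := d4_1 D979 (iv D694) (iv F483)
def n980 : Q := act 2 n688
theorem D980 : act 2 n688 = n980 := rfl
def n981 : Q := act 0 n690
theorem D981 : act 0 n690 = n981 := rfl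
theorem F705 : act 2 n981 = n692 := d1_2 (iv F487) D981 (iv D692)
def n982 : Q := act 3 n690
theorem D982 : act 3 n690 = n982 := rfl
theorem F706 : act 1 n982 = n691 := d4_1 D982 (iv D691) D690
def n983 : Q := act 1 n692
theorem D983 : act 1 n692 = n983 := rfl
theorem F707 : act 3 n983 = n966 := d4_2 (iv F490) D983 (iv D966)
def n984 : Q := act 1 n693
theorem D984 : act 1 n693 = n984 := rfl
theorem F708 : act 2 n984 = n695 := d3_2 D693 D984 (iv D695) (iv D480) (iv F335)
def n985 : Q := act 3 n693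
theorem D985 : act 3 n693 = n985 := rfl
theorem F709 : act 0 n985 = n694 := d2_1 D985 (iv D694) (iv F491)
def n986 : Q := act 2 n694
theorem D986 : act 2 n694 = n986 := rfl
def n987 : Q := act 0 n695
theorem D987 : act 0 n695 = n987 := rfl
def n988 : Q := act 3 n695
theorem D988 : act 3 n695 = n988 := rfl
theorem F710 : act 1 n988 = n696 := d4_1 D988 (iv D696) D695
def n989 : Q := act 2 n696
theorem D989 : act 2 n696 = n989 := rfl
theorem F711 : act 0 n989 = n698 := d1_1 D989 (iv D698) (iv F492)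
def n990 : Q := act 1 n697
theorem D990 : act 1 n697 = n990 := rfl
def n991 : Q := act 3 n697
theorem D991 : act 3 n697 = n991 := rfl
theorem F712 : act 0 n991 = n700 := d2_1 D991 (iv D700) (iv F493)
def n992 : Q := act 1 n698
theorem D992 : act 1 n698 = n992 := rfl
theorem F713 : act 2 n992 = n707 := d3_2 D698 D992 (iv D707) (iv D488) (iv F338)
def n993 : Q := act 3 n698
theorem D993 : act 3 n698 = n993 := rfl
theorem F714 : act 2 n993 = n991 := d6_2 D698 D993 (iv D991) (iv D697) (iv D481) D480 D696 F492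
def n994 : Q := act 0 n699
theorem D994 : act 0 n699 = n994 := rfl
theorem F715 : act 2 n994 = n701 := d1_2 (iv F494) D994 (iv D701)
def n995 : Q := act 3 n699
theorem D995 : act 3 n699 = n995 := rfl
theorem F716 : act 1 n995 = n700 := d4_1 D995 (iv D700) D699
def n996 : Q := act 2 n700
theorem D996 : act 2 n700 = n996 := rfl
theorem F717 : act 0 n996 = n993 := d1_1 D996 F714 F712
theorem F718 : act 3 n996 = n989 := d5_2 D700 D996 (iv D989) (iv D696) (iv D480) D481 D697 D991 (iv F714) (iv D993) (iv D698) (iv D482) (iv D327) D328 D483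
def n997 : Q := act 1 n701
theorem D997 : act 1 n701 = n997 := rfl
def n998 : Q := act 1 n702
theorem D998 : act 1 n702 = n998 := rfl
def n999 : Q := act 3 n702
theorem D999 : act 3 n702 = n999 := rfl
theorem F719 : act 0 n999 = n703 := d2_1 D999 (iv D703) D702
def n1000 : Q := act 2 n703
theorem D1000 : act 2 n703 = n1000 := rfl
def n1001 : Q := act 1 n704
theorem D1001 : act 1 n704 = n1001 := rfl
def n1002 : Q := act 0 n705
theorem D1002 : act 0 n705 = n1002 := rfl
def n1003 : Q := act 3 n705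
theorem D1003 : act 3 n705 = n1003 := rfl
theorem F720 : act 1 n1003 = n706 := d4_1 D1003 (iv D706) D705
def n1004 : Q := act 0 n707
theorem D1004 : act 0 n707 = n1004 := rfl
def n1005 : Q := act 3 n707
theorem D1005 : act 3 n707 = n1005 := rfl
theorem F721 : act 1 n1005 = n708 := d4_1 D1005 (iv D708) D707
def n1006 : Q := act 1 n709
theorem D1006 : act 1 n709 = n1006 := rfl
def n1007 : Q := act 3 n709
theorem D1007 : act 3 n709 = n1007 := rfl
theorem F722 : act 0 n1007 = n710 := d2_1 D1007 (iv D710) D709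
def n1008 : Q := act 2 n710
theorem D1008 : act 2 n710 = n1008 := rfl
def n1009 : Q := act 1 n711
theorem D1009 : act 1 n711 = n1009 := rfl
theorem F723 : act 3 n1009 = n1001 := d4_2 (iv F502) D1009 (iv D1001)
def n1010 : Q := act 2 n712
theorem D1010 : act 2 n712 = n1010 := rfl
theorem F724 : act 0 n1010 = n954 := d1_1 D1010 (iv D954) (iv F503)
def n1011 : Q := act 3 n712
theorem D1011 : act 3 n712 = n1011 := rfl
theorem F725 : act 0 n1011 = n955 := d2_1 D1011 (iv D955) (iv F503)
theorem F726 : act 1 n1011 = n713 := d4_1 D1011 (iv D713) D712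
def n1012 : Q := act 2 n713
theorem D1012 : act 2 n713 = n1012 := rfl
theorem F727 : act 0 n1012 = n714 := d1_1 D1012 (iv D714) (iv F504)
def n1013 : Q := act 1 n715
theorem D1013 : act 1 n715 = n1013 := rfl
theorem F728 : act 3 n1013 = n997 := d4_2 (iv F507) D1013 (iv D997)
def n1014 : Q := act 2 n716
theorem D1014 : act 2 n716 = n1014 := rfl
theorem F729 : act 0 n1014 = n803 := d1_1 D1014 (iv D803) (iv F508)
def n1015 : Q := act 3 n716
theorem D1015 : act 3 n716 = n1015 := rfl
theorem F730 : act 0 n1015 = n804 := d2_1 D1015 (iv D804) (iv F508)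
theorem F731 : act 1 n1015 = n717 := d4_1 D1015 (iv D717) D716
def n1016 : Q := act 2 n717
theorem D1016 : act 2 n717 = n1016 := rfl
theorem F732 : act 0 n1016 = n718 := d1_1 D1016 (iv D718) (iv F509)
def n1017 : Q := act 1 n718
theorem D1017 : act 1 n718 = n1017 := rfl
theorem F733 : act 2 n1017 = n719 := d3_2 D718 D1017 (iv D719) (iv D496) (iv F345)
def n1018 : Q := act 3 n718
theorem D1018 : act 3 n718 = n1018 := rfl
def n1019 : Q := act 0 n719
theorem D1019 : act 0 n719 = n1019 := rfl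
def n1020 : Q := act 1 n720
theorem D1020 : act 1 n720 = n1020 := rfl
def n1021 : Q := act 3 n720
theorem D1021 : act 3 n720 = n1021 := rfl
theorem F734 : act 0 n1021 = n721 := d2_1 D1021 (iv D721) D720
def n1022 : Q := act 2 n721
theorem D1022 : act 2 n721 = n1022 := rfl
def n1023 : Q := act 1 n722
theorem D1023 : act 1 n722 = n1023 := rfl
def n1024 : Q := act 3 n722
theorem D1024 : act 3 n722 = n1024 := rfl
theorem F735 : act 0 n1024 = n723 := d2_1 D1024 (iv D723) D722
def n1025 : Q := act 2 n723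
theorem D1025 : act 2 n723 = n1025 := rfl
theorem F736 : act 1 n1025 = n1022 := d3_1 D1025 (iv D1022) F510 (iv F349) (iv F512)
def n1026 : Q := act 0 n724
theorem D1026 : act 0 n724 = n1026 := rfl
def n1027 : Q := act 2 n724
theorem D1027 : act 2 n724 = n1027 := rfl
theorem F737 : act 1 n1027 = n729 := d3_1 D1027 (iv D729) (iv D504) (iv F350) D724
def n1028 : Q := act 3 n724
theorem D1028 : act 3 n724 = n1028 := rfl
theorem F738 : act 1 n1028 = n725 := d4_1 D1028 (iv D725) D724
def n1029 : Q := act 1 n726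
theorem D1029 : act 1 n726 = n1029 := rfl
theorem F739 : act 2 n1029 = n727 := d3_2 D726 D1029 (iv D727) (iv D503) (iv F351)
def n1030 : Q := act 0 n727
theorem D1030 : act 0 n727 = n1030 := rfl
theorem F740 : act 3 n1030 = n1019 := d2_2 (iv F514) D1030 (iv D1019)
def n1031 : Q := act 2 n728
theorem D1031 : act 2 n728 = n1031 := rfl
theorem F741 : act 0 n1031 = n729 := d1_1 D1031 (iv D729) D728
def n1032 : Q := act 3 n729
theorem D1032 : act 3 n729 = n1032 := rfl
def n1033 : Q := act 1 n730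
theorem D1033 : act 1 n730 = n1033 := rfl
def n1034 : Q := act 3 n730
theorem D1034 : act 3 n730 = n1034 := rfl
theorem F742 : act 0 n1034 = n732 := d2_1 D1034 (iv D732) (iv F516)
def n1035 : Q := act 2 n731
theorem D1035 : act 2 n731 = n1035 := rfl
theorem F743 : act 0 n1035 = n733 := d1_1 D1035 (iv D733) (iv F517)
def n1036 : Q := act 2 n732
theorem D1036 : act 2 n732 = n1036 := rfl
def n1037 : Q := act 3 n733
theorem D1037 : act 3 n733 = n1037 := rfl
def n1038 : Q := act 0 n734
theorem D1038 : act 0 n734 = n1038 := rfl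
theorem F744 : act 2 n1038 = n1002 := d1_2 (iv F519) D1038 (iv D1002)
def n1039 : Q := act 3 n734
theorem D1039 : act 3 n734 = n1039 := rfl
theorem F745 : act 1 n1039 = n735 := d4_1 D1039 (iv D735) D734
def n1040 : Q := act 1 n736
theorem D1040 : act 1 n736 = n1040 := rfl
def n1041 : Q := act 2 n737
theorem D1041 : act 2 n737 = n1041 := rfl
def n1042 : Q := act 1 n738
theorem D1042 : act 1 n738 = n1042 := rfl
theorem F746 : act 2 n1042 = n739 := d3_2 D738 D1042 (iv D739) (iv D512) (iv F358)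
def n1043 : Q := act 3 n738
theorem D1043 : act 3 n738 = n1043 := rfl
def n1044 : Q := act 0 n739
theorem D1044 : act 0 n739 = n1044 := rfl
def n1045 : Q := act 3 n739
theorem D1045 : act 3 n739 = n1045 := rfl
theorem F747 : act 1 n1045 = n740 := d4_1 D1045 (iv D740) D739
def n1046 : Q := act 1 n741
theorem D1046 : act 1 n741 = n1046 := rfl
def n1047 : Q := act 3 n741
theorem D1047 : act 3 n741 = n1047 := rfl
theorem F748 : act 0 n1047 = n742 := d2_1 D1047 (iv D742) D741
def n1048 : Q := act 2 n742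
theorem D1048 : act 2 n742 = n1048 := rfl
def n1049 : Q := act 0 n743
theorem D1049 : act 0 n743 = n1049 := rfl
theorem F749 : act 1 n1049 = n749 := d0_2 D743 D1049 (iv D749) (iv D519) (iv D356) (iv D236) (iv F155) D353 D515
def n1050 : Q := act 2 n743
theorem D1050 : act 2 n743 = n1050 := rfl
def n1051 : Q := act 2 n744
theorem D1051 : act 2 n744 = n1051 := rfl
theorem F750 : act 0 n1051 = n745 := d1_1 D1051 (iv D745) D744
def n1052 : Q := act 3 n744
theorem D1052 : act 3 n744 = n1052 := rfl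
theorem F751 : act 0 n1052 = n746 := d2_1 D1052 (iv D746) D744
theorem F752 : act 1 n1052 = n755 := d4_1 D1052 (iv D755) (iv F526)
def n1053 : Q := act 3 n745
theorem D1053 : act 3 n745 = n1053 := rfl
theorem F753 : act 1 n1053 = n1053 := d4_1 D1053 (iv D1053) F527
def n1054 : Q := act 2 n746
theorem D1054 : act 2 n746 = n1054 := rfl
def n1055 : Q := act 1 n747
theorem D1055 : act 1 n747 = n1055 := rfl
def n1056 : Q := act 3 n747
theorem D1056 : act 3 n747 = n1056 := rfl
theorem F754 : act 0 n1056 = n748 := d2_1 D1056 (iv D748) (iv F529)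
theorem F755 : act 2 n1056 = n748 := d6_2 D747 D1056 (iv D748) (iv D518) (iv D355) F156 D355 (iv F361)
def n1057 : Q := act 2 n749
theorem D1057 : act 2 n749 = n1057 := rfl
theorem F756 : act 0 n1057 = n750 := d1_1 D1057 (iv D750) D749
def n1058 : Q := act 3 n749
theorem D1058 : act 3 n749 = n1058 := rfl
theorem F757 : act 0 n1058 = n751 := d2_1 D1058 (iv D751) D749
def n1059 : Q := act 3 n750
theorem D1059 : act 3 n750 = n1059 := rfl
def n1060 : Q := act 2 n751
theorem D1060 : act 2 n751 = n1060 := rfl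
def n1061 : Q := act 1 n752
theorem D1061 : act 1 n752 = n1061 := rfl
def n1062 : Q := act 3 n752
theorem D1062 : act 3 n752 = n1062 := rfl
theorem F758 : act 0 n1062 = n753 := d2_1 D1062 (iv D753) (iv F531)
theorem F759 : act 2 n1062 = n976 := d6_2 D752 D1062 (iv D976) (iv D685) (iv D473) F219 D357 (iv F362)
def n1063 : Q := act 2 n753
theorem D1063 : act 2 n753 = n1063 := rfl
theorem F760 : act 0 n1063 = n976 := d1_1 D1063 (iv F759) F758
theorem F761 : act 3 n1063 = n975 := d5_2 D753 D1063 (iv D975) (iv D684) F331 D520 D752 D1062 F759 (iv D976) (iv D685) (iv D473) F219 D357 D521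
def n1064 : Q := act 1 n754
theorem D1064 : act 1 n754 = n1064 := rfl
def n1065 : Q := act 3 n754
theorem D1065 : act 3 n754 = n1065 := rfl
theorem F762 : act 0 n1065 = n756 := d2_1 D1065 (iv D756) (iv F533)
def n1066 : Q := act 2 n755
theorem D1066 : act 2 n755 = n1066 := rfl
theorem F763 : act 0 n1066 = n757 := d1_1 D1066 (iv D757) (iv F534)
def n1067 : Q := act 2 n756
theorem D1067 : act 2 n756 = n1067 := rfl
def n1068 : Q := act 1 n757
theorem D1068 : act 1 n757 = n1068 := rfl
theorem F764 : act 2 n1068 = n758 := d3_2 D757 D1068 (iv D758) (iv D525) (iv F365)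
def n1069 : Q := act 3 n757
theorem D1069 : act 3 n757 = n1069 := rfl
def n1070 : Q := act 0 n758
theorem D1070 : act 0 n758 = n1070 := rfl
theorem F765 : act 3 n1070 = n1012 := d2_2 (iv F536) D1070 F727
def n1071 : Q := act 1 n759
theorem D1071 : act 1 n759 = n1071 := rfl
def n1072 : Q := act 3 n759
theorem D1072 : act 3 n759 = n1072 := rfl
theorem F766 : act 0 n1072 = n760 := d2_1 D1072 (iv D760) D759
def n1073 : Q := act 2 n760
theorem D1073 : act 2 n760 = n1073 := rfl
def n1074 : Q := act 0 n761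
theorem D1074 : act 0 n761 = n1074 := rfl
theorem F767 : act 1 n1074 = n1058 := d0_2 D761 D1074 F757 F530 F362 F243 (iv F161) D361 D528
theorem F768 : act 3 n1074 = n1049 := d2_2 (iv F539) D1074 (iv D1049)
def n1075 : Q := act 2 n761
theorem D1075 : act 2 n761 = n1075 := rfl
def n1076 : Q := act 0 n762
theorem D1076 : act 0 n762 = n1076 := rfl
theorem F769 : act 2 n1076 = n770 := d1_2 (iv F540) D1076 (iv D770)
def n1077 : Q := act 3 n762
theorem D1077 : act 3 n762 = n1077 := rfl
theorem F770 : act 1 n1077 = n763 := d4_1 D1077 (iv D763) D762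
def n1078 : Q := act 2 n763
theorem D1078 : act 2 n763 = n1078 := rfl
theorem F771 : act 0 n1078 = n765 := d1_1 D1078 (iv D765) (iv F541)
def n1079 : Q := act 1 n764
theorem D1079 : act 1 n764 = n1079 := rfl
theorem F772 : act 2 n1079 = n773 := d3_2 D764 D1079 (iv D773) (iv D538) (iv F371)
def n1080 : Q := act 3 n764
theorem D1080 : act 3 n764 = n1080 := rfl
theorem F773 : act 0 n1080 = n767 := d2_1 D1080 (iv D767) (iv F542)
def n1081 : Q := act 1 n765
theorem D1081 : act 1 n765 = n1081 := rfl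
def n1082 : Q := act 3 n765
theorem D1082 : act 3 n765 = n1082 := rfl
theorem F774 : act 2 n1082 = n1080 := d6_2 D765 D1082 (iv D1080) (iv D764) (iv D530) D529 D763 F541
def n1083 : Q := act 0 n766
theorem D1083 : act 0 n766 = n1083 := rfl
theorem F775 : act 2 n1083 = n768 := d1_2 (iv F543) D1083 (iv D768)
def n1084 : Q := act 3 n766
theorem D1084 : act 3 n766 = n1084 := rfl
theorem F776 : act 1 n1084 = n767 := d4_1 D1084 (iv D767) D766
def n1085 : Q := act 2 n767
theorem D1085 : act 2 n767 = n1085 := rfl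
theorem F777 : act 0 n1085 = n1082 := d1_1 D1085 F774 F773
theorem F778 : act 3 n1085 = n1078 := d5_2 D767 D1085 (iv D1078) (iv D763) (iv D529) D530 D764 D1080 (iv F774) (iv D1082) (iv D765) (iv D531) (iv D363) D364 D532
def n1086 : Q := act 1 n768
theorem D1086 : act 1 n768 = n1086 := rfl
theorem F779 : act 0 n1086 = n997 := d0_1 D1086 (iv D997) (iv D701) (iv D484) F227 (iv F164) (iv F248) D533 D768
def n1087 : Q := act 3 n768
theorem D1087 : act 3 n768 = n1087 := rfl
theorem F780 : act 0 n1087 = n769 := d2_1 D1087 (iv D769) D768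
def n1088 : Q := act 2 n769
theorem D1088 : act 2 n769 = n1088 := rfl
theorem F781 : act 1 n1088 = n1073 := d3_1 D1088 (iv D1073) F538 (iv F373) (iv F544)
def n1089 : Q := act 1 n770
theorem D1089 : act 1 n770 = n1089 := rfl
theorem F782 : act 0 n1089 = n786 := d0_1 D1089 (iv D786) (iv D548) (iv D375) F170 (iv F165) (iv F250) D536 D770
def n1090 : Q := act 3 n770
theorem D1090 : act 3 n770 = n1090 := rfl
theorem F783 : act 0 n1090 = n771 := d2_1 D1090 (iv D771) D770
def n1091 : Q := act 2 n771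
theorem D1091 : act 2 n771 = n1091 := rfl
def n1092 : Q := act 1 n772
theorem D1092 : act 1 n772 = n1092 := rfl
def n1093 : Q := act 0 n773
theorem D1093 : act 0 n773 = n1093 := rfl
def n1094 : Q := act 3 n773
theorem D1094 : act 3 n773 = n1094 := rfl
theorem F784 : act 1 n1094 = n774 := d4_1 D1094 (iv D774) D773
def n1095 : Q := act 0 n775
theorem D1095 : act 0 n775 = n1095 := rfl
theorem F785 : act 2 n1095 = n792 := d1_2 (iv F548) D1095 (iv D792)
def n1096 : Q := act 3 n775
theorem D1096 : act 3 n775 = n1096 := rfl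
theorem F786 : act 1 n1096 = n776 := d4_1 D1096 (iv D776) D775
def n1097 : Q := act 1 n777
theorem D1097 : act 1 n777 = n1097 := rfl
theorem F787 : act 3 n1097 = n1029 := d4_2 F551 D1097 (iv D1029)
def n1098 : Q := act 1 n779
theorem D1098 : act 1 n779 = n1098 := rfl
theorem F788 : act 2 n1098 = n1028 := d3_2 D779 D1098 F738 (iv F554) F553
theorem F789 : act 3 n1098 = n1092 := d4_2 (iv F556) D1098 (iv D1092)
def n1099 : Q := act 0 n780
theorem D1099 : act 0 n780 = n1099 := rfl
theorem F790 : act 1 n1099 = n781 := d0_2 D780 D1099 (iv D781) (iv D543) (iv D372) (iv D248) (iv F167) D371 D542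
def n1100 : Q := act 2 n780
theorem D1100 : act 2 n780 = n1100 := rfl
def n1101 : Q := act 2 n781
theorem D1101 : act 2 n781 = n1101 := rfl
theorem F791 : act 0 n1101 = n782 := d1_1 D1101 (iv D782) D781
def n1102 : Q := act 3 n781
theorem D1102 : act 3 n781 = n1102 := rfl
theorem F792 : act 0 n1102 = n783 := d2_1 D1102 (iv D783) D781
def n1103 : Q := act 3 n782
theorem D1103 : act 3 n782 = n1103 := rfl
theorem F793 : act 1 n1103 = n785 := d4_1 D1103 (iv D785) (iv F557)
def n1104 : Q := act 2 n783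
theorem D1104 : act 2 n783 = n1104 := rfl
def n1105 : Q := act 1 n784
theorem D1105 : act 1 n784 = n1105 := rfl
theorem F794 : act 2 n1105 = n990 := d3_2 D784 D1105 (iv D990) (iv D697) (iv F380)
def n1106 : Q := act 3 n784
theorem D1106 : act 3 n784 = n1106 := rfl
theorem F795 : act 0 n1106 = n785 := d2_1 D1106 (iv D785) (iv F559)
def n1107 : Q := act 2 n785
theorem D1107 : act 2 n785 = n1107 := rfl
def n1108 : Q := act 2 n786
theorem D1108 : act 2 n786 = n1108 := rfl
def n1109 : Q := act 3 n786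
theorem D1109 : act 3 n786 = n1109 := rfl
theorem F797 : act 1 n1109 = n787 := d4_1 D1109 (iv D787) D786
def n1110 : Q := act 2 n787
theorem D1110 : act 2 n787 = n1110 := rfl
def n1111 : Q := act 1 n788
theorem D1111 : act 1 n788 = n1111 := rfl
theorem F799 : act 2 n1111 = n789 := d3_2 D788 D1111 (iv D789) (iv D550) (iv F383)
def n1112 : Q := act 3 n788
theorem D1112 : act 3 n788 = n1112 := rfl
def n1113 : Q := act 0 n789
theorem D1113 : act 0 n789 = n1113 := rfl
def n1114 : Q := act 1 n790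
theorem D1114 : act 1 n790 = n1114 := rfl
def n1115 : Q := act 3 n790
theorem D1115 : act 3 n790 = n1115 := rfl
theorem F800 : act 0 n1115 = n791 := d2_1 D1115 (iv D791) D790
def n1116 : Q := act 2 n791
theorem D1116 : act 2 n791 = n1116 := rfl
def n1117 : Q := act 1 n792
theorem D1117 : act 1 n792 = n1117 := rfl
def n1118 : Q := act 3 n792
theorem D1118 : act 3 n792 = n1118 := rfl
theorem F801 : act 0 n1118 = n793 := d2_1 D1118 (iv D793) D792
def n1119 : Q := act 2 n793
theorem D1119 : act 2 n793 = n1119 := rfl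
theorem F802 : act 1 n1119 = n1116 := d3_1 D1119 (iv D1116) F562 (iv F387) (iv F563)
def n1120 : Q := act 0 n794
theorem D1120 : act 0 n794 = n1120 := rfl
def n1121 : Q := act 2 n794
theorem D1121 : act 2 n794 = n1121 := rfl
theorem F803 : act 1 n1121 = n798 := d3_1 D1121 (iv D798) (iv D558) (iv F388) D794
def n1122 : Q := act 3 n794
theorem D1122 : act 3 n794 = n1122 := rfl
theorem F804 : act 1 n1122 = n795 := d4_1 D1122 (iv D795) D794
def n1123 : Q := act 2 n795
theorem D1123 : act 2 n795 = n1123 := rfl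
theorem F805 : act 0 n1123 = n796 := d1_1 D1123 (iv D796) (iv F564)
def n1124 : Q := act 1 n796
theorem D1124 : act 1 n796 = n1124 := rfl
theorem F806 : act 2 n1124 = n797 := d3_2 D796 D1124 (iv D797) (iv D557) (iv F389)
def n1125 : Q := act 3 n796
theorem D1125 : act 3 n796 = n1125 := rfl
def n1126 : Q := act 0 n797
theorem D1126 : act 0 n797 = n1126 := rfl
theorem F807 : act 3 n1126 = n1113 := d2_2 (iv F565) D1126 (iv D1113)
def n1127 : Q := act 3 n798
theorem D1127 : act 3 n798 = n1127 := rfl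
theorem F808 : act 0 n1127 = n822 := d2_1 D1127 (iv D822) (iv F566)
def n1128 : Q := act 2 n799
theorem D1128 : act 2 n799 = n1128 := rfl
theorem F809 : act 0 n1128 = n823 := d1_1 D1128 (iv D823) (iv F567)
def n1129 : Q := act 1 n800
theorem D1129 : act 1 n800 = n1129 := rfl
def n1130 : Q := act 3 n800
theorem D1130 : act 3 n800 = n1130 := rfl
theorem F810 : act 0 n1130 = n801 := d2_1 D1130 (iv D801) (iv F569)
theorem F811 : act 2 n1130 = n1125 := d6_2 D800 D1130 (iv D1125) (iv D796) (iv D556) F259 D382 (iv F393)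
def n1131 : Q := act 2 n801
theorem D1131 : act 2 n801 = n1131 := rfl
theorem F812 : act 0 n1131 = n1125 := d1_1 D1131 (iv F811) F810
theorem F813 : act 1 n1131 = n980 := d3_1 D1131 (iv D980) F484 D689 (iv F570)
theorem F814 : act 3 n1131 = n1123 := d5_2 D801 D1131 (iv D1123) (iv D795) F388 D559 D800 D1130 F811 (iv D1125) (iv D796) (iv D556) F259 D382 D560
def n1132 : Q := act 0 n802
theorem D1132 : act 0 n802 = n1132 := rfl
theorem F815 : act 1 n1132 = n1102 := d0_2 D802 D1132 F792 F558 F379 F254 (iv F175) D383 D561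
theorem F816 : act 3 n1132 = n1099 := d2_2 (iv F571) D1132 (iv D1099)
def n1133 : Q := act 2 n802
theorem D1133 : act 2 n802 = n1133 := rfl
theorem F817 : act 1 n1133 = n828 := d3_1 D1133 (iv D828) (iv D578) (iv F395) D802
def n1134 : Q := act 3 n803
theorem D1134 : act 3 n803 = n1134 := rfl
theorem F818 : act 1 n1134 = n1134 := d4_1 D1134 (iv D1134) F572
def n1135 : Q := act 2 n804
theorem D1135 : act 2 n804 = n1135 := rfl
def n1136 : Q := act 1 n805
theorem D1136 : act 1 n805 = n1136 := rfl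
def n1137 : Q := act 3 n805
theorem D1137 : act 3 n805 = n1137 := rfl
theorem F820 : act 2 n1137 = n807 := d6_2 D805 D1137 (iv D807) (iv D564) (iv D385) F177 D385 (iv F397)
def n1138 : Q := act 0 n806
theorem D1138 : act 0 n806 = n1138 := rfl
theorem F821 : act 2 n1138 = n808 := d1_2 (iv F575) D1138 (iv D808)
def n1139 : Q := act 3 n806
theorem D1139 : act 3 n806 = n1139 := rfl
theorem F822 : act 1 n1139 = n807 := d4_1 D1139 (iv D807) D806
def n1140 : Q := act 1 n808
theorem D1140 : act 1 n808 = n1140 := rfl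
def n1141 : Q := act 0 n809
theorem D1141 : act 0 n809 = n1141 := rfl
theorem F823 : act 1 n1141 = n815 := d0_2 D809 D1141 (iv D815) (iv D570) (iv D391) (iv D262) (iv F179) D387 D566
def n1142 : Q := act 2 n809
theorem D1142 : act 2 n809 = n1142 := rfl
def n1143 : Q := act 3 n809
theorem D1143 : act 3 n809 = n1143 := rfl
theorem F825 : act 1 n1143 = n810 := d4_1 D1143 (iv D810) D809
def n1144 : Q := act 2 n810
theorem D1144 : act 2 n810 = n1144 := rfl
theorem F826 : act 0 n1144 = n811 := d1_1 D1144 (iv D811) (iv F576)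
def n1145 : Q := act 3 n811
theorem D1145 : act 3 n811 = n1145 := rfl
def n1146 : Q := act 0 n812
theorem D1146 : act 0 n812 = n1146 := rfl
def n1147 : Q := act 2 n812
theorem D1147 : act 2 n812 = n1147 := rfl
def n1148 : Q := act 3 n812
theorem D1148 : act 3 n812 = n1148 := rfl
theorem F827 : act 1 n1148 = n813 := d4_1 D1148 (iv D813) D812
def n1149 : Q := act 2 n813
theorem D1149 : act 2 n813 = n1149 := rfl
theorem F828 : act 0 n1149 = n814 := d1_1 D1149 (iv D814) (iv F577)
def n1150 : Q := act 3 n814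
theorem D1150 : act 3 n814 = n1150 := rfl
theorem F829 : act 1 n1150 = n1145 := d4_1 D1150 (iv D1145) (iv F578)
def n1151 : Q := act 2 n815
theorem D1151 : act 2 n815 = n1151 := rfl
theorem F830 : act 0 n1151 = n816 := d1_1 D1151 (iv D816) D815
def n1152 : Q := act 3 n815
theorem D1152 : act 3 n815 = n1152 := rfl
theorem F831 : act 0 n1152 = n817 := d2_1 D1152 (iv D817) D815
def n1153 : Q := act 3 n816
theorem D1153 : act 3 n816 = n1153 := rfl
theorem F832 : act 1 n1153 = n822 := d4_1 D1153 (iv D822) (iv F579)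
def n1154 : Q := act 2 n817
theorem D1154 : act 2 n817 = n1154 := rfl
def n1155 : Q := act 0 n819
theorem D1155 : act 0 n819 = n1155 := rfl
theorem F833 : act 2 n1155 = n821 := d1_2 (iv F582) D1155 (iv D821)
def n1156 : Q := act 3 n819
theorem D1156 : act 3 n819 = n1156 := rfl
theorem F834 : act 1 n1156 = n820 := d4_1 D1156 (iv D820) D819
def n1157 : Q := act 1 n821
theorem D1157 : act 1 n821 = n1157 := rfl
theorem F835 : act 3 n1157 = n1140 := d4_2 (iv F583) D1157 (iv D1140)
def n1158 : Q := act 2 n822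
theorem D1158 : act 2 n822 = n1158 := rfl
def n1159 : Q := act 1 n823
theorem D1159 : act 1 n823 = n1159 := rfl
theorem F836 : act 2 n1159 = n824 := d3_2 D823 D1159 (iv D824) (iv D576) (iv F403)
def n1160 : Q := act 3 n823
theorem D1160 : act 3 n823 = n1160 := rfl
def n1161 : Q := act 0 n824
theorem D1161 : act 0 n824 = n1161 := rfl
def n1162 : Q := act 3 n824
theorem D1162 : act 3 n824 = n1162 := rfl
theorem F837 : act 1 n1162 = n825 := d4_1 D1162 (iv D825) D824
def n1163 : Q := act 2 n827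
theorem D1163 : act 2 n827 = n1163 := rfl
theorem F838 : act 0 n1163 = n828 := d1_1 D1163 (iv D828) D827
def n1164 : Q := act 3 n828
theorem D1164 : act 3 n828 = n1164 := rfl
def n1165 : Q := act 1 n829
theorem D1165 : act 1 n829 = n1165 := rfl
def n1166 : Q := act 3 n829
theorem D1166 : act 3 n829 = n1166 := rfl
theorem F840 : act 0 n1166 = n830 := d2_1 D1166 (iv D830) D829
def n1167 : Q := act 2 n830
theorem D1167 : act 2 n830 = n1167 := rfl
def n1168 : Q := act 1 n831
theorem D1168 : act 1 n831 = n1168 := rfl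
def n1169 : Q := act 0 n832
theorem D1169 : act 0 n832 = n1169 := rfl
theorem F841 : act 2 n1169 = n861 := d1_2 (iv F594) D1169 (iv D861)
def n1170 : Q := act 3 n832
theorem D1170 : act 3 n832 = n1170 := rfl
theorem F842 : act 1 n1170 = n833 := d4_1 D1170 (iv D833) D832
def n1171 : Q := act 0 n834
theorem D1171 : act 0 n834 = n1171 := rfl
def n1172 : Q := act 3 n834
theorem D1172 : act 3 n834 = n1172 := rfl
theorem F844 : act 1 n1172 = n835 := d4_1 D1172 (iv D835) D834
def n1173 : Q := act 1 n836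
theorem D1173 : act 1 n836 = n1173 := rfl
def n1174 : Q := act 3 n836
theorem D1174 : act 3 n836 = n1174 := rfl
def n1175 : Q := act 2 n837
theorem D1175 : act 2 n837 = n1175 := rfl
def n1176 : Q := act 1 n838
theorem D1176 : act 1 n838 = n1176 := rfl
theorem F846 : act 3 n1176 = n1168 := d4_2 (iv F601) D1176 (iv D1168)
def n1177 : Q := act 0 n839
theorem D1177 : act 0 n839 = n1177 := rfl
theorem F847 : act 1 n1177 = n842 := d0_2 D839 D1177 (iv D842) (iv D587) (iv D404) (iv D271) (iv F186) D402 D585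
def n1178 : Q := act 2 n839
theorem D1178 : act 2 n839 = n1178 := rfl
def n1179 : Q := act 3 n839
theorem D1179 : act 3 n839 = n1179 := rfl
theorem F848 : act 1 n1179 = n840 := d4_1 D1179 (iv D840) D839
def n1180 : Q := act 2 n840
theorem D1180 : act 2 n840 = n1180 := rfl
theorem F849 : act 0 n1180 = n841 := d1_1 D1180 (iv D841) (iv F602)
def n1181 : Q := act 3 n841
theorem D1181 : act 3 n841 = n1181 := rfl
theorem F850 : act 1 n1181 = n846 := d4_1 D1181 (iv D846) (iv F603)
def n1182 : Q := act 2 n842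
theorem D1182 : act 2 n842 = n1182 := rfl
theorem F851 : act 0 n1182 = n843 := d1_1 D1182 (iv D843) D842
def n1183 : Q := act 3 n842
theorem D1183 : act 3 n842 = n1183 := rfl
theorem F852 : act 0 n1183 = n844 := d2_1 D1183 (iv D844) D842
def n1184 : Q := act 3 n843
theorem D1184 : act 3 n843 = n1184 := rfl
theorem F853 : act 1 n1184 = n848 := d4_1 D1184 (iv D848) (iv F604)
def n1185 : Q := act 2 n844
theorem D1185 : act 2 n844 = n1185 := rfl
def n1186 : Q := act 1 n847
theorem D1186 : act 1 n847 = n1186 := rfl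
theorem F854 : act 2 n1186 = n876 := d3_2 D847 D1186 (iv D876) (iv D614) (iv F413)
def n1187 : Q := act 3 n847
theorem D1187 : act 3 n847 = n1187 := rfl
theorem F855 : act 0 n1187 = n848 := d2_1 D1187 (iv D848) (iv F610)
def n1188 : Q := act 2 n848
theorem D1188 : act 2 n848 = n1188 := rfl
def n1189 : Q := act 0 n849
theorem D1189 : act 0 n849 = n1189 := rfl
theorem F856 : act 2 n1189 = n885 := d1_2 (iv F611) D1189 (iv D885)
def n1190 : Q := act 3 n849
theorem D1190 : act 3 n849 = n1190 := rfl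
theorem F857 : act 1 n1190 = n850 := d4_1 D1190 (iv D850) D849
def n1191 : Q := act 2 n850
theorem D1191 : act 2 n850 = n1191 := rfl
def n1192 : Q := act 1 n851
theorem D1192 : act 1 n851 = n1192 := rfl
theorem F859 : act 2 n1192 = n888 := d3_2 D851 D1192 (iv D888) (iv D623) (iv F416)
def n1193 : Q := act 3 n851
theorem D1193 : act 3 n851 = n1193 := rfl
theorem F860 : act 0 n1193 = n854 := d2_1 D1193 (iv D854) (iv F613)
def n1194 : Q := act 1 n852
theorem D1194 : act 1 n852 = n1194 := rfl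
theorem F861 : act 2 n1194 = n1194 := d3_2 D852 D1194 (iv D1194) (iv D852) F417
def n1195 : Q := act 3 n852
theorem D1195 : act 3 n852 = n1195 := rfl
theorem F862 : act 2 n1195 = n1193 := d6_2 D852 D1195 (iv D1193) (iv D851) (iv D593) D592 D850 F612
def n1196 : Q := act 0 n853
theorem D1196 : act 0 n853 = n1196 := rfl
theorem F863 : act 2 n1196 = n855 := d1_2 (iv F614) D1196 (iv D855)
def n1197 : Q := act 3 n853
theorem D1197 : act 3 n853 = n1197 := rfl
theorem F864 : act 1 n1197 = n854 := d4_1 D1197 (iv D854) D853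
def n1198 : Q := act 2 n854
theorem D1198 : act 2 n854 = n1198 := rfl
theorem F865 : act 0 n1198 = n1195 := d1_1 D1198 F862 F860
theorem F866 : act 3 n1198 = n1191 := d5_2 D854 D1198 (iv D1191) (iv D850) (iv D592) D593 D851 D1193 (iv F862) (iv D1195) (iv D852) (iv D594) (iv D408) D409 D595
def n1199 : Q := act 1 n855
theorem D1199 : act 1 n855 = n1199 := rfl
def n1200 : Q := act 3 n855
theorem D1200 : act 3 n855 = n1200 := rfl
theorem F867 : act 0 n1200 = n856 := d2_1 D1200 (iv D856) D855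
def n1201 : Q := act 2 n857
theorem D1201 : act 2 n857 = n1201 := rfl
theorem F868 : act 0 n1201 = n901 := d1_1 D1201 (iv D901) (iv F616)
def n1202 : Q := act 3 n857
theorem D1202 : act 3 n857 = n1202 := rfl
theorem F869 : act 0 n1202 = n902 := d2_1 D1202 (iv D902) (iv F616)
theorem F870 : act 1 n1202 = n858 := d4_1 D1202 (iv D858) D857
def n1203 : Q := act 2 n858
theorem D1203 : act 2 n858 = n1203 := rfl
theorem F871 : act 0 n1203 = n859 := d1_1 D1203 (iv D859) (iv F617)
def n1204 : Q := act 1 n859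
theorem D1204 : act 1 n859 = n1204 := rfl
theorem F872 : act 2 n1204 = n860 := d3_2 D859 D1204 (iv D860) (iv D600) (iv F420)
def n1205 : Q := act 3 n859
theorem D1205 : act 3 n859 = n1205 := rfl
def n1206 : Q := act 0 n860
theorem D1206 : act 0 n860 = n1206 := rfl
def n1207 : Q := act 1 n861
theorem D1207 : act 1 n861 = n1207 := rfl
def n1208 : Q := act 3 n861
theorem D1208 : act 3 n861 = n1208 := rfl
theorem F873 : act 0 n1208 = n862 := d2_1 D1208 (iv D862) D861
def n1209 : Q := act 2 n862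
theorem D1209 : act 2 n862 = n1209 := rfl
def n1210 : Q := act 1 n863
theorem D1210 : act 1 n863 = n1210 := rfl
def n1211 : Q := act 3 n863
theorem D1211 : act 3 n863 = n1211 := rfl
theorem F874 : act 0 n1211 = n864 := d2_1 D1211 (iv D864) D863
def n1212 : Q := act 2 n864
theorem D1212 : act 2 n864 = n1212 := rfl
theorem F875 : act 1 n1212 = n1209 := d3_1 D1212 (iv D1209) F618 (iv F424) (iv F620)
def n1213 : Q := act 0 n865
theorem D1213 : act 0 n865 = n1213 := rfl
def n1214 : Q := act 2 n865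
theorem D1214 : act 2 n865 = n1214 := rfl
theorem F876 : act 1 n1214 = n870 := d3_1 D1214 (iv D870) (iv D608) (iv F425) D865
def n1215 : Q := act 3 n865
theorem D1215 : act 3 n865 = n1215 := rfl
theorem F877 : act 1 n1215 = n866 := d4_1 D1215 (iv D866) D865
def n1216 : Q := act 2 n866
theorem D1216 : act 2 n866 = n1216 := rfl
theorem F878 : act 0 n1216 = n867 := d1_1 D1216 (iv D867) (iv F621)
theorem F879 : act 3 n1216 = n934 := d6_1 D1216 (iv D934) (iv D655) F317 F207 (iv F290) D606 (iv F621)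
theorem F880 : act 1 n1037 = n1216 := d4_3 F879 F668 D1037
def n1217 : Q := act 1 n867
theorem D1217 : act 1 n867 = n1217 := rfl
theorem F881 : act 2 n1217 = n868 := d3_2 D867 D1217 (iv D868) (iv D607) (iv F426)
def n1218 : Q := act 3 n867
theorem D1218 : act 3 n867 = n1218 := rfl
theorem F882 : act 0 n1218 = n934 := d2_1 D1218 (iv F879) F878
theorem F883 : act 2 n1218 = n933 := d5_1 D1218 (iv D933) F457 F320 (iv F425) D866 D1216 F879 (iv D934) (iv D655) F317 F207 (iv F290) D606 D867
def n1219 : Q := act 0 n868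
theorem D1219 : act 0 n868 = n1219 := rfl
theorem F884 : act 3 n1219 = n1206 := d2_2 (iv F622) D1219 (iv D1206)
def n1220 : Q := act 2 n869
theorem D1220 : act 2 n869 = n1220 := rfl
theorem F885 : act 0 n1220 = n870 := d1_1 D1220 (iv D870) D869
def n1221 : Q := act 3 n870
theorem D1221 : act 3 n870 = n1221 := rfl
def n1222 : Q := act 1 n871
theorem D1222 : act 1 n871 = n1222 := rfl
def n1223 : Q := act 3 n871
theorem D1223 : act 3 n871 = n1223 := rfl
theorem F886 : act 0 n1223 = n873 := d2_1 D1223 (iv D873) (iv F624)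
def n1224 : Q := act 2 n872
theorem D1224 : act 2 n872 = n1224 := rfl
theorem F887 : act 0 n1224 = n874 := d1_1 D1224 (iv D874) (iv F625)
def n1225 : Q := act 2 n873
theorem D1225 : act 2 n873 = n1225 := rfl
def n1226 : Q := act 1 n874
theorem D1226 : act 1 n874 = n1226 := rfl
theorem F888 : act 2 n1226 = n875 := d3_2 D874 D1226 (iv D875) (iv D612) (iv F430)
def n1227 : Q := act 3 n874
theorem D1227 : act 3 n874 = n1227 := rfl
def n1228 : Q := act 0 n875
theorem D1228 : act 0 n875 = n1228 := rfl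
def n1229 : Q := act 0 n876
theorem D1229 : act 0 n876 = n1229 := rfl
def n1230 : Q := act 3 n876
theorem D1230 : act 3 n876 = n1230 := rfl
theorem F889 : act 1 n1230 = n877 := d4_1 D1230 (iv D877) D876
def n1231 : Q := act 2 n877
theorem D1231 : act 2 n877 = n1231 := rfl
theorem F890 : act 0 n1231 = n879 := d1_1 D1231 (iv D879) (iv F627)
def n1232 : Q := act 1 n878
theorem D1232 : act 1 n878 = n1232 := rfl
def n1233 : Q := act 3 n878
theorem D1233 : act 3 n878 = n1233 := rfl
theorem F891 : act 0 n1233 = n881 := d2_1 D1233 (iv D881) (iv F628)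
def n1234 : Q := act 1 n879
theorem D1234 : act 1 n879 = n1234 := rfl
def n1235 : Q := act 3 n879
theorem D1235 : act 3 n879 = n1235 := rfl
theorem F892 : act 2 n1235 = n1233 := d6_2 D879 D1235 (iv D1233) (iv D878) (iv D615) D614 D877 F627
def n1236 : Q := act 0 n880
theorem D1236 : act 0 n880 = n1236 := rfl
theorem F893 : act 2 n1236 = n882 := d1_2 (iv F629) D1236 (iv D882)
def n1237 : Q := act 3 n880
theorem D1237 : act 3 n880 = n1237 := rfl
theorem F894 : act 1 n1237 = n881 := d4_1 D1237 (iv D881) D880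
def n1238 : Q := act 2 n881
theorem D1238 : act 2 n881 = n1238 := rfl
theorem F895 : act 0 n1238 = n1235 := d1_1 D1238 F892 F891
theorem F896 : act 3 n1238 = n1231 := d5_2 D881 D1238 (iv D1231) (iv D877) (iv D614) D615 D878 D1233 (iv F892) (iv D1235) (iv D879) (iv D616) (iv D423) D424 D617
def n1239 : Q := act 1 n882
theorem D1239 : act 1 n882 = n1239 := rfl
theorem F897 : act 0 n1239 = n1199 := d0_1 D1239 (iv D1199) (iv D855) (iv D596) F287 (iv F195) (iv F293) D618 D882
def n1240 : Q := act 3 n882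
theorem D1240 : act 3 n882 = n1240 := rfl
theorem F898 : act 0 n1240 = n883 := d2_1 D1240 (iv D883) D882
def n1241 : Q := act 2 n883
theorem D1241 : act 2 n883 = n1241 := rfl
theorem F899 : act 1 n1241 = n926 := d3_1 D1241 (iv D926) F453 (iv F435) (iv F630)
def n1242 : Q := act 0 n884
theorem D1242 : act 0 n884 = n1242 := rfl
theorem F900 : act 2 n1242 = n1200 := d1_2 (iv F631) D1242 F867
theorem F901 : act 3 n1242 = n1228 := d2_2 (iv F632) D1242 (iv D1228)
def n1243 : Q := act 1 n885
theorem D1243 : act 1 n885 = n1243 := rfl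
theorem F902 : act 0 n1243 = n942 := d0_1 D1243 (iv D942) (iv D660) (iv D457) F209 (iv F196) (iv F295) D621 D885
def n1244 : Q := act 3 n885
theorem D1244 : act 3 n885 = n1244 := rfl
theorem F903 : act 0 n1244 = n886 := d2_1 D1244 (iv D886) D885
def n1245 : Q := act 2 n886
theorem D1245 : act 2 n886 = n1245 := rfl
def n1246 : Q := act 1 n887
theorem D1246 : act 1 n887 = n1246 := rfl
def n1247 : Q := act 0 n888
theorem D1247 : act 0 n888 = n1247 := rfl
def n1248 : Q := act 3 n888
theorem D1248 : act 3 n888 = n1248 := rfl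
theorem F904 : act 1 n1248 = n889 := d4_1 D1248 (iv D889) D888
def n1249 : Q := act 0 n890
theorem D1249 : act 0 n890 = n1249 := rfl
theorem F905 : act 2 n1249 = n948 := d1_2 (iv F636) D1249 (iv D948)
def n1250 : Q := act 3 n890
theorem D1250 : act 3 n890 = n1250 := rfl
theorem F906 : act 1 n1250 = n891 := d4_1 D1250 (iv D891) D890
def n1251 : Q := act 1 n892
theorem D1251 : act 1 n892 = n1251 := rfl
def n1252 : Q := act 3 n892
theorem D1252 : act 3 n892 = n1252 := rfl
theorem F907 : act 0 n1252 = n893 := d2_1 D1252 (iv D893) D892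
theorem F908 : act 2 n1252 = n995 := d6_2 (iv F638) D1252 (iv D995) F494 (iv F344) F343 F327 D627
def n1253 : Q := act 2 n893
theorem D1253 : act 2 n893 = n1253 := rfl
theorem F909 : act 0 n1253 = n995 := d1_1 D1253 (iv F908) F907
theorem F910 : act 3 n1253 = n994 := d5_2 D893 D1253 F715 (iv F507) F506 F474 (iv F638) D1252 F908 (iv D995) F494 (iv F344) F343 F327 (iv F440)
def n1254 : Q := act 1 n894
theorem D1254 : act 1 n894 = n1254 := rfl
theorem F911 : act 3 n1254 = n1246 := d4_2 (iv F641) D1254 (iv D1246)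
def n1255 : Q := act 0 n895
theorem D1255 : act 0 n895 = n1255 := rfl
theorem F912 : act 1 n1255 = n896 := d0_2 D895 D1255 (iv D896) (iv D628) (iv D432) (iv D291) (iv F198) D431 D627
def n1256 : Q := act 2 n895
theorem D1256 : act 2 n895 = n1256 := rfl
def n1257 : Q := act 2 n896
theorem D1257 : act 2 n896 = n1257 := rfl
theorem F913 : act 0 n1257 = n897 := d1_1 D1257 (iv D897) D896
def n1258 : Q := act 3 n896
theorem D1258 : act 3 n896 = n1258 := rfl
theorem F914 : act 0 n1258 = n898 := d2_1 D1258 (iv D898) D896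
def n1259 : Q := act 3 n897
theorem D1259 : act 3 n897 = n1259 := rfl
theorem F915 : act 1 n1259 = n900 := d4_1 D1259 (iv D900) (iv F642)
def n1260 : Q := act 2 n898
theorem D1260 : act 2 n898 = n1260 := rfl
def n1261 : Q := act 1 n899
theorem D1261 : act 1 n899 = n1261 := rfl
theorem F916 : act 2 n1261 = n1232 := d3_2 D899 D1261 (iv D1232) (iv D878) (iv F442)
def n1262 : Q := act 3 n899
theorem D1262 : act 3 n899 = n1262 := rfl
theorem F917 : act 0 n1262 = n900 := d2_1 D1262 (iv D900) (iv F644)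
def n1263 : Q := act 2 n900
theorem D1263 : act 2 n900 = n1263 := rfl
def n1264 : Q := act 3 n901
theorem D1264 : act 3 n901 = n1264 := rfl
theorem F918 : act 1 n1264 = n959 := d4_1 D1264 (iv D959) (iv F645)
def n1265 : Q := act 2 n902
theorem D1265 : act 2 n902 = n1265 := rfl
def n1266 : Q := act 1 n903
theorem D1266 : act 1 n903 = n1266 := rfl
def n1267 : Q := act 0 n904
theorem D1267 : act 0 n904 = n1267 := rfl
theorem F919 : act 2 n1267 = n906 := d1_2 (iv F648) D1267 (iv D906)
def n1268 : Q := act 3 n904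
theorem D1268 : act 3 n904 = n1268 := rfl
theorem F920 : act 1 n1268 = n905 := d4_1 D1268 (iv D905) D904
def n1269 : Q := act 1 n906
theorem D1269 : act 1 n906 = n1269 := rfl
def n1270 : Q := act 0 n907
theorem D1270 : act 0 n907 = n1270 := rfl
theorem F921 : act 1 n1270 = n913 := d0_2 D907 D1270 (iv D913) (iv D641) (iv D442) (iv D298) (iv F203) D438 D637
def n1271 : Q := act 2 n907
theorem D1271 : act 2 n907 = n1271 := rfl
theorem F922 : act 1 n1271 = n968 := d3_1 D1271 (iv D968) (iv D680) (iv F445) D907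
def n1272 : Q := act 3 n907
theorem D1272 : act 3 n907 = n1272 := rfl
theorem F923 : act 1 n1272 = n908 := d4_1 D1272 (iv D908) D907
def n1273 : Q := act 2 n908
theorem D1273 : act 2 n908 = n1273 := rfl
theorem F924 : act 0 n1273 = n909 := d1_1 D1273 (iv D909) (iv F649)
def n1274 : Q := act 3 n909
theorem D1274 : act 3 n909 = n1274 := rfl
def n1275 : Q := act 0 n910
theorem D1275 : act 0 n910 = n1275 := rfl
def n1276 : Q := act 2 n910
theorem D1276 : act 2 n910 = n1276 := rfl
def n1277 : Q := act 3 n910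
theorem D1277 : act 3 n910 = n1277 := rfl
theorem F925 : act 1 n1277 = n911 := d4_1 D1277 (iv D911) D910
def n1278 : Q := act 2 n911
theorem D1278 : act 2 n911 = n1278 := rfl
theorem F926 : act 0 n1278 = n912 := d1_1 D1278 (iv D912) (iv F650)
def n1279 : Q := act 3 n912
theorem D1279 : act 3 n912 = n1279 := rfl
theorem F927 : act 1 n1279 = n1274 := d4_1 D1279 (iv D1274) (iv F651)
def n1280 : Q := act 2 n913
theorem D1280 : act 2 n913 = n1280 := rfl
theorem F928 : act 0 n1280 = n914 := d1_1 D1280 (iv D914) D913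
def n1281 : Q := act 3 n913
theorem D1281 : act 3 n913 = n1281 := rfl
theorem F929 : act 0 n1281 = n915 := d2_1 D1281 (iv D915) D913
def n1282 : Q := act 3 n914
theorem D1282 : act 3 n914 = n1282 := rfl
theorem F930 : act 1 n1282 = n922 := d4_1 D1282 (iv D922) (iv F652)
def n1283 : Q := act 2 n915
theorem D1283 : act 2 n915 = n1283 := rfl
def n1284 : Q := act 1 n916
theorem D1284 : act 1 n916 = n1284 := rfl
theorem F931 : act 3 n1284 = n1241 := d4_2 F663 D1284 F899
def n1285 : Q := act 0 n917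
theorem D1285 : act 0 n917 = n1285 := rfl
theorem F932 : act 2 n1285 = n919 := d1_2 (iv F655) D1285 (iv D919)
def n1286 : Q := act 3 n917
theorem D1286 : act 3 n917 = n1286 := rfl
theorem F933 : act 1 n1286 = n918 := d4_1 D1286 (iv D918) D917
def n1287 : Q := act 1 n919
theorem D1287 : act 1 n919 = n1287 := rfl
theorem F934 : act 3 n1287 = n1269 := d4_2 (iv F656) D1287 (iv D1269)
def n1288 : Q := act 1 n920
theorem D1288 : act 1 n920 = n1288 := rfl
theorem F935 : act 2 n1288 = n927 := d3_2 D920 D1288 (iv D927) (iv D650) (iv F450)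
def n1289 : Q := act 3 n920
theorem D1289 : act 3 n920 = n1289 := rfl
theorem F936 : act 0 n1289 = n922 := d2_1 D1289 (iv D922) (iv F657)
def n1290 : Q := act 2 n921
theorem D1290 : act 2 n921 = n1290 := rfl
theorem F937 : act 0 n1290 = n923 := d1_1 D1290 (iv D923) (iv F658)
def n1291 : Q := act 2 n922
theorem D1291 : act 2 n922 = n1291 := rfl
def n1292 : Q := act 1 n923
theorem D1292 : act 1 n923 = n1292 := rfl
theorem F938 : act 2 n1292 = n924 := d3_2 D923 D1292 (iv D924) (iv D648) (iv F451)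
def n1293 : Q := act 3 n923
theorem D1293 : act 3 n923 = n1293 := rfl
def n1294 : Q := act 0 n924
theorem D1294 : act 0 n924 = n1294 := rfl
def n1295 : Q := act 3 n924
theorem D1295 : act 3 n924 = n1295 := rfl
theorem F939 : act 1 n1295 = n925 := d4_1 D1295 (iv D925) D924
def n1296 : Q := act 0 n927
theorem D1296 : act 0 n927 = n1296 := rfl
def n1297 : Q := act 3 n927
theorem D1297 : act 3 n927 = n1297 := rfl
theorem F940 : act 1 n1297 = n928 := d4_1 D1297 (iv D928) D927
def n1298 : Q := act 2 n928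
theorem D1298 : act 2 n928 = n1298 := rfl
def n1299 : Q := act 1 n929
theorem D1299 : act 1 n929 = n1299 := rfl
def n1300 : Q := act 3 n929
theorem D1300 : act 3 n929 = n1300 := rfl
theorem F942 : act 0 n1300 = n931 := d2_1 D1300 (iv D931) (iv F665)
def n1301 : Q := act 1 n930
theorem D1301 : act 1 n930 = n1301 := rfl
theorem F943 : act 2 n1301 = n940 := d3_2 D930 D1301 (iv D940) (iv D659) (iv F456)
def n1302 : Q := act 3 n930
theorem D1302 : act 3 n930 = n1302 := rfl
theorem F944 : act 2 n1302 = n1300 := d6_2 D930 D1302 (iv D1300) (iv D929) (iv D651) D650 D928 F664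
def n1303 : Q := act 2 n931
theorem D1303 : act 2 n931 = n1303 := rfl
theorem F945 : act 0 n1303 = n1302 := d1_1 D1303 F944 F942
theorem F946 : act 1 n1303 = n1154 := d3_1 D1303 (iv D1154) F580 D818 (iv F666)
theorem F947 : act 3 n1303 = n1298 := d5_2 D931 D1303 (iv D1298) (iv D928) (iv D650) D651 D929 D1300 (iv F944) (iv D1302) (iv D930) (iv D652) (iv D449) D450 D653
def n1304 : Q := act 0 n932
theorem D1304 : act 0 n932 = n1304 := rfl
def n1305 : Q := act 2 n932
theorem D1305 : act 2 n932 = n1305 := rfl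
theorem F948 : act 1 n1305 = n936 := d3_1 D1305 (iv D936) (iv D656) (iv F457) D932
def n1306 : Q := act 3 n932
theorem D1306 : act 3 n932 = n1306 := rfl
theorem F949 : act 1 n1306 = n933 := d4_1 D1306 (iv D933) D932
def n1307 : Q := act 2 n935
theorem D1307 : act 2 n935 = n1307 := rfl
theorem F950 : act 0 n1307 = n936 := d1_1 D1307 (iv D936) D935
def n1308 : Q := act 3 n936
theorem D1308 : act 3 n936 = n1308 := rfl
def n1309 : Q := act 1 n937
theorem D1309 : act 1 n937 = n1309 := rfl
def n1310 : Q := act 3 n937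
theorem D1310 : act 3 n937 = n1310 := rfl
theorem F951 : act 0 n1310 = n938 := d2_1 D1310 (iv D938) D937
def n1311 : Q := act 2 n938
theorem D1311 : act 2 n938 = n1311 := rfl
def n1312 : Q := act 1 n939
theorem D1312 : act 1 n939 = n1312 := rfl
theorem F952 : act 3 n1312 = n1040 := d4_2 (iv F674) D1312 (iv D1040)
def n1313 : Q := act 0 n940
theorem D1313 : act 0 n940 = n1313 := rfl
def n1314 : Q := act 3 n940
theorem D1314 : act 3 n940 = n1314 := rfl
theorem F953 : act 1 n1314 = n941 := d4_1 D1314 (iv D941) D940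
def n1315 : Q := act 2 n942
theorem D1315 : act 2 n942 = n1315 := rfl
theorem F954 : act 1 n1315 = n1014 := d3_1 D1315 (iv D1014) (iv D716) (iv F462) D942
def n1316 : Q := act 3 n942
theorem D1316 : act 3 n942 = n1316 := rfl
theorem F955 : act 1 n1316 = n943 := d4_1 D1316 (iv D943) D942
def n1317 : Q := act 2 n943
theorem D1317 : act 2 n943 = n1317 := rfl
theorem F956 : act 0 n1317 = n944 := d1_1 D1317 (iv D944) (iv F677)
def n1318 : Q := act 1 n944
theorem D1318 : act 1 n944 = n1318 := rfl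
theorem F957 : act 2 n1318 = n945 := d3_2 D944 D1318 (iv D945) (iv D662) (iv F463)
def n1319 : Q := act 3 n944
theorem D1319 : act 3 n944 = n1319 := rfl
def n1320 : Q := act 0 n945
theorem D1320 : act 0 n945 = n1320 := rfl
def n1321 : Q := act 1 n946
theorem D1321 : act 1 n946 = n1321 := rfl
def n1322 : Q := act 3 n946
theorem D1322 : act 3 n946 = n1322 := rfl
theorem F958 : act 0 n1322 = n947 := d2_1 D1322 (iv D947) D946
def n1323 : Q := act 2 n947
theorem D1323 : act 2 n947 = n1323 := rfl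
def n1324 : Q := act 1 n948
theorem D1324 : act 1 n948 = n1324 := rfl
def n1325 : Q := act 3 n948
theorem D1325 : act 3 n948 = n1325 := rfl
theorem F959 : act 0 n1325 = n949 := d2_1 D1325 (iv D949) D948
def n1326 : Q := act 2 n949
theorem D1326 : act 2 n949 = n1326 := rfl
theorem F960 : act 1 n1326 = n1323 := d3_1 D1326 (iv D1323) F679 (iv F467) (iv F680)
def n1327 : Q := act 0 n950
theorem D1327 : act 0 n950 = n1327 := rfl
def n1328 : Q := act 2 n950
theorem D1328 : act 2 n950 = n1328 := rfl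
theorem F961 : act 1 n1328 = n954 := d3_1 D1328 (iv D954) (iv D670) (iv F468) D950
def n1329 : Q := act 3 n950
theorem D1329 : act 3 n950 = n1329 := rfl
theorem F962 : act 1 n1329 = n951 := d4_1 D1329 (iv D951) D950
def n1330 : Q := act 2 n951
theorem D1330 : act 2 n951 = n1330 := rfl
theorem F963 : act 0 n1330 = n952 := d1_1 D1330 (iv D952) (iv F681)
def n1331 : Q := act 1 n952
theorem D1331 : act 1 n952 = n1331 := rfl
theorem F964 : act 2 n1331 = n953 := d3_2 D952 D1331 (iv D953) (iv D669) (iv F469)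
def n1332 : Q := act 3 n952
theorem D1332 : act 3 n952 = n1332 := rfl
def n1333 : Q := act 0 n953
theorem D1333 : act 0 n953 = n1333 := rfl
theorem F965 : act 3 n1333 = n1320 := d2_2 (iv F682) D1333 (iv D1320)
def n1334 : Q := act 3 n954
theorem D1334 : act 3 n954 = n1334 := rfl
def n1335 : Q := act 2 n955
theorem D1335 : act 2 n955 = n1335 := rfl
def n1336 : Q := act 1 n956
theorem D1336 : act 1 n956 = n1336 := rfl
def n1337 : Q := act 3 n956
theorem D1337 : act 3 n956 = n1337 := rfl
theorem F966 : act 0 n1337 = n957 := d2_1 D1337 (iv D957) (iv F684)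
theorem F967 : act 2 n1337 = n1332 := d6_2 D956 D1337 (iv D1332) (iv D952) (iv D668) F325 D464 (iv F472)
def n1338 : Q := act 2 n957
theorem D1338 : act 2 n957 = n1338 := rfl
theorem F968 : act 0 n1338 = n1332 := d1_1 D1338 (iv F967) F966
theorem F969 : act 1 n1338 = n1185 := d3_1 D1338 (iv D1185) F605 D845 (iv F685)
theorem F970 : act 3 n1338 = n1330 := d5_2 D957 D1338 (iv D1330) (iv D951) F468 D671 D956 D1337 F967 (iv D1332) (iv D952) (iv D668) F325 D464 D672
def n1339 : Q := act 0 n958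
theorem D1339 : act 0 n958 = n1339 := rfl
theorem F971 : act 1 n1339 = n1258 := d0_2 D958 D1339 F914 F643 F441 F299 (iv F214) D465 D673
theorem F972 : act 3 n1339 = n1255 := d2_2 (iv F686) D1339 (iv D1255)
def n1340 : Q := act 2 n958
theorem D1340 : act 2 n958 = n1340 := rfl
def n1341 : Q := act 2 n959
theorem D1341 : act 2 n959 = n1341 := rfl
def n1342 : Q := act 1 n960
theorem D1342 : act 1 n960 = n1342 := rfl
theorem F974 : act 2 n1342 = n961 := d3_2 D960 D1342 (iv D961) (iv D676) (iv F477)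
def n1343 : Q := act 3 n960
theorem D1343 : act 3 n960 = n1343 := rfl
theorem F975 : act 0 n1343 = n1043 := d2_1 D1343 (iv D1043) (iv F688)
def n1344 : Q := act 0 n961
theorem D1344 : act 0 n961 = n1344 := rfl
def n1345 : Q := act 3 n961
theorem D1345 : act 3 n961 = n1345 := rfl
theorem F976 : act 1 n1345 = n962 := d4_1 D1345 (iv D962) D961
def n1346 : Q := act 1 n963
theorem D1346 : act 1 n963 = n1346 := rfl
def n1347 : Q := act 3 n963
theorem D1347 : act 3 n963 = n1347 := rfl
theorem F977 : act 0 n1347 = n964 := d2_1 D1347 (iv D964) D963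
def n1348 : Q := act 2 n964
theorem D1348 : act 2 n964 = n1348 := rfl
def n1349 : Q := act 1 n965
theorem D1349 : act 1 n965 = n1349 := rfl
theorem F978 : act 3 n1349 = n1266 := d4_2 (iv F694) D1349 (iv D1266)
def n1350 : Q := act 0 n966
theorem D1350 : act 0 n966 = n1350 := rfl
theorem F979 : act 1 n1350 = n972 := d0_2 D966 D1350 (iv D972) (iv D683) (iv D472) (iv D320) (iv F217) D469 D679
def n1351 : Q := act 2 n966
theorem D1351 : act 2 n966 = n1351 := rfl
def n1352 : Q := act 2 n967
theorem D1352 : act 2 n967 = n1352 := rfl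
theorem F980 : act 0 n1352 = n968 := d1_1 D1352 (iv D968) D967
def n1353 : Q := act 3 n967
theorem D1353 : act 3 n967 = n1353 := rfl
theorem F981 : act 0 n1353 = n969 := d2_1 D1353 (iv D969) D967
theorem F982 : act 1 n1353 = n978 := d4_1 D1353 (iv D978) (iv F695)
def n1354 : Q := act 3 n968
theorem D1354 : act 3 n968 = n1354 := rfl
def n1355 : Q := act 2 n969
theorem D1355 : act 2 n969 = n1355 := rfl
def n1356 : Q := act 1 n970
theorem D1356 : act 1 n970 = n1356 := rfl
def n1357 : Q := act 3 n970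
theorem D1357 : act 3 n970 = n1357 := rfl
theorem F983 : act 0 n1357 = n971 := d2_1 D1357 (iv D971) (iv F697)
theorem F984 : act 2 n1357 = n1274 := d6_2 D970 D1357 (iv D1274) (iv D909) (iv D638) F304 D471 (iv F480)
def n1358 : Q := act 2 n971
theorem D1358 : act 2 n971 = n1358 := rfl
theorem F985 : act 0 n1358 = n1274 := d1_1 D1358 (iv F984) F983
theorem F986 : act 3 n1358 = n1273 := d5_2 D971 D1358 (iv D1273) (iv D908) F445 D681 D970 D1357 F984 (iv D1274) (iv D909) (iv D638) F304 D471 D682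
def n1359 : Q := act 2 n972
theorem D1359 : act 2 n972 = n1359 := rfl
theorem F987 : act 0 n1359 = n973 := d1_1 D1359 (iv D973) D972
def n1360 : Q := act 3 n972
theorem D1360 : act 3 n972 = n1360 := rfl
theorem F988 : act 0 n1360 = n974 := d2_1 D1360 (iv D974) D972
def n1361 : Q := act 3 n973
theorem D1361 : act 3 n973 = n1361 := rfl
theorem F989 : act 1 n1361 = n1059 := d4_1 D1361 (iv D1059) (iv F698)
def n1362 : Q := act 2 n974
theorem D1362 : act 2 n974 = n1362 := rfl
def n1363 : Q := act 1 n975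
theorem D1363 : act 1 n975 = n1363 := rfl
def n1364 : Q := act 1 n977
theorem D1364 : act 1 n977 = n1364 := rfl
def n1365 : Q := act 3 n977
theorem D1365 : act 3 n977 = n1365 := rfl
theorem F990 : act 0 n1365 = n979 := d2_1 D1365 (iv D979) (iv F702)
def n1366 : Q := act 2 n978
theorem D1366 : act 2 n978 = n1366 := rfl
theorem F991 : act 0 n1366 = n980 := d1_1 D1366 (iv D980) (iv F703)
def n1367 : Q := act 2 n979
theorem D1367 : act 2 n979 = n1367 := rfl
def n1368 : Q := act 3 n980
theorem D1368 : act 3 n980 = n1368 := rfl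
theorem F992 : act 1 n1368 = n1123 := d4_1 D1368 (iv F814) F813
def n1369 : Q := act 1 n981
theorem D1369 : act 1 n981 = n1369 := rfl
def n1370 : Q := act 3 n981
theorem D1370 : act 3 n981 = n1370 := rfl
theorem F993 : act 0 n1370 = n982 := d2_1 D1370 (iv D982) D981
def n1371 : Q := act 2 n982
theorem D1371 : act 2 n982 = n1371 := rfl
theorem F994 : act 1 n1371 = n1104 := d3_1 D1371 (iv D1104) F558 (iv F489) (iv F706)
def n1372 : Q := act 0 n983
theorem D1372 : act 0 n983 = n1372 := rfl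
theorem F995 : act 1 n1372 = n1360 := d0_2 D983 D1372 F988 F699 F481 F332 (iv F223) D477 D692
theorem F996 : act 3 n1372 = n1350 := d2_2 (iv F707) D1372 (iv D1350)
def n1373 : Q := act 2 n983
theorem D1373 : act 2 n983 = n1373 := rfl
def n1374 : Q := act 0 n984
theorem D1374 : act 0 n984 = n1374 := rfl
theorem F997 : act 2 n1374 = n987 := d1_2 (iv F708) D1374 (iv D987)
def n1375 : Q := act 3 n984
theorem D1375 : act 3 n984 = n1375 := rfl
theorem F998 : act 1 n1375 = n985 := d4_1 D1375 (iv D985) D984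
def n1376 : Q := act 2 n985
theorem D1376 : act 2 n985 = n1376 := rfl
theorem F999 : act 0 n1376 = n986 := d1_1 D1376 (iv D986) (iv F709)
theorem F1000 : act 3 n1376 = n1107 := d6_1 D1376 (iv D1107) (iv D785) (iv D547) F255 D479 D694 (iv F709)
def n1377 : Q := act 1 n986
theorem D1377 : act 1 n986 = n1377 := rfl
def n1378 : Q := act 3 n986
theorem D1378 : act 3 n986 = n1378 := rfl
theorem F1001 : act 0 n1378 = n1107 := d2_1 D1378 (iv F1000) F999
theorem F1002 : act 2 n1378 = n1106 := d5_1 D1378 (iv D1106) (iv D784) F381 D693 D985 D1376 F1000 (iv D1107) (iv D785) (iv D547) F255 D479 D694 D986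
def n1379 : Q := act 1 n987
theorem D1379 : act 1 n987 = n1379 := rfl
theorem F1003 : act 0 n1379 = n998 := d0_1 D1379 (iv D998) (iv D702) (iv D485) F228 (iv F225) (iv F336) D695 D987
def n1380 : Q := act 3 n987
theorem D1380 : act 3 n987 = n1380 := rfl
theorem F1004 : act 0 n1380 = n988 := d2_1 D1380 (iv D988) D987
def n1381 : Q := act 2 n988
theorem D1381 : act 2 n988 = n1381 := rfl
def n1382 : Q := act 1 n989
theorem D1382 : act 1 n989 = n1382 := rfl
def n1383 : Q := act 0 n990
theorem D1383 : act 0 n990 = n1383 := rfl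
def n1384 : Q := act 3 n990
theorem D1384 : act 3 n990 = n1384 := rfl
theorem F1005 : act 1 n1384 = n991 := d4_1 D1384 (iv D991) D990
def n1385 : Q := act 0 n992
theorem D1385 : act 0 n992 = n1385 := rfl
theorem F1006 : act 2 n1385 = n1004 := d1_2 (iv F713) D1385 (iv D1004)
def n1386 : Q := act 3 n992
theorem D1386 : act 3 n992 = n1386 := rfl
theorem F1007 : act 1 n1386 = n993 := d4_1 D1386 (iv D993) D992
def n1387 : Q := act 1 n994
theorem D1387 : act 1 n994 = n1387 := rfl
def n1388 : Q := act 1 n996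
theorem D1388 : act 1 n996 = n1388 := rfl
theorem F1008 : act 3 n1388 = n1382 := d4_2 (iv F718) D1388 (iv D1382)
def n1389 : Q := act 2 n997
theorem D1389 : act 2 n997 = n1389 := rfl
def n1390 : Q := act 2 n998
theorem D1390 : act 2 n998 = n1390 := rfl
def n1391 : Q := act 3 n998
theorem D1391 : act 3 n998 = n1391 := rfl
theorem F1009 : act 1 n1391 = n999 := d4_1 D1391 (iv D999) D998
def n1392 : Q := act 2 n999
theorem D1392 : act 2 n999 = n1392 := rfl
theorem F1010 : act 0 n1392 = n1000 := d1_1 D1392 (iv D1000) (iv F719)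
def n1393 : Q := act 1 n1000
theorem D1393 : act 1 n1000 = n1393 := rfl
theorem F1011 : act 2 n1393 = n1001 := d3_2 D1000 D1393 (iv D1001) (iv D704) (iv F495)
def n1394 : Q := act 3 n1000
theorem D1394 : act 3 n1000 = n1394 := rfl
def n1395 : Q := act 0 n1001
theorem D1395 : act 0 n1001 = n1395 := rfl
def n1396 : Q := act 1 n1002
theorem D1396 : act 1 n1002 = n1396 := rfl
def n1397 : Q := act 3 n1002
theorem D1397 : act 3 n1002 = n1397 := rfl
theorem F1012 : act 0 n1397 = n1003 := d2_1 D1397 (iv D1003) D1002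
def n1398 : Q := act 2 n1003
theorem D1398 : act 2 n1003 = n1398 := rfl
def n1399 : Q := act 1 n1004
theorem D1399 : act 1 n1004 = n1399 := rfl
def n1400 : Q := act 3 n1004
theorem D1400 : act 3 n1004 = n1400 := rfl
theorem F1013 : act 0 n1400 = n1005 := d2_1 D1400 (iv D1005) D1004
def n1401 : Q := act 2 n1005
theorem D1401 : act 2 n1005 = n1401 := rfl
theorem F1014 : act 1 n1401 = n1398 := d3_1 D1401 (iv D1398) F720 (iv F498) (iv F721)
def n1402 : Q := act 0 n1006
theorem D1402 : act 0 n1006 = n1402 := rfl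
def n1403 : Q := act 2 n1006
theorem D1403 : act 2 n1006 = n1403 := rfl
theorem F1015 : act 1 n1403 = n1010 := d3_1 D1403 (iv D1010) (iv D712) (iv F499) D1006
def n1404 : Q := act 3 n1006
theorem D1404 : act 3 n1006 = n1404 := rfl
theorem F1016 : act 1 n1404 = n1007 := d4_1 D1404 (iv D1007) D1006
def n1405 : Q := act 2 n1007
theorem D1405 : act 2 n1007 = n1405 := rfl
theorem F1017 : act 0 n1405 = n1008 := d1_1 D1405 (iv D1008) (iv F722)
theorem F1018 : act 3 n1405 = n1068 := d6_1 D1405 F764 F536 (iv D714) (iv D492) (iv F341) D710 (iv F722)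
theorem F1019 : act 1 n1069 = n1405 := d4_3 F1018 (iv D1068) D1069
def n1406 : Q := act 1 n1008
theorem D1406 : act 1 n1008 = n1406 := rfl
theorem F1020 : act 2 n1406 = n1009 := d3_2 D1008 D1406 (iv D1009) (iv D711) (iv F500)
def n1407 : Q := act 3 n1008
theorem D1407 : act 3 n1008 = n1407 := rfl
theorem F1021 : act 0 n1407 = n1068 := d2_1 D1407 (iv F1018) F1017
theorem F1022 : act 2 n1407 = n1070 := d5_1 D1407 F765 (iv D1012) (iv D713) (iv F499) D1007 D1405 F1018 F764 F536 (iv D714) (iv D492) (iv F341) D710 D1008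
def n1408 : Q := act 0 n1009
theorem D1408 : act 0 n1009 = n1408 := rfl
theorem F1023 : act 3 n1408 = n1395 := d2_2 (iv F723) D1408 (iv D1395)
def n1409 : Q := act 3 n1010
theorem D1409 : act 3 n1010 = n1409 := rfl
theorem F1024 : act 0 n1409 = n1334 := d2_1 D1409 (iv D1334) (iv F724)
def n1410 : Q := act 2 n1011
theorem D1410 : act 2 n1011 = n1410 := rfl
theorem F1025 : act 0 n1410 = n1335 := d1_1 D1410 (iv D1335) (iv F725)
def n1411 : Q := act 1 n1012
theorem D1411 : act 1 n1012 = n1411 := rfl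
def n1412 : Q := act 0 n1013
theorem D1412 : act 0 n1013 = n1412 := rfl
theorem F1026 : act 1 n1412 = n1087 := d0_2 D1013 D1412 F780 F544 F372 F249 (iv F232) D493 D715
theorem F1027 : act 3 n1412 = n1086 := d2_2 (iv F728) D1412 F779
def n1413 : Q := act 2 n1013
theorem D1413 : act 2 n1013 = n1413 := rfl
theorem F1028 : act 1 n1413 = n1340 := d3_1 D1413 (iv D1340) (iv D958) (iv F506) D1013
def n1414 : Q := act 3 n1014
theorem D1414 : act 3 n1014 = n1414 := rfl
theorem F1029 : act 0 n1414 = n1134 := d2_1 D1414 (iv D1134) (iv F729)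
def n1415 : Q := act 2 n1015
theorem D1415 : act 2 n1015 = n1415 := rfl
theorem F1030 : act 0 n1415 = n1135 := d1_1 D1415 (iv D1135) (iv F730)
def n1416 : Q := act 1 n1016
theorem D1416 : act 1 n1016 = n1416 := rfl
def n1417 : Q := act 3 n1016
theorem D1417 : act 3 n1016 = n1417 := rfl
theorem F1031 : act 0 n1417 = n1018 := d2_1 D1417 (iv D1018) (iv F732)
theorem F1032 : act 2 n1417 = n1319 := d6_2 D1016 D1417 (iv D1319) (iv D944) (iv D661) F322 D495 (iv F509)
def n1418 : Q := act 0 n1017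
theorem D1418 : act 0 n1017 = n1418 := rfl
theorem F1033 : act 2 n1418 = n1019 := d1_2 (iv F733) D1418 (iv D1019)
def n1419 : Q := act 3 n1017
theorem D1419 : act 3 n1017 = n1419 := rfl
theorem F1034 : act 1 n1419 = n1018 := d4_1 D1419 (iv D1018) D1017
def n1420 : Q := act 2 n1018
theorem D1420 : act 2 n1018 = n1420 := rfl
theorem F1035 : act 0 n1420 = n1319 := d1_1 D1420 (iv F1032) F1031
theorem F1036 : act 3 n1420 = n1317 := d5_2 D1018 D1420 (iv D1317) (iv D943) F462 D717 D1016 D1417 F1032 (iv D1319) (iv D944) (iv D661) F322 D495 D718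
def n1421 : Q := act 1 n1019
theorem D1421 : act 1 n1019 = n1421 := rfl
def n1422 : Q := act 0 n1020
theorem D1422 : act 0 n1020 = n1422 := rfl
theorem F1037 : act 1 n1422 = n1026 := d0_2 D1020 D1422 (iv D1026) (iv D724) (iv D501) (iv D342) (iv F235) D497 D720
def n1423 : Q := act 2 n1020
theorem D1423 : act 2 n1020 = n1423 := rfl
def n1424 : Q := act 3 n1020
theorem D1424 : act 3 n1020 = n1424 := rfl
theorem F1038 : act 1 n1424 = n1021 := d4_1 D1424 (iv D1021) D1020
def n1425 : Q := act 2 n1021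
theorem D1425 : act 2 n1021 = n1425 := rfl
theorem F1039 : act 0 n1425 = n1022 := d1_1 D1425 (iv D1022) (iv F734)
def n1426 : Q := act 3 n1022
theorem D1426 : act 3 n1022 = n1426 := rfl
def n1427 : Q := act 0 n1023
theorem D1427 : act 0 n1023 = n1427 := rfl
def n1428 : Q := act 2 n1023
theorem D1428 : act 2 n1023 = n1428 := rfl
theorem F1040 : act 1 n1428 = n1147 := d3_1 D1428 (iv D1147) (iv D812) (iv F511) D1023
def n1429 : Q := act 3 n1023
theorem D1429 : act 3 n1023 = n1429 := rfl
theorem F1041 : act 1 n1429 = n1024 := d4_1 D1429 (iv D1024) D1023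
def n1430 : Q := act 2 n1024
theorem D1430 : act 2 n1024 = n1430 := rfl
theorem F1042 : act 0 n1430 = n1025 := d1_1 D1430 (iv D1025) (iv F735)
def n1431 : Q := act 3 n1025
theorem D1431 : act 3 n1025 = n1431 := rfl
theorem F1043 : act 1 n1431 = n1426 := d4_1 D1431 (iv D1426) (iv F736)
def n1432 : Q := act 2 n1026
theorem D1432 : act 2 n1026 = n1432 := rfl
theorem F1044 : act 0 n1432 = n1027 := d1_1 D1432 (iv D1027) D1026
def n1433 : Q := act 3 n1026
theorem D1433 : act 3 n1026 = n1433 := rfl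
theorem F1045 : act 0 n1433 = n1028 := d2_1 D1433 (iv D1028) D1026
def n1434 : Q := act 3 n1027
theorem D1434 : act 3 n1027 = n1434 := rfl
theorem F1046 : act 1 n1434 = n1032 := d4_1 D1434 (iv D1032) (iv F737)
def n1435 : Q := act 0 n1029
theorem D1435 : act 0 n1029 = n1435 := rfl
theorem F1047 : act 2 n1435 = n1030 := d1_2 (iv F739) D1435 (iv D1030)
def n1436 : Q := act 1 n1030
theorem D1436 : act 1 n1030 = n1436 := rfl
theorem F1048 : act 3 n1436 = n1421 := d4_2 (iv F740) D1436 (iv D1421)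
def n1437 : Q := act 1 n1031
theorem D1437 : act 1 n1031 = n1437 := rfl
theorem F1049 : act 2 n1437 = n1033 := d3_2 D1031 D1437 (iv D1033) (iv D730) (iv F515)
def n1438 : Q := act 3 n1031
theorem D1438 : act 3 n1031 = n1438 := rfl
theorem F1050 : act 0 n1438 = n1032 := d2_1 D1438 (iv D1032) (iv F741)
def n1439 : Q := act 2 n1032
theorem D1439 : act 2 n1032 = n1439 := rfl
def n1440 : Q := act 0 n1033
theorem D1440 : act 0 n1033 = n1440 := rfl
def n1441 : Q := act 3 n1033
theorem D1441 : act 3 n1033 = n1441 := rfl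
theorem F1051 : act 1 n1441 = n1034 := d4_1 D1441 (iv D1034) D1033
def n1442 : Q := act 2 n1034
theorem D1442 : act 2 n1034 = n1442 := rfl
theorem F1052 : act 0 n1442 = n1036 := d1_1 D1442 (iv D1036) (iv F742)
def n1443 : Q := act 1 n1035
theorem D1443 : act 1 n1035 = n1443 := rfl
def n1444 : Q := act 3 n1035
theorem D1444 : act 3 n1035 = n1444 := rfl
theorem F1053 : act 0 n1444 = n1037 := d2_1 D1444 (iv D1037) (iv F743)
def n1445 : Q := act 1 n1036
theorem D1445 : act 1 n1036 = n1445 := rfl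
theorem F1054 : act 2 n1445 = n1040 := d3_2 D1036 D1445 (iv D1040) (iv D736) (iv F518)
def n1446 : Q := act 3 n1036
theorem D1446 : act 3 n1036 = n1446 := rfl
theorem F1055 : act 2 n1446 = n1444 := d6_2 D1036 D1446 (iv D1444) (iv D1035) (iv D731) D730 D1034 F742
def n1447 : Q := act 2 n1037
theorem D1447 : act 2 n1037 = n1447 := rfl
theorem F1056 : act 0 n1447 = n1446 := d1_1 D1447 F1055 F1053
theorem F1057 : act 3 n1447 = n1442 := d5_2 D1037 D1447 (iv D1442) (iv D1034) (iv D730) D731 D1035 D1444 (iv F1055) (iv D1446) (iv D1036) (iv D732) (iv D506) D507 D733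
def n1448 : Q := act 1 n1038
theorem D1448 : act 1 n1038 = n1448 := rfl
def n1449 : Q := act 3 n1038
theorem D1449 : act 3 n1038 = n1449 := rfl
theorem F1058 : act 0 n1449 = n1039 := d2_1 D1449 (iv D1039) D1038
def n1450 : Q := act 2 n1039
theorem D1450 : act 2 n1039 = n1450 := rfl
def n1451 : Q := act 0 n1040
theorem D1451 : act 0 n1040 = n1451 := rfl
def n1452 : Q := act 1 n1041
theorem D1452 : act 1 n1041 = n1452 := rfl
def n1453 : Q := act 3 n1041
theorem D1453 : act 3 n1041 = n1453 := rfl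
theorem F1060 : act 2 n1453 = n1343 := d6_2 D1041 D1453 (iv D1343) (iv D960) (iv D675) D674 D959 F687
def n1454 : Q := act 0 n1042
theorem D1454 : act 0 n1042 = n1454 := rfl
theorem F1061 : act 2 n1454 = n1044 := d1_2 (iv F746) D1454 (iv D1044)
def n1455 : Q := act 3 n1042
theorem D1455 : act 3 n1042 = n1455 := rfl
theorem F1062 : act 1 n1455 = n1043 := d4_1 D1455 (iv D1043) D1042
def n1456 : Q := act 2 n1043
theorem D1456 : act 2 n1043 = n1456 := rfl
theorem F1063 : act 0 n1456 = n1453 := d1_1 D1456 F1060 F975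
theorem F1064 : act 3 n1456 = n1341 := d5_2 D1043 D1456 (iv D1341) (iv D959) (iv D674) D675 D960 D1343 (iv F1060) (iv D1453) (iv D1041) (iv D737) (iv D510) D511 D738
def n1457 : Q := act 1 n1044
theorem D1457 : act 1 n1044 = n1457 := rfl
def n1458 : Q := act 3 n1044
theorem D1458 : act 3 n1044 = n1458 := rfl
theorem F1065 : act 0 n1458 = n1045 := d2_1 D1458 (iv D1045) D1044
def n1459 : Q := act 2 n1045
theorem D1459 : act 2 n1045 = n1459 := rfl
theorem F1066 : act 1 n1459 = n1048 := d3_1 D1459 (iv D1048) F525 (iv F523) (iv F747)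
def n1460 : Q := act 0 n1046
theorem D1460 : act 0 n1046 = n1460 := rfl
def n1461 : Q := act 2 n1046
theorem D1461 : act 2 n1046 = n1461 := rfl
theorem F1067 : act 1 n1461 = n1050 := d3_1 D1461 (iv D1050) (iv D743) (iv F524) D1046
def n1462 : Q := act 3 n1046
theorem D1462 : act 3 n1046 = n1462 := rfl
theorem F1068 : act 1 n1462 = n1047 := d4_1 D1462 (iv D1047) D1046
def n1463 : Q := act 2 n1047
theorem D1463 : act 2 n1047 = n1463 := rfl
theorem F1069 : act 0 n1463 = n1048 := d1_1 D1463 (iv D1048) (iv F748)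
theorem F1070 : act 3 n1463 = n1073 := d6_1 D1463 (iv D1073) (iv D760) F367 F245 (iv F360) D742 (iv F748)
def n1464 : Q := act 3 n1048
theorem D1464 : act 3 n1048 = n1464 := rfl
theorem F1071 : act 0 n1464 = n1073 := d2_1 D1464 (iv F1070) F1069
theorem F1072 : act 2 n1464 = n1072 := d5_1 D1464 (iv D1072) F537 F368 (iv F524) D1047 D1463 F1070 (iv D1073) (iv D760) F367 F245 (iv F360) D742 D1048
def n1465 : Q := act 2 n1049
theorem D1465 : act 2 n1049 = n1465 := rfl
theorem F1073 : act 0 n1465 = n1050 := d1_1 D1465 (iv D1050) D1049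
def n1466 : Q := act 3 n1050
theorem D1466 : act 3 n1050 = n1466 := rfl
def n1467 : Q := act 1 n1051
theorem D1467 : act 1 n1051 = n1467 := rfl
theorem F1074 : act 2 n1467 = n1064 := d3_2 D1051 D1467 (iv D1064) (iv D754) (iv F526)
def n1468 : Q := act 3 n1051
theorem D1468 : act 3 n1051 = n1468 := rfl
theorem F1075 : act 0 n1468 = n1053 := d2_1 D1468 (iv D1053) (iv F750)
def n1469 : Q := act 2 n1052
theorem D1469 : act 2 n1052 = n1469 := rfl
theorem F1076 : act 0 n1469 = n1054 := d1_1 D1469 (iv D1054) (iv F751)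
def n1470 : Q := act 2 n1053
theorem D1470 : act 2 n1053 = n1470 := rfl
def n1471 : Q := act 1 n1054
theorem D1471 : act 1 n1054 = n1471 := rfl
theorem F1077 : act 2 n1471 = n1055 := d3_2 D1054 D1471 (iv D1055) (iv D747) (iv F528)
def n1472 : Q := act 3 n1054
theorem D1472 : act 3 n1054 = n1472 := rfl
def n1473 : Q := act 0 n1055
theorem D1473 : act 0 n1055 = n1473 := rfl
def n1474 : Q := act 3 n1055
theorem D1474 : act 3 n1055 = n1474 := rfl
theorem F1078 : act 1 n1474 = n1056 := d4_1 D1474 (iv D1056) D1055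
def n1475 : Q := act 1 n1057
theorem D1475 : act 1 n1057 = n1475 := rfl
def n1476 : Q := act 3 n1057
theorem D1476 : act 3 n1057 = n1476 := rfl
theorem F1079 : act 0 n1476 = n1059 := d2_1 D1476 (iv D1059) (iv F756)
def n1477 : Q := act 2 n1058
theorem D1477 : act 2 n1058 = n1477 := rfl
def n1478 : Q := act 2 n1059
theorem D1478 : act 2 n1059 = n1478 := rfl
def n1479 : Q := act 1 n1060
theorem D1479 : act 1 n1060 = n1479 := rfl
theorem F1081 : act 2 n1479 = n1061 := d3_2 D1060 D1479 (iv D1061) (iv D752) (iv F530)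
def n1480 : Q := act 3 n1060
theorem D1480 : act 3 n1060 = n1480 := rfl
def n1481 : Q := act 0 n1061
theorem D1481 : act 0 n1061 = n1481 := rfl
def n1482 : Q := act 3 n1061
theorem D1482 : act 3 n1061 = n1482 := rfl
theorem F1082 : act 1 n1482 = n1062 := d4_1 D1482 (iv D1062) D1061
def n1483 : Q := act 1 n1063
theorem D1483 : act 1 n1063 = n1483 := rfl
theorem F1083 : act 2 n1483 = n1474 := d3_2 D1063 D1483 F1078 F755 (iv F532)
theorem F1084 : act 3 n1483 = n1363 := d4_2 (iv F761) D1483 (iv D1363)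
def n1484 : Q := act 0 n1064
theorem D1484 : act 0 n1064 = n1484 := rfl
def n1485 : Q := act 3 n1064
theorem D1485 : act 3 n1064 = n1485 := rfl
theorem F1085 : act 1 n1485 = n1065 := d4_1 D1485 (iv D1065) D1064
def n1486 : Q := act 2 n1065
theorem D1486 : act 2 n1065 = n1486 := rfl
def n1487 : Q := act 1 n1066
theorem D1487 : act 1 n1066 = n1487 := rfl
def n1488 : Q := act 3 n1066
theorem D1488 : act 3 n1066 = n1488 := rfl
theorem F1087 : act 0 n1488 = n1069 := d2_1 D1488 (iv D1069) (iv F763)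
def n1489 : Q := act 1 n1067
theorem D1489 : act 1 n1067 = n1489 := rfl
theorem F1088 : act 2 n1489 = n1081 := d3_2 D1067 D1489 (iv D1081) (iv D765) (iv F535)
def n1490 : Q := act 3 n1067
theorem D1490 : act 3 n1067 = n1490 := rfl
theorem F1089 : act 2 n1490 = n1488 := d6_2 D1067 D1490 (iv D1488) (iv D1066) (iv D755) D754 D1065 F762
def n1491 : Q := act 2 n1069
theorem D1491 : act 2 n1069 = n1491 := rfl
theorem F1091 : act 3 n1491 = n1486 := d5_2 D1069 D1491 (iv D1486) (iv D1065) (iv D754) D755 D1066 D1488 (iv F1089) (iv D1490) (iv D1067) (iv D756) (iv D523) D524 D757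
def n1492 : Q := act 1 n1070
theorem D1492 : act 1 n1070 = n1492 := rfl
theorem F1092 : act 3 n1492 = n1411 := d4_2 (iv F765) D1492 (iv D1411)
def n1493 : Q := act 0 n1071
theorem D1493 : act 0 n1071 = n1493 := rfl
def n1494 : Q := act 2 n1071
theorem D1494 : act 2 n1071 = n1494 := rfl
theorem F1093 : act 1 n1494 = n1075 := d3_1 D1494 (iv D1075) (iv D761) (iv F537) D1071
def n1495 : Q := act 3 n1071
theorem D1495 : act 3 n1071 = n1495 := rfl
theorem F1094 : act 1 n1495 = n1072 := d4_1 D1495 (iv D1072) D1071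
def n1496 : Q := act 2 n1074
theorem D1496 : act 2 n1074 = n1496 := rfl
theorem F1095 : act 0 n1496 = n1075 := d1_1 D1496 (iv D1075) D1074
def n1497 : Q := act 3 n1075
theorem D1497 : act 3 n1075 = n1497 := rfl
def n1498 : Q := act 1 n1076
theorem D1498 : act 1 n1076 = n1498 := rfl
def n1499 : Q := act 3 n1076
theorem D1499 : act 3 n1076 = n1499 := rfl
def n1500 : Q := act 2 n1077
theorem D1500 : act 2 n1077 = n1500 := rfl
def n1501 : Q := act 1 n1078
theorem D1501 : act 1 n1078 = n1501 := rfl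
def n1502 : Q := act 0 n1079
theorem D1502 : act 0 n1079 = n1502 := rfl
theorem F1097 : act 2 n1502 = n1093 := d1_2 (iv F772) D1502 (iv D1093)
def n1503 : Q := act 3 n1079
theorem D1503 : act 3 n1079 = n1503 := rfl
theorem F1098 : act 1 n1503 = n1080 := d4_1 D1503 (iv D1080) D1079
def n1504 : Q := act 0 n1081
theorem D1504 : act 0 n1081 = n1504 := rfl
def n1505 : Q := act 3 n1081
theorem D1505 : act 3 n1081 = n1505 := rfl
theorem F1099 : act 1 n1505 = n1082 := d4_1 D1505 (iv D1082) D1081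
def n1506 : Q := act 1 n1083
theorem D1506 : act 1 n1083 = n1506 := rfl
def n1507 : Q := act 3 n1083
theorem D1507 : act 3 n1083 = n1507 := rfl
theorem F1100 : act 0 n1507 = n1084 := d2_1 D1507 (iv D1084) D1083
def n1508 : Q := act 2 n1084
theorem D1508 : act 2 n1084 = n1508 := rfl
def n1509 : Q := act 1 n1085
theorem D1509 : act 1 n1085 = n1509 := rfl
theorem F1101 : act 3 n1509 = n1501 := d4_2 (iv F778) D1509 (iv D1501)
def n1510 : Q := act 2 n1086
theorem D1510 : act 2 n1086 = n1510 := rfl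
theorem F1102 : act 0 n1510 = n1389 := d1_1 D1510 (iv D1389) (iv F779)
def n1511 : Q := act 2 n1087
theorem D1511 : act 2 n1087 = n1511 := rfl
theorem F1103 : act 0 n1511 = n1088 := d1_1 D1511 (iv D1088) (iv F780)
def n1512 : Q := act 3 n1088
theorem D1512 : act 3 n1088 = n1512 := rfl
theorem F1104 : act 1 n1512 = n1463 := d4_1 D1512 F1070 (iv F781)
def n1513 : Q := act 2 n1089
theorem D1513 : act 2 n1089 = n1513 := rfl
theorem F1105 : act 0 n1513 = n1108 := d1_1 D1513 (iv D1108) (iv F782)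
def n1514 : Q := act 3 n1089
theorem D1514 : act 3 n1089 = n1514 := rfl
theorem F1106 : act 0 n1514 = n1109 := d2_1 D1514 (iv D1109) (iv F782)
theorem F1107 : act 1 n1514 = n1090 := d4_1 D1514 (iv D1090) D1089
def n1515 : Q := act 2 n1090
theorem D1515 : act 2 n1090 = n1515 := rfl
theorem F1108 : act 0 n1515 = n1091 := d1_1 D1515 (iv D1091) (iv F783)
def n1516 : Q := act 1 n1091
theorem D1516 : act 1 n1091 = n1516 := rfl
theorem F1109 : act 2 n1516 = n1092 := d3_2 D1091 D1516 (iv D1092) (iv D772) (iv F545)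
def n1517 : Q := act 3 n1091
theorem D1517 : act 3 n1091 = n1517 := rfl
def n1518 : Q := act 0 n1092
theorem D1518 : act 0 n1092 = n1518 := rfl
def n1519 : Q := act 1 n1093
theorem D1519 : act 1 n1093 = n1519 := rfl
def n1520 : Q := act 3 n1093
theorem D1520 : act 3 n1093 = n1520 := rfl
theorem F1110 : act 0 n1520 = n1094 := d2_1 D1520 (iv D1094) D1093
def n1521 : Q := act 2 n1094
theorem D1521 : act 2 n1094 = n1521 := rfl
def n1522 : Q := act 1 n1095
theorem D1522 : act 1 n1095 = n1522 := rfl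
def n1523 : Q := act 3 n1095
theorem D1523 : act 3 n1095 = n1523 := rfl
theorem F1111 : act 0 n1523 = n1096 := d2_1 D1523 (iv D1096) D1095
def n1524 : Q := act 2 n1096
theorem D1524 : act 2 n1096 = n1524 := rfl
theorem F1112 : act 1 n1524 = n1521 := d3_1 D1524 (iv D1521) F784 (iv F549) (iv F786)
def n1525 : Q := act 0 n1097
theorem D1525 : act 0 n1097 = n1525 := rfl
theorem F1113 : act 3 n1525 = n1435 := d2_2 (iv F787) D1525 (iv D1435)
def n1526 : Q := act 2 n1097
theorem D1526 : act 2 n1097 = n1526 := rfl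
theorem F1114 : act 1 n1526 = n1100 := d3_1 D1526 (iv D1100) (iv D780) (iv F550) D1097
def n1527 : Q := act 0 n1098
theorem D1527 : act 0 n1098 = n1527 := rfl
theorem F1115 : act 2 n1527 = n1433 := d1_2 (iv F788) D1527 F1045
theorem F1116 : act 3 n1527 = n1518 := d2_2 (iv F789) D1527 (iv D1518)
def n1528 : Q := act 2 n1099
theorem D1528 : act 2 n1099 = n1528 := rfl
theorem F1117 : act 0 n1528 = n1100 := d1_1 D1528 (iv D1100) D1099
def n1529 : Q := act 3 n1100
theorem D1529 : act 3 n1100 = n1529 := rfl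
def n1530 : Q := act 1 n1101
theorem D1530 : act 1 n1101 = n1530 := rfl
def n1531 : Q := act 3 n1101
theorem D1531 : act 3 n1101 = n1531 := rfl
theorem F1118 : act 0 n1531 = n1103 := d2_1 D1531 (iv D1103) (iv F791)
def n1532 : Q := act 2 n1102
theorem D1532 : act 2 n1102 = n1532 := rfl
theorem F1119 : act 0 n1532 = n1104 := d1_1 D1532 (iv D1104) (iv F792)
def n1533 : Q := act 2 n1103
theorem D1533 : act 2 n1103 = n1533 := rfl
def n1534 : Q := act 3 n1104
theorem D1534 : act 3 n1104 = n1534 := rfl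
def n1535 : Q := act 0 n1105
theorem D1535 : act 0 n1105 = n1535 := rfl
theorem F1120 : act 2 n1535 = n1383 := d1_2 (iv F794) D1535 (iv D1383)
def n1536 : Q := act 3 n1105
theorem D1536 : act 3 n1105 = n1536 := rfl
theorem F1121 : act 1 n1536 = n1106 := d4_1 D1536 (iv D1106) D1105
def n1537 : Q := act 1 n1107
theorem D1537 : act 1 n1107 = n1537 := rfl
def n1538 : Q := act 3 n1108
theorem D1538 : act 3 n1108 = n1538 := rfl
def n1539 : Q := act 2 n1109
theorem D1539 : act 2 n1109 = n1539 := rfl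
def n1540 : Q := act 1 n1110
theorem D1540 : act 1 n1110 = n1540 := rfl
def n1541 : Q := act 3 n1110
theorem D1541 : act 3 n1110 = n1541 := rfl
theorem F1124 : act 2 n1541 = n1112 := d6_2 D1110 D1541 (iv D1112) (iv D788) (iv D549) F256 D549 (iv F560)
def n1542 : Q := act 0 n1111
theorem D1542 : act 0 n1111 = n1542 := rfl
theorem F1125 : act 2 n1542 = n1113 := d1_2 (iv F799) D1542 (iv D1113)
def n1543 : Q := act 3 n1111
theorem D1543 : act 3 n1111 = n1543 := rfl
theorem F1126 : act 1 n1543 = n1112 := d4_1 D1543 (iv D1112) D1111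
def n1544 : Q := act 1 n1113
theorem D1544 : act 1 n1113 = n1544 := rfl
def n1545 : Q := act 0 n1114
theorem D1545 : act 0 n1114 = n1545 := rfl
theorem F1127 : act 1 n1545 = n1120 := d0_2 D1114 D1545 (iv D1120) (iv D794) (iv D555) (iv D379) (iv F258) D551 D790
def n1546 : Q := act 2 n1114
theorem D1546 : act 2 n1114 = n1546 := rfl
def n1547 : Q := act 3 n1114
theorem D1547 : act 3 n1114 = n1547 := rfl
theorem F1129 : act 1 n1547 = n1115 := d4_1 D1547 (iv D1115) D1114
def n1548 : Q := act 2 n1115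
theorem D1548 : act 2 n1115 = n1548 := rfl
theorem F1130 : act 0 n1548 = n1116 := d1_1 D1548 (iv D1116) (iv F800)
def n1549 : Q := act 3 n1116
theorem D1549 : act 3 n1116 = n1549 := rfl
def n1550 : Q := act 0 n1117
theorem D1550 : act 0 n1117 = n1550 := rfl
def n1551 : Q := act 2 n1117
theorem D1551 : act 2 n1117 = n1551 := rfl
def n1552 : Q := act 3 n1117
theorem D1552 : act 3 n1117 = n1552 := rfl
theorem F1131 : act 1 n1552 = n1118 := d4_1 D1552 (iv D1118) D1117
def n1553 : Q := act 2 n1118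
theorem D1553 : act 2 n1118 = n1553 := rfl
theorem F1132 : act 0 n1553 = n1119 := d1_1 D1553 (iv D1119) (iv F801)
def n1554 : Q := act 3 n1119
theorem D1554 : act 3 n1119 = n1554 := rfl
theorem F1133 : act 1 n1554 = n1549 := d4_1 D1554 (iv D1549) (iv F802)
def n1555 : Q := act 2 n1120
theorem D1555 : act 2 n1120 = n1555 := rfl
theorem F1134 : act 0 n1555 = n1121 := d1_1 D1555 (iv D1121) D1120
def n1556 : Q := act 3 n1120
theorem D1556 : act 3 n1120 = n1556 := rfl
theorem F1135 : act 0 n1556 = n1122 := d2_1 D1556 (iv D1122) D1120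
def n1557 : Q := act 3 n1121
theorem D1557 : act 3 n1121 = n1557 := rfl
theorem F1136 : act 1 n1557 = n1127 := d4_1 D1557 (iv D1127) (iv F803)
def n1558 : Q := act 2 n1122
theorem D1558 : act 2 n1122 = n1558 := rfl
def n1559 : Q := act 0 n1124
theorem D1559 : act 0 n1124 = n1559 := rfl
theorem F1137 : act 2 n1559 = n1126 := d1_2 (iv F806) D1559 (iv D1126)
def n1560 : Q := act 3 n1124
theorem D1560 : act 3 n1124 = n1560 := rfl
theorem F1138 : act 1 n1560 = n1125 := d4_1 D1560 (iv D1125) D1124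
def n1561 : Q := act 1 n1126
theorem D1561 : act 1 n1126 = n1561 := rfl
theorem F1139 : act 3 n1561 = n1544 := d4_2 (iv F807) D1561 (iv D1544)
def n1562 : Q := act 2 n1127
theorem D1562 : act 2 n1127 = n1562 := rfl
theorem F1140 : act 0 n1562 = n1158 := d1_1 D1562 (iv D1158) (iv F808)
def n1563 : Q := act 1 n1128
theorem D1563 : act 1 n1128 = n1563 := rfl
theorem F1141 : act 2 n1563 = n1129 := d3_2 D1128 D1563 (iv D1129) (iv D800) (iv F568)
def n1564 : Q := act 3 n1128
theorem D1564 : act 3 n1128 = n1564 := rfl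
theorem F1142 : act 0 n1564 = n1160 := d2_1 D1564 (iv D1160) (iv F809)
def n1565 : Q := act 0 n1129
theorem D1565 : act 0 n1129 = n1565 := rfl
def n1566 : Q := act 3 n1129
theorem D1566 : act 3 n1129 = n1566 := rfl
theorem F1143 : act 1 n1566 = n1130 := d4_1 D1566 (iv D1130) D1129
def n1567 : Q := act 2 n1132
theorem D1567 : act 2 n1132 = n1567 := rfl
theorem F1144 : act 0 n1567 = n1133 := d1_1 D1567 (iv D1133) D1132
def n1568 : Q := act 3 n1133
theorem D1568 : act 3 n1133 = n1568 := rfl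
theorem F1145 : act 1 n1568 = n1164 := d4_1 D1568 (iv D1164) (iv F817)
def n1569 : Q := act 2 n1134
theorem D1569 : act 2 n1134 = n1569 := rfl
def n1570 : Q := act 1 n1135
theorem D1570 : act 1 n1135 = n1570 := rfl
theorem F1146 : act 2 n1570 = n1136 := d3_2 D1135 D1570 (iv D1136) (iv D805) (iv F573)
def n1571 : Q := act 3 n1135
theorem D1571 : act 3 n1135 = n1571 := rfl
def n1572 : Q := act 0 n1136
theorem D1572 : act 0 n1136 = n1572 := rfl
def n1573 : Q := act 3 n1136
theorem D1573 : act 3 n1136 = n1573 := rfl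
theorem F1147 : act 1 n1573 = n1137 := d4_1 D1573 (iv D1137) D1136
def n1574 : Q := act 1 n1138
theorem D1574 : act 1 n1138 = n1574 := rfl
def n1575 : Q := act 3 n1138
theorem D1575 : act 3 n1138 = n1575 := rfl
theorem F1148 : act 0 n1575 = n1139 := d2_1 D1575 (iv D1139) D1138
def n1576 : Q := act 2 n1139
theorem D1576 : act 2 n1139 = n1576 := rfl
def n1577 : Q := act 0 n1140
theorem D1577 : act 0 n1140 = n1577 := rfl
theorem F1149 : act 1 n1577 = n1146 := d0_2 D1140 D1577 (iv D1146) (iv D812) (iv D568) (iv D389) (iv F265) D565 D808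
def n1578 : Q := act 2 n1140
theorem D1578 : act 2 n1140 = n1578 := rfl
def n1579 : Q := act 2 n1141
theorem D1579 : act 2 n1141 = n1579 := rfl
theorem F1150 : act 0 n1579 = n1142 := d1_1 D1579 (iv D1142) D1141
def n1580 : Q := act 3 n1141
theorem D1580 : act 3 n1141 = n1580 := rfl
theorem F1151 : act 0 n1580 = n1143 := d2_1 D1580 (iv D1143) D1141
theorem F1152 : act 1 n1580 = n1152 := d4_1 D1580 (iv D1152) (iv F823)
def n1581 : Q := act 3 n1142
theorem D1581 : act 3 n1142 = n1581 := rfl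
def n1582 : Q := act 2 n1143
theorem D1582 : act 2 n1143 = n1582 := rfl
def n1583 : Q := act 1 n1144
theorem D1583 : act 1 n1144 = n1583 := rfl
def n1584 : Q := act 3 n1144
theorem D1584 : act 3 n1144 = n1584 := rfl
theorem F1154 : act 0 n1584 = n1145 := d2_1 D1584 (iv D1145) (iv F826)
theorem F1155 : act 2 n1584 = n1145 := d6_2 D1144 D1584 (iv D1145) (iv D811) (iv D567) F266 D567 (iv F576)
def n1585 : Q := act 2 n1146
theorem D1585 : act 2 n1146 = n1585 := rfl
theorem F1156 : act 0 n1585 = n1147 := d1_1 D1585 (iv D1147) D1146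
def n1586 : Q := act 3 n1146
theorem D1586 : act 3 n1146 = n1586 := rfl
theorem F1157 : act 0 n1586 = n1148 := d2_1 D1586 (iv D1148) D1146
def n1587 : Q := act 3 n1147
theorem D1587 : act 3 n1147 = n1587 := rfl
def n1588 : Q := act 2 n1148
theorem D1588 : act 2 n1148 = n1588 := rfl
def n1589 : Q := act 1 n1149
theorem D1589 : act 1 n1149 = n1589 := rfl
def n1590 : Q := act 3 n1149
theorem D1590 : act 3 n1149 = n1590 := rfl
theorem F1158 : act 0 n1590 = n1150 := d2_1 D1590 (iv D1150) (iv F828)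
theorem F1159 : act 2 n1590 = n1431 := d6_2 D1149 D1590 (iv D1431) (iv D1025) (iv D723) F348 D569 (iv F577)
def n1591 : Q := act 2 n1150
theorem D1591 : act 2 n1150 = n1591 := rfl
theorem F1160 : act 0 n1591 = n1431 := d1_1 D1591 (iv F1159) F1158
theorem F1161 : act 3 n1591 = n1430 := d5_2 D1150 D1591 (iv D1430) (iv D1024) F511 D813 D1149 D1590 F1159 (iv D1431) (iv D1025) (iv D723) F348 D569 D814
def n1593 : Q := act 3 n1151
theorem D1593 : act 3 n1151 = n1593 := rfl
theorem F1162 : act 0 n1593 = n1153 := d2_1 D1593 (iv D1153) (iv F830)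
def n1594 : Q := act 2 n1152
theorem D1594 : act 2 n1152 = n1594 := rfl
theorem F1163 : act 0 n1594 = n1154 := d1_1 D1594 (iv D1154) (iv F831)
def n1595 : Q := act 2 n1153
theorem D1595 : act 2 n1153 = n1595 := rfl
def n1596 : Q := act 3 n1154
theorem D1596 : act 3 n1154 = n1596 := rfl
theorem F1164 : act 1 n1596 = n1298 := d4_1 D1596 (iv F947) F946
def n1597 : Q := act 1 n1155
theorem D1597 : act 1 n1155 = n1597 := rfl
def n1598 : Q := act 3 n1155
theorem D1598 : act 3 n1155 = n1598 := rfl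
theorem F1165 : act 0 n1598 = n1156 := d2_1 D1598 (iv D1156) D1155
def n1599 : Q := act 2 n1156
theorem D1599 : act 2 n1156 = n1599 := rfl
def n1600 : Q := act 0 n1157
theorem D1600 : act 0 n1157 = n1600 := rfl
theorem F1166 : act 1 n1600 = n1586 := d0_2 D1157 D1600 F1157 F827 F577 F400 (iv F271) D573 D821
theorem F1167 : act 3 n1600 = n1577 := d2_2 (iv F835) D1600 (iv D1577)
def n1601 : Q := act 2 n1157
theorem D1601 : act 2 n1157 = n1601 := rfl
def n1602 : Q := act 1 n1158
theorem D1602 : act 1 n1158 = n1602 := rfl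
def n1603 : Q := act 3 n1158
theorem D1603 : act 3 n1158 = n1603 := rfl
theorem F1168 : act 2 n1603 = n1564 := d6_2 D1158 D1603 (iv D1564) (iv D1128) (iv D799) D798 D1127 F808
def n1604 : Q := act 0 n1159
theorem D1604 : act 0 n1159 = n1604 := rfl
theorem F1169 : act 2 n1604 = n1161 := d1_2 (iv F836) D1604 (iv D1161)
def n1605 : Q := act 3 n1159
theorem D1605 : act 3 n1159 = n1605 := rfl
theorem F1170 : act 1 n1605 = n1160 := d4_1 D1605 (iv D1160) D1159
def n1606 : Q := act 2 n1160
theorem D1606 : act 2 n1160 = n1606 := rfl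
theorem F1171 : act 0 n1606 = n1603 := d1_1 D1606 F1168 F1142
theorem F1172 : act 3 n1606 = n1562 := d5_2 D1160 D1606 (iv D1562) (iv D1127) (iv D798) D799 D1128 D1564 (iv F1168) (iv D1603) (iv D1158) (iv D822) (iv D574) D575 D823
def n1607 : Q := act 1 n1161
theorem D1607 : act 1 n1161 = n1607 := rfl
theorem F1173 : act 0 n1607 = n1306 := d0_1 D1607 F949 F667 F458 F318 (iv F274) (iv F404) D824 D1161
theorem F1174 : act 3 n1304 = n1607 := d2_0 F1173 (iv D1306) D1304
def n1608 : Q := act 3 n1161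
theorem D1608 : act 3 n1161 = n1608 := rfl
theorem F1175 : act 0 n1608 = n1162 := d2_1 D1608 (iv D1162) D1161
theorem F1176 : act 1 n1608 = n1304 := d4_1 D1608 F1174 (iv D1607)
def n1609 : Q := act 2 n1162
theorem D1609 : act 2 n1162 = n1609 := rfl
theorem F1177 : act 1 n1609 = n1599 := d3_1 D1609 (iv D1599) F834 (iv F585) (iv F837)
def n1610 : Q := act 1 n1163
theorem D1610 : act 1 n1163 = n1610 := rfl
theorem F1178 : act 2 n1610 = n1443 := d3_2 D1163 D1610 (iv D1443) (iv D1035) (iv F589)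
def n1611 : Q := act 3 n1163
theorem D1611 : act 3 n1163 = n1611 := rfl
theorem F1179 : act 0 n1611 = n1164 := d2_1 D1611 (iv D1164) (iv F838)
def n1612 : Q := act 2 n1164
theorem D1612 : act 2 n1164 = n1612 := rfl
def n1614 : Q := act 3 n1165
theorem D1614 : act 3 n1165 = n1614 := rfl
theorem F1183 : act 1 n1614 = n1166 := d4_1 D1614 (iv D1166) D1165
def n1615 : Q := act 2 n1166
theorem D1615 : act 2 n1166 = n1615 := rfl
def n1616 : Q := act 1 n1167
theorem D1616 : act 1 n1167 = n1616 := rfl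
theorem F1185 : act 2 n1616 = n1168 := d3_2 D1167 D1616 (iv D1168) (iv D831) (iv F592)
def n1617 : Q := act 3 n1167
theorem D1617 : act 3 n1167 = n1617 := rfl
def n1618 : Q := act 0 n1168
theorem D1618 : act 0 n1168 = n1618 := rfl
def n1619 : Q := act 1 n1169
theorem D1619 : act 1 n1169 = n1619 := rfl
def n1620 : Q := act 3 n1169
theorem D1620 : act 3 n1169 = n1620 := rfl
theorem F1186 : act 0 n1620 = n1170 := d2_1 D1620 (iv D1170) D1169
def n1621 : Q := act 2 n1170
theorem D1621 : act 2 n1170 = n1621 := rfl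
def n1622 : Q := act 1 n1171
theorem D1622 : act 1 n1171 = n1622 := rfl
def n1623 : Q := act 3 n1171
theorem D1623 : act 3 n1171 = n1623 := rfl
theorem F1187 : act 0 n1623 = n1172 := d2_1 D1623 (iv D1172) D1171
def n1624 : Q := act 2 n1172
theorem D1624 : act 2 n1172 = n1624 := rfl
theorem F1188 : act 1 n1624 = n1621 := d3_1 D1624 (iv D1621) F842 (iv F597) (iv F844)
def n1625 : Q := act 0 n1173
theorem D1625 : act 0 n1173 = n1625 := rfl
def n1626 : Q := act 2 n1173
theorem D1626 : act 2 n1173 = n1626 := rfl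
theorem F1189 : act 1 n1626 = n1178 := d3_1 D1626 (iv D1178) (iv D839) (iv F598) D1173
def n1627 : Q := act 3 n1173
theorem D1627 : act 3 n1173 = n1627 := rfl
theorem F1190 : act 1 n1627 = n1174 := d4_1 D1627 (iv D1174) D1173
def n1628 : Q := act 2 n1174
theorem D1628 : act 2 n1174 = n1628 := rfl
def n1629 : Q := act 1 n1175
theorem D1629 : act 1 n1175 = n1629 := rfl
theorem F1192 : act 2 n1629 = n1176 := d3_2 D1175 D1629 (iv D1176) (iv D838) (iv F599)
def n1630 : Q := act 3 n1175
theorem D1630 : act 3 n1175 = n1630 := rfl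
def n1631 : Q := act 0 n1176
theorem D1631 : act 0 n1176 = n1631 := rfl
theorem F1193 : act 3 n1631 = n1618 := d2_2 (iv F846) D1631 (iv D1618)
def n1632 : Q := act 2 n1177
theorem D1632 : act 2 n1177 = n1632 := rfl
theorem F1194 : act 0 n1632 = n1178 := d1_1 D1632 (iv D1178) D1177
def n1633 : Q := act 3 n1177
theorem D1633 : act 3 n1177 = n1633 := rfl
theorem F1195 : act 0 n1633 = n1179 := d2_1 D1633 (iv D1179) D1177
theorem F1196 : act 1 n1633 = n1183 := d4_1 D1633 (iv D1183) (iv F847)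
def n1634 : Q := act 3 n1178
theorem D1634 : act 3 n1178 = n1634 := rfl
def n1635 : Q := act 2 n1179
theorem D1635 : act 2 n1179 = n1635 := rfl
def n1636 : Q := act 1 n1180
theorem D1636 : act 1 n1180 = n1636 := rfl
def n1637 : Q := act 3 n1180
theorem D1637 : act 3 n1180 = n1637 := rfl
theorem F1197 : act 0 n1637 = n1181 := d2_1 D1637 (iv D1181) (iv F849)
theorem F1198 : act 2 n1637 = n1630 := d6_2 D1180 D1637 (iv D1630) (iv D1175) (iv D837) F410 D586 (iv F602)
def n1638 : Q := act 2 n1181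
theorem D1638 : act 2 n1181 = n1638 := rfl
theorem F1199 : act 0 n1638 = n1630 := d1_1 D1638 (iv F1198) F1197
theorem F1200 : act 1 n1638 = n1260 := d3_1 D1638 (iv D1260) F643 (iv F609) (iv F850)
theorem F1201 : act 3 n1638 = n1628 := d5_2 D1181 D1638 (iv D1628) (iv D1174) F598 D840 D1180 D1637 F1198 (iv D1630) (iv D1175) (iv D837) F410 D586 D841
def n1639 : Q := act 1 n1182
theorem D1639 : act 1 n1182 = n1639 := rfl
def n1640 : Q := act 3 n1182
theorem D1640 : act 3 n1182 = n1640 := rfl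
theorem F1202 : act 0 n1640 = n1184 := d2_1 D1640 (iv D1184) (iv F851)
def n1641 : Q := act 2 n1183
theorem D1641 : act 2 n1183 = n1641 := rfl
theorem F1203 : act 0 n1641 = n1185 := d1_1 D1641 (iv D1185) (iv F852)
def n1642 : Q := act 2 n1184
theorem D1642 : act 2 n1184 = n1642 := rfl
def n1643 : Q := act 3 n1185
theorem D1643 : act 3 n1185 = n1643 := rfl
theorem F1204 : act 1 n1643 = n1330 := d4_1 D1643 (iv F970) F969
def n1644 : Q := act 0 n1186
theorem D1644 : act 0 n1186 = n1644 := rfl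
theorem F1205 : act 2 n1644 = n1229 := d1_2 (iv F854) D1644 (iv D1229)
def n1645 : Q := act 3 n1186
theorem D1645 : act 3 n1186 = n1645 := rfl
theorem F1206 : act 1 n1645 = n1187 := d4_1 D1645 (iv D1187) D1186
def n1646 : Q := act 2 n1187
theorem D1646 : act 2 n1187 = n1646 := rfl
theorem F1207 : act 0 n1646 = n1188 := d1_1 D1646 (iv D1188) (iv F855)
theorem F1208 : act 3 n1646 = n1263 := d6_1 D1646 (iv D1263) (iv D900) (iv D632) F300 D591 D848 (iv F855)
def n1647 : Q := act 1 n1188
theorem D1647 : act 1 n1188 = n1647 := rfl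
def n1648 : Q := act 3 n1188
theorem D1648 : act 3 n1188 = n1648 := rfl
theorem F1209 : act 0 n1648 = n1263 := d2_1 D1648 (iv F1208) F1207
theorem F1210 : act 2 n1648 = n1262 := d5_1 D1648 (iv D1262) (iv D899) F443 D847 D1187 D1646 F1208 (iv D1263) (iv D900) (iv D632) F300 D591 D848 D1188
def n1649 : Q := act 1 n1189
theorem D1649 : act 1 n1189 = n1649 := rfl
theorem F1211 : act 0 n1649 = n1649 := d0_1 D1649 (iv D1649) (iv D1189) (iv D849) F414 F285 (iv F414) D849 D1189
def n1650 : Q := act 3 n1189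
theorem D1650 : act 3 n1189 = n1650 := rfl
def n1651 : Q := act 2 n1190
theorem D1651 : act 2 n1190 = n1651 := rfl
def n1652 : Q := act 1 n1191
theorem D1652 : act 1 n1191 = n1652 := rfl
def n1653 : Q := act 0 n1192
theorem D1653 : act 0 n1192 = n1653 := rfl
theorem F1213 : act 2 n1653 = n1247 := d1_2 (iv F859) D1653 (iv D1247)
def n1654 : Q := act 3 n1192
theorem D1654 : act 3 n1192 = n1654 := rfl
theorem F1214 : act 1 n1654 = n1193 := d4_1 D1654 (iv D1193) D1192
def n1655 : Q := act 0 n1194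
theorem D1655 : act 0 n1194 = n1655 := rfl
def n1656 : Q := act 3 n1194
theorem D1656 : act 3 n1194 = n1656 := rfl
theorem F1216 : act 1 n1656 = n1195 := d4_1 D1656 (iv D1195) D1194
def n1657 : Q := act 1 n1196
theorem D1657 : act 1 n1196 = n1657 := rfl
def n1658 : Q := act 3 n1196
theorem D1658 : act 3 n1196 = n1658 := rfl
def n1659 : Q := act 2 n1197
theorem D1659 : act 2 n1197 = n1659 := rfl
def n1660 : Q := act 1 n1198
theorem D1660 : act 1 n1198 = n1660 := rfl
theorem F1218 : act 3 n1660 = n1652 := d4_2 (iv F866) D1660 (iv D1652)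
def n1661 : Q := act 2 n1199
theorem D1661 : act 2 n1199 = n1661 := rfl
def n1662 : Q := act 3 n1199
theorem D1662 : act 3 n1199 = n1662 := rfl
theorem F1219 : act 1 n1662 = n1200 := d4_1 D1662 (iv D1200) D1199
def n1663 : Q := act 3 n1201
theorem D1663 : act 3 n1201 = n1663 := rfl
theorem F1220 : act 0 n1663 = n1264 := d2_1 D1663 (iv D1264) (iv F868)
def n1664 : Q := act 2 n1202
theorem D1664 : act 2 n1202 = n1664 := rfl
theorem F1221 : act 0 n1664 = n1265 := d1_1 D1664 (iv D1265) (iv F869)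
def n1665 : Q := act 1 n1203
theorem D1665 : act 1 n1203 = n1665 := rfl
def n1666 : Q := act 3 n1203
theorem D1666 : act 3 n1203 = n1666 := rfl
theorem F1222 : act 0 n1666 = n1205 := d2_1 D1666 (iv D1205) (iv F871)
theorem F1223 : act 2 n1666 = n1617 := d6_2 D1203 D1666 (iv D1617) (iv D1167) (iv D830) F407 D599 (iv F617)
def n1667 : Q := act 0 n1204
theorem D1667 : act 0 n1204 = n1667 := rfl
theorem F1224 : act 2 n1667 = n1206 := d1_2 (iv F872) D1667 (iv D1206)
def n1668 : Q := act 3 n1204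
theorem D1668 : act 3 n1204 = n1668 := rfl
theorem F1225 : act 1 n1668 = n1205 := d4_1 D1668 (iv D1205) D1204
def n1669 : Q := act 2 n1205
theorem D1669 : act 2 n1205 = n1669 := rfl
theorem F1226 : act 0 n1669 = n1617 := d1_1 D1669 (iv F1223) F1222
theorem F1227 : act 3 n1669 = n1615 := d5_2 D1205 D1669 (iv D1615) (iv D1166) F591 D858 D1203 D1666 F1223 (iv D1617) (iv D1167) (iv D830) F407 D599 D859
def n1670 : Q := act 1 n1206
theorem D1670 : act 1 n1206 = n1670 := rfl
def n1671 : Q := act 0 n1207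
theorem D1671 : act 0 n1207 = n1671 := rfl
theorem F1228 : act 1 n1671 = n1213 := d0_2 D1207 D1671 (iv D1213) (iv D865) (iv D605) (iv D416) (iv F289) D601 D861
def n1672 : Q := act 2 n1207
theorem D1672 : act 2 n1207 = n1672 := rfl
def n1673 : Q := act 3 n1207
theorem D1673 : act 3 n1207 = n1673 := rfl
theorem F1229 : act 1 n1673 = n1208 := d4_1 D1673 (iv D1208) D1207
def n1674 : Q := act 2 n1208
theorem D1674 : act 2 n1208 = n1674 := rfl
theorem F1230 : act 0 n1674 = n1209 := d1_1 D1674 (iv D1209) (iv F873)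
def n1675 : Q := act 3 n1209
theorem D1675 : act 3 n1209 = n1675 := rfl
def n1676 : Q := act 0 n1210
theorem D1676 : act 0 n1210 = n1676 := rfl
def n1677 : Q := act 2 n1210
theorem D1677 : act 2 n1210 = n1677 := rfl
theorem F1231 : act 1 n1677 = n1276 := d3_1 D1677 (iv D1276) (iv D910) (iv F619) D1210
def n1678 : Q := act 3 n1210
theorem D1678 : act 3 n1210 = n1678 := rfl
theorem F1232 : act 1 n1678 = n1211 := d4_1 D1678 (iv D1211) D1210
def n1679 : Q := act 2 n1211
theorem D1679 : act 2 n1211 = n1679 := rfl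
theorem F1233 : act 0 n1679 = n1212 := d1_1 D1679 (iv D1212) (iv F874)
def n1680 : Q := act 3 n1212
theorem D1680 : act 3 n1212 = n1680 := rfl
theorem F1234 : act 1 n1680 = n1675 := d4_1 D1680 (iv D1675) (iv F875)
def n1681 : Q := act 2 n1213
theorem D1681 : act 2 n1213 = n1681 := rfl
theorem F1235 : act 0 n1681 = n1214 := d1_1 D1681 (iv D1214) D1213
def n1682 : Q := act 3 n1213
theorem D1682 : act 3 n1213 = n1682 := rfl
theorem F1236 : act 0 n1682 = n1215 := d2_1 D1682 (iv D1215) D1213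
def n1683 : Q := act 3 n1214
theorem D1683 : act 3 n1214 = n1683 := rfl
theorem F1237 : act 1 n1683 = n1221 := d4_1 D1683 (iv D1221) (iv F876)
def n1684 : Q := act 2 n1215
theorem D1684 : act 2 n1215 = n1684 := rfl
theorem F1238 : act 1 n1684 = n1447 := d3_1 D1684 (iv D1447) F880 (iv D1216) (iv F877)
def n1685 : Q := act 0 n1217
theorem D1685 : act 0 n1217 = n1685 := rfl
theorem F1239 : act 2 n1685 = n1219 := d1_2 (iv F881) D1685 (iv D1219)
def n1686 : Q := act 3 n1217
theorem D1686 : act 3 n1217 = n1686 := rfl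
theorem F1240 : act 1 n1686 = n1218 := d4_1 D1686 (iv D1218) D1217
def n1687 : Q := act 1 n1219
theorem D1687 : act 1 n1219 = n1687 := rfl
theorem F1241 : act 3 n1687 = n1670 := d4_2 (iv F884) D1687 (iv D1670)
def n1688 : Q := act 1 n1220
theorem D1688 : act 1 n1220 = n1688 := rfl
theorem F1242 : act 2 n1688 = n1222 := d3_2 D1220 D1688 (iv D1222) (iv D871) (iv F623)
def n1689 : Q := act 3 n1220
theorem D1689 : act 3 n1220 = n1689 := rfl
theorem F1243 : act 0 n1689 = n1221 := d2_1 D1689 (iv D1221) (iv F885)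
def n1690 : Q := act 2 n1221
theorem D1690 : act 2 n1221 = n1690 := rfl
def n1691 : Q := act 0 n1222
theorem D1691 : act 0 n1222 = n1691 := rfl
def n1692 : Q := act 3 n1222
theorem D1692 : act 3 n1222 = n1692 := rfl
theorem F1244 : act 1 n1692 = n1223 := d4_1 D1692 (iv D1223) D1222
def n1693 : Q := act 2 n1223
theorem D1693 : act 2 n1223 = n1693 := rfl
theorem F1245 : act 0 n1693 = n1225 := d1_1 D1693 (iv D1225) (iv F886)
def n1694 : Q := act 1 n1224
theorem D1694 : act 1 n1224 = n1694 := rfl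
def n1695 : Q := act 3 n1224
theorem D1695 : act 3 n1224 = n1695 := rfl
theorem F1246 : act 0 n1695 = n1227 := d2_1 D1695 (iv D1227) (iv F887)
def n1696 : Q := act 1 n1225
theorem D1696 : act 1 n1225 = n1696 := rfl
theorem F1247 : act 2 n1696 = n1234 := d3_2 D1225 D1696 (iv D1234) (iv D879) (iv F626)
def n1697 : Q := act 3 n1225
theorem D1697 : act 3 n1225 = n1697 := rfl
theorem F1248 : act 2 n1697 = n1695 := d6_2 D1225 D1697 (iv D1695) (iv D1224) (iv D872) D871 D1223 F886
def n1698 : Q := act 0 n1226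
theorem D1698 : act 0 n1226 = n1698 := rfl
theorem F1249 : act 2 n1698 = n1228 := d1_2 (iv F888) D1698 (iv D1228)
theorem F1250 : act 3 n1659 = n1698 := d6_7 F888 (iv F632) F631 (iv D856) (iv F614) D1197 D1659 (iv D1698)
def n1699 : Q := act 3 n1226
theorem D1699 : act 3 n1226 = n1699 := rfl
theorem F1252 : act 1 n1699 = n1227 := d4_1 D1699 (iv D1227) D1226
theorem F1253 : act 2 n1699 = n1658 := d5_1 D1699 (iv D1658) F863 D1200 (iv F900) F901 (iv F1249) (iv F1250) (iv D1659) (iv D1197) F614 D856 (iv F631) F632 (iv F888)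
def n1700 : Q := act 2 n1227
theorem D1700 : act 2 n1227 = n1700 := rfl
theorem F1254 : act 0 n1700 = n1697 := d1_1 D1700 F1248 F1246
theorem F1255 : act 3 n1700 = n1693 := d5_2 D1227 D1700 (iv D1693) (iv D1223) (iv D871) D872 D1224 D1695 (iv F1248) (iv D1697) (iv D1225) (iv D873) (iv D610) D611 D874
def n1701 : Q := act 1 n1228
theorem D1701 : act 1 n1228 = n1701 := rfl
def n1702 : Q := act 1 n1229
theorem D1702 : act 1 n1229 = n1702 := rfl
def n1703 : Q := act 3 n1229
theorem D1703 : act 3 n1229 = n1703 := rfl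
theorem F1256 : act 0 n1703 = n1230 := d2_1 D1703 (iv D1230) D1229
def n1704 : Q := act 2 n1230
theorem D1704 : act 2 n1230 = n1704 := rfl
def n1705 : Q := act 1 n1231
theorem D1705 : act 1 n1231 = n1705 := rfl
def n1706 : Q := act 0 n1232
theorem D1706 : act 0 n1232 = n1706 := rfl
def n1707 : Q := act 3 n1232
theorem D1707 : act 3 n1232 = n1707 := rfl
theorem F1257 : act 1 n1707 = n1233 := d4_1 D1707 (iv D1233) D1232
def n1708 : Q := act 0 n1234
theorem D1708 : act 0 n1234 = n1708 := rfl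
def n1709 : Q := act 3 n1234
theorem D1709 : act 3 n1234 = n1709 := rfl
theorem F1258 : act 1 n1709 = n1235 := d4_1 D1709 (iv D1235) D1234
def n1710 : Q := act 1 n1236
theorem D1710 : act 1 n1236 = n1710 := rfl
def n1711 : Q := act 3 n1236
theorem D1711 : act 3 n1236 = n1711 := rfl
theorem F1259 : act 0 n1711 = n1237 := d2_1 D1711 (iv D1237) D1236
def n1712 : Q := act 2 n1237
theorem D1712 : act 2 n1237 = n1712 := rfl
def n1713 : Q := act 1 n1238
theorem D1713 : act 1 n1238 = n1713 := rfl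
theorem F1260 : act 3 n1713 = n1705 := d4_2 (iv F896) D1713 (iv D1705)
def n1714 : Q := act 2 n1239
theorem D1714 : act 2 n1239 = n1714 := rfl
theorem F1261 : act 0 n1714 = n1661 := d1_1 D1714 (iv D1661) (iv F897)
def n1715 : Q := act 3 n1239
theorem D1715 : act 3 n1239 = n1715 := rfl
theorem F1262 : act 0 n1715 = n1662 := d2_1 D1715 (iv D1662) (iv F897)
theorem F1263 : act 1 n1715 = n1240 := d4_1 D1715 (iv D1240) D1239
def n1716 : Q := act 2 n1240
theorem D1716 : act 2 n1240 = n1716 := rfl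
theorem F1264 : act 0 n1716 = n1241 := d1_1 D1716 (iv D1241) (iv F898)
def n1717 : Q := act 1 n1242
theorem D1717 : act 1 n1242 = n1717 := rfl
theorem F1265 : act 3 n1717 = n1701 := d4_2 (iv F901) D1717 (iv D1701)
def n1718 : Q := act 2 n1243
theorem D1718 : act 2 n1243 = n1718 := rfl
theorem F1266 : act 0 n1718 = n1315 := d1_1 D1718 (iv D1315) (iv F902)
def n1719 : Q := act 3 n1243
theorem D1719 : act 3 n1243 = n1719 := rfl
theorem F1267 : act 0 n1719 = n1316 := d2_1 D1719 (iv D1316) (iv F902)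
theorem F1268 : act 1 n1719 = n1244 := d4_1 D1719 (iv D1244) D1243
def n1720 : Q := act 2 n1244
theorem D1720 : act 2 n1244 = n1720 := rfl
theorem F1269 : act 0 n1720 = n1245 := d1_1 D1720 (iv D1245) (iv F903)
def n1721 : Q := act 1 n1245
theorem D1721 : act 1 n1245 = n1721 := rfl
theorem F1270 : act 2 n1721 = n1246 := d3_2 D1245 D1721 (iv D1246) (iv D887) (iv F633)
def n1722 : Q := act 3 n1245
theorem D1722 : act 3 n1245 = n1722 := rfl
def n1723 : Q := act 0 n1246
theorem D1723 : act 0 n1246 = n1723 := rfl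
def n1724 : Q := act 1 n1247
theorem D1724 : act 1 n1247 = n1724 := rfl
def n1725 : Q := act 3 n1247
theorem D1725 : act 3 n1247 = n1725 := rfl
theorem F1271 : act 0 n1725 = n1248 := d2_1 D1725 (iv D1248) D1247
def n1726 : Q := act 2 n1248
theorem D1726 : act 2 n1248 = n1726 := rfl
def n1727 : Q := act 1 n1249
theorem D1727 : act 1 n1249 = n1727 := rfl
def n1728 : Q := act 3 n1249
theorem D1728 : act 3 n1249 = n1728 := rfl
theorem F1272 : act 0 n1728 = n1250 := d2_1 D1728 (iv D1250) D1249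
def n1729 : Q := act 2 n1250
theorem D1729 : act 2 n1250 = n1729 := rfl
theorem F1273 : act 1 n1729 = n1726 := d3_1 D1729 (iv D1726) F904 (iv F637) (iv F906)
def n1730 : Q := act 0 n1251
theorem D1730 : act 0 n1251 = n1730 := rfl
def n1731 : Q := act 2 n1251
theorem D1731 : act 2 n1251 = n1731 := rfl
theorem F1274 : act 1 n1731 = n1256 := d3_1 D1731 (iv D1256) (iv D895) (iv F638) D1251
def n1732 : Q := act 3 n1251
theorem D1732 : act 3 n1251 = n1732 := rfl
theorem F1275 : act 1 n1732 = n1252 := d4_1 D1732 (iv D1252) D1251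
theorem F1276 : act 2 n1388 = n1732 := d3_0 F1275 F908 F716 D996 D1388
def n1733 : Q := act 1 n1253
theorem D1733 : act 1 n1253 = n1733 := rfl
theorem F1277 : act 2 n1733 = n1254 := d3_2 D1253 D1733 (iv D1254) (iv D894) (iv F639)
theorem F1278 : act 3 n1733 = n1387 := d4_2 (iv F910) D1733 (iv D1387)
def n1734 : Q := act 0 n1254
theorem D1734 : act 0 n1254 = n1734 := rfl
theorem F1279 : act 3 n1734 = n1723 := d2_2 (iv F911) D1734 (iv D1723)
def n1735 : Q := act 2 n1255
theorem D1735 : act 2 n1255 = n1735 := rfl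
theorem F1280 : act 0 n1735 = n1256 := d1_1 D1735 (iv D1256) D1255
def n1736 : Q := act 3 n1256
theorem D1736 : act 3 n1256 = n1736 := rfl
def n1737 : Q := act 1 n1257
theorem D1737 : act 1 n1257 = n1737 := rfl
def n1738 : Q := act 3 n1257
theorem D1738 : act 3 n1257 = n1738 := rfl
theorem F1281 : act 0 n1738 = n1259 := d2_1 D1738 (iv D1259) (iv F913)
def n1739 : Q := act 2 n1258
theorem D1739 : act 2 n1258 = n1739 := rfl
theorem F1282 : act 0 n1739 = n1260 := d1_1 D1739 (iv D1260) (iv F914)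
def n1740 : Q := act 2 n1259
theorem D1740 : act 2 n1259 = n1740 := rfl
def n1741 : Q := act 3 n1260
theorem D1741 : act 3 n1260 = n1741 := rfl
theorem F1283 : act 1 n1741 = n1628 := d4_1 D1741 (iv F1201) F1200
def n1742 : Q := act 0 n1261
theorem D1742 : act 0 n1261 = n1742 := rfl
theorem F1284 : act 2 n1742 = n1706 := d1_2 (iv F916) D1742 (iv D1706)
def n1743 : Q := act 3 n1261
theorem D1743 : act 3 n1261 = n1743 := rfl
theorem F1285 : act 1 n1743 = n1262 := d4_1 D1743 (iv D1262) D1261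
def n1744 : Q := act 1 n1263
theorem D1744 : act 1 n1263 = n1744 := rfl
def n1745 : Q := act 2 n1264
theorem D1745 : act 2 n1264 = n1745 := rfl
def n1746 : Q := act 1 n1265
theorem D1746 : act 1 n1265 = n1746 := rfl
theorem F1286 : act 2 n1746 = n1266 := d3_2 D1265 D1746 (iv D1266) (iv D903) (iv F646)
def n1748 : Q := act 0 n1266
theorem D1748 : act 0 n1266 = n1748 := rfl
def n1749 : Q := act 1 n1267
theorem D1749 : act 1 n1267 = n1749 := rfl
def n1750 : Q := act 3 n1267
theorem D1750 : act 3 n1267 = n1750 := rfl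
theorem F1287 : act 0 n1750 = n1268 := d2_1 D1750 (iv D1268) D1267
def n1751 : Q := act 2 n1268
theorem D1751 : act 2 n1268 = n1751 := rfl
def n1752 : Q := act 0 n1269
theorem D1752 : act 0 n1269 = n1752 := rfl
theorem F1288 : act 1 n1752 = n1275 := d0_2 D1269 D1752 (iv D1275) (iv D910) (iv D639) (iv D440) (iv F303) D636 D906
def n1753 : Q := act 2 n1269
theorem D1753 : act 2 n1269 = n1753 := rfl
def n1754 : Q := act 2 n1270
theorem D1754 : act 2 n1270 = n1754 := rfl
theorem F1289 : act 0 n1754 = n1271 := d1_1 D1754 (iv D1271) D1270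
def n1755 : Q := act 3 n1270
theorem D1755 : act 3 n1270 = n1755 := rfl
theorem F1291 : act 1 n1755 = n1281 := d4_1 D1755 (iv D1281) (iv F921)
def n1756 : Q := act 3 n1271
theorem D1756 : act 3 n1271 = n1756 := rfl
theorem F1292 : act 1 n1756 = n1354 := d4_1 D1756 (iv D1354) (iv F922)
def n1757 : Q := act 2 n1272
theorem D1757 : act 2 n1272 = n1757 := rfl
def n1758 : Q := act 1 n1273
theorem D1758 : act 1 n1273 = n1758 := rfl
def n1759 : Q := act 2 n1275
theorem D1759 : act 2 n1275 = n1759 := rfl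
theorem F1293 : act 0 n1759 = n1276 := d1_1 D1759 (iv D1276) D1275
def n1760 : Q := act 3 n1275
theorem D1760 : act 3 n1275 = n1760 := rfl
theorem F1294 : act 0 n1760 = n1277 := d2_1 D1760 (iv D1277) D1275
def n1761 : Q := act 3 n1276
theorem D1761 : act 3 n1276 = n1761 := rfl
def n1762 : Q := act 2 n1277
theorem D1762 : act 2 n1277 = n1762 := rfl
def n1763 : Q := act 1 n1278
theorem D1763 : act 1 n1278 = n1763 := rfl
def n1764 : Q := act 3 n1278
theorem D1764 : act 3 n1278 = n1764 := rfl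
theorem F1296 : act 2 n1764 = n1680 := d6_2 D1278 D1764 (iv D1680) (iv D1212) (iv D864) F423 D640 (iv F650)
def n1765 : Q := act 2 n1279
theorem D1765 : act 2 n1279 = n1765 := rfl
theorem F1298 : act 3 n1765 = n1679 := d5_2 D1279 D1765 (iv D1679) (iv D1211) F619 D911 D1278 D1764 F1296 (iv D1680) (iv D1212) (iv D864) F423 D640 D912
def n1766 : Q := act 1 n1280
theorem D1766 : act 1 n1280 = n1766 := rfl
def n1767 : Q := act 3 n1280
theorem D1767 : act 3 n1280 = n1767 := rfl
theorem F1299 : act 0 n1767 = n1282 := d2_1 D1767 (iv D1282) (iv F928)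
def n1768 : Q := act 2 n1281
theorem D1768 : act 2 n1281 = n1768 := rfl
theorem F1300 : act 0 n1768 = n1283 := d1_1 D1768 (iv D1283) (iv F929)
def n1769 : Q := act 2 n1282
theorem D1769 : act 2 n1282 = n1769 := rfl
def n1770 : Q := act 1 n1283
theorem D1770 : act 1 n1283 = n1770 := rfl
theorem F1301 : act 2 n1770 = n1284 := d3_2 D1283 D1770 (iv D1284) (iv D916) (iv F653)
def n1771 : Q := act 3 n1283
theorem D1771 : act 3 n1283 = n1771 := rfl
def n1772 : Q := act 0 n1284
theorem D1772 : act 0 n1284 = n1772 := rfl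
theorem F1302 : act 3 n1772 = n1716 := d2_2 (iv F931) D1772 F1264
def n1773 : Q := act 1 n1285
theorem D1773 : act 1 n1285 = n1773 := rfl
def n1774 : Q := act 3 n1285
theorem D1774 : act 3 n1285 = n1774 := rfl
def n1775 : Q := act 2 n1286
theorem D1775 : act 2 n1286 = n1775 := rfl
def n1776 : Q := act 0 n1287
theorem D1776 : act 0 n1287 = n1776 := rfl
theorem F1304 : act 1 n1776 = n1760 := d0_2 D1287 D1776 F1294 F925 F650 F447 (iv F309) D644 D919
theorem F1305 : act 3 n1776 = n1752 := d2_2 (iv F934) D1776 (iv D1752)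
def n1778 : Q := act 0 n1288
theorem D1778 : act 0 n1288 = n1778 := rfl
theorem F1306 : act 2 n1778 = n1296 := d1_2 (iv F935) D1778 (iv D1296)
def n1779 : Q := act 3 n1288
theorem D1779 : act 3 n1288 = n1779 := rfl
theorem F1307 : act 1 n1779 = n1289 := d4_1 D1779 (iv D1289) D1288
def n1780 : Q := act 2 n1289
theorem D1780 : act 2 n1289 = n1780 := rfl
theorem F1308 : act 0 n1780 = n1291 := d1_1 D1780 (iv D1291) (iv F936)
def n1781 : Q := act 1 n1290
theorem D1781 : act 1 n1290 = n1781 := rfl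
theorem F1309 : act 2 n1781 = n1299 := d3_2 D1290 D1781 (iv D1299) (iv D929) (iv F659)
def n1782 : Q := act 3 n1290
theorem D1782 : act 3 n1290 = n1782 := rfl
def n1783 : Q := act 1 n1291
theorem D1783 : act 1 n1291 = n1783 := rfl
def n1784 : Q := act 3 n1291
theorem D1784 : act 3 n1291 = n1784 := rfl
theorem F1311 : act 2 n1784 = n1782 := d6_2 D1291 D1784 (iv D1782) (iv D1290) (iv D921) D920 D1289 F936
def n1785 : Q := act 0 n1292
theorem D1785 : act 0 n1292 = n1785 := rfl
theorem F1312 : act 2 n1785 = n1294 := d1_2 (iv F938) D1785 (iv D1294)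
def n1786 : Q := act 3 n1292
theorem D1786 : act 3 n1292 = n1786 := rfl
theorem F1313 : act 1 n1786 = n1293 := d4_1 D1786 (iv D1293) D1292
def n1787 : Q := act 2 n1293
theorem D1787 : act 2 n1293 = n1787 := rfl
theorem F1315 : act 3 n1787 = n1780 := d5_2 D1293 D1787 (iv D1780) (iv D1289) (iv D920) D921 D1290 D1782 (iv F1311) (iv D1784) (iv D1291) (iv D922) (iv D646) D647 D923
def n1788 : Q := act 1 n1294
theorem D1788 : act 1 n1294 = n1788 := rfl
theorem F1316 : act 0 n1788 = n1701 := d0_1 D1788 (iv D1701) (iv D1228) (iv D875) F431 (iv F312) (iv F452) D924 D1294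
def n1789 : Q := act 3 n1294
theorem D1789 : act 3 n1294 = n1789 := rfl
theorem F1317 : act 0 n1789 = n1295 := d2_1 D1789 (iv D1295) D1294
def n1790 : Q := act 2 n1295
theorem D1790 : act 2 n1295 = n1790 := rfl
theorem F1318 : act 1 n1790 = n1775 := d3_1 D1790 (iv D1775) F933 (iv F661) (iv F939)
def n1791 : Q := act 1 n1296
theorem D1791 : act 1 n1296 = n1791 := rfl
theorem F1319 : act 0 n1791 = n1309 := d0_1 D1791 (iv D1309) (iv D937) (iv D657) F321 (iv F313) (iv F454) D927 D1296
def n1792 : Q := act 3 n1296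
theorem D1792 : act 3 n1296 = n1792 := rfl
theorem F1320 : act 0 n1792 = n1297 := d2_1 D1792 (iv D1297) D1296
def n1793 : Q := act 2 n1297
theorem D1793 : act 2 n1297 = n1793 := rfl
def n1794 : Q := act 0 n1299
theorem D1794 : act 0 n1299 = n1794 := rfl
def n1795 : Q := act 3 n1299
theorem D1795 : act 3 n1299 = n1795 := rfl
theorem F1321 : act 1 n1795 = n1300 := d4_1 D1795 (iv D1300) D1299
def n1796 : Q := act 0 n1301
theorem D1796 : act 0 n1301 = n1796 := rfl
theorem F1322 : act 2 n1796 = n1313 := d1_2 (iv F943) D1796 (iv D1313)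
def n1797 : Q := act 3 n1301
theorem D1797 : act 3 n1301 = n1797 := rfl
theorem F1323 : act 1 n1797 = n1302 := d4_1 D1797 (iv D1302) D1301
def n1798 : Q := act 2 n1304
theorem D1798 : act 2 n1304 = n1798 := rfl
theorem F1324 : act 0 n1798 = n1305 := d1_1 D1798 (iv D1305) D1304
def n1799 : Q := act 3 n1305
theorem D1799 : act 3 n1305 = n1799 := rfl
theorem F1325 : act 1 n1799 = n1308 := d4_1 D1799 (iv D1308) (iv F948)
def n1800 : Q := act 2 n1306
theorem D1800 : act 2 n1306 = n1800 := rfl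
def n1801 : Q := act 1 n1307
theorem D1801 : act 1 n1307 = n1801 := rfl
theorem F1326 : act 2 n1801 = n1694 := d3_2 D1307 D1801 (iv D1694) (iv D1224) (iv F669)
def n1802 : Q := act 3 n1307
theorem D1802 : act 3 n1307 = n1802 := rfl
theorem F1327 : act 0 n1802 = n1308 := d2_1 D1802 (iv D1308) (iv F950)
def n1803 : Q := act 2 n1308
theorem D1803 : act 2 n1308 = n1803 := rfl
def n1804 : Q := act 2 n1309
theorem D1804 : act 2 n1309 = n1804 := rfl
theorem F1328 : act 1 n1804 = n1390 := d3_1 D1804 (iv D1390) (iv D998) (iv F671) D1309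
def n1805 : Q := act 3 n1309
theorem D1805 : act 3 n1309 = n1805 := rfl
theorem F1329 : act 1 n1805 = n1310 := d4_1 D1805 (iv D1310) D1309
def n1806 : Q := act 2 n1310
theorem D1806 : act 2 n1310 = n1806 := rfl
theorem F1330 : act 0 n1806 = n1311 := d1_1 D1806 (iv D1311) (iv F951)
def n1807 : Q := act 1 n1311
theorem D1807 : act 1 n1311 = n1807 := rfl
theorem F1331 : act 2 n1807 = n1312 := d3_2 D1311 D1807 (iv D1312) (iv D939) (iv F672)
def n1808 : Q := act 3 n1311
theorem D1808 : act 3 n1311 = n1808 := rfl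
def n1809 : Q := act 0 n1312
theorem D1809 : act 0 n1312 = n1809 := rfl
theorem F1332 : act 3 n1809 = n1451 := d2_2 (iv F952) D1809 (iv D1451)
def n1810 : Q := act 1 n1313
theorem D1810 : act 1 n1313 = n1810 := rfl
def n1811 : Q := act 3 n1313
theorem D1811 : act 3 n1313 = n1811 := rfl
theorem F1333 : act 0 n1811 = n1314 := d2_1 D1811 (iv D1314) D1313
def n1812 : Q := act 2 n1314
theorem D1812 : act 2 n1314 = n1812 := rfl
theorem F1334 : act 1 n1812 = n1450 := d3_1 D1812 (iv D1450) F745 (iv F676) (iv F953)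
def n1813 : Q := act 3 n1315
theorem D1813 : act 3 n1315 = n1813 := rfl
theorem F1335 : act 1 n1813 = n1414 := d4_1 D1813 (iv D1414) (iv F954)
def n1814 : Q := act 2 n1316
theorem D1814 : act 2 n1316 = n1814 := rfl
def n1815 : Q := act 1 n1317
theorem D1815 : act 1 n1317 = n1815 := rfl
def n1816 : Q := act 0 n1318
theorem D1816 : act 0 n1318 = n1816 := rfl
theorem F1336 : act 2 n1816 = n1320 := d1_2 (iv F957) D1816 (iv D1320)
def n1817 : Q := act 3 n1318
theorem D1817 : act 3 n1318 = n1817 := rfl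
theorem F1337 : act 1 n1817 = n1319 := d4_1 D1817 (iv D1319) D1318
def n1818 : Q := act 1 n1320
theorem D1818 : act 1 n1320 = n1818 := rfl
def n1819 : Q := act 0 n1321
theorem D1819 : act 0 n1321 = n1819 := rfl
theorem F1338 : act 1 n1819 = n1327 := d0_2 D1321 D1819 (iv D1327) (iv D950) (iv D667) (iv D461) (iv F324) D663 D946
def n1820 : Q := act 2 n1321
theorem D1820 : act 2 n1321 = n1820 := rfl
theorem F1339 : act 1 n1820 = n1423 := d3_1 D1820 (iv D1423) (iv D1020) (iv F678) D1321
def n1821 : Q := act 3 n1321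
theorem D1821 : act 3 n1321 = n1821 := rfl
theorem F1340 : act 1 n1821 = n1322 := d4_1 D1821 (iv D1322) D1321
def n1822 : Q := act 2 n1322
theorem D1822 : act 2 n1322 = n1822 := rfl
theorem F1341 : act 0 n1822 = n1323 := d1_1 D1822 (iv D1323) (iv F958)
def n1823 : Q := act 3 n1323
theorem D1823 : act 3 n1323 = n1823 := rfl
def n1824 : Q := act 0 n1324
theorem D1824 : act 0 n1324 = n1824 := rfl
def n1825 : Q := act 2 n1324
theorem D1825 : act 2 n1324 = n1825 := rfl
def n1826 : Q := act 3 n1324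
theorem D1826 : act 3 n1324 = n1826 := rfl
theorem F1342 : act 1 n1826 = n1325 := d4_1 D1826 (iv D1325) D1324
def n1827 : Q := act 2 n1325
theorem D1827 : act 2 n1325 = n1827 := rfl
theorem F1343 : act 0 n1827 = n1326 := d1_1 D1827 (iv D1326) (iv F959)
def n1828 : Q := act 3 n1326
theorem D1828 : act 3 n1326 = n1828 := rfl
theorem F1344 : act 1 n1828 = n1823 := d4_1 D1828 (iv D1823) (iv F960)
def n1829 : Q := act 2 n1327
theorem D1829 : act 2 n1327 = n1829 := rfl
theorem F1345 : act 0 n1829 = n1328 := d1_1 D1829 (iv D1328) D1327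
def n1830 : Q := act 3 n1327
theorem D1830 : act 3 n1327 = n1830 := rfl
def n1831 : Q := act 3 n1328
theorem D1831 : act 3 n1328 = n1831 := rfl
theorem F1347 : act 1 n1831 = n1334 := d4_1 D1831 (iv D1334) (iv F961)
def n1832 : Q := act 2 n1329
theorem D1832 : act 2 n1329 = n1832 := rfl
def n1833 : Q := act 0 n1331
theorem D1833 : act 0 n1331 = n1833 := rfl
theorem F1348 : act 2 n1833 = n1333 := d1_2 (iv F964) D1833 (iv D1333)
def n1834 : Q := act 3 n1331
theorem D1834 : act 3 n1331 = n1834 := rfl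
theorem F1349 : act 1 n1834 = n1332 := d4_1 D1834 (iv D1332) D1331
def n1835 : Q := act 1 n1333
theorem D1835 : act 1 n1333 = n1835 := rfl
def n1836 : Q := act 2 n1334
theorem D1836 : act 2 n1334 = n1836 := rfl
def n1837 : Q := act 1 n1335
theorem D1837 : act 1 n1335 = n1837 := rfl
theorem F1351 : act 2 n1837 = n1336 := d3_2 D1335 D1837 (iv D1336) (iv D956) (iv F683)
def n1838 : Q := act 3 n1335
theorem D1838 : act 3 n1335 = n1838 := rfl
def n1839 : Q := act 0 n1336
theorem D1839 : act 0 n1336 = n1839 := rfl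
def n1840 : Q := act 3 n1336
theorem D1840 : act 3 n1336 = n1840 := rfl
theorem F1352 : act 1 n1840 = n1337 := d4_1 D1840 (iv D1337) D1336
def n1841 : Q := act 2 n1339
theorem D1841 : act 2 n1339 = n1841 := rfl
theorem F1353 : act 0 n1841 = n1340 := d1_1 D1841 (iv D1340) D1339
def n1842 : Q := act 3 n1340
theorem D1842 : act 3 n1340 = n1842 := rfl
def n1843 : Q := act 1 n1341
theorem D1843 : act 1 n1341 = n1843 := rfl
def n1844 : Q := act 0 n1342
theorem D1844 : act 0 n1342 = n1844 := rfl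
theorem F1354 : act 2 n1844 = n1344 := d1_2 (iv F974) D1844 (iv D1344)
def n1845 : Q := act 3 n1342
theorem D1845 : act 3 n1342 = n1845 := rfl
theorem F1355 : act 1 n1845 = n1343 := d4_1 D1845 (iv D1343) D1342
def n1846 : Q := act 1 n1344
theorem D1846 : act 1 n1344 = n1846 := rfl
def n1847 : Q := act 3 n1344
theorem D1847 : act 3 n1344 = n1847 := rfl
theorem F1356 : act 0 n1847 = n1345 := d2_1 D1847 (iv D1345) D1344
def n1848 : Q := act 2 n1345
theorem D1848 : act 2 n1345 = n1848 := rfl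
theorem F1357 : act 1 n1848 = n1751 := d3_1 D1848 (iv D1751) F920 (iv F690) (iv F976)
def n1849 : Q := act 0 n1346
theorem D1849 : act 0 n1346 = n1849 := rfl
def n1850 : Q := act 2 n1346
theorem D1850 : act 2 n1346 = n1850 := rfl
theorem F1358 : act 1 n1850 = n1351 := d3_1 D1850 (iv D1351) (iv D966) (iv F691) D1346
def n1851 : Q := act 3 n1346
theorem D1851 : act 3 n1346 = n1851 := rfl
theorem F1359 : act 1 n1851 = n1347 := d4_1 D1851 (iv D1347) D1346
def n1852 : Q := act 2 n1347
theorem D1852 : act 2 n1347 = n1852 := rfl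
theorem F1360 : act 0 n1852 = n1348 := d1_1 D1852 (iv D1348) (iv F977)
theorem F1361 : act 3 n1852 = n1371 := d6_1 D1852 (iv D1371) (iv D982) F487 F334 (iv F479) D964 (iv F977)
theorem F1362 : act 1 n1534 = n1852 := d4_3 F1361 F994 D1534
def n1853 : Q := act 1 n1348
theorem D1853 : act 1 n1348 = n1853 := rfl
theorem F1363 : act 2 n1853 = n1349 := d3_2 D1348 D1853 (iv D1349) (iv D965) (iv F692)
def n1854 : Q := act 3 n1348
theorem D1854 : act 3 n1348 = n1854 := rfl
theorem F1365 : act 2 n1854 = n1370 := d5_1 D1854 (iv D1370) F705 F490 (iv F691) D1347 D1852 F1361 (iv D1371) (iv D982) F487 F334 (iv F479) D964 D1348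
def n1855 : Q := act 0 n1349
theorem D1855 : act 0 n1349 = n1855 := rfl
theorem F1366 : act 3 n1855 = n1748 := d2_2 (iv F978) D1855 (iv D1748)
def n1856 : Q := act 2 n1350
theorem D1856 : act 2 n1350 = n1856 := rfl
theorem F1367 : act 0 n1856 = n1351 := d1_1 D1856 (iv D1351) D1350
def n1857 : Q := act 3 n1351
theorem D1857 : act 3 n1351 = n1857 := rfl
def n1858 : Q := act 1 n1352
theorem D1858 : act 1 n1352 = n1858 := rfl
theorem F1368 : act 2 n1858 = n1364 := d3_2 D1352 D1858 (iv D1364) (iv D977) (iv F695)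
def n1859 : Q := act 3 n1352
theorem D1859 : act 3 n1352 = n1859 := rfl
theorem F1369 : act 0 n1859 = n1354 := d2_1 D1859 (iv D1354) (iv F980)
def n1860 : Q := act 2 n1353
theorem D1860 : act 2 n1353 = n1860 := rfl
theorem F1370 : act 0 n1860 = n1355 := d1_1 D1860 (iv D1355) (iv F981)
def n1861 : Q := act 2 n1354
theorem D1861 : act 2 n1354 = n1861 := rfl
def n1862 : Q := act 1 n1355
theorem D1862 : act 1 n1355 = n1862 := rfl
theorem F1371 : act 2 n1862 = n1356 := d3_2 D1355 D1862 (iv D1356) (iv D970) (iv F696)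
def n1863 : Q := act 3 n1355
theorem D1863 : act 3 n1355 = n1863 := rfl
def n1864 : Q := act 0 n1356
theorem D1864 : act 0 n1356 = n1864 := rfl
def n1865 : Q := act 3 n1356
theorem D1865 : act 3 n1356 = n1865 := rfl
theorem F1372 : act 1 n1865 = n1357 := d4_1 D1865 (iv D1357) D1356
def n1866 : Q := act 1 n1358
theorem D1866 : act 1 n1358 = n1866 := rfl
theorem F1373 : act 2 n1866 = n1482 := d3_2 D1358 D1866 F1082 F759 F701
theorem F1374 : act 3 n1866 = n1758 := d4_2 (iv F986) D1866 (iv D1758)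
def n1867 : Q := act 1 n1359
theorem D1867 : act 1 n1359 = n1867 := rfl
def n1868 : Q := act 3 n1359
theorem D1868 : act 3 n1359 = n1868 := rfl
theorem F1375 : act 0 n1868 = n1361 := d2_1 D1868 (iv D1361) (iv F987)
def n1869 : Q := act 2 n1360
theorem D1869 : act 2 n1360 = n1869 := rfl
theorem F1376 : act 0 n1869 = n1362 := d1_1 D1869 (iv D1362) (iv F988)
def n1870 : Q := act 2 n1361
theorem D1870 : act 2 n1361 = n1870 := rfl
def n1871 : Q := act 1 n1362
theorem D1871 : act 1 n1362 = n1871 := rfl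
theorem F1377 : act 2 n1871 = n1363 := d3_2 D1362 D1871 (iv D1363) (iv D975) (iv F699)
def n1872 : Q := act 3 n1362
theorem D1872 : act 3 n1362 = n1872 := rfl
def n1873 : Q := act 0 n1363
theorem D1873 : act 0 n1363 = n1873 := rfl
def n1874 : Q := act 0 n1364
theorem D1874 : act 0 n1364 = n1874 := rfl
def n1875 : Q := act 3 n1364
theorem D1875 : act 3 n1364 = n1875 := rfl
theorem F1378 : act 1 n1875 = n1365 := d4_1 D1875 (iv D1365) D1364
def n1876 : Q := act 2 n1365
theorem D1876 : act 2 n1365 = n1876 := rfl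
theorem F1379 : act 0 n1876 = n1367 := d1_1 D1876 (iv D1367) (iv F990)
def n1877 : Q := act 1 n1366
theorem D1877 : act 1 n1366 = n1877 := rfl
def n1878 : Q := act 3 n1366
theorem D1878 : act 3 n1366 = n1878 := rfl
theorem F1380 : act 0 n1878 = n1368 := d2_1 D1878 (iv D1368) (iv F991)
def n1879 : Q := act 1 n1367
theorem D1879 : act 1 n1367 = n1879 := rfl
theorem F1381 : act 2 n1879 = n1377 := d3_2 D1367 D1879 (iv D1377) (iv D986) (iv F704)
def n1880 : Q := act 3 n1367
theorem D1880 : act 3 n1367 = n1880 := rfl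
theorem F1382 : act 2 n1880 = n1878 := d6_2 D1367 D1880 (iv D1878) (iv D1366) (iv D978) D977 D1365 F990
def n1881 : Q := act 2 n1368
theorem D1881 : act 2 n1368 = n1881 := rfl
theorem F1383 : act 0 n1881 = n1880 := d1_1 D1881 F1382 F1380
theorem F1384 : act 1 n1881 = n1558 := d3_1 D1881 (iv D1558) F804 D1123 (iv F992)
theorem F1385 : act 3 n1881 = n1876 := d5_2 D1368 D1881 (iv D1876) (iv D1365) (iv D977) D978 D1366 D1878 (iv F1382) (iv D1880) (iv D1367) (iv D979) (iv D687) D688 D980
def n1882 : Q := act 0 n1369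
theorem D1882 : act 0 n1369 = n1882 := rfl
def n1883 : Q := act 2 n1369
theorem D1883 : act 2 n1369 = n1883 := rfl
theorem F1386 : act 1 n1883 = n1373 := d3_1 D1883 (iv D1373) (iv D983) (iv F705) D1369
def n1884 : Q := act 3 n1369
theorem D1884 : act 3 n1369 = n1884 := rfl
theorem F1387 : act 1 n1884 = n1370 := d4_1 D1884 (iv D1370) D1369
def n1885 : Q := act 2 n1372
theorem D1885 : act 2 n1372 = n1885 := rfl
theorem F1388 : act 0 n1885 = n1373 := d1_1 D1885 (iv D1373) D1372
def n1886 : Q := act 3 n1373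
theorem D1886 : act 3 n1373 = n1886 := rfl
def n1887 : Q := act 1 n1374
theorem D1887 : act 1 n1374 = n1887 := rfl
def n1888 : Q := act 3 n1374
theorem D1888 : act 3 n1374 = n1888 := rfl
def n1889 : Q := act 2 n1375
theorem D1889 : act 2 n1375 = n1889 := rfl
def n1890 : Q := act 1 n1376
theorem D1890 : act 1 n1376 = n1890 := rfl
theorem F1390 : act 3 n1890 = n1537 := d4_2 (iv F1000) D1890 (iv D1537)
def n1891 : Q := act 0 n1377
theorem D1891 : act 0 n1377 = n1891 := rfl
def n1892 : Q := act 3 n1377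
theorem D1892 : act 3 n1377 = n1892 := rfl
theorem F1391 : act 1 n1892 = n1378 := d4_1 D1892 (iv D1378) D1377
def n1893 : Q := act 2 n1379
theorem D1893 : act 2 n1379 = n1893 := rfl
theorem F1392 : act 0 n1893 = n1390 := d1_1 D1893 (iv D1390) (iv F1003)
def n1894 : Q := act 3 n1379
theorem D1894 : act 3 n1379 = n1894 := rfl
theorem F1393 : act 0 n1894 = n1391 := d2_1 D1894 (iv D1391) (iv F1003)
theorem F1394 : act 1 n1894 = n1380 := d4_1 D1894 (iv D1380) D1379
def n1895 : Q := act 2 n1380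
theorem D1895 : act 2 n1380 = n1895 := rfl
def n1896 : Q := act 1 n1381
theorem D1896 : act 1 n1381 = n1896 := rfl
theorem F1396 : act 2 n1896 = n1382 := d3_2 D1381 D1896 (iv D1382) (iv D989) (iv F710)
def n1897 : Q := act 3 n1381
theorem D1897 : act 3 n1381 = n1897 := rfl
def n1898 : Q := act 0 n1382
theorem D1898 : act 0 n1382 = n1898 := rfl
def n1899 : Q := act 1 n1383
theorem D1899 : act 1 n1383 = n1899 := rfl
def n1900 : Q := act 3 n1383
theorem D1900 : act 3 n1383 = n1900 := rfl
theorem F1397 : act 0 n1900 = n1384 := d2_1 D1900 (iv D1384) D1383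
def n1901 : Q := act 2 n1384
theorem D1901 : act 2 n1384 = n1901 := rfl
def n1902 : Q := act 1 n1385
theorem D1902 : act 1 n1385 = n1902 := rfl
def n1903 : Q := act 3 n1385
theorem D1903 : act 3 n1385 = n1903 := rfl
theorem F1398 : act 0 n1903 = n1386 := d2_1 D1903 (iv D1386) D1385
def n1904 : Q := act 2 n1386
theorem D1904 : act 2 n1386 = n1904 := rfl
theorem F1399 : act 1 n1904 = n1901 := d3_1 D1904 (iv D1901) F1005 (iv F714) (iv F1007)
def n1905 : Q := act 0 n1387
theorem D1905 : act 0 n1387 = n1905 := rfl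
def n1906 : Q := act 2 n1387
theorem D1906 : act 2 n1387 = n1906 := rfl
theorem F1400 : act 1 n1906 = n1389 := d3_1 D1906 (iv D1389) (iv D997) (iv F715) D1387
def n1907 : Q := act 0 n1388
theorem D1907 : act 0 n1388 = n1907 := rfl
theorem F1401 : act 3 n1907 = n1898 := d2_2 (iv F1008) D1907 (iv D1898)
def n1908 : Q := act 3 n1389
theorem D1908 : act 3 n1389 = n1908 := rfl
def n1909 : Q := act 3 n1390
theorem D1909 : act 3 n1390 = n1909 := rfl
def n1910 : Q := act 2 n1391
theorem D1910 : act 2 n1391 = n1910 := rfl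
def n1911 : Q := act 1 n1392
theorem D1911 : act 1 n1392 = n1911 := rfl
def n1912 : Q := act 3 n1392
theorem D1912 : act 3 n1392 = n1912 := rfl
theorem F1403 : act 2 n1912 = n1808 := d6_2 D1392 D1912 (iv D1808) (iv D1311) (iv D938) F460 D703 (iv F719)
def n1913 : Q := act 0 n1393
theorem D1913 : act 0 n1393 = n1913 := rfl
theorem F1404 : act 2 n1913 = n1395 := d1_2 (iv F1011) D1913 (iv D1395)
def n1914 : Q := act 3 n1393
theorem D1914 : act 3 n1393 = n1914 := rfl
theorem F1405 : act 1 n1914 = n1394 := d4_1 D1914 (iv D1394) D1393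
def n1915 : Q := act 2 n1394
theorem D1915 : act 2 n1394 = n1915 := rfl
theorem F1407 : act 3 n1915 = n1806 := d5_2 D1394 D1915 (iv D1806) (iv D1310) F671 D999 D1392 D1912 F1403 (iv D1808) (iv D1311) (iv D938) F460 D703 D1000
def n1916 : Q := act 1 n1395
theorem D1916 : act 1 n1395 = n1916 := rfl
def n1917 : Q := act 0 n1396
theorem D1917 : act 0 n1396 = n1917 := rfl
theorem F1408 : act 1 n1917 = n1402 := d0_2 D1396 D1917 (iv D1402) (iv D1006) (iv D709) (iv D489) (iv F340) D705 D1002
def n1918 : Q := act 2 n1396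
theorem D1918 : act 2 n1396 = n1918 := rfl
def n1919 : Q := act 3 n1396
theorem D1919 : act 3 n1396 = n1919 := rfl
theorem F1409 : act 1 n1919 = n1397 := d4_1 D1919 (iv D1397) D1396
def n1920 : Q := act 2 n1397
theorem D1920 : act 2 n1397 = n1920 := rfl
theorem F1410 : act 0 n1920 = n1398 := d1_1 D1920 (iv D1398) (iv F1012)
def n1921 : Q := act 3 n1398
theorem D1921 : act 3 n1398 = n1921 := rfl
def n1922 : Q := act 0 n1399
theorem D1922 : act 0 n1399 = n1922 := rfl
def n1923 : Q := act 2 n1399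
theorem D1923 : act 2 n1399 = n1923 := rfl
def n1924 : Q := act 3 n1399
theorem D1924 : act 3 n1399 = n1924 := rfl
theorem F1411 : act 1 n1924 = n1400 := d4_1 D1924 (iv D1400) D1399
def n1925 : Q := act 2 n1400
theorem D1925 : act 2 n1400 = n1925 := rfl
theorem F1412 : act 0 n1925 = n1401 := d1_1 D1925 (iv D1401) (iv F1013)
def n1926 : Q := act 3 n1401
theorem D1926 : act 3 n1401 = n1926 := rfl
theorem F1413 : act 1 n1926 = n1921 := d4_1 D1926 (iv D1921) (iv F1014)
def n1927 : Q := act 2 n1402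
theorem D1927 : act 2 n1402 = n1927 := rfl
theorem F1414 : act 0 n1927 = n1403 := d1_1 D1927 (iv D1403) D1402
def n1928 : Q := act 3 n1402
theorem D1928 : act 3 n1402 = n1928 := rfl
theorem F1415 : act 0 n1928 = n1404 := d2_1 D1928 (iv D1404) D1402
def n1929 : Q := act 3 n1403
theorem D1929 : act 3 n1403 = n1929 := rfl
theorem F1416 : act 1 n1929 = n1409 := d4_1 D1929 (iv D1409) (iv F1015)
def n1930 : Q := act 2 n1404
theorem D1930 : act 2 n1404 = n1930 := rfl
theorem F1417 : act 1 n1930 = n1491 := d3_1 D1930 (iv D1491) F1019 (iv D1405) (iv F1016)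
def n1931 : Q := act 0 n1406
theorem D1931 : act 0 n1406 = n1931 := rfl
theorem F1418 : act 2 n1931 = n1408 := d1_2 (iv F1020) D1931 (iv D1408)
def n1932 : Q := act 3 n1406
theorem D1932 : act 3 n1406 = n1932 := rfl
theorem F1419 : act 1 n1932 = n1407 := d4_1 D1932 (iv D1407) D1406
def n1933 : Q := act 1 n1408
theorem D1933 : act 1 n1408 = n1933 := rfl
theorem F1420 : act 3 n1933 = n1916 := d4_2 (iv F1023) D1933 (iv D1916)
def n1934 : Q := act 2 n1409
theorem D1934 : act 2 n1409 = n1934 := rfl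
def n1935 : Q := act 1 n1410
theorem D1935 : act 1 n1410 = n1935 := rfl
theorem F1422 : act 2 n1935 = n1411 := d3_2 D1410 D1935 (iv D1411) (iv D1012) (iv F726)
def n1936 : Q := act 3 n1410
theorem D1936 : act 3 n1410 = n1936 := rfl
theorem F1423 : act 0 n1936 = n1838 := d2_1 D1936 (iv D1838) (iv F1025)
def n1937 : Q := act 0 n1411
theorem D1937 : act 0 n1411 = n1937 := rfl
def n1938 : Q := act 2 n1412
theorem D1938 : act 2 n1412 = n1938 := rfl
theorem F1424 : act 0 n1938 = n1413 := d1_1 D1938 (iv D1413) D1412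
def n1939 : Q := act 3 n1413
theorem D1939 : act 3 n1413 = n1939 := rfl
theorem F1425 : act 1 n1939 = n1842 := d4_1 D1939 (iv D1842) (iv F1028)
def n1940 : Q := act 2 n1414
theorem D1940 : act 2 n1414 = n1940 := rfl
def n1941 : Q := act 1 n1415
theorem D1941 : act 1 n1415 = n1941 := rfl
theorem F1427 : act 2 n1941 = n1416 := d3_2 D1415 D1941 (iv D1416) (iv D1016) (iv F731)
def n1942 : Q := act 3 n1415
theorem D1942 : act 3 n1415 = n1942 := rfl
def n1943 : Q := act 0 n1416
theorem D1943 : act 0 n1416 = n1943 := rfl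
def n1944 : Q := act 3 n1416
theorem D1944 : act 3 n1416 = n1944 := rfl
theorem F1429 : act 1 n1944 = n1417 := d4_1 D1944 (iv D1417) D1416
def n1945 : Q := act 1 n1418
theorem D1945 : act 1 n1418 = n1945 := rfl
def n1946 : Q := act 3 n1418
theorem D1946 : act 3 n1418 = n1946 := rfl
def n1947 : Q := act 2 n1419
theorem D1947 : act 2 n1419 = n1947 := rfl
def n1948 : Q := act 1 n1420
theorem D1948 : act 1 n1420 = n1948 := rfl
theorem F1431 : act 3 n1948 = n1815 := d4_2 (iv F1036) D1948 (iv D1815)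
def n1949 : Q := act 0 n1421
theorem D1949 : act 0 n1421 = n1949 := rfl
theorem F1432 : act 1 n1949 = n1427 := d0_2 D1421 D1949 (iv D1427) (iv D1023) (iv D722) (iv D499) (iv F346) D719 D1019
def n1950 : Q := act 2 n1421
theorem D1950 : act 2 n1421 = n1950 := rfl
def n1951 : Q := act 2 n1422
theorem D1951 : act 2 n1422 = n1951 := rfl
theorem F1433 : act 0 n1951 = n1423 := d1_1 D1951 (iv D1423) D1422
def n1952 : Q := act 3 n1422
theorem D1952 : act 3 n1422 = n1952 := rfl
theorem F1434 : act 0 n1952 = n1424 := d2_1 D1952 (iv D1424) D1422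
theorem F1435 : act 1 n1952 = n1433 := d4_1 D1952 (iv D1433) (iv F1037)
def n1953 : Q := act 3 n1423
theorem D1953 : act 3 n1423 = n1953 := rfl
def n1954 : Q := act 2 n1424
theorem D1954 : act 2 n1424 = n1954 := rfl
def n1955 : Q := act 1 n1425
theorem D1955 : act 1 n1425 = n1955 := rfl
def n1956 : Q := act 3 n1425
theorem D1956 : act 3 n1425 = n1956 := rfl
theorem F1436 : act 0 n1956 = n1426 := d2_1 D1956 (iv D1426) (iv F1039)
theorem F1437 : act 2 n1956 = n1823 := d6_2 D1425 D1956 (iv D1823) (iv D1323) (iv D947) F465 D721 (iv F734)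
def n1957 : Q := act 2 n1426
theorem D1957 : act 2 n1426 = n1957 := rfl
theorem F1438 : act 0 n1957 = n1823 := d1_1 D1957 (iv F1437) F1436
theorem F1439 : act 3 n1957 = n1822 := d5_2 D1426 D1957 (iv D1822) (iv D1322) F678 D1021 D1425 D1956 F1437 (iv D1823) (iv D1323) (iv D947) F465 D721 D1022
def n1958 : Q := act 2 n1427
theorem D1958 : act 2 n1427 = n1958 := rfl
theorem F1440 : act 0 n1958 = n1428 := d1_1 D1958 (iv D1428) D1427
def n1959 : Q := act 3 n1427
theorem D1959 : act 3 n1427 = n1959 := rfl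
theorem F1441 : act 0 n1959 = n1429 := d2_1 D1959 (iv D1429) D1427
def n1960 : Q := act 3 n1428
theorem D1960 : act 3 n1428 = n1960 := rfl
theorem F1442 : act 1 n1960 = n1587 := d4_1 D1960 (iv D1587) (iv F1040)
def n1961 : Q := act 2 n1429
theorem D1961 : act 2 n1429 = n1961 := rfl
def n1962 : Q := act 1 n1430
theorem D1962 : act 1 n1430 = n1962 := rfl
def n1963 : Q := act 1 n1432
theorem D1963 : act 1 n1432 = n1963 := rfl
def n1964 : Q := act 3 n1432
theorem D1964 : act 3 n1432 = n1964 := rfl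
theorem F1443 : act 0 n1964 = n1434 := d2_1 D1964 (iv D1434) (iv F1044)
def n1965 : Q := act 2 n1434
theorem D1965 : act 2 n1434 = n1965 := rfl
def n1966 : Q := act 1 n1435
theorem D1966 : act 1 n1435 = n1966 := rfl
def n1967 : Q := act 0 n1436
theorem D1967 : act 0 n1436 = n1967 := rfl
theorem F1445 : act 3 n1967 = n1949 := d2_2 (iv F1048) D1967 (iv D1949)
def n1968 : Q := act 2 n1436
theorem D1968 : act 2 n1436 = n1968 := rfl
def n1969 : Q := act 0 n1437
theorem D1969 : act 0 n1437 = n1969 := rfl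
theorem F1446 : act 2 n1969 = n1440 := d1_2 (iv F1049) D1969 (iv D1440)
def n1970 : Q := act 3 n1437
theorem D1970 : act 3 n1437 = n1970 := rfl
theorem F1447 : act 1 n1970 = n1438 := d4_1 D1970 (iv D1438) D1437
def n1971 : Q := act 2 n1438
theorem D1971 : act 2 n1438 = n1971 := rfl
theorem F1448 : act 0 n1971 = n1439 := d1_1 D1971 (iv D1439) (iv F1050)
theorem F1449 : act 3 n1971 = n1612 := d6_1 D1971 (iv D1612) (iv D1164) (iv D828) F406 D729 D1032 (iv F1050)
def n1972 : Q := act 1 n1439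
theorem D1972 : act 1 n1439 = n1972 := rfl
def n1973 : Q := act 3 n1439
theorem D1973 : act 3 n1439 = n1973 := rfl
theorem F1450 : act 0 n1973 = n1612 := d2_1 D1973 (iv F1449) F1448
theorem F1451 : act 2 n1973 = n1611 := d5_1 D1973 (iv D1611) (iv D1163) F590 D1031 D1438 D1971 F1449 (iv D1612) (iv D1164) (iv D828) F406 D729 D1032 D1439
def n1974 : Q := act 1 n1440
theorem D1974 : act 1 n1440 = n1974 := rfl
theorem F1452 : act 0 n1974 = n1448 := d0_1 D1974 (iv D1448) (iv D1038) (iv D734) F356 (iv F354) (iv F516) D1033 D1440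
def n1975 : Q := act 3 n1440
theorem D1975 : act 3 n1440 = n1975 := rfl
theorem F1453 : act 0 n1975 = n1441 := d2_1 D1975 (iv D1441) D1440
def n1976 : Q := act 2 n1441
theorem D1976 : act 2 n1441 = n1976 := rfl
def n1977 : Q := act 1 n1442
theorem D1977 : act 1 n1442 = n1977 := rfl
theorem F1454 : act 3 n1977 = n1684 := d4_2 F1057 D1977 F1238
def n1978 : Q := act 0 n1443
theorem D1978 : act 0 n1443 = n1978 := rfl
def n1979 : Q := act 3 n1443
theorem D1979 : act 3 n1443 = n1979 := rfl
theorem F1455 : act 1 n1979 = n1444 := d4_1 D1979 (iv D1444) D1443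
def n1980 : Q := act 0 n1445
theorem D1980 : act 0 n1445 = n1980 := rfl
theorem F1456 : act 2 n1980 = n1451 := d1_2 (iv F1054) D1980 (iv D1451)
def n1981 : Q := act 3 n1445
theorem D1981 : act 3 n1445 = n1981 := rfl
theorem F1457 : act 1 n1981 = n1446 := d4_1 D1981 (iv D1446) D1445
def n1982 : Q := act 2 n1448
theorem D1982 : act 2 n1448 = n1982 := rfl
theorem F1458 : act 1 n1982 = n1918 := d3_1 D1982 (iv D1918) (iv D1396) (iv F744) D1448
def n1983 : Q := act 3 n1448
theorem D1983 : act 3 n1448 = n1983 := rfl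
theorem F1459 : act 1 n1983 = n1449 := d4_1 D1983 (iv D1449) D1448
def n1984 : Q := act 2 n1449
theorem D1984 : act 2 n1449 = n1984 := rfl
theorem F1460 : act 0 n1984 = n1450 := d1_1 D1984 (iv D1450) (iv F1058)
def n1985 : Q := act 3 n1450
theorem D1985 : act 3 n1450 = n1985 := rfl
def n1987 : Q := act 0 n1452
theorem D1987 : act 0 n1452 = n1987 := rfl
def n1988 : Q := act 3 n1452
theorem D1988 : act 3 n1452 = n1988 := rfl
theorem F1462 : act 1 n1988 = n1453 := d4_1 D1988 (iv D1453) D1452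
def n1989 : Q := act 1 n1454
theorem D1989 : act 1 n1454 = n1989 := rfl
def n1990 : Q := act 3 n1454
theorem D1990 : act 3 n1454 = n1990 := rfl
def n1991 : Q := act 2 n1455
theorem D1991 : act 2 n1455 = n1991 := rfl
def n1992 : Q := act 1 n1456
theorem D1992 : act 1 n1456 = n1992 := rfl
theorem F1464 : act 3 n1992 = n1843 := d4_2 (iv F1064) D1992 (iv D1843)
def n1993 : Q := act 0 n1457
theorem D1993 : act 0 n1457 = n1993 := rfl
theorem F1465 : act 1 n1993 = n1460 := d0_2 D1457 D1993 (iv D1460) (iv D1046) (iv D741) (iv D513) (iv F359) D739 D1044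
def n1994 : Q := act 2 n1457
theorem D1994 : act 2 n1457 = n1994 := rfl
def n1995 : Q := act 3 n1457
theorem D1995 : act 3 n1457 = n1995 := rfl
theorem F1466 : act 1 n1995 = n1458 := d4_1 D1995 (iv D1458) D1457
def n1996 : Q := act 2 n1458
theorem D1996 : act 2 n1458 = n1996 := rfl
theorem F1467 : act 0 n1996 = n1459 := d1_1 D1996 (iv D1459) (iv F1065)
def n1997 : Q := act 3 n1459
theorem D1997 : act 3 n1459 = n1997 := rfl
theorem F1468 : act 1 n1997 = n1464 := d4_1 D1997 (iv D1464) (iv F1066)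
def n1998 : Q := act 2 n1460
theorem D1998 : act 2 n1460 = n1998 := rfl
theorem F1469 : act 0 n1998 = n1461 := d1_1 D1998 (iv D1461) D1460
def n1999 : Q := act 3 n1460
theorem D1999 : act 3 n1460 = n1999 := rfl
theorem F1470 : act 0 n1999 = n1462 := d2_1 D1999 (iv D1462) D1460
def n2000 : Q := act 3 n1461
theorem D2000 : act 3 n1461 = n2000 := rfl
theorem F1471 : act 1 n2000 = n1466 := d4_1 D2000 (iv D1466) (iv F1067)
def n2001 : Q := act 2 n1462
theorem D2001 : act 2 n1462 = n2001 := rfl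
def n2002 : Q := act 1 n1465
theorem D2002 : act 1 n1465 = n2002 := rfl
theorem F1472 : act 2 n2002 = n1475 := d3_2 D1465 D2002 (iv D1475) (iv D1057) (iv F749)
def n2003 : Q := act 3 n1465
theorem D2003 : act 3 n1465 = n2003 := rfl
theorem F1473 : act 0 n2003 = n1466 := d2_1 D2003 (iv D1466) (iv F1073)
def n2004 : Q := act 2 n1466
theorem D2004 : act 2 n1466 = n2004 := rfl
def n2006 : Q := act 3 n1467
theorem D2006 : act 3 n1467 = n2006 := rfl
theorem F1475 : act 1 n2006 = n1468 := d4_1 D2006 (iv D1468) D1467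
def n2007 : Q := act 2 n1468
theorem D2007 : act 2 n1468 = n2007 := rfl
def n2008 : Q := act 1 n1469
theorem D2008 : act 1 n1469 = n2008 := rfl
theorem F1477 : act 2 n2008 = n1487 := d3_2 D1469 D2008 (iv D1487) (iv D1066) (iv F752)
def n2009 : Q := act 3 n1469
theorem D2009 : act 3 n1469 = n2009 := rfl
def n2010 : Q := act 1 n1470
theorem D2010 : act 1 n1470 = n2010 := rfl
theorem F1479 : act 2 n2010 = n2010 := d3_2 D1470 D2010 (iv D2010) (iv D1470) F753
def n2011 : Q := act 3 n1470
theorem D2011 : act 3 n1470 = n2011 := rfl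
theorem F1480 : act 2 n2011 = n2009 := d6_2 D1470 D2011 (iv D2009) (iv D1469) (iv D1052) D1051 D1468 F1075
def n2012 : Q := act 0 n1471
theorem D2012 : act 0 n1471 = n2012 := rfl
theorem F1481 : act 2 n2012 = n1473 := d1_2 (iv F1077) D2012 (iv D1473)
def n2013 : Q := act 3 n1471
theorem D2013 : act 3 n1471 = n2013 := rfl
theorem F1482 : act 1 n2013 = n1472 := d4_1 D2013 (iv D1472) D1471
def n2014 : Q := act 2 n1472
theorem D2014 : act 2 n1472 = n2014 := rfl
theorem F1484 : act 3 n2014 = n2007 := d5_2 D1472 D2014 (iv D2007) (iv D1468) (iv D1051) D1052 D1469 D2009 (iv F1480) (iv D2011) (iv D1470) (iv D1053) (iv D745) D746 D1054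
def n2015 : Q := act 1 n1473
theorem D2015 : act 1 n1473 = n2015 := rfl
def n2016 : Q := act 3 n1473
theorem D2016 : act 3 n1473 = n2016 := rfl
theorem F1485 : act 0 n2016 = n1474 := d2_1 D2016 (iv D1474) D1473
def n2017 : Q := act 0 n1475
theorem D2017 : act 0 n1475 = n2017 := rfl
def n2018 : Q := act 3 n1475
theorem D2018 : act 3 n1475 = n2018 := rfl
theorem F1486 : act 1 n2018 = n1476 := d4_1 D2018 (iv D1476) D1475
def n2019 : Q := act 2 n1476
theorem D2019 : act 2 n1476 = n2019 := rfl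
theorem F1487 : act 0 n2019 = n1478 := d1_1 D2019 (iv D1478) (iv F1079)
def n2020 : Q := act 1 n1477
theorem D2020 : act 1 n1477 = n2020 := rfl
def n2021 : Q := act 3 n1477
theorem D2021 : act 3 n1477 = n2021 := rfl
def n2022 : Q := act 1 n1478
theorem D2022 : act 1 n1478 = n2022 := rfl
def n2023 : Q := act 3 n1478
theorem D2023 : act 3 n1478 = n2023 := rfl
theorem F1489 : act 2 n2023 = n2021 := d6_2 D1478 D2023 (iv D2021) (iv D1477) (iv D1058) D1057 D1476 F1079
def n2024 : Q := act 0 n1479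
theorem D2024 : act 0 n1479 = n2024 := rfl
theorem F1490 : act 2 n2024 = n1481 := d1_2 (iv F1081) D2024 (iv D1481)
def n2025 : Q := act 3 n1479
theorem D2025 : act 3 n1479 = n2025 := rfl
theorem F1491 : act 1 n2025 = n1480 := d4_1 D2025 (iv D1480) D1479
def n2026 : Q := act 2 n1480
theorem D2026 : act 2 n1480 = n2026 := rfl
theorem F1493 : act 3 n2026 = n2019 := d5_2 D1480 D2026 (iv D2019) (iv D1476) (iv D1057) D1058 D1477 D2021 (iv F1489) (iv D2023) (iv D1478) (iv D1059) (iv D750) D751 D1060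
def n2027 : Q := act 1 n1481
theorem D2027 : act 1 n1481 = n2027 := rfl
theorem F1494 : act 0 n2027 = n2015 := d0_1 D2027 (iv D2015) (iv D1473) (iv D1055) F529 (iv F363) (iv F531) D1061 D1481
def n2028 : Q := act 3 n1481
theorem D2028 : act 3 n1481 = n2028 := rfl
theorem F1495 : act 0 n2028 = n1482 := d2_1 D2028 (iv D1482) D1481
def n2029 : Q := act 0 n1483
theorem D2029 : act 0 n1483 = n2029 := rfl
theorem F1496 : act 2 n2029 = n2016 := d1_2 (iv F1083) D2029 F1485
theorem F1497 : act 3 n2029 = n1873 := d2_2 (iv F1084) D2029 (iv D1873)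
def n2030 : Q := act 1 n1484
theorem D2030 : act 1 n1484 = n2030 := rfl
theorem F1498 : act 0 n2030 = n1498 := d0_1 D2030 (iv D1498) (iv D1076) (iv D762) F369 (iv F364) (iv F533) D1064 D1484
def n2031 : Q := act 3 n1484
theorem D2031 : act 3 n1484 = n2031 := rfl
theorem F1499 : act 0 n2031 = n1485 := d2_1 D2031 (iv D1485) D1484
def n2032 : Q := act 2 n1485
theorem D2032 : act 2 n1485 = n2032 := rfl
def n2033 : Q := act 1 n1486
theorem D2033 : act 1 n1486 = n2033 := rfl
theorem F1500 : act 3 n2033 = n1930 := d4_2 F1091 D2033 F1417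
def n2034 : Q := act 0 n1487
theorem D2034 : act 0 n1487 = n2034 := rfl
def n2035 : Q := act 3 n1487
theorem D2035 : act 3 n1487 = n2035 := rfl
theorem F1501 : act 1 n2035 = n1488 := d4_1 D2035 (iv D1488) D1487
def n2036 : Q := act 0 n1489
theorem D2036 : act 0 n1489 = n2036 := rfl
theorem F1502 : act 2 n2036 = n1504 := d1_2 (iv F1088) D2036 (iv D1504)
def n2037 : Q := act 3 n1489
theorem D2037 : act 3 n1489 = n2037 := rfl
theorem F1503 : act 1 n2037 = n1490 := d4_1 D2037 (iv D1490) D1489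
def n2038 : Q := act 0 n1492
theorem D2038 : act 0 n1492 = n2038 := rfl
theorem F1504 : act 1 n2038 = n1493 := d0_2 D1492 D2038 (iv D1493) (iv D1071) (iv D759) (iv D526) (iv F366) D758 D1070
theorem F1505 : act 3 n2038 = n1937 := d2_2 (iv F1092) D2038 (iv D1937)
def n2039 : Q := act 2 n1492
theorem D2039 : act 2 n1492 = n2039 := rfl
def n2040 : Q := act 2 n1493
theorem D2040 : act 2 n1493 = n2040 := rfl
theorem F1506 : act 0 n2040 = n1494 := d1_1 D2040 (iv D1494) D1493
def n2041 : Q := act 3 n1493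
theorem D2041 : act 3 n1493 = n2041 := rfl
theorem F1507 : act 0 n2041 = n1495 := d2_1 D2041 (iv D1495) D1493
theorem F1508 : act 1 n2041 = n1937 := d4_1 D2041 (iv F1505) F1504
def n2042 : Q := act 3 n1494
theorem D2042 : act 3 n1494 = n2042 := rfl
theorem F1509 : act 1 n2042 = n1497 := d4_1 D2042 (iv D1497) (iv F1093)
def n2043 : Q := act 2 n1495
theorem D2043 : act 2 n1495 = n2043 := rfl
def n2044 : Q := act 1 n1496
theorem D2044 : act 1 n1496 = n2044 := rfl
theorem F1510 : act 2 n2044 = n2020 := d3_2 D1496 D2044 (iv D2020) (iv D1477) (iv F767)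
def n2045 : Q := act 3 n1496
theorem D2045 : act 3 n1496 = n2045 := rfl
theorem F1511 : act 0 n2045 = n1497 := d2_1 D2045 (iv D1497) (iv F1095)
def n2046 : Q := act 2 n1497
theorem D2046 : act 2 n1497 = n2046 := rfl
def n2047 : Q := act 2 n1498
theorem D2047 : act 2 n1498 = n2047 := rfl
theorem F1512 : act 1 n2047 = n1513 := d3_1 D2047 (iv D1513) (iv D1089) (iv F769) D1498
def n2048 : Q := act 3 n1498
theorem D2048 : act 3 n1498 = n2048 := rfl
theorem F1513 : act 1 n2048 = n1499 := d4_1 D2048 (iv D1499) D1498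
def n2049 : Q := act 2 n1499
theorem D2049 : act 2 n1499 = n2049 := rfl
def n2050 : Q := act 1 n1500
theorem D2050 : act 1 n1500 = n2050 := rfl
theorem F1515 : act 2 n2050 = n1501 := d3_2 D1500 D2050 (iv D1501) (iv D1078) (iv F770)
def n2051 : Q := act 3 n1500
theorem D2051 : act 3 n1500 = n2051 := rfl
def n2052 : Q := act 0 n1501
theorem D2052 : act 0 n1501 = n2052 := rfl
def n2053 : Q := act 1 n1502
theorem D2053 : act 1 n1502 = n2053 := rfl
def n2054 : Q := act 3 n1502
theorem D2054 : act 3 n1502 = n2054 := rfl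
def n2055 : Q := act 2 n1503
theorem D2055 : act 2 n1503 = n2055 := rfl
def n2056 : Q := act 1 n1504
theorem D2056 : act 1 n1504 = n2056 := rfl
def n2057 : Q := act 3 n1504
theorem D2057 : act 3 n1504 = n2057 := rfl
theorem F1517 : act 0 n2057 = n1505 := d2_1 D2057 (iv D1505) D1504
def n2058 : Q := act 2 n1505
theorem D2058 : act 2 n1505 = n2058 := rfl
theorem F1518 : act 1 n2058 = n2055 := d3_1 D2058 (iv D2055) F1098 (iv F774) (iv F1099)
def n2059 : Q := act 0 n1506
theorem D2059 : act 0 n1506 = n2059 := rfl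
def n2060 : Q := act 2 n1506
theorem D2060 : act 2 n1506 = n2060 := rfl
theorem F1519 : act 1 n2060 = n1510 := d3_1 D2060 (iv D1510) (iv D1086) (iv F775) D1506
def n2061 : Q := act 3 n1506
theorem D2061 : act 3 n1506 = n2061 := rfl
theorem F1520 : act 1 n2061 = n1507 := d4_1 D2061 (iv D1507) D1506
def n2062 : Q := act 2 n1507
theorem D2062 : act 2 n1507 = n2062 := rfl
theorem F1521 : act 0 n2062 = n1508 := d1_1 D2062 (iv D1508) (iv F1100)
def n2063 : Q := act 1 n1508
theorem D2063 : act 1 n1508 = n2063 := rfl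
theorem F1522 : act 2 n2063 = n1509 := d3_2 D1508 D2063 (iv D1509) (iv D1085) (iv F776)
def n2064 : Q := act 3 n1508
theorem D2064 : act 3 n1508 = n2064 := rfl
def n2065 : Q := act 0 n1509
theorem D2065 : act 0 n1509 = n2065 := rfl
theorem F1523 : act 3 n2065 = n2052 := d2_2 (iv F1101) D2065 (iv D2052)
def n2066 : Q := act 3 n1510
theorem D2066 : act 3 n1510 = n2066 := rfl
theorem F1524 : act 0 n2066 = n1908 := d2_1 D2066 (iv D1908) (iv F1102)
def n2067 : Q := act 1 n1511
theorem D2067 : act 1 n1511 = n2067 := rfl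
def n2068 : Q := act 3 n1511
theorem D2068 : act 3 n1511 = n2068 := rfl
theorem F1525 : act 0 n2068 = n1512 := d2_1 D2068 (iv D1512) (iv F1103)
theorem F1526 : act 2 n2068 = n2064 := d6_2 D1511 D2068 (iv D2064) (iv D1508) (iv D1084) F543 D769 (iv F780)
def n2069 : Q := act 2 n1512
theorem D2069 : act 2 n1512 = n2069 := rfl
theorem F1527 : act 0 n2069 = n2064 := d1_1 D2069 (iv F1526) F1525
theorem F1528 : act 1 n2069 = n2001 := d3_1 D2069 (iv D2001) F1068 D1463 (iv F1104)
theorem F1529 : act 3 n2069 = n2062 := d5_2 D1512 D2069 (iv D2062) (iv D1507) F775 D1087 D1511 D2068 F1526 (iv D2064) (iv D1508) (iv D1084) F543 D769 D1088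
def n2070 : Q := act 3 n1513
theorem D2070 : act 3 n1513 = n2070 := rfl
theorem F1530 : act 0 n2070 = n1538 := d2_1 D2070 (iv D1538) (iv F1105)
def n2071 : Q := act 2 n1514
theorem D2071 : act 2 n1514 = n2071 := rfl
theorem F1531 : act 0 n2071 = n1539 := d1_1 D2071 (iv D1539) (iv F1106)
def n2072 : Q := act 1 n1515
theorem D2072 : act 1 n1515 = n2072 := rfl
def n2073 : Q := act 3 n1515
theorem D2073 : act 3 n1515 = n2073 := rfl
theorem F1532 : act 0 n2073 = n1517 := d2_1 D2073 (iv D1517) (iv F1108)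
theorem F1533 : act 2 n2073 = n2051 := d6_2 D1515 D2073 (iv D2051) (iv D1500) (iv D1077) F540 D771 (iv F783)
def n2074 : Q := act 0 n1516
theorem D2074 : act 0 n1516 = n2074 := rfl
theorem F1534 : act 2 n2074 = n1518 := d1_2 (iv F1109) D2074 (iv D1518)
theorem F1535 : act 3 n1965 = n2074 := d6_7 F1109 (iv F789) F788 (iv D1028) D1027 D1434 D1965 (iv D2074)
def n2075 : Q := act 3 n1516
theorem D2075 : act 3 n1516 = n2075 := rfl
theorem F1536 : act 0 n2075 = n1965 := d2_1 D2075 F1535 (iv D2074)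
theorem F1537 : act 1 n2075 = n1517 := d4_1 D2075 (iv D1517) D1516
theorem F1538 : act 2 n2075 = n1964 := d5_1 D2075 (iv D1964) (iv D1432) D1433 (iv F1115) F1116 (iv F1534) (iv F1535) (iv D1965) (iv D1434) (iv D1027) D1028 (iv F788) F789 (iv F1109)
def n2076 : Q := act 2 n1517
theorem D2076 : act 2 n1517 = n2076 := rfl
theorem F1539 : act 0 n2076 = n2051 := d1_1 D2076 (iv F1533) F1532
theorem F1540 : act 3 n2076 = n2049 := d5_2 D1517 D2076 (iv D2049) (iv D1499) F769 D1090 D1515 D2073 F1533 (iv D2051) (iv D1500) (iv D1077) F540 D771 D1091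
def n2077 : Q := act 1 n1518
theorem D2077 : act 1 n1518 = n2077 := rfl
def n2078 : Q := act 0 n1519
theorem D2078 : act 0 n1519 = n2078 := rfl
theorem F1541 : act 1 n2078 = n1525 := d0_2 D1519 D2078 (iv D1525) (iv D1097) (iv D777) (iv D540) (iv F377) D773 D1093
theorem F1542 : act 3 n1966 = n2078 := d4_0 F1541 F1113 D1966
def n2079 : Q := act 2 n1519
theorem D2079 : act 2 n1519 = n2079 := rfl
def n2080 : Q := act 3 n1519
theorem D2080 : act 3 n1519 = n2080 := rfl
theorem F1543 : act 0 n2080 = n1966 := d2_1 D2080 F1542 (iv D2078)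
theorem F1544 : act 1 n2080 = n1520 := d4_1 D2080 (iv D1520) D1519
def n2081 : Q := act 2 n1520
theorem D2081 : act 2 n1520 = n2081 := rfl
theorem F1545 : act 0 n2081 = n1521 := d1_1 D2081 (iv D1521) (iv F1110)
def n2082 : Q := act 3 n1521
theorem D2082 : act 3 n1521 = n2082 := rfl
def n2083 : Q := act 0 n1522
theorem D2083 : act 0 n1522 = n2083 := rfl
def n2084 : Q := act 2 n1522
theorem D2084 : act 2 n1522 = n2084 := rfl
theorem F1546 : act 1 n2084 = n1551 := d3_1 D2084 (iv D1551) (iv D1117) (iv F785) D1522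
def n2085 : Q := act 3 n1522
theorem D2085 : act 3 n1522 = n2085 := rfl
theorem F1547 : act 1 n2085 = n1523 := d4_1 D2085 (iv D1523) D1522
def n2086 : Q := act 2 n1523
theorem D2086 : act 2 n1523 = n2086 := rfl
theorem F1548 : act 0 n2086 = n1524 := d1_1 D2086 (iv D1524) (iv F1111)
def n2087 : Q := act 3 n1524
theorem D2087 : act 3 n1524 = n2087 := rfl
theorem F1549 : act 1 n2087 = n2082 := d4_1 D2087 (iv D2082) (iv F1112)
def n2088 : Q := act 2 n1525
theorem D2088 : act 2 n1525 = n2088 := rfl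
theorem F1550 : act 0 n2088 = n1526 := d1_1 D2088 (iv D1526) D1525
theorem F1551 : act 3 n2088 = n1947 := d6_1 D2088 (iv D1947) (iv D1419) F733 (iv F514) (iv F739) (iv F787) D1525
def n2089 : Q := act 3 n1526
theorem D2089 : act 3 n1526 = n2089 := rfl
theorem F1553 : act 1 n2089 = n1529 := d4_1 D2089 (iv D1529) (iv F1114)
theorem F1554 : act 2 n2089 = n1946 := d5_1 D2089 (iv D1946) F1033 (iv F740) (iv F1047) (iv F1113) D2088 F1551 (iv D1947) (iv D1419) F733 (iv F514) (iv F739) (iv F787) D1526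
def n2090 : Q := act 1 n1527
theorem D2090 : act 1 n1527 = n2090 := rfl
def n2091 : Q := act 1 n1528
theorem D2091 : act 1 n1528 = n2091 := rfl
theorem F1556 : act 2 n2091 = n1530 := d3_2 D1528 D2091 (iv D1530) (iv D1101) (iv F790)
def n2092 : Q := act 3 n1528
theorem D2092 : act 3 n1528 = n2092 := rfl
theorem F1557 : act 0 n2092 = n1529 := d2_1 D2092 (iv D1529) (iv F1117)
def n2093 : Q := act 2 n1529
theorem D2093 : act 2 n1529 = n2093 := rfl
def n2094 : Q := act 0 n1530
theorem D2094 : act 0 n1530 = n2094 := rfl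
def n2095 : Q := act 3 n1530
theorem D2095 : act 3 n1530 = n2095 := rfl
theorem F1558 : act 1 n2095 = n1531 := d4_1 D2095 (iv D1531) D1530
def n2096 : Q := act 2 n1531
theorem D2096 : act 2 n1531 = n2096 := rfl
theorem F1559 : act 0 n2096 = n1533 := d1_1 D2096 (iv D1533) (iv F1118)
def n2097 : Q := act 1 n1532
theorem D2097 : act 1 n1532 = n2097 := rfl
def n2098 : Q := act 3 n1532
theorem D2098 : act 3 n1532 = n2098 := rfl
theorem F1560 : act 0 n2098 = n1534 := d2_1 D2098 (iv D1534) (iv F1119)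
def n2099 : Q := act 1 n1533
theorem D2099 : act 1 n1533 = n2099 := rfl
theorem F1561 : act 2 n2099 = n1537 := d3_2 D1533 D2099 (iv D1537) (iv D1107) (iv F793)
def n2100 : Q := act 3 n1533
theorem D2100 : act 3 n1533 = n2100 := rfl
theorem F1562 : act 2 n2100 = n2098 := d6_2 D1533 D2100 (iv D2098) (iv D1532) (iv D1102) D1101 D1531 F1118
def n2101 : Q := act 2 n1534
theorem D2101 : act 2 n1534 = n2101 := rfl
theorem F1563 : act 0 n2101 = n2100 := d1_1 D2101 F1562 F1560
theorem F1564 : act 3 n2101 = n2096 := d5_2 D1534 D2101 (iv D2096) (iv D1531) (iv D1101) D1102 D1532 D2098 (iv F1562) (iv D2100) (iv D1533) (iv D1103) (iv D782) D783 D1104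
def n2102 : Q := act 1 n1535
theorem D2102 : act 1 n1535 = n2102 := rfl
def n2103 : Q := act 3 n1535
theorem D2103 : act 3 n1535 = n2103 := rfl
theorem F1565 : act 0 n2103 = n1536 := d2_1 D2103 (iv D1536) D1535
def n2104 : Q := act 2 n1536
theorem D2104 : act 2 n1536 = n2104 := rfl
def n2105 : Q := act 0 n1537
theorem D2105 : act 0 n1537 = n2105 := rfl
def n2106 : Q := act 2 n1538
theorem D2106 : act 2 n1538 = n2106 := rfl
def n2107 : Q := act 1 n1539
theorem D2107 : act 1 n1539 = n2107 := rfl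
theorem F1566 : act 2 n2107 = n1540 := d3_2 D1539 D2107 (iv D1540) (iv D1110) (iv F797)
def n2108 : Q := act 3 n1539
theorem D2108 : act 3 n1539 = n2108 := rfl
def n2109 : Q := act 0 n1540
theorem D2109 : act 0 n1540 = n2109 := rfl
def n2110 : Q := act 3 n1540
theorem D2110 : act 3 n1540 = n2110 := rfl
theorem F1567 : act 1 n2110 = n1541 := d4_1 D2110 (iv D1541) D1540
def n2111 : Q := act 1 n1542
theorem D2111 : act 1 n1542 = n2111 := rfl
def n2112 : Q := act 3 n1542
theorem D2112 : act 3 n1542 = n2112 := rfl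
theorem F1568 : act 0 n2112 = n1543 := d2_1 D2112 (iv D1543) D1542
def n2113 : Q := act 2 n1543
theorem D2113 : act 2 n1543 = n2113 := rfl
def n2114 : Q := act 0 n1544
theorem D2114 : act 0 n1544 = n2114 := rfl
theorem F1569 : act 1 n2114 = n1550 := d0_2 D1544 D2114 (iv D1550) (iv D1117) (iv D792) (iv D553) (iv F384) D789 D1113
def n2115 : Q := act 2 n1544
theorem D2115 : act 2 n1544 = n2115 := rfl
def n2116 : Q := act 2 n1545
theorem D2116 : act 2 n1545 = n2116 := rfl
theorem F1570 : act 0 n2116 = n1546 := d1_1 D2116 (iv D1546) D1545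
def n2117 : Q := act 3 n1545
theorem D2117 : act 3 n1545 = n2117 := rfl
theorem F1571 : act 0 n2117 = n1547 := d2_1 D2117 (iv D1547) D1545
theorem F1572 : act 1 n2117 = n1556 := d4_1 D2117 (iv D1556) (iv F1127)
def n2118 : Q := act 3 n1546
theorem D2118 : act 3 n1546 = n2118 := rfl
def n2119 : Q := act 2 n1547
theorem D2119 : act 2 n1547 = n2119 := rfl
def n2120 : Q := act 1 n1548
theorem D2120 : act 1 n1548 = n2120 := rfl
def n2121 : Q := act 3 n1548
theorem D2121 : act 3 n1548 = n2121 := rfl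
theorem F1575 : act 2 n2121 = n1549 := d6_2 D1548 D2121 (iv D1549) (iv D1116) (iv D791) F385 D791 (iv F800)
def n2122 : Q := act 2 n1550
theorem D2122 : act 2 n1550 = n2122 := rfl
def n2123 : Q := act 3 n1550
theorem D2123 : act 3 n1550 = n2123 := rfl
theorem F1577 : act 0 n2123 = n1552 := d2_1 D2123 (iv D1552) D1550
def n2124 : Q := act 3 n1551
theorem D2124 : act 3 n1551 = n2124 := rfl
def n2125 : Q := act 2 n1552
theorem D2125 : act 2 n1552 = n2125 := rfl
def n2126 : Q := act 1 n1553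
theorem D2126 : act 1 n1553 = n2126 := rfl
def n2127 : Q := act 3 n1553
theorem D2127 : act 3 n1553 = n2127 := rfl
theorem F1578 : act 0 n2127 = n1554 := d2_1 D2127 (iv D1554) (iv F1132)
theorem F1579 : act 2 n2127 = n2087 := d6_2 D1553 D2127 (iv D2087) (iv D1524) (iv D1096) F548 D793 (iv F801)
def n2128 : Q := act 2 n1554
theorem D2128 : act 2 n1554 = n2128 := rfl
theorem F1580 : act 0 n2128 = n2087 := d1_1 D2128 (iv F1579) F1578
theorem F1581 : act 3 n2128 = n2086 := d5_2 D1554 D2128 (iv D2086) (iv D1523) F785 D1118 D1553 D2127 F1579 (iv D2087) (iv D1524) (iv D1096) F548 D793 D1119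
def n2129 : Q := act 1 n1555
theorem D2129 : act 1 n1555 = n2129 := rfl
def n2130 : Q := act 3 n1555
theorem D2130 : act 3 n1555 = n2130 := rfl
theorem F1582 : act 0 n2130 = n1557 := d2_1 D2130 (iv D1557) (iv F1134)
def n2131 : Q := act 2 n1556
theorem D2131 : act 2 n1556 = n2131 := rfl
theorem F1583 : act 0 n2131 = n1558 := d1_1 D2131 (iv D1558) (iv F1135)
def n2132 : Q := act 2 n1557
theorem D2132 : act 2 n1557 = n2132 := rfl
def n2133 : Q := act 3 n1558
theorem D2133 : act 3 n1558 = n2133 := rfl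
theorem F1584 : act 1 n2133 = n1876 := d4_1 D2133 (iv F1385) F1384
def n2134 : Q := act 1 n1559
theorem D2134 : act 1 n1559 = n2134 := rfl
def n2135 : Q := act 3 n1559
theorem D2135 : act 3 n1559 = n2135 := rfl
theorem F1585 : act 0 n2135 = n1560 := d2_1 D2135 (iv D1560) D1559
def n2136 : Q := act 2 n1560
theorem D2136 : act 2 n1560 = n2136 := rfl
def n2137 : Q := act 0 n1561
theorem D2137 : act 0 n1561 = n2137 := rfl
theorem F1586 : act 1 n2137 = n2123 := d0_2 D1561 D2137 F1577 F1131 F801 F563 (iv F390) D797 D1126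
theorem F1587 : act 3 n2137 = n2114 := d2_2 (iv F1139) D2137 (iv D2114)
def n2138 : Q := act 2 n1561
theorem D2138 : act 2 n1561 = n2138 := rfl
def n2139 : Q := act 1 n1562
theorem D2139 : act 1 n1562 = n2139 := rfl
def n2140 : Q := act 0 n1563
theorem D2140 : act 0 n1563 = n2140 := rfl
theorem F1588 : act 2 n2140 = n1565 := d1_2 (iv F1141) D2140 (iv D1565)
def n2141 : Q := act 3 n1563
theorem D2141 : act 3 n1563 = n2141 := rfl
theorem F1589 : act 1 n2141 = n1564 := d4_1 D2141 (iv D1564) D1563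
def n2142 : Q := act 1 n1565
theorem D2142 : act 1 n1565 = n2142 := rfl
theorem F1590 : act 0 n2142 = n1884 := d0_1 D2142 F1387 F993 F706 F488 (iv F394) (iv F569) D1129 D1565
theorem F1591 : act 3 n1882 = n2142 := d2_0 F1590 (iv D1884) D1882
def n2143 : Q := act 3 n1565
theorem D2143 : act 3 n1565 = n2143 := rfl
theorem F1592 : act 0 n2143 = n1566 := d2_1 D2143 (iv D1566) D1565
theorem F1593 : act 1 n2143 = n1882 := d4_1 D2143 F1591 (iv D2142)
def n2144 : Q := act 2 n1566
theorem D2144 : act 2 n1566 = n2144 := rfl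
theorem F1594 : act 1 n2144 = n2136 := d3_1 D2144 (iv D2136) F1138 (iv F811) (iv F1143)
def n2145 : Q := act 1 n1567
theorem D2145 : act 1 n1567 = n2145 := rfl
theorem F1595 : act 2 n2145 = n2097 := d3_2 D1567 D2145 (iv D2097) (iv D1532) (iv F815)
def n2146 : Q := act 3 n1567
theorem D2146 : act 3 n1567 = n2146 := rfl
theorem F1596 : act 0 n2146 = n1568 := d2_1 D2146 (iv D1568) (iv F1144)
def n2147 : Q := act 2 n1568
theorem D2147 : act 2 n1568 = n2147 := rfl
def n2148 : Q := act 1 n1569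
theorem D2148 : act 1 n1569 = n2148 := rfl
theorem F1597 : act 2 n2148 = n2148 := d3_2 D1569 D2148 (iv D2148) (iv D1569) F818
def n2149 : Q := act 3 n1569
theorem D2149 : act 3 n1569 = n2149 := rfl
theorem F1598 : act 2 n2149 = n1942 := d6_2 D1569 D2149 (iv D1942) (iv D1415) (iv D1015) D1014 D1414 F1029
def n2150 : Q := act 0 n1570
theorem D2150 : act 0 n1570 = n2150 := rfl
theorem F1599 : act 2 n2150 = n1572 := d1_2 (iv F1146) D2150 (iv D1572)
def n2151 : Q := act 3 n1570
theorem D2151 : act 3 n1570 = n2151 := rfl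
theorem F1600 : act 1 n2151 = n1571 := d4_1 D2151 (iv D1571) D1570
def n2152 : Q := act 2 n1571
theorem D2152 : act 2 n1571 = n2152 := rfl
theorem F1602 : act 3 n2152 = n1940 := d5_2 D1571 D2152 (iv D1940) (iv D1414) (iv D1014) D1015 D1415 D1942 (iv F1598) (iv D2149) (iv D1569) (iv D1134) (iv D803) D804 D1135
def n2153 : Q := act 1 n1572
theorem D2153 : act 1 n1572 = n2153 := rfl
def n2154 : Q := act 3 n1572
theorem D2154 : act 3 n1572 = n2154 := rfl
theorem F1603 : act 0 n2154 = n1573 := d2_1 D2154 (iv D1573) D1572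
def n2155 : Q := act 2 n1573
theorem D2155 : act 2 n1573 = n2155 := rfl
theorem F1604 : act 1 n2155 = n1576 := d3_1 D2155 (iv D1576) F822 (iv F820) (iv F1147)
def n2156 : Q := act 0 n1574
theorem D2156 : act 0 n1574 = n2156 := rfl
def n2157 : Q := act 2 n1574
theorem D2157 : act 2 n1574 = n2157 := rfl
theorem F1605 : act 1 n2157 = n1578 := d3_1 D2157 (iv D1578) (iv D1140) (iv F821) D1574
def n2158 : Q := act 3 n1574
theorem D2158 : act 3 n1574 = n2158 := rfl
theorem F1606 : act 1 n2158 = n1575 := d4_1 D2158 (iv D1575) D1574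
def n2159 : Q := act 2 n1575
theorem D2159 : act 2 n1575 = n2159 := rfl
theorem F1607 : act 0 n2159 = n1576 := d1_1 D2159 (iv D1576) (iv F1148)
theorem F1608 : act 3 n2159 = n1599 := d6_1 D2159 (iv D1599) (iv D1156) F582 F402 (iv F575) D1139 (iv F1148)
def n2160 : Q := act 3 n1576
theorem D2160 : act 3 n1576 = n2160 := rfl
theorem F1609 : act 0 n2160 = n1599 := d2_1 D2160 (iv F1608) F1607
theorem F1610 : act 2 n2160 = n1598 := d5_1 D2160 (iv D1598) F833 F583 (iv F821) D1575 D2159 F1608 (iv D1599) (iv D1156) F582 F402 (iv F575) D1139 D1576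
def n2161 : Q := act 2 n1577
theorem D2161 : act 2 n1577 = n2161 := rfl
theorem F1611 : act 0 n2161 = n1578 := d1_1 D2161 (iv D1578) D1577
def n2162 : Q := act 3 n1578
theorem D2162 : act 3 n1578 = n2162 := rfl
def n2164 : Q := act 3 n1579
theorem D2164 : act 3 n1579 = n2164 := rfl
theorem F1613 : act 0 n2164 = n1581 := d2_1 D2164 (iv D1581) (iv F1150)
def n2165 : Q := act 2 n1580
theorem D2165 : act 2 n1580 = n2165 := rfl
theorem F1614 : act 0 n2165 = n1582 := d1_1 D2165 (iv D1582) (iv F1151)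
def n2166 : Q := act 2 n1581
theorem D2166 : act 2 n1581 = n2166 := rfl
def n2167 : Q := act 1 n1582
theorem D2167 : act 1 n1582 = n2167 := rfl
theorem F1615 : act 2 n2167 = n1583 := d3_2 D1582 D2167 (iv D1583) (iv D1144) (iv F825)
def n2169 : Q := act 0 n1583
theorem D2169 : act 0 n1583 = n2169 := rfl
def n2170 : Q := act 3 n1583
theorem D2170 : act 3 n1583 = n2170 := rfl
theorem F1616 : act 1 n2170 = n1584 := d4_1 D2170 (iv D1584) D1583
def n2171 : Q := act 1 n1585
theorem D2171 : act 1 n1585 = n2171 := rfl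
def n2172 : Q := act 3 n1585
theorem D2172 : act 3 n1585 = n2172 := rfl
theorem F1617 : act 0 n2172 = n1587 := d2_1 D2172 (iv D1587) (iv F1156)
def n2173 : Q := act 2 n1586
theorem D2173 : act 2 n1586 = n2173 := rfl
theorem F1618 : act 0 n2173 = n1588 := d1_1 D2173 (iv D1588) (iv F1157)
def n2174 : Q := act 2 n1587
theorem D2174 : act 2 n1587 = n2174 := rfl
def n2175 : Q := act 1 n1588
theorem D2175 : act 1 n1588 = n2175 := rfl
theorem F1619 : act 2 n2175 = n1589 := d3_2 D1588 D2175 (iv D1589) (iv D1149) (iv F827)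
def n2176 : Q := act 3 n1588
theorem D2176 : act 3 n1588 = n2176 := rfl
def n2177 : Q := act 0 n1589
theorem D2177 : act 0 n1589 = n2177 := rfl
def n2178 : Q := act 3 n1589
theorem D2178 : act 3 n1589 = n2178 := rfl
theorem F1620 : act 1 n2178 = n1590 := d4_1 D2178 (iv D1590) D1589
def n2179 : Q := act 1 n1591
theorem D2179 : act 1 n1591 = n2179 := rfl
theorem F1621 : act 2 n2179 = n2170 := d3_2 D1591 D2179 F1616 F1155 (iv F829)
theorem F1622 : act 3 n2179 = n1962 := d4_2 (iv F1161) D2179 (iv D1962)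
def n2183 : Q := act 1 n1594
theorem D2183 : act 1 n1594 = n2183 := rfl
def n2184 : Q := act 3 n1594
theorem D2184 : act 3 n1594 = n2184 := rfl
theorem F1625 : act 0 n2184 = n1596 := d2_1 D2184 (iv D1596) (iv F1163)
def n2185 : Q := act 1 n1595
theorem D2185 : act 1 n1595 = n2185 := rfl
theorem F1626 : act 2 n2185 = n1602 := d3_2 D1595 D2185 (iv D1602) (iv D1158) (iv F832)
def n2186 : Q := act 3 n1595
theorem D2186 : act 3 n1595 = n2186 := rfl
theorem F1627 : act 2 n2186 = n2184 := d6_2 D1595 D2186 (iv D2184) (iv D1594) (iv D1152) D1151 D1593 F1162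
def n2187 : Q := act 2 n1596
theorem D2187 : act 2 n1596 = n2187 := rfl
theorem F1628 : act 0 n2187 = n2186 := d1_1 D2187 F1627 F1625
theorem F1629 : act 1 n2187 = n1793 := d3_1 D2187 (iv D1793) F940 D1298 (iv F1164)
def n2188 : Q := act 0 n1597
theorem D2188 : act 0 n1597 = n2188 := rfl
def n2189 : Q := act 2 n1597
theorem D2189 : act 2 n1597 = n2189 := rfl
theorem F1631 : act 1 n2189 = n1601 := d3_1 D2189 (iv D1601) (iv D1157) (iv F833) D1597
def n2190 : Q := act 3 n1597
theorem D2190 : act 3 n1597 = n2190 := rfl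
theorem F1632 : act 1 n2190 = n1598 := d4_1 D2190 (iv D1598) D1597
def n2191 : Q := act 2 n1600
theorem D2191 : act 2 n1600 = n2191 := rfl
theorem F1633 : act 0 n2191 = n1601 := d1_1 D2191 (iv D1601) D1600
def n2192 : Q := act 3 n1601
theorem D2192 : act 3 n1601 = n2192 := rfl
def n2193 : Q := act 0 n1602
theorem D2193 : act 0 n1602 = n2193 := rfl
def n2194 : Q := act 3 n1602
theorem D2194 : act 3 n1602 = n2194 := rfl
theorem F1634 : act 1 n2194 = n1603 := d4_1 D2194 (iv D1603) D1602
def n2195 : Q := act 1 n1604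
theorem D2195 : act 1 n1604 = n2195 := rfl
def n2196 : Q := act 3 n1604
theorem D2196 : act 3 n1604 = n2196 := rfl
theorem F1635 : act 0 n2196 = n1605 := d2_1 D2196 (iv D1605) D1604
def n2197 : Q := act 2 n1605
theorem D2197 : act 2 n1605 = n2197 := rfl
def n2198 : Q := act 1 n1606
theorem D2198 : act 1 n1606 = n2198 := rfl
theorem F1636 : act 3 n2198 = n2139 := d4_2 (iv F1172) D2198 (iv D2139)
def n2199 : Q := act 2 n1607
theorem D2199 : act 2 n1607 = n2199 := rfl
theorem F1637 : act 0 n2199 = n1800 := d1_1 D2199 (iv D1800) (iv F1173)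
def n2200 : Q := act 2 n1608
theorem D2200 : act 2 n1608 = n2200 := rfl
theorem F1638 : act 0 n2200 = n1609 := d1_1 D2200 (iv D1609) (iv F1175)
def n2201 : Q := act 3 n1609
theorem D2201 : act 3 n1609 = n2201 := rfl
theorem F1639 : act 1 n2201 = n2159 := d4_1 D2201 F1608 (iv F1177)
def n2202 : Q := act 0 n1610
theorem D2202 : act 0 n1610 = n2202 := rfl
theorem F1640 : act 2 n2202 = n1978 := d1_2 (iv F1178) D2202 (iv D1978)
def n2203 : Q := act 3 n1610
theorem D2203 : act 3 n1610 = n2203 := rfl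
theorem F1641 : act 1 n2203 = n1611 := d4_1 D2203 (iv D1611) D1610
def n2204 : Q := act 1 n1612
theorem D2204 : act 1 n1612 = n2204 := rfl
def n2206 : Q := act 2 n1614
theorem D2206 : act 2 n1614 = n2206 := rfl
def n2207 : Q := act 1 n1615
theorem D2207 : act 1 n1615 = n2207 := rfl
def n2208 : Q := act 0 n1616
theorem D2208 : act 0 n1616 = n2208 := rfl
theorem F1645 : act 2 n2208 = n1618 := d1_2 (iv F1185) D2208 (iv D1618)
def n2209 : Q := act 3 n1616
theorem D2209 : act 3 n1616 = n2209 := rfl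
theorem F1646 : act 1 n2209 = n1617 := d4_1 D2209 (iv D1617) D1616
def n2210 : Q := act 1 n1618
theorem D2210 : act 1 n1618 = n2210 := rfl
def n2211 : Q := act 0 n1619
theorem D2211 : act 0 n1619 = n2211 := rfl
theorem F1647 : act 1 n2211 = n1625 := d0_2 D1619 D2211 (iv D1625) (iv D1173) (iv D836) (iv D583) (iv F409) D832 D1169
def n2212 : Q := act 2 n1619
theorem D2212 : act 2 n1619 = n2212 := rfl
theorem F1648 : act 1 n2212 = n1672 := d3_1 D2212 (iv D1672) (iv D1207) (iv F841) D1619
def n2213 : Q := act 3 n1619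
theorem D2213 : act 3 n1619 = n2213 := rfl
theorem F1649 : act 1 n2213 = n1620 := d4_1 D2213 (iv D1620) D1619
def n2214 : Q := act 2 n1620
theorem D2214 : act 2 n1620 = n2214 := rfl
theorem F1650 : act 0 n2214 = n1621 := d1_1 D2214 (iv D1621) (iv F1186)
def n2215 : Q := act 3 n1621
theorem D2215 : act 3 n1621 = n2215 := rfl
def n2216 : Q := act 0 n1622
theorem D2216 : act 0 n1622 = n2216 := rfl
def n2217 : Q := act 2 n1622
theorem D2217 : act 2 n1622 = n2217 := rfl
def n2218 : Q := act 3 n1622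
theorem D2218 : act 3 n1622 = n2218 := rfl
theorem F1652 : act 1 n2218 = n1623 := d4_1 D2218 (iv D1623) D1622
def n2219 : Q := act 2 n1623
theorem D2219 : act 2 n1623 = n2219 := rfl
theorem F1653 : act 0 n2219 = n1624 := d1_1 D2219 (iv D1624) (iv F1187)
def n2220 : Q := act 3 n1624
theorem D2220 : act 3 n1624 = n2220 := rfl
theorem F1654 : act 1 n2220 = n2215 := d4_1 D2220 (iv D2215) (iv F1188)
def n2221 : Q := act 2 n1625
theorem D2221 : act 2 n1625 = n2221 := rfl
theorem F1655 : act 0 n2221 = n1626 := d1_1 D2221 (iv D1626) D1625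
def n2222 : Q := act 3 n1625
theorem D2222 : act 3 n1625 = n2222 := rfl
theorem F1656 : act 0 n2222 = n1627 := d2_1 D2222 (iv D1627) D1625
def n2223 : Q := act 3 n1626
theorem D2223 : act 3 n1626 = n2223 := rfl
def n2224 : Q := act 2 n1627
theorem D2224 : act 2 n1627 = n2224 := rfl
def n2225 : Q := act 0 n1629
theorem D2225 : act 0 n1629 = n2225 := rfl
theorem F1658 : act 2 n2225 = n1631 := d1_2 (iv F1192) D2225 (iv D1631)
def n2226 : Q := act 3 n1629
theorem D2226 : act 3 n1629 = n2226 := rfl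
theorem F1659 : act 1 n2226 = n1630 := d4_1 D2226 (iv D1630) D1629
def n2227 : Q := act 1 n1631
theorem D2227 : act 1 n1631 = n2227 := rfl
theorem F1660 : act 3 n2227 = n2210 := d4_2 (iv F1193) D2227 (iv D2210)
def n2228 : Q := act 1 n1632
theorem D2228 : act 1 n1632 = n2228 := rfl
theorem F1661 : act 2 n2228 = n1639 := d3_2 D1632 D2228 (iv D1639) (iv D1182) (iv F847)
def n2229 : Q := act 3 n1632
theorem D2229 : act 3 n1632 = n2229 := rfl
theorem F1662 : act 0 n2229 = n1634 := d2_1 D2229 (iv D1634) (iv F1194)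
def n2230 : Q := act 2 n1633
theorem D2230 : act 2 n1633 = n2230 := rfl
theorem F1663 : act 0 n2230 = n1635 := d1_1 D2230 (iv D1635) (iv F1195)
def n2231 : Q := act 2 n1634
theorem D2231 : act 2 n1634 = n2231 := rfl
def n2232 : Q := act 1 n1635
theorem D2232 : act 1 n1635 = n2232 := rfl
theorem F1664 : act 2 n2232 = n1636 := d3_2 D1635 D2232 (iv D1636) (iv D1180) (iv F848)
def n2233 : Q := act 3 n1635
theorem D2233 : act 3 n1635 = n2233 := rfl
def n2234 : Q := act 0 n1636
theorem D2234 : act 0 n1636 = n2234 := rfl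
def n2235 : Q := act 3 n1636
theorem D2235 : act 3 n1636 = n2235 := rfl
theorem F1665 : act 1 n2235 = n1637 := d4_1 D2235 (iv D1637) D1636
def n2236 : Q := act 0 n1639
theorem D2236 : act 0 n1639 = n2236 := rfl
def n2237 : Q := act 3 n1639
theorem D2237 : act 3 n1639 = n2237 := rfl
theorem F1666 : act 1 n2237 = n1640 := d4_1 D2237 (iv D1640) D1639
def n2238 : Q := act 2 n1640
theorem D2238 : act 2 n1640 = n2238 := rfl
theorem F1667 : act 0 n2238 = n1642 := d1_1 D2238 (iv D1642) (iv F1202)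
def n2239 : Q := act 1 n1641
theorem D2239 : act 1 n1641 = n2239 := rfl
def n2240 : Q := act 3 n1641
theorem D2240 : act 3 n1641 = n2240 := rfl
theorem F1668 : act 0 n2240 = n1643 := d2_1 D2240 (iv D1643) (iv F1203)
def n2241 : Q := act 1 n1642
theorem D2241 : act 1 n1642 = n2241 := rfl
theorem F1669 : act 2 n2241 = n1647 := d3_2 D1642 D2241 (iv D1647) (iv D1188) (iv F853)
def n2242 : Q := act 3 n1642
theorem D2242 : act 3 n1642 = n2242 := rfl
theorem F1670 : act 2 n2242 = n2240 := d6_2 D1642 D2242 (iv D2240) (iv D1641) (iv D1183) D1182 D1640 F1202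
def n2243 : Q := act 2 n1643
theorem D2243 : act 2 n1643 = n2243 := rfl
theorem F1671 : act 0 n2243 = n2242 := d1_1 D2243 F1670 F1668
theorem F1672 : act 1 n2243 = n1832 := d3_1 D2243 (iv D1832) F962 D1330 (iv F1204)
theorem F1673 : act 3 n2243 = n2238 := d5_2 D1643 D2243 (iv D2238) (iv D1640) (iv D1182) D1183 D1641 D2240 (iv F1670) (iv D2242) (iv D1642) (iv D1184) (iv D843) D844 D1185
def n2244 : Q := act 1 n1644
theorem D2244 : act 1 n1644 = n2244 := rfl
def n2246 : Q := act 2 n1645
theorem D2246 : act 2 n1645 = n2246 := rfl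
def n2247 : Q := act 1 n1646
theorem D2247 : act 1 n1646 = n2247 := rfl
theorem F1675 : act 3 n2247 = n1744 := d4_2 (iv F1208) D2247 (iv D1744)
def n2248 : Q := act 0 n1647
theorem D2248 : act 0 n1647 = n2248 := rfl
def n2249 : Q := act 3 n1647
theorem D2249 : act 3 n1647 = n2249 := rfl
theorem F1676 : act 1 n2249 = n1648 := d4_1 D2249 (iv D1648) D1647
def n2251 : Q := act 3 n1649
theorem D2251 : act 3 n1649 = n2251 := rfl
theorem F1679 : act 0 n2251 = n2251 := d2_1 D2251 (iv D2251) F1211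
theorem F1680 : act 1 n2251 = n1650 := d4_1 D2251 (iv D1650) D1649
def n2252 : Q := act 2 n1650
theorem D2252 : act 2 n1650 = n2252 := rfl
def n2253 : Q := act 1 n1651
theorem D2253 : act 1 n1651 = n2253 := rfl
theorem F1682 : act 2 n2253 = n1652 := d3_2 D1651 D2253 (iv D1652) (iv D1191) (iv F857)
def n2254 : Q := act 3 n1651
theorem D2254 : act 3 n1651 = n2254 := rfl
def n2256 : Q := act 1 n1653
theorem D2256 : act 1 n1653 = n2256 := rfl
def n2257 : Q := act 3 n1653
theorem D2257 : act 3 n1653 = n2257 := rfl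
theorem F1683 : act 0 n2257 = n1654 := d2_1 D2257 (iv D1654) D1653
def n2258 : Q := act 2 n1654
theorem D2258 : act 2 n1654 = n2258 := rfl
def n2259 : Q := act 1 n1655
theorem D2259 : act 1 n1655 = n2259 := rfl
def n2260 : Q := act 3 n1655
theorem D2260 : act 3 n1655 = n2260 := rfl
theorem F1684 : act 0 n2260 = n1656 := d2_1 D2260 (iv D1656) D1655
def n2261 : Q := act 2 n1656
theorem D2261 : act 2 n1656 = n2261 := rfl
theorem F1685 : act 1 n2261 = n2258 := d3_1 D2261 (iv D2258) F1214 (iv F862) (iv F1216)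
def n2262 : Q := act 0 n1657
theorem D2262 : act 0 n1657 = n2262 := rfl
def n2263 : Q := act 2 n1657
theorem D2263 : act 2 n1657 = n2263 := rfl
theorem F1686 : act 1 n2263 = n1661 := d3_1 D2263 (iv D1661) (iv D1199) (iv F863) D1657
def n2264 : Q := act 3 n1657
theorem D2264 : act 3 n1657 = n2264 := rfl
theorem F1687 : act 1 n2264 = n1658 := d4_1 D2264 (iv D1658) D1657
def n2265 : Q := act 1 n1659
theorem D2265 : act 1 n1659 = n2265 := rfl
theorem F1688 : act 2 n2265 = n1660 := d3_2 D1659 D2265 (iv D1660) (iv D1198) (iv F864)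
def n2266 : Q := act 0 n1660
theorem D2266 : act 0 n1660 = n2266 := rfl
def n2267 : Q := act 3 n1661
theorem D2267 : act 3 n1661 = n2267 := rfl
def n2268 : Q := act 2 n1662
theorem D2268 : act 2 n1662 = n2268 := rfl
def n2270 : Q := act 1 n1664
theorem D2270 : act 1 n1664 = n2270 := rfl
theorem F1691 : act 2 n2270 = n1665 := d3_2 D1664 D2270 (iv D1665) (iv D1203) (iv F870)
def n2271 : Q := act 3 n1664
theorem D2271 : act 3 n1664 = n2271 := rfl
def n2272 : Q := act 0 n1665
theorem D2272 : act 0 n1665 = n2272 := rfl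
def n2273 : Q := act 3 n1665
theorem D2273 : act 3 n1665 = n2273 := rfl
theorem F1693 : act 1 n2273 = n1666 := d4_1 D2273 (iv D1666) D1665
def n2274 : Q := act 1 n1667
theorem D2274 : act 1 n1667 = n2274 := rfl
def n2275 : Q := act 3 n1667
theorem D2275 : act 3 n1667 = n2275 := rfl
theorem F1694 : act 0 n2275 = n1668 := d2_1 D2275 (iv D1668) D1667
def n2276 : Q := act 2 n1668
theorem D2276 : act 2 n1668 = n2276 := rfl
def n2277 : Q := act 1 n1669
theorem D2277 : act 1 n1669 = n2277 := rfl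
theorem F1695 : act 3 n2277 = n2207 := d4_2 (iv F1227) D2277 (iv D2207)
def n2278 : Q := act 0 n1670
theorem D2278 : act 0 n1670 = n2278 := rfl
theorem F1696 : act 1 n2278 = n1676 := d0_2 D1670 D2278 (iv D1676) (iv D1210) (iv D863) (iv D603) (iv F421) D860 D1206
def n2279 : Q := act 2 n1670
theorem D2279 : act 2 n1670 = n2279 := rfl
def n2280 : Q := act 2 n1671
theorem D2280 : act 2 n1671 = n2280 := rfl
theorem F1697 : act 0 n2280 = n1672 := d1_1 D2280 (iv D1672) D1671
def n2281 : Q := act 3 n1671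
theorem D2281 : act 3 n1671 = n2281 := rfl
theorem F1698 : act 0 n2281 = n1673 := d2_1 D2281 (iv D1673) D1671
theorem F1699 : act 1 n2281 = n1682 := d4_1 D2281 (iv D1682) (iv F1228)
def n2282 : Q := act 3 n1672
theorem D2282 : act 3 n1672 = n2282 := rfl
def n2283 : Q := act 2 n1673
theorem D2283 : act 2 n1673 = n2283 := rfl
def n2284 : Q := act 1 n1674
theorem D2284 : act 1 n1674 = n2284 := rfl
def n2285 : Q := act 3 n1674
theorem D2285 : act 3 n1674 = n2285 := rfl
theorem F1701 : act 2 n2285 = n2215 := d6_2 D1674 D2285 (iv D2215) (iv D1621) (iv D1170) F594 D862 (iv F873)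
def n2286 : Q := act 2 n1675
theorem D2286 : act 2 n1675 = n2286 := rfl
theorem F1703 : act 3 n2286 = n2214 := d5_2 D1675 D2286 (iv D2214) (iv D1620) F841 D1208 D1674 D2285 F1701 (iv D2215) (iv D1621) (iv D1170) F594 D862 D1209
def n2287 : Q := act 2 n1676
theorem D2287 : act 2 n1676 = n2287 := rfl
theorem F1704 : act 0 n2287 = n1677 := d1_1 D2287 (iv D1677) D1676
def n2288 : Q := act 3 n1676
theorem D2288 : act 3 n1676 = n2288 := rfl
theorem F1705 : act 0 n2288 = n1678 := d2_1 D2288 (iv D1678) D1676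
def n2289 : Q := act 3 n1677
theorem D2289 : act 3 n1677 = n2289 := rfl
theorem F1706 : act 1 n2289 = n1761 := d4_1 D2289 (iv D1761) (iv F1231)
def n2290 : Q := act 2 n1678
theorem D2290 : act 2 n1678 = n2290 := rfl
def n2291 : Q := act 1 n1679
theorem D2291 : act 1 n1679 = n2291 := rfl
def n2292 : Q := act 1 n1681
theorem D2292 : act 1 n1681 = n2292 := rfl
def n2293 : Q := act 3 n1681
theorem D2293 : act 3 n1681 = n2293 := rfl
theorem F1707 : act 0 n2293 = n1683 := d2_1 D2293 (iv D1683) (iv F1235)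
def n2294 : Q := act 2 n1682
theorem D2294 : act 2 n1682 = n2294 := rfl
theorem F1708 : act 0 n2294 = n1684 := d1_1 D2294 (iv D1684) (iv F1236)
def n2295 : Q := act 2 n1683
theorem D2295 : act 2 n1683 = n2295 := rfl
def n2296 : Q := act 1 n1685
theorem D2296 : act 1 n1685 = n2296 := rfl
def n2297 : Q := act 3 n1685
theorem D2297 : act 3 n1685 = n2297 := rfl
def n2298 : Q := act 2 n1686
theorem D2298 : act 2 n1686 = n2298 := rfl
theorem F1710 : act 1 n2298 = n1800 := d3_1 D2298 (iv D1800) F949 (iv F883) (iv F1240)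
def n2299 : Q := act 0 n1687
theorem D2299 : act 0 n1687 = n2299 := rfl
theorem F1711 : act 1 n2299 = n2288 := d0_2 D1687 D2299 F1705 F1232 F874 F620 (iv F427) D868 D1219
theorem F1712 : act 3 n2299 = n2278 := d2_2 (iv F1241) D2299 (iv D2278)
def n2300 : Q := act 2 n1687
theorem D2300 : act 2 n1687 = n2300 := rfl
def n2301 : Q := act 0 n1688
theorem D2301 : act 0 n1688 = n2301 := rfl
theorem F1713 : act 2 n2301 = n1691 := d1_2 (iv F1242) D2301 (iv D1691)
def n2302 : Q := act 3 n1688
theorem D2302 : act 3 n1688 = n2302 := rfl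
theorem F1714 : act 1 n2302 = n1689 := d4_1 D2302 (iv D1689) D1688
def n2303 : Q := act 2 n1689
theorem D2303 : act 2 n1689 = n2303 := rfl
theorem F1715 : act 0 n2303 = n1690 := d1_1 D2303 (iv D1690) (iv F1243)
theorem F1716 : act 3 n2303 = n1803 := d6_1 D2303 (iv D1803) (iv D1308) (iv D936) F459 D870 D1221 (iv F1243)
def n2304 : Q := act 1 n1690
theorem D2304 : act 1 n1690 = n2304 := rfl
def n2305 : Q := act 3 n1690
theorem D2305 : act 3 n1690 = n2305 := rfl
theorem F1717 : act 0 n2305 = n1803 := d2_1 D2305 (iv F1716) F1715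
theorem F1718 : act 2 n2305 = n1802 := d5_1 D2305 (iv D1802) (iv D1307) F670 D1220 D1689 D2303 F1716 (iv D1803) (iv D1308) (iv D936) F459 D870 D1221 D1690
def n2306 : Q := act 1 n1691
theorem D2306 : act 1 n1691 = n2306 := rfl
theorem F1719 : act 0 n2306 = n1702 := d0_1 D2306 (iv D1702) (iv D1229) (iv D876) F432 (iv F429) (iv F624) D1222 D1691
def n2307 : Q := act 3 n1691
theorem D2307 : act 3 n1691 = n2307 := rfl
theorem F1720 : act 0 n2307 = n1692 := d2_1 D2307 (iv D1692) D1691
def n2308 : Q := act 2 n1692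
theorem D2308 : act 2 n1692 = n2308 := rfl
def n2309 : Q := act 1 n1693
theorem D2309 : act 1 n1693 = n2309 := rfl
def n2310 : Q := act 0 n1694
theorem D2310 : act 0 n1694 = n2310 := rfl
def n2311 : Q := act 3 n1694
theorem D2311 : act 3 n1694 = n2311 := rfl
theorem F1721 : act 1 n2311 = n1695 := d4_1 D2311 (iv D1695) D1694
def n2312 : Q := act 0 n1696
theorem D2312 : act 0 n1696 = n2312 := rfl
theorem F1722 : act 2 n2312 = n1708 := d1_2 (iv F1247) D2312 (iv D1708)
def n2313 : Q := act 3 n1696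
theorem D2313 : act 3 n1696 = n2313 := rfl
theorem F1723 : act 1 n2313 = n1697 := d4_1 D2313 (iv D1697) D1696
def n2314 : Q := act 1 n1698
theorem D2314 : act 1 n1698 = n2314 := rfl
theorem F1724 : act 3 n2314 = n2265 := d4_2 F1250 D2314 (iv D2265)
def n2315 : Q := act 1 n1700
theorem D2315 : act 1 n1700 = n2315 := rfl
theorem F1725 : act 2 n2315 = n2264 := d3_2 D1700 D2315 F1687 (iv F1253) F1252
theorem F1726 : act 3 n2315 = n2309 := d4_2 (iv F1255) D2315 (iv D2309)
def n2316 : Q := act 2 n1701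
theorem D2316 : act 2 n1701 = n2316 := rfl
def n2317 : Q := act 2 n1702
theorem D2317 : act 2 n1702 = n2317 := rfl
def n2318 : Q := act 3 n1702
theorem D2318 : act 3 n1702 = n2318 := rfl
theorem F1727 : act 1 n2318 = n1703 := d4_1 D2318 (iv D1703) D1702
def n2319 : Q := act 2 n1703
theorem D2319 : act 2 n1703 = n2319 := rfl
def n2320 : Q := act 1 n1704
theorem D2320 : act 1 n1704 = n2320 := rfl
theorem F1729 : act 2 n2320 = n1705 := d3_2 D1704 D2320 (iv D1705) (iv D1231) (iv F889)
def n2322 : Q := act 0 n1705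
theorem D2322 : act 0 n1705 = n2322 := rfl
def n2323 : Q := act 1 n1706
theorem D2323 : act 1 n1706 = n2323 := rfl
def n2324 : Q := act 3 n1706
theorem D2324 : act 3 n1706 = n2324 := rfl
theorem F1730 : act 0 n2324 = n1707 := d2_1 D2324 (iv D1707) D1706
def n2325 : Q := act 2 n1707
theorem D2325 : act 2 n1707 = n2325 := rfl
def n2326 : Q := act 1 n1708
theorem D2326 : act 1 n1708 = n2326 := rfl
def n2327 : Q := act 3 n1708
theorem D2327 : act 3 n1708 = n2327 := rfl
theorem F1731 : act 0 n2327 = n1709 := d2_1 D2327 (iv D1709) D1708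
def n2328 : Q := act 2 n1709
theorem D2328 : act 2 n1709 = n2328 := rfl
theorem F1732 : act 1 n2328 = n2325 := d3_1 D2328 (iv D2325) F1257 (iv F892) (iv F1258)
def n2329 : Q := act 0 n1710
theorem D2329 : act 0 n1710 = n2329 := rfl
def n2330 : Q := act 2 n1710
theorem D2330 : act 2 n1710 = n2330 := rfl
theorem F1733 : act 1 n2330 = n1714 := d3_1 D2330 (iv D1714) (iv D1239) (iv F893) D1710
def n2331 : Q := act 3 n1710
theorem D2331 : act 3 n1710 = n2331 := rfl
theorem F1734 : act 1 n2331 = n1711 := d4_1 D2331 (iv D1711) D1710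
def n2332 : Q := act 2 n1711
theorem D2332 : act 2 n1711 = n2332 := rfl
theorem F1735 : act 0 n2332 = n1712 := d1_1 D2332 (iv D1712) (iv F1259)
theorem F1736 : act 3 n2332 = n1770 := d6_1 D2332 F1301 F931 (iv D1241) (iv D883) (iv F629) D1237 (iv F1259)
theorem F1737 : act 1 n1771 = n2332 := d4_3 F1736 (iv D1770) D1771
def n2333 : Q := act 1 n1712
theorem D2333 : act 1 n1712 = n2333 := rfl
theorem F1738 : act 2 n2333 = n1713 := d3_2 D1712 D2333 (iv D1713) (iv D1238) (iv F894)
def n2334 : Q := act 3 n1712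
theorem D2334 : act 3 n1712 = n2334 := rfl
theorem F1740 : act 2 n2334 = n1772 := d5_1 D2334 F1302 (iv D1716) (iv D1240) (iv F893) D1711 D2332 F1736 F1301 F931 (iv D1241) (iv D883) (iv F629) D1237 D1712
def n2335 : Q := act 0 n1713
theorem D2335 : act 0 n1713 = n2335 := rfl
def n2336 : Q := act 3 n1714
theorem D2336 : act 3 n1714 = n2336 := rfl
theorem F1742 : act 0 n2336 = n2267 := d2_1 D2336 (iv D2267) (iv F1261)
def n2337 : Q := act 2 n1715
theorem D2337 : act 2 n1715 = n2337 := rfl
theorem F1743 : act 0 n2337 = n2268 := d1_1 D2337 (iv D2268) (iv F1262)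
def n2338 : Q := act 1 n1716
theorem D2338 : act 1 n1716 = n2338 := rfl
def n2339 : Q := act 0 n1717
theorem D2339 : act 0 n1717 = n2339 := rfl
theorem F1744 : act 1 n2339 = n1789 := d0_2 D1717 D2339 F1317 F939 F660 F453 (iv F436) D884 D1242
theorem F1745 : act 3 n2339 = n1788 := d2_2 (iv F1265) D2339 F1316
def n2340 : Q := act 2 n1717
theorem D2340 : act 2 n1717 = n2340 := rfl
theorem F1746 : act 1 n2340 = n2268 := d3_1 D2340 (iv D2268) F1219 (iv F900) D1717
def n2341 : Q := act 3 n1718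
theorem D2341 : act 3 n1718 = n2341 := rfl
theorem F1747 : act 0 n2341 = n1813 := d2_1 D2341 (iv D1813) (iv F1266)
def n2342 : Q := act 2 n1719
theorem D2342 : act 2 n1719 = n2342 := rfl
theorem F1748 : act 0 n2342 = n1814 := d1_1 D2342 (iv D1814) (iv F1267)
def n2343 : Q := act 1 n1720
theorem D2343 : act 1 n1720 = n2343 := rfl
def n2344 : Q := act 3 n1720
theorem D2344 : act 3 n1720 = n2344 := rfl
theorem F1750 : act 2 n2344 = n2254 := d6_2 D1720 D2344 (iv D2254) (iv D1651) (iv D1190) F611 D886 (iv F903)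
def n2345 : Q := act 0 n1721
theorem D2345 : act 0 n1721 = n2345 := rfl
theorem F1751 : act 2 n2345 = n1723 := d1_2 (iv F1270) D2345 (iv D1723)
def n2346 : Q := act 3 n1721
theorem D2346 : act 3 n1721 = n2346 := rfl
theorem F1752 : act 1 n2346 = n1722 := d4_1 D2346 (iv D1722) D1721
def n2347 : Q := act 2 n1722
theorem D2347 : act 2 n1722 = n2347 := rfl
theorem F1754 : act 3 n2347 = n2252 := d5_2 D1722 D2347 (iv D2252) (iv D1650) F856 D1244 D1720 D2344 F1750 (iv D2254) (iv D1651) (iv D1190) F611 D886 D1245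
def n2348 : Q := act 1 n1723
theorem D2348 : act 1 n1723 = n2348 := rfl
def n2349 : Q := act 0 n1724
theorem D2349 : act 0 n1724 = n2349 := rfl
theorem F1755 : act 1 n2349 = n1730 := d0_2 D1724 D2349 (iv D1730) (iv D1251) (iv D892) (iv D625) (iv F439) D888 D1247
def n2350 : Q := act 2 n1724
theorem D2350 : act 2 n1724 = n2350 := rfl
def n2351 : Q := act 3 n1724
theorem D2351 : act 3 n1724 = n2351 := rfl
theorem F1756 : act 1 n2351 = n1725 := d4_1 D2351 (iv D1725) D1724
def n2352 : Q := act 2 n1725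
theorem D2352 : act 2 n1725 = n2352 := rfl
theorem F1757 : act 0 n2352 = n1726 := d1_1 D2352 (iv D1726) (iv F1271)
def n2353 : Q := act 3 n1726
theorem D2353 : act 3 n1726 = n2353 := rfl
def n2354 : Q := act 0 n1727
theorem D2354 : act 0 n1727 = n2354 := rfl
def n2355 : Q := act 2 n1727
theorem D2355 : act 2 n1727 = n2355 := rfl
theorem F1758 : act 1 n2355 = n1825 := d3_1 D2355 (iv D1825) (iv D1324) (iv F905) D1727
def n2356 : Q := act 3 n1727
theorem D2356 : act 3 n1727 = n2356 := rfl
theorem F1759 : act 1 n2356 = n1728 := d4_1 D2356 (iv D1728) D1727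
def n2357 : Q := act 2 n1728
theorem D2357 : act 2 n1728 = n2357 := rfl
theorem F1760 : act 0 n2357 = n1729 := d1_1 D2357 (iv D1729) (iv F1272)
def n2358 : Q := act 3 n1729
theorem D2358 : act 3 n1729 = n2358 := rfl
theorem F1761 : act 1 n2358 = n2353 := d4_1 D2358 (iv D2353) (iv F1273)
def n2359 : Q := act 2 n1730
theorem D2359 : act 2 n1730 = n2359 := rfl
theorem F1762 : act 0 n2359 = n1731 := d1_1 D2359 (iv D1731) D1730
def n2360 : Q := act 3 n1730
theorem D2360 : act 3 n1730 = n2360 := rfl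
theorem F1763 : act 0 n2360 = n1732 := d2_1 D2360 (iv D1732) D1730
theorem F1764 : act 2 n1907 = n2360 := d1_0 F1763 (iv F1276) D1907
def n2361 : Q := act 3 n1731
theorem D2361 : act 3 n1731 = n2361 := rfl
theorem F1765 : act 1 n2361 = n1736 := d4_1 D2361 (iv D1736) (iv F1274)
def n2362 : Q := act 0 n1733
theorem D2362 : act 0 n1733 = n2362 := rfl
theorem F1766 : act 2 n2362 = n1734 := d1_2 (iv F1277) D2362 (iv D1734)
theorem F1767 : act 3 n2362 = n1905 := d2_2 (iv F1278) D2362 (iv D1905)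
def n2363 : Q := act 1 n1734
theorem D2363 : act 1 n1734 = n2363 := rfl
theorem F1768 : act 3 n2363 = n2348 := d4_2 (iv F1279) D2363 (iv D2348)
def n2364 : Q := act 1 n1735
theorem D2364 : act 1 n1735 = n2364 := rfl
theorem F1769 : act 2 n2364 = n1737 := d3_2 D1735 D2364 (iv D1737) (iv D1257) (iv F912)
def n2365 : Q := act 3 n1735
theorem D2365 : act 3 n1735 = n2365 := rfl
theorem F1770 : act 0 n2365 = n1736 := d2_1 D2365 (iv D1736) (iv F1280)
def n2366 : Q := act 2 n1736
theorem D2366 : act 2 n1736 = n2366 := rfl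
def n2367 : Q := act 0 n1737
theorem D2367 : act 0 n1737 = n2367 := rfl
def n2368 : Q := act 3 n1737
theorem D2368 : act 3 n1737 = n2368 := rfl
theorem F1771 : act 1 n2368 = n1738 := d4_1 D2368 (iv D1738) D1737
def n2369 : Q := act 2 n1738
theorem D2369 : act 2 n1738 = n2369 := rfl
def n2370 : Q := act 1 n1739
theorem D2370 : act 1 n1739 = n2370 := rfl
def n2371 : Q := act 3 n1739
theorem D2371 : act 3 n1739 = n2371 := rfl
theorem F1773 : act 0 n2371 = n1741 := d2_1 D2371 (iv D1741) (iv F1282)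
def n2372 : Q := act 1 n1740
theorem D2372 : act 1 n1740 = n2372 := rfl
theorem F1774 : act 2 n2372 = n1744 := d3_2 D1740 D2372 (iv D1744) (iv D1263) (iv F915)
def n2373 : Q := act 3 n1740
theorem D2373 : act 3 n1740 = n2373 := rfl
theorem F1775 : act 2 n2373 = n2371 := d6_2 D1740 D2373 (iv D2371) (iv D1739) (iv D1258) D1257 D1738 F1281
def n2374 : Q := act 2 n1741
theorem D2374 : act 2 n1741 = n2374 := rfl
theorem F1776 : act 0 n2374 = n2373 := d1_1 D2374 F1775 F1773
theorem F1777 : act 1 n2374 = n2224 := d3_1 D2374 (iv D2224) F1190 D1628 (iv F1283)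
theorem F1778 : act 3 n2374 = n2369 := d5_2 D1741 D2374 (iv D2369) (iv D1738) (iv D1257) D1258 D1739 D2371 (iv F1775) (iv D2373) (iv D1740) (iv D1259) (iv D897) D898 D1260
def n2375 : Q := act 1 n1742
theorem D2375 : act 1 n1742 = n2375 := rfl
def n2376 : Q := act 3 n1742
theorem D2376 : act 3 n1742 = n2376 := rfl
theorem F1779 : act 0 n2376 = n1743 := d2_1 D2376 (iv D1743) D1742
def n2377 : Q := act 2 n1743
theorem D2377 : act 2 n1743 = n2377 := rfl
def n2379 : Q := act 1 n1745
theorem D2379 : act 1 n1745 = n2379 := rfl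
theorem F1780 : act 2 n2379 = n1843 := d3_2 D1745 D2379 (iv D1843) (iv D1341) (iv F918)
def n2380 : Q := act 3 n1745
theorem D2380 : act 3 n1745 = n2380 := rfl
theorem F1781 : act 2 n2380 = n2271 := d6_2 D1745 D2380 (iv D2271) (iv D1664) (iv D1202) D1201 D1663 F1220
def n2381 : Q := act 0 n1746
theorem D2381 : act 0 n1746 = n2381 := rfl
theorem F1782 : act 2 n2381 = n1748 := d1_2 (iv F1286) D2381 (iv D1748)
def n2382 : Q := act 3 n1746
theorem D2382 : act 3 n1746 = n2382 := rfl
def n2384 : Q := act 1 n1748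
theorem D2384 : act 1 n1748 = n2384 := rfl
def n2385 : Q := act 0 n1749
theorem D2385 : act 0 n1749 = n2385 := rfl
def n2386 : Q := act 2 n1749
theorem D2386 : act 2 n1749 = n2386 := rfl
theorem F1786 : act 1 n2386 = n1753 := d3_1 D2386 (iv D1753) (iv D1269) (iv F919) D1749
def n2387 : Q := act 3 n1749
theorem D2387 : act 3 n1749 = n2387 := rfl
theorem F1787 : act 1 n2387 = n1750 := d4_1 D2387 (iv D1750) D1749
def n2388 : Q := act 2 n1750
theorem D2388 : act 2 n1750 = n2388 := rfl
theorem F1789 : act 3 n2388 = n1775 := d6_1 D2388 (iv D1775) (iv D1286) F655 F449 (iv F648) D1268 (iv F1287)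
def n2389 : Q := act 3 n1751
theorem D2389 : act 3 n1751 = n2389 := rfl
theorem F1791 : act 2 n2389 = n1774 := d5_1 D2389 (iv D1774) F932 F656 (iv F919) D1750 D2388 F1789 (iv D1775) (iv D1286) F655 F449 (iv F648) D1268 D1751
def n2390 : Q := act 2 n1752
theorem D2390 : act 2 n1752 = n2390 := rfl
theorem F1792 : act 0 n2390 = n1753 := d1_1 D2390 (iv D1753) D1752
def n2391 : Q := act 3 n1753
theorem D2391 : act 3 n1753 = n2391 := rfl
def n2392 : Q := act 1 n1754
theorem D2392 : act 1 n1754 = n2392 := rfl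
theorem F1793 : act 2 n2392 = n1766 := d3_2 D1754 D2392 (iv D1766) (iv D1280) (iv F921)
def n2393 : Q := act 3 n1754
theorem D2393 : act 3 n1754 = n2393 := rfl
theorem F1794 : act 0 n2393 = n1756 := d2_1 D2393 (iv D1756) (iv F1289)
def n2394 : Q := act 2 n1755
theorem D2394 : act 2 n1755 = n2394 := rfl
def n2395 : Q := act 2 n1756
theorem D2395 : act 2 n1756 = n2395 := rfl
def n2396 : Q := act 1 n1757
theorem D2396 : act 1 n1757 = n2396 := rfl
theorem F1796 : act 2 n2396 = n1758 := d3_2 D1757 D2396 (iv D1758) (iv D1273) (iv F923)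
def n2397 : Q := act 3 n1757
theorem D2397 : act 3 n1757 = n2397 := rfl
def n2398 : Q := act 0 n1758
theorem D2398 : act 0 n1758 = n2398 := rfl
def n2399 : Q := act 1 n1759
theorem D2399 : act 1 n1759 = n2399 := rfl
def n2400 : Q := act 3 n1759
theorem D2400 : act 3 n1759 = n2400 := rfl
theorem F1797 : act 0 n2400 = n1761 := d2_1 D2400 (iv D1761) (iv F1293)
def n2401 : Q := act 2 n1760
theorem D2401 : act 2 n1760 = n2401 := rfl
theorem F1798 : act 0 n2401 = n1762 := d1_1 D2401 (iv D1762) (iv F1294)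
def n2402 : Q := act 2 n1761
theorem D2402 : act 2 n1761 = n2402 := rfl
def n2403 : Q := act 1 n1762
theorem D2403 : act 1 n1762 = n2403 := rfl
theorem F1799 : act 2 n2403 = n1763 := d3_2 D1762 D2403 (iv D1763) (iv D1278) (iv F925)
def n2404 : Q := act 3 n1762
theorem D2404 : act 3 n1762 = n2404 := rfl
def n2405 : Q := act 0 n1763
theorem D2405 : act 0 n1763 = n2405 := rfl
def n2406 : Q := act 3 n1763
theorem D2406 : act 3 n1763 = n2406 := rfl
theorem F1800 : act 1 n2406 = n1764 := d4_1 D2406 (iv D1764) D1763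
def n2407 : Q := act 1 n1765
theorem D2407 : act 1 n1765 = n2407 := rfl
theorem F1801 : act 2 n2407 = n1865 := d3_2 D1765 D2407 F1372 F984 (iv F927)
theorem F1802 : act 3 n2407 = n2291 := d4_2 (iv F1298) D2407 (iv D2291)
def n2408 : Q := act 0 n1766
theorem D2408 : act 0 n1766 = n2408 := rfl
def n2409 : Q := act 3 n1766
theorem D2409 : act 3 n1766 = n2409 := rfl
theorem F1803 : act 1 n2409 = n1767 := d4_1 D2409 (iv D1767) D1766
def n2410 : Q := act 2 n1767
theorem D2410 : act 2 n1767 = n2410 := rfl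
theorem F1804 : act 0 n2410 = n1769 := d1_1 D2410 (iv D1769) (iv F1299)
def n2411 : Q := act 1 n1768
theorem D2411 : act 1 n1768 = n2411 := rfl
def n2412 : Q := act 3 n1768
theorem D2412 : act 3 n1768 = n2412 := rfl
theorem F1805 : act 0 n2412 = n1771 := d2_1 D2412 (iv D1771) (iv F1300)
def n2413 : Q := act 1 n1769
theorem D2413 : act 1 n1769 = n2413 := rfl
theorem F1806 : act 2 n2413 = n1783 := d3_2 D1769 D2413 (iv D1783) (iv D1291) (iv F930)
def n2414 : Q := act 3 n1769
theorem D2414 : act 3 n1769 = n2414 := rfl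
theorem F1807 : act 2 n2414 = n2412 := d6_2 D1769 D2414 (iv D2412) (iv D1768) (iv D1281) D1280 D1767 F1299
def n2415 : Q := act 2 n1771
theorem D2415 : act 2 n1771 = n2415 := rfl
theorem F1809 : act 3 n2415 = n2410 := d5_2 D1771 D2415 (iv D2410) (iv D1767) (iv D1280) D1281 D1768 D2412 (iv F1807) (iv D2414) (iv D1769) (iv D1282) (iv D914) D915 D1283
def n2416 : Q := act 1 n1772
theorem D2416 : act 1 n1772 = n2416 := rfl
theorem F1810 : act 3 n2416 = n2338 := d4_2 (iv F1302) D2416 (iv D2338)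
def n2417 : Q := act 0 n1773
theorem D2417 : act 0 n1773 = n2417 := rfl
def n2418 : Q := act 2 n1773
theorem D2418 : act 2 n1773 = n2418 := rfl
def n2419 : Q := act 3 n1773
theorem D2419 : act 3 n1773 = n2419 := rfl
theorem F1812 : act 1 n2419 = n1774 := d4_1 D2419 (iv D1774) D1773
def n2420 : Q := act 2 n1776
theorem D2420 : act 2 n1776 = n2420 := rfl
def n2422 : Q := act 1 n1778
theorem D2422 : act 1 n1778 = n2422 := rfl
def n2424 : Q := act 2 n1779
theorem D2424 : act 2 n1779 = n2424 := rfl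
def n2425 : Q := act 1 n1780
theorem D2425 : act 1 n1780 = n2425 := rfl
def n2426 : Q := act 0 n1781
theorem D2426 : act 0 n1781 = n2426 := rfl
theorem F1815 : act 2 n2426 = n1794 := d1_2 (iv F1309) D2426 (iv D1794)
def n2427 : Q := act 3 n1781
theorem D2427 : act 3 n1781 = n2427 := rfl
theorem F1816 : act 1 n2427 = n1782 := d4_1 D2427 (iv D1782) D1781
def n2428 : Q := act 0 n1783
theorem D2428 : act 0 n1783 = n2428 := rfl
def n2429 : Q := act 3 n1783
theorem D2429 : act 3 n1783 = n2429 := rfl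
theorem F1817 : act 1 n2429 = n1784 := d4_1 D2429 (iv D1784) D1783
def n2430 : Q := act 1 n1785
theorem D2430 : act 1 n1785 = n2430 := rfl
def n2431 : Q := act 3 n1785
theorem D2431 : act 3 n1785 = n2431 := rfl
def n2432 : Q := act 2 n1786
theorem D2432 : act 2 n1786 = n2432 := rfl
def n2433 : Q := act 1 n1787
theorem D2433 : act 1 n1787 = n2433 := rfl
theorem F1819 : act 3 n2433 = n2425 := d4_2 (iv F1315) D2433 (iv D2425)
def n2434 : Q := act 2 n1788
theorem D2434 : act 2 n1788 = n2434 := rfl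
theorem F1820 : act 0 n2434 = n2316 := d1_1 D2434 (iv D2316) (iv F1316)
def n2435 : Q := act 2 n1789
theorem D2435 : act 2 n1789 = n2435 := rfl
theorem F1821 : act 0 n2435 = n1790 := d1_1 D2435 (iv D1790) (iv F1317)
def n2436 : Q := act 3 n1790
theorem D2436 : act 3 n1790 = n2436 := rfl
theorem F1822 : act 1 n2436 = n2388 := d4_1 D2436 F1789 (iv F1318)
def n2437 : Q := act 2 n1791
theorem D2437 : act 2 n1791 = n2437 := rfl
theorem F1823 : act 0 n2437 = n1804 := d1_1 D2437 (iv D1804) (iv F1319)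
def n2438 : Q := act 3 n1791
theorem D2438 : act 3 n1791 = n2438 := rfl
theorem F1824 : act 0 n2438 = n1805 := d2_1 D2438 (iv D1805) (iv F1319)
theorem F1825 : act 1 n2438 = n1792 := d4_1 D2438 (iv D1792) D1791
def n2439 : Q := act 2 n1792
theorem D2439 : act 2 n1792 = n2439 := rfl
theorem F1826 : act 0 n2439 = n1793 := d1_1 D2439 (iv D1793) (iv F1320)
def n2441 : Q := act 1 n1794
theorem D2441 : act 1 n1794 = n2441 := rfl
theorem F1828 : act 0 n2441 = n2190 := d0_1 D2441 F1632 F1165 F834 (iv F586) F587 (iv F665) D1299 D1794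
theorem F1829 : act 3 n2188 = n2441 := d2_0 F1828 (iv D2190) D2188
def n2442 : Q := act 3 n1794
theorem D2442 : act 3 n1794 = n2442 := rfl
theorem F1830 : act 0 n2442 = n1795 := d2_1 D2442 (iv D1795) D1794
theorem F1831 : act 1 n2442 = n2188 := d4_1 D2442 F1829 (iv D2441)
def n2443 : Q := act 2 n1795
theorem D2443 : act 2 n1795 = n2443 := rfl
def n2444 : Q := act 1 n1796
theorem D2444 : act 1 n1796 = n2444 := rfl
def n2445 : Q := act 3 n1796
theorem D2445 : act 3 n1796 = n2445 := rfl
theorem F1832 : act 0 n2445 = n1797 := d2_1 D2445 (iv D1797) D1796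
def n2446 : Q := act 2 n1797
theorem D2446 : act 2 n1797 = n2446 := rfl
theorem F1833 : act 1 n2446 = n2443 := d3_1 D2446 (iv D2443) F1321 (iv F944) (iv F1323)
def n2447 : Q := act 1 n1798
theorem D2447 : act 1 n1798 = n2447 := rfl
def n2448 : Q := act 3 n1798
theorem D2448 : act 3 n1798 = n2448 := rfl
theorem F1834 : act 0 n2448 = n1799 := d2_1 D2448 (iv D1799) (iv F1324)
def n2449 : Q := act 2 n1799
theorem D2449 : act 2 n1799 = n2449 := rfl
def n2450 : Q := act 3 n1800
theorem D2450 : act 3 n1800 = n2450 := rfl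
def n2451 : Q := act 0 n1801
theorem D2451 : act 0 n1801 = n2451 := rfl
theorem F1835 : act 2 n2451 = n2310 := d1_2 (iv F1326) D2451 (iv D2310)
def n2452 : Q := act 3 n1801
theorem D2452 : act 3 n1801 = n2452 := rfl
theorem F1836 : act 1 n2452 = n1802 := d4_1 D2452 (iv D1802) D1801
def n2453 : Q := act 1 n1803
theorem D2453 : act 1 n1803 = n2453 := rfl
def n2454 : Q := act 3 n1804
theorem D2454 : act 3 n1804 = n2454 := rfl
theorem F1837 : act 1 n2454 = n1909 := d4_1 D2454 (iv D1909) (iv F1328)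
def n2455 : Q := act 2 n1805
theorem D2455 : act 2 n1805 = n2455 := rfl
def n2456 : Q := act 1 n1806
theorem D2456 : act 1 n1806 = n2456 := rfl
def n2457 : Q := act 0 n1807
theorem D2457 : act 0 n1807 = n2457 := rfl
theorem F1838 : act 2 n2457 = n1809 := d1_2 (iv F1331) D2457 (iv D1809)
def n2458 : Q := act 3 n1807
theorem D2458 : act 3 n1807 = n2458 := rfl
theorem F1839 : act 1 n2458 = n1808 := d4_1 D2458 (iv D1808) D1807
def n2459 : Q := act 1 n1809
theorem D2459 : act 1 n1809 = n2459 := rfl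
def n2460 : Q := act 0 n1810
theorem D2460 : act 0 n1810 = n2460 := rfl
def n2461 : Q := act 2 n1810
theorem D2461 : act 2 n1810 = n2461 := rfl
def n2462 : Q := act 3 n1810
theorem D2462 : act 3 n1810 = n2462 := rfl
theorem F1841 : act 1 n2462 = n1811 := d4_1 D2462 (iv D1811) D1810
def n2463 : Q := act 2 n1811
theorem D2463 : act 2 n1811 = n2463 := rfl
theorem F1842 : act 0 n2463 = n1812 := d1_1 D2463 (iv D1812) (iv F1333)
def n2464 : Q := act 3 n1812
theorem D2464 : act 3 n1812 = n2464 := rfl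
theorem F1843 : act 1 n2464 = n1985 := d4_1 D2464 (iv D1985) (iv F1334)
def n2465 : Q := act 2 n1813
theorem D2465 : act 2 n1813 = n2465 := rfl
def n2466 : Q := act 1 n1814
theorem D2466 : act 1 n1814 = n2466 := rfl
theorem F1844 : act 2 n2466 = n1815 := d3_2 D1814 D2466 (iv D1815) (iv D1317) (iv F955)
def n2467 : Q := act 3 n1814
theorem D2467 : act 3 n1814 = n2467 := rfl
def n2468 : Q := act 0 n1815
theorem D2468 : act 0 n1815 = n2468 := rfl
def n2469 : Q := act 1 n1816
theorem D2469 : act 1 n1816 = n2469 := rfl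
def n2470 : Q := act 3 n1816
theorem D2470 : act 3 n1816 = n2470 := rfl
theorem F1845 : act 0 n2470 = n1817 := d2_1 D2470 (iv D1817) D1816
def n2471 : Q := act 2 n1817
theorem D2471 : act 2 n1817 = n2471 := rfl
def n2472 : Q := act 0 n1818
theorem D2472 : act 0 n1818 = n2472 := rfl
theorem F1846 : act 1 n2472 = n1824 := d0_2 D1818 D2472 (iv D1824) (iv D1324) (iv D948) (iv D665) (iv F464) D945 D1320
def n2473 : Q := act 2 n1818
theorem D2473 : act 2 n1818 = n2473 := rfl
def n2474 : Q := act 2 n1819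
theorem D2474 : act 2 n1819 = n2474 := rfl
theorem F1847 : act 0 n2474 = n1820 := d1_1 D2474 (iv D1820) D1819
def n2475 : Q := act 3 n1819
theorem D2475 : act 3 n1819 = n2475 := rfl
theorem F1849 : act 1 n2475 = n1830 := d4_1 D2475 (iv D1830) (iv F1338)
def n2477 : Q := act 2 n1821
theorem D2477 : act 2 n1821 = n2477 := rfl
def n2478 : Q := act 1 n1822
theorem D2478 : act 1 n1822 = n2478 := rfl
def n2479 : Q := act 2 n1824
theorem D2479 : act 2 n1824 = n2479 := rfl
theorem F1851 : act 0 n2479 = n1825 := d1_1 D2479 (iv D1825) D1824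
def n2480 : Q := act 3 n1824
theorem D2480 : act 3 n1824 = n2480 := rfl
theorem F1852 : act 0 n2480 = n1826 := d2_1 D2480 (iv D1826) D1824
def n2482 : Q := act 2 n1826
theorem D2482 : act 2 n1826 = n2482 := rfl
def n2483 : Q := act 1 n1827
theorem D2483 : act 1 n1827 = n2483 := rfl
def n2484 : Q := act 3 n1827
theorem D2484 : act 3 n1827 = n2484 := rfl
theorem F1853 : act 0 n2484 = n1828 := d2_1 D2484 (iv D1828) (iv F1343)
theorem F1854 : act 2 n2484 = n2358 := d6_2 D1827 D2484 (iv D2358) (iv D1729) (iv D1250) F636 D949 (iv F959)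
def n2485 : Q := act 2 n1828
theorem D2485 : act 2 n1828 = n2485 := rfl
theorem F1855 : act 0 n2485 = n2358 := d1_1 D2485 (iv F1854) F1853
theorem F1856 : act 3 n2485 = n2357 := d5_2 D1828 D2485 (iv D2357) (iv D1728) F905 D1325 D1827 D2484 F1854 (iv D2358) (iv D1729) (iv D1250) F636 D949 D1326
def n2486 : Q := act 1 n1829
theorem D2486 : act 1 n1829 = n2486 := rfl
def n2487 : Q := act 3 n1829
theorem D2487 : act 3 n1829 = n2487 := rfl
theorem F1857 : act 0 n2487 = n1831 := d2_1 D2487 (iv D1831) (iv F1345)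
def n2488 : Q := act 2 n1830
theorem D2488 : act 2 n1830 = n2488 := rfl
def n2489 : Q := act 2 n1831
theorem D2489 : act 2 n1831 = n2489 := rfl
def n2490 : Q := act 3 n1832
theorem D2490 : act 3 n1832 = n2490 := rfl
theorem F1859 : act 1 n2490 = n2238 := d4_1 D2490 (iv F1673) F1672
def n2491 : Q := act 1 n1833
theorem D2491 : act 1 n1833 = n2491 := rfl
def n2492 : Q := act 3 n1833
theorem D2492 : act 3 n1833 = n2492 := rfl
theorem F1860 : act 0 n2492 = n1834 := d2_1 D2492 (iv D1834) D1833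
def n2493 : Q := act 2 n1834
theorem D2493 : act 2 n1834 = n2493 := rfl
def n2495 : Q := act 2 n1835
theorem D2495 : act 2 n1835 = n2495 := rfl
def n2496 : Q := act 1 n1836
theorem D2496 : act 1 n1836 = n2496 := rfl
def n2497 : Q := act 3 n1836
theorem D2497 : act 3 n1836 = n2497 := rfl
theorem F1863 : act 2 n2497 = n1936 := d6_2 D1836 D2497 (iv D1936) (iv D1410) (iv D1011) D1010 D1409 F1024
def n2498 : Q := act 0 n1837
theorem D2498 : act 0 n1837 = n2498 := rfl
theorem F1864 : act 2 n2498 = n1839 := d1_2 (iv F1351) D2498 (iv D1839)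
def n2499 : Q := act 3 n1837
theorem D2499 : act 3 n1837 = n2499 := rfl
theorem F1865 : act 1 n2499 = n1838 := d4_1 D2499 (iv D1838) D1837
def n2500 : Q := act 2 n1838
theorem D2500 : act 2 n1838 = n2500 := rfl
theorem F1867 : act 3 n2500 = n1934 := d5_2 D1838 D2500 (iv D1934) (iv D1409) (iv D1010) D1011 D1410 D1936 (iv F1863) (iv D2497) (iv D1836) (iv D1334) (iv D954) D955 D1335
def n2501 : Q := act 1 n1839
theorem D2501 : act 1 n1839 = n2501 := rfl
theorem F1868 : act 0 n2501 = n2235 := d0_1 D2501 F1665 F1197 F850 F608 (iv F473) (iv F684) D1336 D1839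
theorem F1869 : act 3 n2234 = n2501 := d2_0 F1868 (iv D2235) D2234
def n2502 : Q := act 3 n1839
theorem D2502 : act 3 n1839 = n2502 := rfl
theorem F1870 : act 0 n2502 = n1840 := d2_1 D2502 (iv D1840) D1839
theorem F1871 : act 1 n2502 = n2234 := d4_1 D2502 F1869 (iv D2501)
def n2503 : Q := act 2 n1840
theorem D2503 : act 2 n1840 = n2503 := rfl
theorem F1872 : act 1 n2503 = n2493 := d3_1 D2503 (iv D2493) F1349 (iv F967) (iv F1352)
def n2504 : Q := act 1 n1841
theorem D2504 : act 1 n1841 = n2504 := rfl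
theorem F1873 : act 2 n2504 = n2370 := d3_2 D1841 D2504 (iv D2370) (iv D1739) (iv F971)
def n2505 : Q := act 3 n1841
theorem D2505 : act 3 n1841 = n2505 := rfl
theorem F1874 : act 0 n2505 = n1842 := d2_1 D2505 (iv D1842) (iv F1353)
def n2506 : Q := act 2 n1842
theorem D2506 : act 2 n1842 = n2506 := rfl
def n2507 : Q := act 0 n1843
theorem D2507 : act 0 n1843 = n2507 := rfl
def n2508 : Q := act 1 n1844
theorem D2508 : act 1 n1844 = n2508 := rfl
def n2509 : Q := act 3 n1844
theorem D2509 : act 3 n1844 = n2509 := rfl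
def n2510 : Q := act 2 n1845
theorem D2510 : act 2 n1845 = n2510 := rfl
def n2511 : Q := act 0 n1846
theorem D2511 : act 0 n1846 = n2511 := rfl
theorem F1876 : act 1 n2511 = n1849 := d0_2 D1846 D2511 (iv D1849) (iv D1346) (iv D963) (iv D677) (iv F478) D961 D1344
def n2512 : Q := act 2 n1846
theorem D2512 : act 2 n1846 = n2512 := rfl
def n2514 : Q := act 2 n1847
theorem D2514 : act 2 n1847 = n2514 := rfl
def n2515 : Q := act 3 n1848
theorem D2515 : act 3 n1848 = n2515 := rfl
theorem F1879 : act 1 n2515 = n2389 := d4_1 D2515 (iv D2389) (iv F1357)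
def n2516 : Q := act 2 n1849
theorem D2516 : act 2 n1849 = n2516 := rfl
theorem F1880 : act 0 n2516 = n1850 := d1_1 D2516 (iv D1850) D1849
def n2517 : Q := act 3 n1849
theorem D2517 : act 3 n1849 = n2517 := rfl
theorem F1881 : act 0 n2517 = n1851 := d2_1 D2517 (iv D1851) D1849
def n2518 : Q := act 3 n1850
theorem D2518 : act 3 n1850 = n2518 := rfl
theorem F1882 : act 1 n2518 = n1857 := d4_1 D2518 (iv D1857) (iv F1358)
def n2519 : Q := act 2 n1851
theorem D2519 : act 2 n1851 = n2519 := rfl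
theorem F1883 : act 1 n2519 = n2101 := d3_1 D2519 (iv D2101) F1362 (iv D1852) (iv F1359)
def n2520 : Q := act 0 n1853
theorem D2520 : act 0 n1853 = n2520 := rfl
theorem F1884 : act 2 n2520 = n1855 := d1_2 (iv F1363) D2520 (iv D1855)
def n2521 : Q := act 3 n1853
theorem D2521 : act 3 n1853 = n2521 := rfl
theorem F1885 : act 1 n2521 = n1854 := d4_1 D2521 (iv D1854) D1853
def n2522 : Q := act 1 n1855
theorem D2522 : act 1 n1855 = n2522 := rfl
theorem F1886 : act 3 n2522 = n2384 := d4_2 (iv F1366) D2522 (iv D2384)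
def n2523 : Q := act 1 n1856
theorem D2523 : act 1 n1856 = n2523 := rfl
theorem F1887 : act 2 n2523 = n1867 := d3_2 D1856 D2523 (iv D1867) (iv D1359) (iv F979)
def n2524 : Q := act 3 n1856
theorem D2524 : act 3 n1856 = n2524 := rfl
theorem F1888 : act 0 n2524 = n1857 := d2_1 D2524 (iv D1857) (iv F1367)
def n2525 : Q := act 2 n1857
theorem D2525 : act 2 n1857 = n2525 := rfl
def n2526 : Q := act 0 n1858
theorem D2526 : act 0 n1858 = n2526 := rfl
theorem F1889 : act 2 n2526 = n1874 := d1_2 (iv F1368) D2526 (iv D1874)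
def n2527 : Q := act 3 n1858
theorem D2527 : act 3 n1858 = n2527 := rfl
theorem F1890 : act 1 n2527 = n1859 := d4_1 D2527 (iv D1859) D1858
def n2528 : Q := act 2 n1859
theorem D2528 : act 2 n1859 = n2528 := rfl
def n2529 : Q := act 1 n1860
theorem D2529 : act 1 n1860 = n2529 := rfl
theorem F1892 : act 2 n2529 = n1877 := d3_2 D1860 D2529 (iv D1877) (iv D1366) (iv F982)
def n2530 : Q := act 3 n1860
theorem D2530 : act 3 n1860 = n2530 := rfl
def n2531 : Q := act 1 n1861
theorem D2531 : act 1 n1861 = n2531 := rfl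
def n2532 : Q := act 3 n1861
theorem D2532 : act 3 n1861 = n2532 := rfl
theorem F1894 : act 2 n2532 = n2530 := d6_2 D1861 D2532 (iv D2530) (iv D1860) (iv D1353) D1352 D1859 F1369
def n2533 : Q := act 0 n1862
theorem D2533 : act 0 n1862 = n2533 := rfl
theorem F1895 : act 2 n2533 = n1864 := d1_2 (iv F1371) D2533 (iv D1864)
def n2534 : Q := act 3 n1862
theorem D2534 : act 3 n1862 = n2534 := rfl
theorem F1896 : act 1 n2534 = n1863 := d4_1 D2534 (iv D1863) D1862
def n2535 : Q := act 2 n1863
theorem D2535 : act 2 n1863 = n2535 := rfl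
theorem F1898 : act 3 n2535 = n2528 := d5_2 D1863 D2535 (iv D2528) (iv D1859) (iv D1352) D1353 D1860 D2530 (iv F1894) (iv D2532) (iv D1861) (iv D1354) (iv D968) D969 D1355
def n2536 : Q := act 1 n1864
theorem D2536 : act 1 n1864 = n2536 := rfl
def n2537 : Q := act 3 n1864
theorem D2537 : act 3 n1864 = n2537 := rfl
theorem F1899 : act 0 n2537 = n1865 := d2_1 D2537 (iv D1865) D1864
def n2538 : Q := act 0 n1866
theorem D2538 : act 0 n1866 = n2538 := rfl
theorem F1900 : act 2 n2538 = n2028 := d1_2 (iv F1373) D2538 F1495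
theorem F1901 : act 3 n2538 = n2398 := d2_2 (iv F1374) D2538 (iv D2398)
def n2539 : Q := act 0 n1867
theorem D2539 : act 0 n1867 = n2539 := rfl
def n2540 : Q := act 3 n1867
theorem D2540 : act 3 n1867 = n2540 := rfl
theorem F1902 : act 1 n2540 = n1868 := d4_1 D2540 (iv D1868) D1867
def n2541 : Q := act 2 n1868
theorem D2541 : act 2 n1868 = n2541 := rfl
def n2542 : Q := act 1 n1869
theorem D2542 : act 1 n1869 = n2542 := rfl
def n2543 : Q := act 3 n1869
theorem D2543 : act 3 n1869 = n2543 := rfl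
theorem F1904 : act 0 n2543 = n1872 := d2_1 D2543 (iv D1872) (iv F1376)
def n2544 : Q := act 1 n1870
theorem D2544 : act 1 n1870 = n2544 := rfl
theorem F1905 : act 2 n2544 = n2022 := d3_2 D1870 D2544 (iv D2022) (iv D1478) (iv F989)
def n2545 : Q := act 3 n1870
theorem D2545 : act 3 n1870 = n2545 := rfl
theorem F1906 : act 2 n2545 = n2543 := d6_2 D1870 D2545 (iv D2543) (iv D1869) (iv D1360) D1359 D1868 F1375
def n2546 : Q := act 0 n1871
theorem D2546 : act 0 n1871 = n2546 := rfl
theorem F1907 : act 2 n2546 = n1873 := d1_2 (iv F1377) D2546 (iv D1873)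
def n2547 : Q := act 3 n1871
theorem D2547 : act 3 n1871 = n2547 := rfl
theorem F1908 : act 1 n2547 = n1872 := d4_1 D2547 (iv D1872) D1871
def n2548 : Q := act 2 n1872
theorem D2548 : act 2 n1872 = n2548 := rfl
theorem F1909 : act 0 n2548 = n2545 := d1_1 D2548 F1906 F1904
theorem F1910 : act 3 n2548 = n2541 := d5_2 D1872 D2548 (iv D2541) (iv D1868) (iv D1359) D1360 D1869 D2543 (iv F1906) (iv D2545) (iv D1870) (iv D1361) (iv D973) D974 D1362
def n2549 : Q := act 1 n1873
theorem D2549 : act 1 n1873 = n2549 := rfl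
theorem F1911 : act 0 n2549 = n2536 := d0_1 D2549 (iv D2536) (iv D1864) (iv D1356) F697 (iv F482) (iv F700) D1363 D1873
def n2550 : Q := act 1 n1874
theorem D2550 : act 1 n1874 = n2550 := rfl
theorem F1912 : act 0 n2550 = n1887 := d0_1 D2550 (iv D1887) (iv D1374) (iv D984) F491 (iv F483) (iv F702) D1364 D1874
def n2551 : Q := act 3 n1874
theorem D2551 : act 3 n1874 = n2551 := rfl
theorem F1913 : act 0 n2551 = n1875 := d2_1 D2551 (iv D1875) D1874
def n2552 : Q := act 2 n1875
theorem D2552 : act 2 n1875 = n2552 := rfl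
def n2553 : Q := act 0 n1877
theorem D2553 : act 0 n1877 = n2553 := rfl
def n2554 : Q := act 3 n1877
theorem D2554 : act 3 n1877 = n2554 := rfl
theorem F1914 : act 1 n2554 = n1878 := d4_1 D2554 (iv D1878) D1877
def n2555 : Q := act 0 n1879
theorem D2555 : act 0 n1879 = n2555 := rfl
theorem F1915 : act 2 n2555 = n1891 := d1_2 (iv F1381) D2555 (iv D1891)
def n2556 : Q := act 3 n1879
theorem D2556 : act 3 n1879 = n2556 := rfl
theorem F1916 : act 1 n2556 = n1880 := d4_1 D2556 (iv D1880) D1879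
def n2557 : Q := act 2 n1882
theorem D2557 : act 2 n1882 = n2557 := rfl
theorem F1917 : act 0 n2557 = n1883 := d1_1 D2557 (iv D1883) D1882
def n2558 : Q := act 3 n1883
theorem D2558 : act 3 n1883 = n2558 := rfl
theorem F1918 : act 1 n2558 = n1886 := d4_1 D2558 (iv D1886) (iv F1386)
def n2559 : Q := act 2 n1884
theorem D2559 : act 2 n1884 = n2559 := rfl
def n2560 : Q := act 1 n1885
theorem D2560 : act 1 n1885 = n2560 := rfl
theorem F1919 : act 2 n2560 = n2542 := d3_2 D1885 D2560 (iv D2542) (iv D1869) (iv F995)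
def n2561 : Q := act 3 n1885
theorem D2561 : act 3 n1885 = n2561 := rfl
theorem F1920 : act 0 n2561 = n1886 := d2_1 D2561 (iv D1886) (iv F1388)
def n2562 : Q := act 2 n1886
theorem D2562 : act 2 n1886 = n2562 := rfl
def n2563 : Q := act 2 n1887
theorem D2563 : act 2 n1887 = n2563 := rfl
theorem F1921 : act 1 n2563 = n1893 := d3_1 D2563 (iv D1893) (iv D1379) (iv F997) D1887
def n2564 : Q := act 3 n1887
theorem D2564 : act 3 n1887 = n2564 := rfl
theorem F1922 : act 1 n2564 = n1888 := d4_1 D2564 (iv D1888) D1887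
def n2565 : Q := act 2 n1888
theorem D2565 : act 2 n1888 = n2565 := rfl
def n2566 : Q := act 1 n1889
theorem D2566 : act 1 n1889 = n2566 := rfl
theorem F1924 : act 2 n2566 = n1890 := d3_2 D1889 D2566 (iv D1890) (iv D1376) (iv F998)
def n2567 : Q := act 3 n1889
theorem D2567 : act 3 n1889 = n2567 := rfl
def n2568 : Q := act 0 n1890
theorem D2568 : act 0 n1890 = n2568 := rfl
theorem F1925 : act 3 n2568 = n2105 := d2_2 (iv F1390) D2568 (iv D2105)
def n2569 : Q := act 1 n1891
theorem D2569 : act 1 n1891 = n2569 := rfl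
def n2570 : Q := act 3 n1891
theorem D2570 : act 3 n1891 = n2570 := rfl
theorem F1926 : act 0 n2570 = n1892 := d2_1 D2570 (iv D1892) D1891
def n2571 : Q := act 2 n1892
theorem D2571 : act 2 n1892 = n2571 := rfl
theorem F1927 : act 1 n2571 = n2104 := d3_1 D2571 (iv D2104) F1121 (iv F1002) (iv F1391)
def n2572 : Q := act 3 n1893
theorem D2572 : act 3 n1893 = n2572 := rfl
theorem F1928 : act 0 n2572 = n1909 := d2_1 D2572 (iv D1909) (iv F1392)
def n2573 : Q := act 2 n1894
theorem D2573 : act 2 n1894 = n2573 := rfl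
theorem F1929 : act 0 n2573 = n1910 := d1_1 D2573 (iv D1910) (iv F1393)
def n2574 : Q := act 1 n1895
theorem D2574 : act 1 n1895 = n2574 := rfl
def n2575 : Q := act 3 n1895
theorem D2575 : act 3 n1895 = n2575 := rfl
theorem F1931 : act 2 n2575 = n2567 := d6_2 D1895 D2575 (iv D2567) (iv D1889) (iv D1375) F708 D988 (iv F1004)
def n2577 : Q := act 3 n1896
theorem D2577 : act 3 n1896 = n2577 := rfl
theorem F1933 : act 1 n2577 = n1897 := d4_1 D2577 (iv D1897) D1896
def n2578 : Q := act 2 n1897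
theorem D2578 : act 2 n1897 = n2578 := rfl
theorem F1935 : act 3 n2578 = n2565 := d5_2 D1897 D2578 (iv D2565) (iv D1888) F997 D1380 D1895 D2575 F1931 (iv D2567) (iv D1889) (iv D1375) F708 D988 D1381
def n2580 : Q := act 0 n1899
theorem D2580 : act 0 n1899 = n2580 := rfl
theorem F1936 : act 1 n2580 = n1905 := d0_2 D1899 D2580 (iv D1905) (iv D1387) (iv D994) (iv D699) (iv F493) D990 D1383
def n2581 : Q := act 2 n1899
theorem D2581 : act 2 n1899 = n2581 := rfl
def n2582 : Q := act 3 n1899
theorem D2582 : act 3 n1899 = n2582 := rfl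
theorem F1937 : act 1 n2582 = n1900 := d4_1 D2582 (iv D1900) D1899
def n2583 : Q := act 2 n1900
theorem D2583 : act 2 n1900 = n2583 := rfl
theorem F1938 : act 0 n2583 = n1901 := d1_1 D2583 (iv D1901) (iv F1397)
def n2584 : Q := act 3 n1901
theorem D2584 : act 3 n1901 = n2584 := rfl
def n2585 : Q := act 0 n1902
theorem D2585 : act 0 n1902 = n2585 := rfl
def n2586 : Q := act 2 n1902
theorem D2586 : act 2 n1902 = n2586 := rfl
theorem F1939 : act 1 n2586 = n1923 := d3_1 D2586 (iv D1923) (iv D1399) (iv F1006) D1902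
def n2587 : Q := act 3 n1902
theorem D2587 : act 3 n1902 = n2587 := rfl
theorem F1940 : act 1 n2587 = n1903 := d4_1 D2587 (iv D1903) D1902
def n2588 : Q := act 2 n1903
theorem D2588 : act 2 n1903 = n2588 := rfl
theorem F1941 : act 0 n2588 = n1904 := d1_1 D2588 (iv D1904) (iv F1398)
def n2589 : Q := act 3 n1904
theorem D2589 : act 3 n1904 = n2589 := rfl
theorem F1942 : act 1 n2589 = n2584 := d4_1 D2589 (iv D2584) (iv F1399)
def n2590 : Q := act 2 n1905
theorem D2590 : act 2 n1905 = n2590 := rfl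
def n2591 : Q := act 3 n1906
theorem D2591 : act 3 n1906 = n2591 := rfl
theorem F1944 : act 1 n2591 = n1908 := d4_1 D2591 (iv D1908) (iv F1400)
def n2592 : Q := act 1 n1907
theorem D2592 : act 1 n1907 = n2592 := rfl
def n2593 : Q := act 2 n1908
theorem D2593 : act 2 n1908 = n2593 := rfl
def n2594 : Q := act 2 n1909
theorem D2594 : act 2 n1909 = n2594 := rfl
def n2595 : Q := act 1 n1910
theorem D2595 : act 1 n1910 = n2595 := rfl
theorem F1946 : act 2 n2595 = n1911 := d3_2 D1910 D2595 (iv D1911) (iv D1392) (iv F1009)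
def n2596 : Q := act 3 n1910
theorem D2596 : act 3 n1910 = n2596 := rfl
def n2597 : Q := act 0 n1911
theorem D2597 : act 0 n1911 = n2597 := rfl
def n2598 : Q := act 3 n1911
theorem D2598 : act 3 n1911 = n2598 := rfl
theorem F1947 : act 1 n2598 = n1912 := d4_1 D2598 (iv D1912) D1911
def n2599 : Q := act 1 n1913
theorem D2599 : act 1 n1913 = n2599 := rfl
def n2600 : Q := act 3 n1913
theorem D2600 : act 3 n1913 = n2600 := rfl
theorem F1948 : act 0 n2600 = n1914 := d2_1 D2600 (iv D1914) D1913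
def n2601 : Q := act 2 n1914
theorem D2601 : act 2 n1914 = n2601 := rfl
def n2602 : Q := act 1 n1915
theorem D2602 : act 1 n1915 = n2602 := rfl
theorem F1949 : act 3 n2602 = n2456 := d4_2 (iv F1407) D2602 (iv D2456)
def n2603 : Q := act 0 n1916
theorem D2603 : act 0 n1916 = n2603 := rfl
theorem F1950 : act 1 n2603 = n1922 := d0_2 D1916 D2603 (iv D1922) (iv D1399) (iv D1004) (iv D707) (iv F496) D1001 D1395
def n2604 : Q := act 2 n1916
theorem D2604 : act 2 n1916 = n2604 := rfl
def n2605 : Q := act 2 n1917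
theorem D2605 : act 2 n1917 = n2605 := rfl
theorem F1951 : act 0 n2605 = n1918 := d1_1 D2605 (iv D1918) D1917
def n2606 : Q := act 3 n1917
theorem D2606 : act 3 n1917 = n2606 := rfl
theorem F1952 : act 0 n2606 = n1919 := d2_1 D2606 (iv D1919) D1917
theorem F1953 : act 1 n2606 = n1928 := d4_1 D2606 (iv D1928) (iv F1408)
def n2607 : Q := act 3 n1918
theorem D2607 : act 3 n1918 = n2607 := rfl
def n2608 : Q := act 2 n1919
theorem D2608 : act 2 n1919 = n2608 := rfl
def n2609 : Q := act 1 n1920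
theorem D2609 : act 1 n1920 = n2609 := rfl
def n2610 : Q := act 3 n1920
theorem D2610 : act 3 n1920 = n2610 := rfl
theorem F1954 : act 0 n2610 = n1921 := d2_1 D2610 (iv D1921) (iv F1410)
theorem F1955 : act 2 n2610 = n1985 := d6_2 D1920 D2610 (iv D1985) (iv D1450) (iv D1039) F519 D1003 (iv F1012)
def n2611 : Q := act 2 n1921
theorem D2611 : act 2 n1921 = n2611 := rfl
theorem F1956 : act 0 n2611 = n1985 := d1_1 D2611 (iv F1955) F1954
theorem F1957 : act 3 n2611 = n1984 := d5_2 D1921 D2611 (iv D1984) (iv D1449) F744 D1397 D1920 D2610 F1955 (iv D1985) (iv D1450) (iv D1039) F519 D1003 D1398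
def n2612 : Q := act 2 n1922
theorem D2612 : act 2 n1922 = n2612 := rfl
theorem F1958 : act 0 n2612 = n1923 := d1_1 D2612 (iv D1923) D1922
def n2613 : Q := act 3 n1922
theorem D2613 : act 3 n1922 = n2613 := rfl
theorem F1959 : act 0 n2613 = n1924 := d2_1 D2613 (iv D1924) D1922
def n2614 : Q := act 3 n1923
theorem D2614 : act 3 n1923 = n2614 := rfl
def n2615 : Q := act 2 n1924
theorem D2615 : act 2 n1924 = n2615 := rfl
def n2616 : Q := act 1 n1925
theorem D2616 : act 1 n1925 = n2616 := rfl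
def n2617 : Q := act 3 n1925
theorem D2617 : act 3 n1925 = n2617 := rfl
theorem F1960 : act 0 n2617 = n1926 := d2_1 D2617 (iv D1926) (iv F1412)
theorem F1961 : act 2 n2617 = n2589 := d6_2 D1925 D2617 (iv D2589) (iv D1904) (iv D1386) F713 D1005 (iv F1013)
def n2618 : Q := act 2 n1926
theorem D2618 : act 2 n1926 = n2618 := rfl
theorem F1962 : act 0 n2618 = n2589 := d1_1 D2618 (iv F1961) F1960
theorem F1963 : act 3 n2618 = n2588 := d5_2 D1926 D2618 (iv D2588) (iv D1903) F1006 D1400 D1925 D2617 F1961 (iv D2589) (iv D1904) (iv D1386) F713 D1005 D1401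
def n2619 : Q := act 1 n1927
theorem D2619 : act 1 n1927 = n2619 := rfl
def n2620 : Q := act 3 n1927
theorem D2620 : act 3 n1927 = n2620 := rfl
theorem F1964 : act 0 n2620 = n1929 := d2_1 D2620 (iv D1929) (iv F1414)
def n2621 : Q := act 2 n1928
theorem D2621 : act 2 n1928 = n2621 := rfl
theorem F1965 : act 0 n2621 = n1930 := d1_1 D2621 (iv D1930) (iv F1415)
def n2622 : Q := act 2 n1929
theorem D2622 : act 2 n1929 = n2622 := rfl
def n2623 : Q := act 1 n1931
theorem D2623 : act 1 n1931 = n2623 := rfl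
def n2624 : Q := act 3 n1931
theorem D2624 : act 3 n1931 = n2624 := rfl
theorem F1966 : act 0 n2624 = n1932 := d2_1 D2624 (iv D1932) D1931
def n2625 : Q := act 2 n1932
theorem D2625 : act 2 n1932 = n2625 := rfl
theorem F1967 : act 1 n2625 = n2039 := d3_1 D2625 (iv D2039) (iv D1492) (iv F1022) (iv F1419)
def n2626 : Q := act 0 n1933
theorem D2626 : act 0 n1933 = n2626 := rfl
theorem F1968 : act 1 n2626 = n2613 := d0_2 D1933 D2626 F1959 F1411 F1013 F721 (iv F501) D1009 D1408
theorem F1969 : act 3 n2626 = n2603 := d2_2 (iv F1420) D2626 (iv D2603)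
def n2627 : Q := act 2 n1933
theorem D2627 : act 2 n1933 = n2627 := rfl
def n2628 : Q := act 1 n1934
theorem D2628 : act 1 n1934 = n2628 := rfl
def n2629 : Q := act 0 n1935
theorem D2629 : act 0 n1935 = n2629 := rfl
theorem F1970 : act 2 n2629 = n1937 := d1_2 (iv F1422) D2629 (iv D1937)
def n2630 : Q := act 3 n1935
theorem D2630 : act 3 n1935 = n2630 := rfl
theorem F1971 : act 1 n2630 = n1936 := d4_1 D2630 (iv D1936) D1935
def n2631 : Q := act 1 n1938
theorem D2631 : act 1 n1938 = n2631 := rfl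
theorem F1972 : act 2 n2631 = n2067 := d3_2 D1938 D2631 (iv D2067) (iv D1511) (iv F1026)
def n2632 : Q := act 3 n1938
theorem D2632 : act 3 n1938 = n2632 := rfl
theorem F1973 : act 0 n2632 = n1939 := d2_1 D2632 (iv D1939) (iv F1424)
def n2633 : Q := act 2 n1939
theorem D2633 : act 2 n1939 = n2633 := rfl
def n2634 : Q := act 1 n1940
theorem D2634 : act 1 n1940 = n2634 := rfl
def n2635 : Q := act 0 n1941
theorem D2635 : act 0 n1941 = n2635 := rfl
theorem F1974 : act 2 n2635 = n1943 := d1_2 (iv F1427) D2635 (iv D1943)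
def n2636 : Q := act 3 n1941
theorem D2636 : act 3 n1941 = n2636 := rfl
theorem F1975 : act 1 n2636 = n1942 := d4_1 D2636 (iv D1942) D1941
def n2637 : Q := act 1 n1943
theorem D2637 : act 1 n1943 = n2637 := rfl
def n2638 : Q := act 3 n1943
theorem D2638 : act 3 n1943 = n2638 := rfl
theorem F1976 : act 0 n2638 = n1944 := d2_1 D2638 (iv D1944) D1943
def n2639 : Q := act 2 n1944
theorem D2639 : act 2 n1944 = n2639 := rfl
theorem F1977 : act 1 n2639 = n2471 := d3_1 D2639 (iv D2471) F1337 (iv F1032) (iv F1429)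
def n2640 : Q := act 0 n1945
theorem D2640 : act 0 n1945 = n2640 := rfl
def n2641 : Q := act 2 n1945
theorem D2641 : act 2 n1945 = n2641 := rfl
theorem F1978 : act 1 n2641 = n1950 := d3_1 D2641 (iv D1950) (iv D1421) (iv F1033) D1945
def n2642 : Q := act 3 n1945
theorem D2642 : act 3 n1945 = n2642 := rfl
theorem F1979 : act 1 n2642 = n1946 := d4_1 D2642 (iv D1946) D1945
def n2643 : Q := act 1 n1947
theorem D2643 : act 1 n1947 = n2643 := rfl
theorem F1980 : act 2 n2643 = n1948 := d3_2 D1947 D2643 (iv D1948) (iv D1420) (iv F1034)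
def n2644 : Q := act 0 n1948
theorem D2644 : act 0 n1948 = n2644 := rfl
theorem F1981 : act 3 n2644 = n2468 := d2_2 (iv F1431) D2644 (iv D2468)
def n2645 : Q := act 2 n1949
theorem D2645 : act 2 n1949 = n2645 := rfl
theorem F1982 : act 0 n2645 = n1950 := d1_1 D2645 (iv D1950) D1949
def n2647 : Q := act 1 n1951
theorem D2647 : act 1 n1951 = n2647 := rfl
theorem F1983 : act 2 n2647 = n1963 := d3_2 D1951 D2647 (iv D1963) (iv D1432) (iv F1037)
def n2648 : Q := act 3 n1951
theorem D2648 : act 3 n1951 = n2648 := rfl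
theorem F1984 : act 0 n2648 = n1953 := d2_1 D2648 (iv D1953) (iv F1433)
def n2649 : Q := act 2 n1952
theorem D2649 : act 2 n1952 = n2649 := rfl
theorem F1985 : act 0 n2649 = n1954 := d1_1 D2649 (iv D1954) (iv F1434)
def n2650 : Q := act 2 n1953
theorem D2650 : act 2 n1953 = n2650 := rfl
def n2651 : Q := act 1 n1954
theorem D2651 : act 1 n1954 = n2651 := rfl
theorem F1986 : act 2 n2651 = n1955 := d3_2 D1954 D2651 (iv D1955) (iv D1425) (iv F1038)
def n2652 : Q := act 3 n1954
theorem D2652 : act 3 n1954 = n2652 := rfl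
def n2653 : Q := act 0 n1955
theorem D2653 : act 0 n1955 = n2653 := rfl
def n2654 : Q := act 3 n1955
theorem D2654 : act 3 n1955 = n2654 := rfl
theorem F1987 : act 1 n2654 = n1956 := d4_1 D2654 (iv D1956) D1955
def n2655 : Q := act 1 n1957
theorem D2655 : act 1 n1957 = n2655 := rfl
theorem F1988 : act 2 n2655 = n2178 := d3_2 D1957 D2655 F1620 F1159 F1043
theorem F1989 : act 3 n2655 = n2478 := d4_2 (iv F1439) D2655 (iv D2478)
def n2656 : Q := act 1 n1958
theorem D2656 : act 1 n1958 = n2656 := rfl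
def n2657 : Q := act 3 n1958
theorem D2657 : act 3 n1958 = n2657 := rfl
theorem F1990 : act 0 n2657 = n1960 := d2_1 D2657 (iv D1960) (iv F1440)
def n2658 : Q := act 2 n1959
theorem D2658 : act 2 n1959 = n2658 := rfl
theorem F1991 : act 0 n2658 = n1961 := d1_1 D2658 (iv D1961) (iv F1441)
def n2659 : Q := act 2 n1960
theorem D2659 : act 2 n1960 = n2659 := rfl
def n2660 : Q := act 1 n1961
theorem D2660 : act 1 n1961 = n2660 := rfl
theorem F1992 : act 2 n2660 = n1962 := d3_2 D1961 D2660 (iv D1962) (iv D1430) (iv F1041)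
def n2661 : Q := act 3 n1961
theorem D2661 : act 3 n1961 = n2661 := rfl
def n2662 : Q := act 0 n1962
theorem D2662 : act 0 n1962 = n2662 := rfl
def n2663 : Q := act 0 n1963
theorem D2663 : act 0 n1963 = n2663 := rfl
def n2664 : Q := act 3 n1963
theorem D2664 : act 3 n1963 = n2664 := rfl
theorem F1993 : act 1 n2664 = n1964 := d4_1 D2664 (iv D1964) D1963
def n2665 : Q := act 1 n1965
theorem D2665 : act 1 n1965 = n2665 := rfl
theorem F1994 : act 2 n2665 = n1972 := d3_2 D1965 D2665 (iv D1972) (iv D1439) (iv F1046)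
def n2666 : Q := act 2 n1966
theorem D2666 : act 2 n1966 = n2666 := rfl
def n2669 : Q := act 1 n1969
theorem D2669 : act 1 n1969 = n2669 := rfl
def n2670 : Q := act 3 n1969
theorem D2670 : act 3 n1969 = n2670 := rfl
theorem F1997 : act 0 n2670 = n1970 := d2_1 D2670 (iv D1970) D1969
def n2671 : Q := act 2 n1970
theorem D2671 : act 2 n1970 = n2671 := rfl
def n2672 : Q := act 1 n1971
theorem D2672 : act 1 n1971 = n2672 := rfl
theorem F1998 : act 3 n2672 = n2204 := d4_2 (iv F1449) D2672 (iv D2204)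
def n2673 : Q := act 0 n1972
theorem D2673 : act 0 n1972 = n2673 := rfl
def n2674 : Q := act 3 n1972
theorem D2674 : act 3 n1972 = n2674 := rfl
theorem F1999 : act 1 n2674 = n1973 := d4_1 D2674 (iv D1973) D1972
def n2675 : Q := act 2 n1974
theorem D2675 : act 2 n1974 = n2675 := rfl
theorem F2000 : act 0 n2675 = n1982 := d1_1 D2675 (iv D1982) (iv F1452)
def n2676 : Q := act 3 n1974
theorem D2676 : act 3 n1974 = n2676 := rfl
theorem F2001 : act 0 n2676 = n1983 := d2_1 D2676 (iv D1983) (iv F1452)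
theorem F2002 : act 1 n2676 = n1975 := d4_1 D2676 (iv D1975) D1974
def n2677 : Q := act 2 n1975
theorem D2677 : act 2 n1975 = n2677 := rfl
def n2678 : Q := act 1 n1976
theorem D2678 : act 1 n1976 = n2678 := rfl
theorem F2004 : act 2 n2678 = n1977 := d3_2 D1976 D2678 (iv D1977) (iv D1442) (iv F1051)
def n2679 : Q := act 3 n1976
theorem D2679 : act 3 n1976 = n2679 := rfl
def n2680 : Q := act 0 n1977
theorem D2680 : act 0 n1977 = n2680 := rfl
theorem F2005 : act 3 n2680 = n2294 := d2_2 (iv F1454) D2680 F1708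
def n2681 : Q := act 1 n1978
theorem D2681 : act 1 n1978 = n2681 := rfl
def n2682 : Q := act 3 n1978
theorem D2682 : act 3 n1978 = n2682 := rfl
theorem F2006 : act 0 n2682 = n1979 := d2_1 D2682 (iv D1979) D1978
def n2683 : Q := act 2 n1979
theorem D2683 : act 2 n1979 = n2683 := rfl
def n2684 : Q := act 1 n1980
theorem D2684 : act 1 n1980 = n2684 := rfl
def n2685 : Q := act 3 n1980
theorem D2685 : act 3 n1980 = n2685 := rfl
theorem F2007 : act 0 n2685 = n1981 := d2_1 D2685 (iv D1981) D1980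
def n2686 : Q := act 2 n1981
theorem D2686 : act 2 n1981 = n2686 := rfl
theorem F2008 : act 1 n2686 = n2683 := d3_1 D2686 (iv D2683) F1455 (iv F1055) (iv F1457)
def n2687 : Q := act 3 n1982
theorem D2687 : act 3 n1982 = n2687 := rfl
theorem F2009 : act 1 n2687 = n2607 := d4_1 D2687 (iv D2607) (iv F1458)
def n2688 : Q := act 2 n1983
theorem D2688 : act 2 n1983 = n2688 := rfl
def n2689 : Q := act 1 n1984
theorem D2689 : act 1 n1984 = n2689 := rfl
def n2692 : Q := act 1 n1987
theorem D2692 : act 1 n1987 = n2692 := rfl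
def n2693 : Q := act 3 n1987
theorem D2693 : act 3 n1987 = n2693 := rfl
theorem F2010 : act 0 n2693 = n1988 := d2_1 D2693 (iv D1988) D1987
def n2694 : Q := act 2 n1988
theorem D2694 : act 2 n1988 = n2694 := rfl
theorem F2011 : act 1 n2694 = n2510 := d3_1 D2694 (iv D2510) F1355 (iv F1060) (iv F1462)
def n2695 : Q := act 0 n1989
theorem D2695 : act 0 n1989 = n2695 := rfl
def n2697 : Q := act 3 n1989
theorem D2697 : act 3 n1989 = n2697 := rfl
theorem F2013 : act 1 n2697 = n1990 := d4_1 D2697 (iv D1990) D1989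
def n2698 : Q := act 2 n1990
theorem D2698 : act 2 n1990 = n2698 := rfl
def n2699 : Q := act 1 n1991
theorem D2699 : act 1 n1991 = n2699 := rfl
theorem F2015 : act 2 n2699 = n1992 := d3_2 D1991 D2699 (iv D1992) (iv D1456) (iv F1062)
def n2700 : Q := act 3 n1991
theorem D2700 : act 3 n1991 = n2700 := rfl
def n2701 : Q := act 0 n1992
theorem D2701 : act 0 n1992 = n2701 := rfl
theorem F2016 : act 3 n2701 = n2507 := d2_2 (iv F1464) D2701 (iv D2507)
def n2702 : Q := act 2 n1993
theorem D2702 : act 2 n1993 = n2702 := rfl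
theorem F2017 : act 0 n2702 = n1994 := d1_1 D2702 (iv D1994) D1993
def n2703 : Q := act 3 n1993
theorem D2703 : act 3 n1993 = n2703 := rfl
theorem F2018 : act 0 n2703 = n1995 := d2_1 D2703 (iv D1995) D1993
theorem F2019 : act 1 n2703 = n1999 := d4_1 D2703 (iv D1999) (iv F1465)
def n2704 : Q := act 3 n1994
theorem D2704 : act 3 n1994 = n2704 := rfl
def n2705 : Q := act 2 n1995
theorem D2705 : act 2 n1995 = n2705 := rfl
def n2706 : Q := act 1 n1996
theorem D2706 : act 1 n1996 = n2706 := rfl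
def n2707 : Q := act 3 n1996
theorem D2707 : act 3 n1996 = n2707 := rfl
theorem F2020 : act 0 n2707 = n1997 := d2_1 D2707 (iv D1997) (iv F1467)
theorem F2021 : act 2 n2707 = n2700 := d6_2 D1996 D2707 (iv D2700) (iv D1991) (iv D1455) F746 D1045 (iv F1065)
def n2708 : Q := act 2 n1997
theorem D2708 : act 2 n1997 = n2708 := rfl
theorem F2022 : act 0 n2708 = n2700 := d1_1 D2708 (iv F2021) F2020
theorem F2023 : act 1 n2708 = n2043 := d3_1 D2708 (iv D2043) F1094 (iv F1072) (iv F1468)
theorem F2024 : act 3 n2708 = n2698 := d5_2 D1997 D2708 (iv D2698) (iv D1990) F1061 D1458 D1996 D2707 F2021 (iv D2700) (iv D1991) (iv D1455) F746 D1045 D1459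
def n2709 : Q := act 1 n1998
theorem D2709 : act 1 n1998 = n2709 := rfl
def n2710 : Q := act 3 n1998
theorem D2710 : act 3 n1998 = n2710 := rfl
theorem F2025 : act 0 n2710 = n2000 := d2_1 D2710 (iv D2000) (iv F1469)
def n2711 : Q := act 2 n1999
theorem D2711 : act 2 n1999 = n2711 := rfl
theorem F2026 : act 0 n2711 = n2001 := d1_1 D2711 (iv D2001) (iv F1470)
def n2712 : Q := act 2 n2000
theorem D2712 : act 2 n2000 = n2712 := rfl
def n2713 : Q := act 3 n2001
theorem D2713 : act 3 n2001 = n2713 := rfl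
theorem F2027 : act 1 n2713 = n2062 := d4_1 D2713 (iv F1529) F1528
def n2714 : Q := act 0 n2002
theorem D2714 : act 0 n2002 = n2714 := rfl
theorem F2028 : act 2 n2714 = n2017 := d1_2 (iv F1472) D2714 (iv D2017)
def n2715 : Q := act 3 n2002
theorem D2715 : act 3 n2002 = n2715 := rfl
theorem F2029 : act 1 n2715 = n2003 := d4_1 D2715 (iv D2003) D2002
def n2716 : Q := act 2 n2003
theorem D2716 : act 2 n2003 = n2716 := rfl
theorem F2030 : act 0 n2716 = n2004 := d1_1 D2716 (iv D2004) (iv F1473)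
theorem F2031 : act 3 n2716 = n2046 := d6_1 D2716 (iv D2046) (iv D1497) (iv D1075) F539 D1050 D1466 (iv F1473)
def n2717 : Q := act 1 n2004
theorem D2717 : act 1 n2004 = n2717 := rfl
def n2718 : Q := act 3 n2004
theorem D2718 : act 3 n2004 = n2718 := rfl
theorem F2032 : act 0 n2718 = n2046 := d2_1 D2718 (iv F2031) F2030
theorem F2033 : act 2 n2718 = n2045 := d5_1 D2718 (iv D2045) (iv D1496) F768 D1465 D2003 D2716 F2031 (iv D2046) (iv D1497) (iv D1075) F539 D1050 D1466 D2004
def n2721 : Q := act 2 n2006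
theorem D2721 : act 2 n2006 = n2721 := rfl
def n2722 : Q := act 1 n2007
theorem D2722 : act 1 n2007 = n2722 := rfl
def n2723 : Q := act 0 n2008
theorem D2723 : act 0 n2008 = n2723 := rfl
theorem F2036 : act 2 n2723 = n2034 := d1_2 (iv F1477) D2723 (iv D2034)
def n2724 : Q := act 3 n2008
theorem D2724 : act 3 n2008 = n2724 := rfl
theorem F2037 : act 1 n2724 = n2009 := d4_1 D2724 (iv D2009) D2008
def n2725 : Q := act 0 n2010
theorem D2725 : act 0 n2010 = n2725 := rfl
def n2726 : Q := act 3 n2010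
theorem D2726 : act 3 n2010 = n2726 := rfl
theorem F2039 : act 1 n2726 = n2011 := d4_1 D2726 (iv D2011) D2010
def n2727 : Q := act 1 n2012
theorem D2727 : act 1 n2012 = n2727 := rfl
def n2728 : Q := act 3 n2012
theorem D2728 : act 3 n2012 = n2728 := rfl
theorem F2040 : act 0 n2728 = n2013 := d2_1 D2728 (iv D2013) D2012
theorem F2041 : act 2 n2728 = n2547 := d6_2 (iv F1481) D2728 (iv D2547) F1377 (iv F1084) F1083 (iv D1474) D1473
def n2729 : Q := act 2 n2013
theorem D2729 : act 2 n2013 = n2729 := rfl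
theorem F2042 : act 0 n2729 = n2547 := d1_1 D2729 (iv F2041) F2040
theorem F2043 : act 3 n2729 = n2546 := d5_2 D2013 D2729 F1907 (iv F1497) F1496 (iv D2016) (iv F1481) D2728 F2041 (iv D2547) F1377 (iv F1084) F1083 (iv D1474) (iv F1077)
def n2730 : Q := act 1 n2014
theorem D2730 : act 1 n2014 = n2730 := rfl
theorem F2044 : act 3 n2730 = n2722 := d4_2 (iv F1484) D2730 (iv D2722)
def n2731 : Q := act 2 n2015
theorem D2731 : act 2 n2015 = n2731 := rfl
def n2732 : Q := act 3 n2015
theorem D2732 : act 3 n2015 = n2732 := rfl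
theorem F2045 : act 1 n2732 = n2016 := d4_1 D2732 (iv D2016) D2015
def n2733 : Q := act 1 n2017
theorem D2733 : act 1 n2017 = n2733 := rfl
def n2734 : Q := act 3 n2017
theorem D2734 : act 3 n2017 = n2734 := rfl
theorem F2046 : act 0 n2734 = n2018 := d2_1 D2734 (iv D2018) D2017
def n2735 : Q := act 2 n2018
theorem D2735 : act 2 n2018 = n2735 := rfl
def n2736 : Q := act 1 n2019
theorem D2736 : act 1 n2019 = n2736 := rfl
def n2737 : Q := act 0 n2020
theorem D2737 : act 0 n2020 = n2737 := rfl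
def n2738 : Q := act 3 n2020
theorem D2738 : act 3 n2020 = n2738 := rfl
theorem F2047 : act 1 n2738 = n2021 := d4_1 D2738 (iv D2021) D2020
def n2739 : Q := act 0 n2022
theorem D2739 : act 0 n2022 = n2739 := rfl
def n2740 : Q := act 3 n2022
theorem D2740 : act 3 n2022 = n2740 := rfl
theorem F2048 : act 1 n2740 = n2023 := d4_1 D2740 (iv D2023) D2022
def n2741 : Q := act 1 n2024
theorem D2741 : act 1 n2024 = n2741 := rfl
def n2742 : Q := act 3 n2024
theorem D2742 : act 3 n2024 = n2742 := rfl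
theorem F2049 : act 0 n2742 = n2025 := d2_1 D2742 (iv D2025) D2024
def n2743 : Q := act 2 n2025
theorem D2743 : act 2 n2025 = n2743 := rfl
def n2744 : Q := act 1 n2026
theorem D2744 : act 1 n2026 = n2744 := rfl
theorem F2050 : act 3 n2744 = n2736 := d4_2 (iv F1493) D2744 (iv D2736)
def n2745 : Q := act 2 n2027
theorem D2745 : act 2 n2027 = n2745 := rfl
theorem F2051 : act 0 n2745 = n2731 := d1_1 D2745 (iv D2731) (iv F1494)
def n2746 : Q := act 3 n2027
theorem D2746 : act 3 n2027 = n2746 := rfl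
theorem F2052 : act 0 n2746 = n2732 := d2_1 D2746 (iv D2732) (iv F1494)
theorem F2053 : act 1 n2746 = n2028 := d4_1 D2746 (iv D2028) D2027
def n2747 : Q := act 1 n2029
theorem D2747 : act 1 n2029 = n2747 := rfl
theorem F2054 : act 3 n2747 = n2549 := d4_2 (iv F1497) D2747 (iv D2549)
def n2748 : Q := act 2 n2030
theorem D2748 : act 2 n2030 = n2748 := rfl
theorem F2055 : act 0 n2748 = n2047 := d1_1 D2748 (iv D2047) (iv F1498)
def n2749 : Q := act 3 n2030
theorem D2749 : act 3 n2030 = n2749 := rfl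
theorem F2057 : act 1 n2749 = n2031 := d4_1 D2749 (iv D2031) D2030
def n2750 : Q := act 2 n2031
theorem D2750 : act 2 n2031 = n2750 := rfl
def n2751 : Q := act 1 n2032
theorem D2751 : act 1 n2032 = n2751 := rfl
theorem F2059 : act 2 n2751 = n2033 := d3_2 D2032 D2751 (iv D2033) (iv D1486) (iv F1085)
def n2753 : Q := act 0 n2033
theorem D2753 : act 0 n2033 = n2753 := rfl
theorem F2060 : act 3 n2753 = n2621 := d2_2 (iv F1500) D2753 F1965
def n2754 : Q := act 1 n2034
theorem D2754 : act 1 n2034 = n2754 := rfl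
def n2755 : Q := act 3 n2034
theorem D2755 : act 3 n2034 = n2755 := rfl
theorem F2061 : act 0 n2755 = n2035 := d2_1 D2755 (iv D2035) D2034
def n2756 : Q := act 2 n2035
theorem D2756 : act 2 n2035 = n2756 := rfl
def n2757 : Q := act 1 n2036
theorem D2757 : act 1 n2036 = n2757 := rfl
def n2758 : Q := act 3 n2036
theorem D2758 : act 3 n2036 = n2758 := rfl
theorem F2062 : act 0 n2758 = n2037 := d2_1 D2758 (iv D2037) D2036
def n2759 : Q := act 2 n2037
theorem D2759 : act 2 n2037 = n2759 := rfl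
theorem F2063 : act 1 n2759 = n2756 := d3_1 D2759 (iv D2756) F1501 (iv F1089) (iv F1503)
def n2760 : Q := act 2 n2038
theorem D2760 : act 2 n2038 = n2760 := rfl
def n2761 : Q := act 3 n2039
theorem D2761 : act 3 n2039 = n2761 := rfl
def n2762 : Q := act 1 n2040
theorem D2762 : act 1 n2040 = n2762 := rfl
def n2763 : Q := act 3 n2040
theorem D2763 : act 3 n2040 = n2763 := rfl
theorem F2065 : act 0 n2763 = n2042 := d2_1 D2763 (iv D2042) (iv F1506)
def n2764 : Q := act 2 n2041
theorem D2764 : act 2 n2041 = n2764 := rfl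
theorem F2066 : act 0 n2764 = n2043 := d1_1 D2764 (iv D2043) (iv F1507)
def n2765 : Q := act 2 n2042
theorem D2765 : act 2 n2042 = n2765 := rfl
def n2766 : Q := act 3 n2043
theorem D2766 : act 3 n2043 = n2766 := rfl
theorem F2067 : act 1 n2766 = n2698 := d4_1 D2766 (iv F2024) F2023
def n2767 : Q := act 0 n2044
theorem D2767 : act 0 n2044 = n2767 := rfl
def n2768 : Q := act 3 n2044
theorem D2768 : act 3 n2044 = n2768 := rfl
theorem F2069 : act 1 n2768 = n2045 := d4_1 D2768 (iv D2045) D2044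
def n2769 : Q := act 1 n2046
theorem D2769 : act 1 n2046 = n2769 := rfl
def n2770 : Q := act 3 n2047
theorem D2770 : act 3 n2047 = n2770 := rfl
theorem F2070 : act 1 n2770 = n2070 := d4_1 D2770 (iv D2070) (iv F1512)
def n2771 : Q := act 2 n2048
theorem D2771 : act 2 n2048 = n2771 := rfl
def n2772 : Q := act 1 n2049
theorem D2772 : act 1 n2049 = n2772 := rfl
def n2773 : Q := act 0 n2050
theorem D2773 : act 0 n2050 = n2773 := rfl
theorem F2071 : act 2 n2773 = n2052 := d1_2 (iv F1515) D2773 (iv D2052)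
def n2774 : Q := act 3 n2050
theorem D2774 : act 3 n2050 = n2774 := rfl
theorem F2072 : act 1 n2774 = n2051 := d4_1 D2774 (iv D2051) D2050
def n2776 : Q := act 0 n2053
theorem D2776 : act 0 n2053 = n2776 := rfl
theorem F2073 : act 1 n2776 = n2059 := d0_2 D2053 D2776 (iv D2059) (iv D1506) (iv D1083) (iv D766) (iv F542) D1079 D1502
def n2777 : Q := act 2 n2053
theorem D2777 : act 2 n2053 = n2777 := rfl
theorem F2074 : act 1 n2777 = n2079 := d3_1 D2777 (iv D2079) (iv D1519) (iv F1097) D2053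
def n2778 : Q := act 3 n2053
theorem D2778 : act 3 n2053 = n2778 := rfl
theorem F2075 : act 1 n2778 = n2054 := d4_1 D2778 (iv D2054) D2053
def n2779 : Q := act 2 n2054
theorem D2779 : act 2 n2054 = n2779 := rfl
def n2780 : Q := act 3 n2055
theorem D2780 : act 3 n2055 = n2780 := rfl
def n2781 : Q := act 0 n2056
theorem D2781 : act 0 n2056 = n2781 := rfl
def n2783 : Q := act 3 n2056
theorem D2783 : act 3 n2056 = n2783 := rfl
theorem F2077 : act 1 n2783 = n2057 := d4_1 D2783 (iv D2057) D2056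
def n2784 : Q := act 2 n2057
theorem D2784 : act 2 n2057 = n2784 := rfl
theorem F2078 : act 0 n2784 = n2058 := d1_1 D2784 (iv D2058) (iv F1517)
def n2785 : Q := act 3 n2058
theorem D2785 : act 3 n2058 = n2785 := rfl
theorem F2079 : act 1 n2785 = n2780 := d4_1 D2785 (iv D2780) (iv F1518)
def n2786 : Q := act 2 n2059
theorem D2786 : act 2 n2059 = n2786 := rfl
theorem F2080 : act 0 n2786 = n2060 := d1_1 D2786 (iv D2060) D2059
def n2787 : Q := act 3 n2059
theorem D2787 : act 3 n2059 = n2787 := rfl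
theorem F2081 : act 0 n2787 = n2061 := d2_1 D2787 (iv D2061) D2059
def n2788 : Q := act 3 n2060
theorem D2788 : act 3 n2060 = n2788 := rfl
theorem F2082 : act 1 n2788 = n2066 := d4_1 D2788 (iv D2066) (iv F1519)
def n2789 : Q := act 2 n2061
theorem D2789 : act 2 n2061 = n2789 := rfl
def n2790 : Q := act 0 n2063
theorem D2790 : act 0 n2063 = n2790 := rfl
theorem F2083 : act 2 n2790 = n2065 := d1_2 (iv F1522) D2790 (iv D2065)
def n2791 : Q := act 3 n2063
theorem D2791 : act 3 n2063 = n2791 := rfl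
theorem F2084 : act 1 n2791 = n2064 := d4_1 D2791 (iv D2064) D2063
def n2792 : Q := act 1 n2065
theorem D2792 : act 1 n2065 = n2792 := rfl
def n2793 : Q := act 2 n2066
theorem D2793 : act 2 n2066 = n2793 := rfl
theorem F2087 : act 3 n2793 = n2633 := d6_1 D2793 (iv D2633) (iv D1939) (iv D1413) F728 D1389 D1908 (iv F1524)
def n2794 : Q := act 0 n2067
theorem D2794 : act 0 n2067 = n2794 := rfl
def n2795 : Q := act 3 n2067
theorem D2795 : act 3 n2067 = n2795 := rfl
theorem F2088 : act 1 n2795 = n2068 := d4_1 D2795 (iv D2068) D2067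
def n2796 : Q := act 2 n2070
theorem D2796 : act 2 n2070 = n2796 := rfl
def n2797 : Q := act 1 n2071
theorem D2797 : act 1 n2071 = n2797 := rfl
theorem F2090 : act 2 n2797 = n2072 := d3_2 D2071 D2797 (iv D2072) (iv D1515) (iv F1107)
def n2798 : Q := act 3 n2071
theorem D2798 : act 3 n2071 = n2798 := rfl
def n2799 : Q := act 0 n2072
theorem D2799 : act 0 n2072 = n2799 := rfl
def n2800 : Q := act 3 n2072
theorem D2800 : act 3 n2072 = n2800 := rfl
theorem F2092 : act 1 n2800 = n2073 := d4_1 D2800 (iv D2073) D2072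
def n2801 : Q := act 1 n2074
theorem D2801 : act 1 n2074 = n2801 := rfl
theorem F2093 : act 3 n2801 = n2665 := d4_2 F1535 D2801 (iv D2665)
def n2802 : Q := act 1 n2076
theorem D2802 : act 1 n2076 = n2802 := rfl
theorem F2094 : act 2 n2802 = n2664 := d3_2 D2076 D2802 F1993 (iv F1538) F1537
theorem F2095 : act 3 n2802 = n2772 := d4_2 (iv F1540) D2802 (iv D2772)
def n2803 : Q := act 0 n2077
theorem D2803 : act 0 n2077 = n2803 := rfl
theorem F2096 : act 1 n2803 = n2083 := d0_2 D2077 D2803 (iv D2083) (iv D1522) (iv D1095) (iv D775) (iv F546) D1092 D1518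
def n2805 : Q := act 2 n2078
theorem D2805 : act 2 n2078 = n2805 := rfl
theorem F2097 : act 0 n2805 = n2079 := d1_1 D2805 (iv D2079) D2078
def n2806 : Q := act 3 n2079
theorem D2806 : act 3 n2079 = n2806 := rfl
def n2807 : Q := act 2 n2080
theorem D2807 : act 2 n2080 = n2807 := rfl
theorem F2098 : act 0 n2807 = n2666 := d1_1 D2807 (iv D2666) (iv F1543)
def n2808 : Q := act 1 n2081
theorem D2808 : act 1 n2081 = n2808 := rfl
def n2809 : Q := act 3 n2081
theorem D2809 : act 3 n2081 = n2809 := rfl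
theorem F2099 : act 0 n2809 = n2082 := d2_1 D2809 (iv D2082) (iv F1545)
theorem F2100 : act 2 n2809 = n2780 := d6_2 D2081 D2809 (iv D2780) (iv D2055) (iv D1503) F772 D1094 (iv F1110)
def n2810 : Q := act 2 n2082
theorem D2810 : act 2 n2082 = n2810 := rfl
theorem F2101 : act 0 n2810 = n2780 := d1_1 D2810 (iv F2100) F2099
theorem F2102 : act 3 n2810 = n2779 := d5_2 D2082 D2810 (iv D2779) (iv D2054) F1097 D1520 D2081 D2809 F2100 (iv D2780) (iv D2055) (iv D1503) F772 D1094 D1521
def n2811 : Q := act 2 n2083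
theorem D2811 : act 2 n2083 = n2811 := rfl
theorem F2103 : act 0 n2811 = n2084 := d1_1 D2811 (iv D2084) D2083
def n2812 : Q := act 3 n2083
theorem D2812 : act 3 n2083 = n2812 := rfl
theorem F2104 : act 0 n2812 = n2085 := d2_1 D2812 (iv D2085) D2083
def n2813 : Q := act 3 n2084
theorem D2813 : act 3 n2084 = n2813 := rfl
theorem F2105 : act 1 n2813 = n2124 := d4_1 D2813 (iv D2124) (iv F1546)
def n2814 : Q := act 2 n2085
theorem D2814 : act 2 n2085 = n2814 := rfl
def n2815 : Q := act 1 n2086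
theorem D2815 : act 1 n2086 = n2815 := rfl
def n2816 : Q := act 1 n2088
theorem D2816 : act 1 n2088 = n2816 := rfl
theorem F2106 : act 3 n2816 = n2643 := d4_2 (iv F1551) D2816 (iv D2643)
def n2817 : Q := act 0 n2090
theorem D2817 : act 0 n2090 = n2817 := rfl
theorem F2107 : act 1 n2817 = n2812 := d0_2 D2090 D2817 F2104 F1547 F1111 F786 (iv F555) D1098 D1527
def n2818 : Q := act 2 n2090
theorem D2818 : act 2 n2090 = n2818 := rfl
theorem F2109 : act 1 n2818 = n2649 := d3_1 D2818 (iv D2649) F1435 (iv F1115) D2090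
def n2819 : Q := act 0 n2091
theorem D2819 : act 0 n2091 = n2819 := rfl
theorem F2110 : act 2 n2819 = n2094 := d1_2 (iv F1556) D2819 (iv D2094)
def n2820 : Q := act 3 n2091
theorem D2820 : act 3 n2091 = n2820 := rfl
theorem F2111 : act 1 n2820 = n2092 := d4_1 D2820 (iv D2092) D2091
def n2821 : Q := act 2 n2092
theorem D2821 : act 2 n2092 = n2821 := rfl
theorem F2112 : act 0 n2821 = n2093 := d1_1 D2821 (iv D2093) (iv F1557)
theorem F2113 : act 3 n2821 = n2147 := d6_1 D2821 (iv D2147) (iv D1568) (iv D1133) F571 D1100 D1529 (iv F1557)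
def n2822 : Q := act 1 n2093
theorem D2822 : act 1 n2093 = n2822 := rfl
theorem F2114 : act 2 n2822 = n2642 := d3_2 D2093 D2822 F1979 (iv F1554) F1553
def n2823 : Q := act 3 n2093
theorem D2823 : act 3 n2093 = n2823 := rfl
theorem F2116 : act 2 n2823 = n2146 := d5_1 D2823 (iv D2146) (iv D1567) F816 D1528 D2092 D2821 F2113 (iv D2147) (iv D1568) (iv D1133) F571 D1100 D1529 D2093
def n2824 : Q := act 1 n2094
theorem D2824 : act 1 n2094 = n2824 := rfl
theorem F2117 : act 0 n2824 = n2102 := d0_1 D2824 (iv D2102) (iv D1535) (iv D1105) F559 (iv F557) (iv F791) D1530 D2094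
def n2825 : Q := act 3 n2094
theorem D2825 : act 3 n2094 = n2825 := rfl
theorem F2118 : act 0 n2825 = n2095 := d2_1 D2825 (iv D2095) D2094
def n2826 : Q := act 2 n2095
theorem D2826 : act 2 n2095 = n2826 := rfl
def n2827 : Q := act 1 n2096
theorem D2827 : act 1 n2096 = n2827 := rfl
theorem F2119 : act 3 n2827 = n2519 := d4_2 F1564 D2827 F1883
def n2828 : Q := act 0 n2097
theorem D2828 : act 0 n2097 = n2828 := rfl
def n2829 : Q := act 3 n2097
theorem D2829 : act 3 n2097 = n2829 := rfl
theorem F2120 : act 1 n2829 = n2098 := d4_1 D2829 (iv D2098) D2097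
def n2830 : Q := act 0 n2099
theorem D2830 : act 0 n2099 = n2830 := rfl
theorem F2121 : act 2 n2830 = n2105 := d1_2 (iv F1561) D2830 (iv D2105)
def n2831 : Q := act 3 n2099
theorem D2831 : act 3 n2099 = n2831 := rfl
theorem F2122 : act 1 n2831 = n2100 := d4_1 D2831 (iv D2100) D2099
def n2832 : Q := act 2 n2102
theorem D2832 : act 2 n2102 = n2832 := rfl
theorem F2123 : act 1 n2832 = n2581 := d3_1 D2832 (iv D2581) (iv D1899) (iv F1120) D2102
def n2833 : Q := act 3 n2102
theorem D2833 : act 3 n2102 = n2833 := rfl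
theorem F2124 : act 1 n2833 = n2103 := d4_1 D2833 (iv D2103) D2102
def n2834 : Q := act 2 n2103
theorem D2834 : act 2 n2103 = n2834 := rfl
theorem F2125 : act 0 n2834 = n2104 := d1_1 D2834 (iv D2104) (iv F1565)
def n2835 : Q := act 3 n2104
theorem D2835 : act 3 n2104 = n2835 := rfl
def n2836 : Q := act 1 n2105
theorem D2836 : act 1 n2105 = n2836 := rfl
def n2838 : Q := act 3 n2106
theorem D2838 : act 3 n2106 = n2838 := rfl
theorem F2127 : act 2 n2838 = n2798 := d6_2 D2106 D2838 (iv D2798) (iv D2071) (iv D1514) D1513 D2070 F1530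
def n2839 : Q := act 0 n2107
theorem D2839 : act 0 n2107 = n2839 := rfl
theorem F2128 : act 2 n2839 = n2109 := d1_2 (iv F1566) D2839 (iv D2109)
def n2840 : Q := act 3 n2107
theorem D2840 : act 3 n2107 = n2840 := rfl
theorem F2129 : act 1 n2840 = n2108 := d4_1 D2840 (iv D2108) D2107
def n2841 : Q := act 2 n2108
theorem D2841 : act 2 n2108 = n2841 := rfl
theorem F2131 : act 3 n2841 = n2796 := d5_2 D2108 D2841 (iv D2796) (iv D2070) (iv D1513) D1514 D2071 D2798 (iv F2127) (iv D2838) (iv D2106) (iv D1538) (iv D1108) D1109 D1539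
def n2843 : Q := act 3 n2109
theorem D2843 : act 3 n2109 = n2843 := rfl
theorem F2132 : act 0 n2843 = n2110 := d2_1 D2843 (iv D2110) D2109
def n2844 : Q := act 2 n2110
theorem D2844 : act 2 n2110 = n2844 := rfl
theorem F2133 : act 1 n2844 = n2113 := d3_1 D2844 (iv D2113) F1126 (iv F1124) (iv F1567)
def n2845 : Q := act 0 n2111
theorem D2845 : act 0 n2111 = n2845 := rfl
def n2846 : Q := act 2 n2111
theorem D2846 : act 2 n2111 = n2846 := rfl
theorem F2134 : act 1 n2846 = n2115 := d3_1 D2846 (iv D2115) (iv D1544) (iv F1125) D2111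
def n2847 : Q := act 3 n2111
theorem D2847 : act 3 n2111 = n2847 := rfl
theorem F2135 : act 1 n2847 = n2112 := d4_1 D2847 (iv D2112) D2111
def n2848 : Q := act 2 n2112
theorem D2848 : act 2 n2112 = n2848 := rfl
theorem F2137 : act 3 n2848 = n2136 := d6_1 D2848 (iv D2136) (iv D1560) F806 F565 (iv F799) D1543 (iv F1568)
def n2849 : Q := act 3 n2113
theorem D2849 : act 3 n2113 = n2849 := rfl
theorem F2139 : act 2 n2849 = n2135 := d5_1 D2849 (iv D2135) F1137 F807 (iv F1125) D2112 D2848 F2137 (iv D2136) (iv D1560) F806 F565 (iv F799) D1543 D2113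
def n2850 : Q := act 2 n2114
theorem D2850 : act 2 n2114 = n2850 := rfl
theorem F2140 : act 0 n2850 = n2115 := d1_1 D2850 (iv D2115) D2114
def n2851 : Q := act 3 n2115
theorem D2851 : act 3 n2115 = n2851 := rfl
def n2852 : Q := act 1 n2116
theorem D2852 : act 1 n2116 = n2852 := rfl
theorem F2141 : act 2 n2852 = n2129 := d3_2 D2116 D2852 (iv D2129) (iv D1555) (iv F1127)
def n2853 : Q := act 3 n2116
theorem D2853 : act 3 n2116 = n2853 := rfl
theorem F2142 : act 0 n2853 = n2118 := d2_1 D2853 (iv D2118) (iv F1570)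
def n2854 : Q := act 2 n2117
theorem D2854 : act 2 n2117 = n2854 := rfl
theorem F2143 : act 0 n2854 = n2119 := d1_1 D2854 (iv D2119) (iv F1571)
def n2855 : Q := act 2 n2118
theorem D2855 : act 2 n2118 = n2855 := rfl
def n2856 : Q := act 1 n2119
theorem D2856 : act 1 n2119 = n2856 := rfl
theorem F2144 : act 2 n2856 = n2120 := d3_2 D2119 D2856 (iv D2120) (iv D1548) (iv F1129)
def n2857 : Q := act 3 n2119
theorem D2857 : act 3 n2119 = n2857 := rfl
def n2858 : Q := act 0 n2120
theorem D2858 : act 0 n2120 = n2858 := rfl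
def n2859 : Q := act 3 n2120
theorem D2859 : act 3 n2120 = n2859 := rfl
theorem F2145 : act 1 n2859 = n2121 := d4_1 D2859 (iv D2121) D2120
def n2860 : Q := act 1 n2122
theorem D2860 : act 1 n2122 = n2860 := rfl
def n2864 : Q := act 1 n2125
theorem D2864 : act 1 n2125 = n2864 := rfl
theorem F2148 : act 2 n2864 = n2126 := d3_2 D2125 D2864 (iv D2126) (iv D1553) (iv F1131)
def n2866 : Q := act 0 n2126
theorem D2866 : act 0 n2126 = n2866 := rfl
def n2867 : Q := act 3 n2126
theorem D2867 : act 3 n2126 = n2867 := rfl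
theorem F2149 : act 1 n2867 = n2127 := d4_1 D2867 (iv D2127) D2126
def n2868 : Q := act 1 n2128
theorem D2868 : act 1 n2128 = n2868 := rfl
theorem F2150 : act 2 n2868 = n2859 := d3_2 D2128 D2868 F2145 F1575 (iv F1133)
theorem F2151 : act 3 n2868 = n2815 := d4_2 (iv F1581) D2868 (iv D2815)
def n2869 : Q := act 0 n2129
theorem D2869 : act 0 n2129 = n2869 := rfl
def n2870 : Q := act 3 n2129
theorem D2870 : act 3 n2129 = n2870 := rfl
theorem F2153 : act 1 n2870 = n2130 := d4_1 D2870 (iv D2130) D2129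
def n2871 : Q := act 2 n2130
theorem D2871 : act 2 n2130 = n2871 := rfl
def n2872 : Q := act 1 n2131
theorem D2872 : act 1 n2131 = n2872 := rfl
def n2873 : Q := act 3 n2131
theorem D2873 : act 3 n2131 = n2873 := rfl
theorem F2155 : act 0 n2873 = n2133 := d2_1 D2873 (iv D2133) (iv F1583)
def n2874 : Q := act 1 n2132
theorem D2874 : act 1 n2132 = n2874 := rfl
theorem F2156 : act 2 n2874 = n2139 := d3_2 D2132 D2874 (iv D2139) (iv D1562) (iv F1136)
def n2875 : Q := act 3 n2132
theorem D2875 : act 3 n2132 = n2875 := rfl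
theorem F2157 : act 2 n2875 = n2873 := d6_2 D2132 D2875 (iv D2873) (iv D2131) (iv D1556) D1555 D2130 F1582
def n2876 : Q := act 2 n2133
theorem D2876 : act 2 n2133 = n2876 := rfl
theorem F2158 : act 0 n2876 = n2875 := d1_1 D2876 F2157 F2155
theorem F2159 : act 1 n2876 = n2552 := d3_1 D2876 (iv D2552) F1378 D1876 (iv F1584)
theorem F2160 : act 3 n2876 = n2871 := d5_2 D2133 D2876 (iv D2871) (iv D2130) (iv D1555) D1556 D2131 D2873 (iv F2157) (iv D2875) (iv D2132) (iv D1557) (iv D1121) D1122 D1558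
def n2877 : Q := act 0 n2134
theorem D2877 : act 0 n2134 = n2877 := rfl
def n2878 : Q := act 2 n2134
theorem D2878 : act 2 n2134 = n2878 := rfl
def n2879 : Q := act 3 n2134
theorem D2879 : act 3 n2134 = n2879 := rfl
theorem F2162 : act 1 n2879 = n2135 := d4_1 D2879 (iv D2135) D2134
def n2880 : Q := act 2 n2137
theorem D2880 : act 2 n2137 = n2880 := rfl
theorem F2163 : act 0 n2880 = n2138 := d1_1 D2880 (iv D2138) D2137
def n2881 : Q := act 3 n2138
theorem D2881 : act 3 n2138 = n2881 := rfl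
def n2882 : Q := act 0 n2139
theorem D2882 : act 0 n2139 = n2882 := rfl
def n2883 : Q := act 1 n2140
theorem D2883 : act 1 n2140 = n2883 := rfl
def n2884 : Q := act 3 n2140
theorem D2884 : act 3 n2140 = n2884 := rfl
theorem F2164 : act 0 n2884 = n2141 := d2_1 D2884 (iv D2141) D2140
def n2885 : Q := act 2 n2141
theorem D2885 : act 2 n2141 = n2885 := rfl
def n2886 : Q := act 2 n2142
theorem D2886 : act 2 n2142 = n2886 := rfl
def n2887 : Q := act 2 n2143
theorem D2887 : act 2 n2143 = n2887 := rfl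
theorem F2166 : act 0 n2887 = n2144 := d1_1 D2887 (iv D2144) (iv F1592)
def n2888 : Q := act 3 n2144
theorem D2888 : act 3 n2144 = n2888 := rfl
theorem F2167 : act 1 n2888 = n2848 := d4_1 D2888 F2137 (iv F1594)
def n2889 : Q := act 0 n2145
theorem D2889 : act 0 n2145 = n2889 := rfl
theorem F2168 : act 2 n2889 = n2828 := d1_2 (iv F1595) D2889 (iv D2828)
def n2890 : Q := act 3 n2145
theorem D2890 : act 3 n2145 = n2890 := rfl
theorem F2169 : act 1 n2890 = n2146 := d4_1 D2890 (iv D2146) D2145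
def n2891 : Q := act 1 n2147
theorem D2891 : act 1 n2147 = n2891 := rfl
theorem F2170 : act 2 n2891 = n2204 := d3_2 D2147 D2891 (iv D2204) (iv D1612) (iv F1145)
def n2892 : Q := act 0 n2148
theorem D2892 : act 0 n2148 = n2892 := rfl
def n2893 : Q := act 3 n2148
theorem D2893 : act 3 n2148 = n2893 := rfl
theorem F2172 : act 1 n2893 = n2149 := d4_1 D2893 (iv D2149) D2148
def n2894 : Q := act 1 n2150
theorem D2894 : act 1 n2150 = n2894 := rfl
def n2895 : Q := act 3 n2150
theorem D2895 : act 3 n2150 = n2895 := rfl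
theorem F2173 : act 0 n2895 = n2151 := d2_1 D2895 (iv D2151) D2150
def n2896 : Q := act 2 n2151
theorem D2896 : act 2 n2151 = n2896 := rfl
def n2897 : Q := act 1 n2152
theorem D2897 : act 1 n2152 = n2897 := rfl
theorem F2174 : act 3 n2897 = n2634 := d4_2 (iv F1602) D2897 (iv D2634)
def n2898 : Q := act 0 n2153
theorem D2898 : act 0 n2153 = n2898 := rfl
theorem F2175 : act 1 n2898 = n2156 := d0_2 D2153 D2898 (iv D2156) (iv D1574) (iv D1138) (iv D806) (iv F574) D1136 D1572
def n2899 : Q := act 2 n2153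
theorem D2899 : act 2 n2153 = n2899 := rfl
def n2900 : Q := act 3 n2153
theorem D2900 : act 3 n2153 = n2900 := rfl
theorem F2176 : act 1 n2900 = n2154 := d4_1 D2900 (iv D2154) D2153
def n2901 : Q := act 2 n2154
theorem D2901 : act 2 n2154 = n2901 := rfl
theorem F2177 : act 0 n2901 = n2155 := d1_1 D2901 (iv D2155) (iv F1603)
def n2902 : Q := act 3 n2155
theorem D2902 : act 3 n2155 = n2902 := rfl
theorem F2178 : act 1 n2902 = n2160 := d4_1 D2902 (iv D2160) (iv F1604)
def n2903 : Q := act 2 n2156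
theorem D2903 : act 2 n2156 = n2903 := rfl
theorem F2179 : act 0 n2903 = n2157 := d1_1 D2903 (iv D2157) D2156
def n2904 : Q := act 3 n2156
theorem D2904 : act 3 n2156 = n2904 := rfl
theorem F2180 : act 0 n2904 = n2158 := d2_1 D2904 (iv D2158) D2156
def n2905 : Q := act 3 n2157
theorem D2905 : act 3 n2157 = n2905 := rfl
theorem F2181 : act 1 n2905 = n2162 := d4_1 D2905 (iv D2162) (iv F1605)
def n2906 : Q := act 2 n2158
theorem D2906 : act 2 n2158 = n2906 := rfl
def n2907 : Q := act 1 n2161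
theorem D2907 : act 1 n2161 = n2907 := rfl
theorem F2182 : act 2 n2907 = n2171 := d3_2 D2161 D2907 (iv D2171) (iv D1585) (iv F1149)
def n2908 : Q := act 3 n2161
theorem D2908 : act 3 n2161 = n2908 := rfl
theorem F2183 : act 0 n2908 = n2162 := d2_1 D2908 (iv D2162) (iv F1611)
def n2909 : Q := act 2 n2162
theorem D2909 : act 2 n2162 = n2909 := rfl
def n2913 : Q := act 1 n2165
theorem D2913 : act 1 n2165 = n2913 := rfl
theorem F2187 : act 2 n2913 = n2183 := d3_2 D2165 D2913 (iv D2183) (iv D1594) (iv F1152)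
def n2914 : Q := act 3 n2165
theorem D2914 : act 3 n2165 = n2914 := rfl
def n2915 : Q := act 1 n2166
theorem D2915 : act 1 n2166 = n2915 := rfl
def n2916 : Q := act 3 n2166
theorem D2916 : act 3 n2166 = n2916 := rfl
theorem F2190 : act 2 n2916 = n2914 := d6_2 D2166 D2916 (iv D2914) (iv D2165) (iv D1580) D1579 D2164 F1613
def n2917 : Q := act 0 n2167
theorem D2917 : act 0 n2167 = n2917 := rfl
theorem F2191 : act 2 n2917 = n2169 := d1_2 (iv F1615) D2917 (iv D2169)
def n2920 : Q := act 1 n2169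
theorem D2920 : act 1 n2169 = n2920 := rfl
def n2922 : Q := act 0 n2171
theorem D2922 : act 0 n2171 = n2922 := rfl
def n2923 : Q := act 3 n2171
theorem D2923 : act 3 n2171 = n2923 := rfl
theorem F2196 : act 1 n2923 = n2172 := d4_1 D2923 (iv D2172) D2171
def n2924 : Q := act 2 n2172
theorem D2924 : act 2 n2172 = n2924 := rfl
def n2925 : Q := act 1 n2173
theorem D2925 : act 1 n2173 = n2925 := rfl
def n2926 : Q := act 3 n2173
theorem D2926 : act 3 n2173 = n2926 := rfl
theorem F2198 : act 0 n2926 = n2176 := d2_1 D2926 (iv D2176) (iv F1618)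
def n2928 : Q := act 3 n2174
theorem D2928 : act 3 n2174 = n2928 := rfl
theorem F2199 : act 2 n2928 = n2926 := d6_2 D2174 D2928 (iv D2926) (iv D2173) (iv D1586) D1585 D2172 F1617
def n2929 : Q := act 0 n2175
theorem D2929 : act 0 n2175 = n2929 := rfl
def n2930 : Q := act 3 n2175
theorem D2930 : act 3 n2175 = n2930 := rfl
theorem F2201 : act 1 n2930 = n2176 := d4_1 D2930 (iv D2176) D2175
def n2931 : Q := act 2 n2176
theorem D2931 : act 2 n2176 = n2931 := rfl
theorem F2203 : act 3 n2931 = n2924 := d5_2 D2176 D2931 (iv D2924) (iv D2172) (iv D1585) D1586 D2173 D2926 (iv F2199) (iv D2928) (iv D2174) (iv D1587) (iv D1147) D1148 D1588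
def n2932 : Q := act 1 n2177
theorem D2932 : act 1 n2177 = n2932 := rfl
theorem F2204 : act 0 n2932 = n2920 := d0_1 D2932 (iv D2920) (iv D2169) (iv D1583) F826 (iv F578) (iv F828) D1589 D2177
def n2933 : Q := act 3 n2177
theorem D2933 : act 3 n2177 = n2933 := rfl
theorem F2205 : act 0 n2933 = n2178 := d2_1 D2933 (iv D2178) D2177
def n2934 : Q := act 0 n2179
theorem D2934 : act 0 n2179 = n2934 := rfl
theorem F2207 : act 3 n2934 = n2662 := d2_2 (iv F1622) D2934 (iv D2662)
def n2937 : Q := act 0 n2183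
theorem D2937 : act 0 n2183 = n2937 := rfl
def n2938 : Q := act 3 n2183
theorem D2938 : act 3 n2183 = n2938 := rfl
theorem F2209 : act 1 n2938 = n2184 := d4_1 D2938 (iv D2184) D2183
def n2939 : Q := act 0 n2185
theorem D2939 : act 0 n2185 = n2939 := rfl
theorem F2210 : act 2 n2939 = n2193 := d1_2 (iv F1626) D2939 (iv D2193)
def n2940 : Q := act 3 n2185
theorem D2940 : act 3 n2185 = n2940 := rfl
theorem F2211 : act 1 n2940 = n2186 := d4_1 D2940 (iv D2186) D2185
def n2941 : Q := act 2 n2188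
theorem D2941 : act 2 n2188 = n2941 := rfl
theorem F2212 : act 0 n2941 = n2189 := d1_1 D2941 (iv D2189) D2188
def n2942 : Q := act 3 n2189
theorem D2942 : act 3 n2189 = n2942 := rfl
theorem F2213 : act 1 n2942 = n2192 := d4_1 D2942 (iv D2192) (iv F1631)
def n2943 : Q := act 2 n2190
theorem D2943 : act 2 n2190 = n2943 := rfl
def n2944 : Q := act 1 n2191
theorem D2944 : act 1 n2191 = n2944 := rfl
theorem F2214 : act 2 n2944 = n2925 := d3_2 D2191 D2944 (iv D2925) (iv D2173) (iv F1166)
def n2945 : Q := act 3 n2191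
theorem D2945 : act 3 n2191 = n2945 := rfl
def n2946 : Q := act 2 n2192
theorem D2946 : act 2 n2192 = n2946 := rfl
def n2947 : Q := act 1 n2193
theorem D2947 : act 1 n2193 = n2947 := rfl
def n2948 : Q := act 3 n2193
theorem D2948 : act 3 n2193 = n2948 := rfl
theorem F2216 : act 0 n2948 = n2194 := d2_1 D2948 (iv D2194) D2193
def n2949 : Q := act 2 n2194
theorem D2949 : act 2 n2194 = n2949 := rfl
theorem F2217 : act 1 n2949 = n2885 := d3_1 D2949 (iv D2885) F1589 (iv F1168) (iv F1634)
def n2950 : Q := act 0 n2195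
theorem D2950 : act 0 n2195 = n2950 := rfl
def n2951 : Q := act 2 n2195
theorem D2951 : act 2 n2195 = n2951 := rfl
theorem F2218 : act 1 n2951 = n2199 := d3_1 D2951 (iv D2199) (iv D1607) (iv F1169) D2195
def n2952 : Q := act 3 n2195
theorem D2952 : act 3 n2195 = n2952 := rfl
theorem F2219 : act 1 n2952 = n2196 := d4_1 D2952 (iv D2196) D2195
def n2953 : Q := act 2 n2196
theorem D2953 : act 2 n2196 = n2953 := rfl
theorem F2220 : act 0 n2953 = n2197 := d1_1 D2953 (iv D2197) (iv F1635)
def n2954 : Q := act 1 n2197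
theorem D2954 : act 1 n2197 = n2954 := rfl
theorem F2221 : act 2 n2954 = n2198 := d3_2 D2197 D2954 (iv D2198) (iv D1606) (iv F1170)
def n2955 : Q := act 3 n2197
theorem D2955 : act 3 n2197 = n2955 := rfl
def n2957 : Q := act 3 n2199
theorem D2957 : act 3 n2199 = n2957 := rfl
def n2958 : Q := act 1 n2200
theorem D2958 : act 1 n2200 = n2958 := rfl
theorem F2224 : act 2 n2958 = n2447 := d3_2 D2200 D2958 (iv D2447) (iv D1798) (iv F1176)
def n2959 : Q := act 3 n2200
theorem D2959 : act 3 n2200 = n2959 := rfl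
theorem F2225 : act 0 n2959 = n2201 := d2_1 D2959 (iv D2201) (iv F1638)
theorem F2226 : act 2 n2959 = n2955 := d6_2 D2200 D2959 (iv D2955) (iv D2197) (iv D1605) F836 D1162 (iv F1175)
def n2960 : Q := act 2 n2201
theorem D2960 : act 2 n2201 = n2960 := rfl
theorem F2227 : act 0 n2960 = n2955 := d1_1 D2960 (iv F2226) F2225
theorem F2228 : act 1 n2960 = n2906 := d3_1 D2960 (iv D2906) F1606 D2159 (iv F1639)
theorem F2229 : act 3 n2960 = n2953 := d5_2 D2201 D2960 (iv D2953) (iv D2196) F1169 D1608 D2200 D2959 F2226 (iv D2955) (iv D2197) (iv D1605) F836 D1162 D1609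
def n2961 : Q := act 1 n2202
theorem D2961 : act 1 n2202 = n2961 := rfl
def n2962 : Q := act 3 n2202
theorem D2962 : act 3 n2202 = n2962 := rfl
theorem F2230 : act 0 n2962 = n2203 := d2_1 D2962 (iv D2203) D2202
def n2963 : Q := act 2 n2203
theorem D2963 : act 2 n2203 = n2963 := rfl
def n2964 : Q := act 0 n2204
theorem D2964 : act 0 n2204 = n2964 := rfl
def n2966 : Q := act 1 n2206
theorem D2966 : act 1 n2206 = n2966 := rfl
theorem F2232 : act 2 n2966 = n2207 := d3_2 D2206 D2966 (iv D2207) (iv D1615) (iv F1183)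
def n2968 : Q := act 0 n2207
theorem D2968 : act 0 n2207 = n2968 := rfl
def n2969 : Q := act 1 n2208
theorem D2969 : act 1 n2208 = n2969 := rfl
def n2970 : Q := act 3 n2208
theorem D2970 : act 3 n2208 = n2970 := rfl
theorem F2234 : act 0 n2970 = n2209 := d2_1 D2970 (iv D2209) D2208
def n2971 : Q := act 2 n2209
theorem D2971 : act 2 n2209 = n2971 := rfl
def n2972 : Q := act 0 n2210
theorem D2972 : act 0 n2210 = n2972 := rfl
theorem F2235 : act 1 n2972 = n2216 := d0_2 D2210 D2972 (iv D2216) (iv D1622) (iv D1171) (iv D834) (iv F593) D1168 D1618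
def n2974 : Q := act 2 n2211
theorem D2974 : act 2 n2211 = n2974 := rfl
theorem F2236 : act 0 n2974 = n2212 := d1_1 D2974 (iv D2212) D2211
def n2975 : Q := act 3 n2211
theorem D2975 : act 3 n2211 = n2975 := rfl
theorem F2237 : act 0 n2975 = n2213 := d2_1 D2975 (iv D2213) D2211
theorem F2238 : act 1 n2975 = n2222 := d4_1 D2975 (iv D2222) (iv F1647)
def n2976 : Q := act 3 n2212
theorem D2976 : act 3 n2212 = n2976 := rfl
theorem F2239 : act 1 n2976 = n2282 := d4_1 D2976 (iv D2282) (iv F1648)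
def n2977 : Q := act 2 n2213
theorem D2977 : act 2 n2213 = n2977 := rfl
def n2978 : Q := act 1 n2214
theorem D2978 : act 1 n2214 = n2978 := rfl
def n2980 : Q := act 3 n2216
theorem D2980 : act 3 n2216 = n2980 := rfl
theorem F2241 : act 0 n2980 = n2218 := d2_1 D2980 (iv D2218) D2216
def n2981 : Q := act 3 n2217
theorem D2981 : act 3 n2217 = n2981 := rfl
def n2982 : Q := act 2 n2218
theorem D2982 : act 2 n2218 = n2982 := rfl
def n2983 : Q := act 1 n2219
theorem D2983 : act 1 n2219 = n2983 := rfl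
def n2984 : Q := act 3 n2219
theorem D2984 : act 3 n2219 = n2984 := rfl
theorem F2244 : act 2 n2984 = n2220 := d6_2 D2219 D2984 (iv D2220) (iv D1624) (iv D1172) F596 D1172 (iv F1187)
def n2985 : Q := act 1 n2221
theorem D2985 : act 1 n2221 = n2985 := rfl
def n2986 : Q := act 3 n2221
theorem D2986 : act 3 n2221 = n2986 := rfl
theorem F2245 : act 0 n2986 = n2223 := d2_1 D2986 (iv D2223) (iv F1655)
def n2987 : Q := act 2 n2222
theorem D2987 : act 2 n2222 = n2987 := rfl
theorem F2246 : act 0 n2987 = n2224 := d1_1 D2987 (iv D2224) (iv F1656)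
def n2988 : Q := act 2 n2223
theorem D2988 : act 2 n2223 = n2988 := rfl
def n2989 : Q := act 3 n2224
theorem D2989 : act 3 n2224 = n2989 := rfl
theorem F2247 : act 1 n2989 = n2369 := d4_1 D2989 (iv F1778) F1777
def n2990 : Q := act 1 n2225
theorem D2990 : act 1 n2225 = n2990 := rfl
def n2991 : Q := act 3 n2225
theorem D2991 : act 3 n2225 = n2991 := rfl
theorem F2248 : act 0 n2991 = n2226 := d2_1 D2991 (iv D2226) D2225
def n2992 : Q := act 2 n2226
theorem D2992 : act 2 n2226 = n2992 := rfl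
def n2993 : Q := act 0 n2227
theorem D2993 : act 0 n2227 = n2993 := rfl
theorem F2249 : act 1 n2993 = n2980 := d0_2 D2227 D2993 F2241 F1652 F1187 F844 (iv F600) D1176 D1631
theorem F2250 : act 3 n2993 = n2972 := d2_2 (iv F1660) D2993 (iv D2972)
def n2994 : Q := act 2 n2227
theorem D2994 : act 2 n2227 = n2994 := rfl
def n2995 : Q := act 0 n2228
theorem D2995 : act 0 n2228 = n2995 := rfl
theorem F2251 : act 2 n2995 = n2236 := d1_2 (iv F1661) D2995 (iv D2236)
def n2996 : Q := act 3 n2228
theorem D2996 : act 3 n2228 = n2996 := rfl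
def n2998 : Q := act 1 n2230
theorem D2998 : act 1 n2230 = n2998 := rfl
theorem F2254 : act 2 n2998 = n2239 := d3_2 D2230 D2998 (iv D2239) (iv D1641) (iv F1196)
def n2999 : Q := act 3 n2230
theorem D2999 : act 3 n2230 = n2999 := rfl
theorem F2255 : act 0 n2999 = n2233 := d2_1 D2999 (iv D2233) (iv F1663)
def n3000 : Q := act 1 n2231
theorem D3000 : act 1 n2231 = n3000 := rfl
def n3001 : Q := act 3 n2231
theorem D3001 : act 3 n2231 = n3001 := rfl
theorem F2256 : act 2 n3001 = n2999 := d6_2 D2231 D3001 (iv D2999) (iv D2230) (iv D1633) D1632 D2229 F1662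
def n3002 : Q := act 0 n2232
theorem D3002 : act 0 n2232 = n3002 := rfl
theorem F2257 : act 2 n3002 = n2234 := d1_2 (iv F1664) D3002 (iv D2234)
def n3003 : Q := act 3 n2232
theorem D3003 : act 3 n2232 = n3003 := rfl
theorem F2258 : act 1 n3003 = n2233 := d4_1 D3003 (iv D2233) D2232
def n3005 : Q := act 2 n2235
theorem D3005 : act 2 n2235 = n3005 := rfl
theorem F2261 : act 1 n3005 = n2992 := d3_1 D3005 (iv D2992) F1659 (iv F1198) (iv F1665)
def n3006 : Q := act 1 n2236
theorem D3006 : act 1 n2236 = n3006 := rfl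
theorem F2262 : act 0 n3006 = n2244 := d0_1 D3006 (iv D2244) (iv D1644) (iv D1186) F610 (iv F604) (iv F851) D1639 D2236
def n3007 : Q := act 3 n2236
theorem D3007 : act 3 n2236 = n3007 := rfl
theorem F2263 : act 0 n3007 = n2237 := d2_1 D3007 (iv D2237) D2236
def n3008 : Q := act 2 n2237
theorem D3008 : act 2 n2237 = n3008 := rfl
def n3009 : Q := act 0 n2239
theorem D3009 : act 0 n2239 = n3009 := rfl
def n3010 : Q := act 3 n2239
theorem D3010 : act 3 n2239 = n3010 := rfl
theorem F2264 : act 1 n3010 = n2240 := d4_1 D3010 (iv D2240) D2239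
def n3012 : Q := act 3 n2241
theorem D3012 : act 3 n2241 = n3012 := rfl
theorem F2266 : act 1 n3012 = n2242 := d4_1 D3012 (iv D2242) D2241
def n3013 : Q := act 2 n2244
theorem D3013 : act 2 n2244 = n3013 := rfl
theorem F2267 : act 1 n3013 = n2317 := d3_1 D3013 (iv D2317) (iv D1702) (iv F1205) D2244
def n3016 : Q := act 1 n2246
theorem D3016 : act 1 n2246 = n3016 := rfl
theorem F2270 : act 2 n3016 = n2247 := d3_2 D2246 D3016 (iv D2247) (iv D1646) (iv F1206)
def n3017 : Q := act 3 n2246
theorem D3017 : act 3 n2246 = n3017 := rfl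
def n3020 : Q := act 3 n2248
theorem D3020 : act 3 n2248 = n3020 := rfl
theorem F2272 : act 0 n3020 = n2249 := d2_1 D3020 (iv D2249) D2248
def n3021 : Q := act 2 n2249
theorem D3021 : act 2 n2249 = n3021 := rfl
theorem F2273 : act 1 n3021 = n2377 := d3_1 D3021 (iv D2377) F1285 (iv F1210) (iv F1676)
def n3023 : Q := act 2 n2251
theorem D3023 : act 2 n2251 = n3023 := rfl
theorem F2276 : act 0 n3023 = n3023 := d1_1 D3023 (iv D3023) F1679
def n3024 : Q := act 1 n2252
theorem D3024 : act 1 n2252 = n3024 := rfl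
def n3026 : Q := act 3 n2253
theorem D3026 : act 3 n2253 = n3026 := rfl
theorem F2278 : act 1 n3026 = n2254 := d4_1 D3026 (iv D2254) D2253
def n3028 : Q := act 0 n2256
theorem D3028 : act 0 n2256 = n3028 := rfl
theorem F2279 : act 1 n3028 = n2262 := d0_2 D2256 D3028 (iv D2262) (iv D1657) (iv D1196) (iv D853) (iv F613) D1192 D1653
def n3029 : Q := act 2 n2256
theorem D3029 : act 2 n2256 = n3029 := rfl
theorem F2280 : act 1 n3029 = n2350 := d3_1 D3029 (iv D2350) (iv D1724) (iv F1213) D2256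
def n3030 : Q := act 3 n2256
theorem D3030 : act 3 n2256 = n3030 := rfl
theorem F2281 : act 1 n3030 = n2257 := d4_1 D3030 (iv D2257) D2256
def n3031 : Q := act 2 n2257
theorem D3031 : act 2 n2257 = n3031 := rfl
theorem F2282 : act 0 n3031 = n2258 := d1_1 D3031 (iv D2258) (iv F1683)
def n3032 : Q := act 3 n2258
theorem D3032 : act 3 n2258 = n3032 := rfl
def n3033 : Q := act 0 n2259
theorem D3033 : act 0 n2259 = n3033 := rfl
def n3034 : Q := act 2 n2259
theorem D3034 : act 2 n2259 = n3034 := rfl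
def n3035 : Q := act 3 n2259
theorem D3035 : act 3 n2259 = n3035 := rfl
theorem F2284 : act 1 n3035 = n2260 := d4_1 D3035 (iv D2260) D2259
def n3036 : Q := act 2 n2260
theorem D3036 : act 2 n2260 = n3036 := rfl
theorem F2285 : act 0 n3036 = n2261 := d1_1 D3036 (iv D2261) (iv F1684)
def n3037 : Q := act 3 n2261
theorem D3037 : act 3 n2261 = n3037 := rfl
theorem F2286 : act 1 n3037 = n3032 := d4_1 D3037 (iv D3032) (iv F1685)
def n3038 : Q := act 2 n2262
theorem D3038 : act 2 n2262 = n3038 := rfl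
theorem F2287 : act 0 n3038 = n2263 := d1_1 D3038 (iv D2263) D2262
def n3039 : Q := act 3 n2262
theorem D3039 : act 3 n2262 = n3039 := rfl
theorem F2288 : act 0 n3039 = n2264 := d2_1 D3039 (iv D2264) D2262
def n3040 : Q := act 3 n2263
theorem D3040 : act 3 n2263 = n3040 := rfl
theorem F2289 : act 1 n3040 = n2267 := d4_1 D3040 (iv D2267) (iv F1686)
def n3041 : Q := act 0 n2265
theorem D3041 : act 0 n2265 = n3041 := rfl
theorem F2290 : act 2 n3041 = n2266 := d1_2 (iv F1688) D3041 (iv D2266)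
def n3042 : Q := act 1 n2266
theorem D3042 : act 1 n2266 = n3042 := rfl
def n3043 : Q := act 2 n2267
theorem D3043 : act 2 n2267 = n3043 := rfl
def n3044 : Q := act 3 n2268
theorem D3044 : act 3 n2268 = n3044 := rfl
def n3046 : Q := act 0 n2270
theorem D3046 : act 0 n2270 = n3046 := rfl
theorem F2292 : act 2 n3046 = n2272 := d1_2 (iv F1691) D3046 (iv D2272)
def n3047 : Q := act 3 n2270
theorem D3047 : act 3 n2270 = n3047 := rfl
theorem F2293 : act 1 n3047 = n2271 := d4_1 D3047 (iv D2271) D2270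
def n3048 : Q := act 1 n2272
theorem D3048 : act 1 n2272 = n3048 := rfl
def n3049 : Q := act 3 n2272
theorem D3049 : act 3 n2272 = n3049 := rfl
theorem F2294 : act 0 n3049 = n2273 := d2_1 D3049 (iv D2273) D2272
def n3050 : Q := act 2 n2273
theorem D3050 : act 2 n2273 = n3050 := rfl
theorem F2295 : act 1 n3050 = n2971 := d3_1 D3050 (iv D2971) F1646 (iv F1223) (iv F1693)
def n3051 : Q := act 0 n2274
theorem D3051 : act 0 n2274 = n3051 := rfl
def n3052 : Q := act 2 n2274
theorem D3052 : act 2 n2274 = n3052 := rfl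
theorem F2296 : act 1 n3052 = n2279 := d3_1 D3052 (iv D2279) (iv D1670) (iv F1224) D2274
def n3053 : Q := act 3 n2274
theorem D3053 : act 3 n2274 = n3053 := rfl
theorem F2297 : act 1 n3053 = n2275 := d4_1 D3053 (iv D2275) D2274
def n3054 : Q := act 2 n2275
theorem D3054 : act 2 n2275 = n3054 := rfl
theorem F2298 : act 0 n3054 = n2276 := d1_1 D3054 (iv D2276) (iv F1694)
theorem F2299 : act 3 n3054 = n2298 := d6_1 D3054 (iv D2298) (iv D1686) F881 F622 (iv F872) D1668 (iv F1694)
theorem F2300 : act 1 n2450 = n3054 := d4_3 F2299 F1710 D2450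
def n3055 : Q := act 1 n2276
theorem D3055 : act 1 n2276 = n3055 := rfl
theorem F2301 : act 2 n3055 = n2277 := d3_2 D2276 D3055 (iv D2277) (iv D1669) (iv F1225)
def n3056 : Q := act 3 n2276
theorem D3056 : act 3 n2276 = n3056 := rfl
theorem F2302 : act 0 n3056 = n2298 := d2_1 D3056 (iv F2299) F2298
theorem F2303 : act 2 n3056 = n2297 := d5_1 D3056 (iv D2297) F1239 F884 (iv F1224) D2275 D3054 F2299 (iv D2298) (iv D1686) F881 F622 (iv F872) D1668 D2276
def n3057 : Q := act 0 n2277
theorem D3057 : act 0 n2277 = n3057 := rfl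
theorem F2304 : act 3 n3057 = n2968 := d2_2 (iv F1695) D3057 (iv D2968)
def n3058 : Q := act 2 n2278
theorem D3058 : act 2 n2278 = n3058 := rfl
theorem F2305 : act 0 n3058 = n2279 := d1_1 D3058 (iv D2279) D2278
def n3059 : Q := act 3 n2279
theorem D3059 : act 3 n2279 = n3059 := rfl
def n3060 : Q := act 1 n2280
theorem D3060 : act 1 n2280 = n3060 := rfl
theorem F2306 : act 2 n3060 = n2292 := d3_2 D2280 D3060 (iv D2292) (iv D1681) (iv F1228)
def n3061 : Q := act 3 n2280
theorem D3061 : act 3 n2280 = n3061 := rfl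
theorem F2307 : act 0 n3061 = n2282 := d2_1 D3061 (iv D2282) (iv F1697)
def n3062 : Q := act 2 n2281
theorem D3062 : act 2 n2281 = n3062 := rfl
theorem F2308 : act 0 n3062 = n2283 := d1_1 D3062 (iv D2283) (iv F1698)
def n3063 : Q := act 2 n2282
theorem D3063 : act 2 n2282 = n3063 := rfl
def n3064 : Q := act 1 n2283
theorem D3064 : act 1 n2283 = n3064 := rfl
theorem F2309 : act 2 n3064 = n2284 := d3_2 D2283 D3064 (iv D2284) (iv D1674) (iv F1229)
def n3065 : Q := act 3 n2283
theorem D3065 : act 3 n2283 = n3065 := rfl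
def n3066 : Q := act 0 n2284
theorem D3066 : act 0 n2284 = n3066 := rfl
def n3067 : Q := act 3 n2284
theorem D3067 : act 3 n2284 = n3067 := rfl
theorem F2310 : act 1 n3067 = n2285 := d4_1 D3067 (iv D2285) D2284
def n3068 : Q := act 1 n2286
theorem D3068 : act 1 n2286 = n3068 := rfl
theorem F2311 : act 2 n3068 = n2406 := d3_2 D2286 D3068 F1800 F1296 F1234
theorem F2312 : act 3 n3068 = n2978 := d4_2 (iv F1703) D3068 (iv D2978)
def n3069 : Q := act 1 n2287
theorem D3069 : act 1 n2287 = n3069 := rfl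
def n3070 : Q := act 3 n2287
theorem D3070 : act 3 n2287 = n3070 := rfl
theorem F2313 : act 0 n3070 = n2289 := d2_1 D3070 (iv D2289) (iv F1704)
def n3071 : Q := act 2 n2288
theorem D3071 : act 2 n2288 = n3071 := rfl
theorem F2314 : act 0 n3071 = n2290 := d1_1 D3071 (iv D2290) (iv F1705)
def n3072 : Q := act 2 n2289
theorem D3072 : act 2 n2289 = n3072 := rfl
def n3073 : Q := act 1 n2290
theorem D3073 : act 1 n2290 = n3073 := rfl
theorem F2315 : act 2 n3073 = n2291 := d3_2 D2290 D3073 (iv D2291) (iv D1679) (iv F1232)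
def n3074 : Q := act 3 n2290
theorem D3074 : act 3 n2290 = n3074 := rfl
def n3075 : Q := act 0 n2291
theorem D3075 : act 0 n2291 = n3075 := rfl
def n3076 : Q := act 0 n2292
theorem D3076 : act 0 n2292 = n3076 := rfl
def n3077 : Q := act 3 n2292
theorem D3077 : act 3 n2292 = n3077 := rfl
theorem F2316 : act 1 n3077 = n2293 := d4_1 D3077 (iv D2293) D2292
def n3078 : Q := act 2 n2293
theorem D3078 : act 2 n2293 = n3078 := rfl
theorem F2317 : act 0 n3078 = n2295 := d1_1 D3078 (iv D2295) (iv F1707)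
theorem F2318 : act 3 n3078 = n2678 := d6_1 D3078 F2004 F1454 (iv D1684) (iv D1215) D1214 D1683 (iv F1707)
theorem F2319 : act 1 n2679 = n3078 := d4_3 F2318 (iv D2678) D2679
def n3079 : Q := act 1 n2294
theorem D3079 : act 1 n2294 = n3079 := rfl
def n3080 : Q := act 1 n2295
theorem D3080 : act 1 n2295 = n3080 := rfl
theorem F2320 : act 2 n3080 = n2304 := d3_2 D2295 D3080 (iv D2304) (iv D1690) (iv F1237)
def n3081 : Q := act 3 n2295
theorem D3081 : act 3 n2295 = n3081 := rfl
theorem F2321 : act 0 n3081 = n2678 := d2_1 D3081 (iv F2318) F2317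
theorem F2322 : act 2 n3081 = n2680 := d5_1 D3081 F2005 (iv D2294) (iv D1682) D1681 D2293 D3078 F2318 F2004 F1454 (iv D1684) (iv D1215) D1214 D1683 D2295
def n3082 : Q := act 0 n2296
theorem D3082 : act 0 n2296 = n3082 := rfl
theorem F2323 : act 1 n3082 = n2682 := d0_2 D2296 D3082 F2006 F1455 F1053 F880 F878 D1217 D1685
theorem F2324 : act 3 n2681 = n3082 := d4_0 F2323 (iv D2682) D2681
def n3083 : Q := act 2 n2296
theorem D3083 : act 2 n2296 = n3083 := rfl
theorem F2325 : act 1 n3083 = n2300 := d3_1 D3083 (iv D2300) (iv D1687) (iv F1239) D2296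
def n3084 : Q := act 3 n2296
theorem D3084 : act 3 n2296 = n3084 := rfl
theorem F2326 : act 0 n3084 = n2681 := d2_1 D3084 F2324 (iv D3082)
theorem F2327 : act 1 n3084 = n2297 := d4_1 D3084 (iv D2297) D2296
def n3085 : Q := act 2 n2299
theorem D3085 : act 2 n2299 = n3085 := rfl
theorem F2328 : act 0 n3085 = n2300 := d1_1 D3085 (iv D2300) D2299
def n3086 : Q := act 3 n2300
theorem D3086 : act 3 n2300 = n3086 := rfl
def n3087 : Q := act 1 n2301
theorem D3087 : act 1 n2301 = n3087 := rfl
def n3088 : Q := act 3 n2301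
theorem D3088 : act 3 n2301 = n3088 := rfl
def n3089 : Q := act 2 n2302
theorem D3089 : act 2 n2302 = n3089 := rfl
def n3090 : Q := act 1 n2303
theorem D3090 : act 1 n2303 = n3090 := rfl
theorem F2330 : act 3 n3090 = n2453 := d4_2 (iv F1716) D3090 (iv D2453)
def n3091 : Q := act 0 n2304
theorem D3091 : act 0 n2304 = n3091 := rfl
def n3092 : Q := act 3 n2304
theorem D3092 : act 3 n2304 = n3092 := rfl
theorem F2331 : act 1 n3092 = n2305 := d4_1 D3092 (iv D2305) D2304
def n3093 : Q := act 2 n2306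
theorem D3093 : act 2 n2306 = n3093 := rfl
theorem F2332 : act 0 n3093 = n2317 := d1_1 D3093 (iv D2317) (iv F1719)
def n3094 : Q := act 3 n2306
theorem D3094 : act 3 n2306 = n3094 := rfl
theorem F2333 : act 0 n3094 = n2318 := d2_1 D3094 (iv D2318) (iv F1719)
theorem F2334 : act 1 n3094 = n2307 := d4_1 D3094 (iv D2307) D2306
def n3095 : Q := act 2 n2307
theorem D3095 : act 2 n2307 = n3095 := rfl
theorem F2335 : act 0 n3095 = n2308 := d1_1 D3095 (iv D2308) (iv F1720)
def n3096 : Q := act 1 n2308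
theorem D3096 : act 1 n2308 = n3096 := rfl
theorem F2336 : act 2 n3096 = n2309 := d3_2 D2308 D3096 (iv D2309) (iv D1693) (iv F1244)
def n3097 : Q := act 3 n2308
theorem D3097 : act 3 n2308 = n3097 := rfl
def n3098 : Q := act 0 n2309
theorem D3098 : act 0 n2309 = n3098 := rfl
def n3099 : Q := act 1 n2310
theorem D3099 : act 1 n2310 = n3099 := rfl
def n3100 : Q := act 3 n2310
theorem D3100 : act 3 n2310 = n3100 := rfl
theorem F2337 : act 0 n3100 = n2311 := d2_1 D3100 (iv D2311) D2310
def n3101 : Q := act 2 n2311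
theorem D3101 : act 2 n2311 = n3101 := rfl
def n3102 : Q := act 1 n2312
theorem D3102 : act 1 n2312 = n3102 := rfl
def n3103 : Q := act 3 n2312
theorem D3103 : act 3 n2312 = n3103 := rfl
theorem F2338 : act 0 n3103 = n2313 := d2_1 D3103 (iv D2313) D2312
def n3104 : Q := act 2 n2313
theorem D3104 : act 2 n2313 = n3104 := rfl
theorem F2339 : act 1 n3104 = n3101 := d3_1 D3104 (iv D3101) F1721 (iv F1248) (iv F1723)
def n3105 : Q := act 0 n2314
theorem D3105 : act 0 n2314 = n3105 := rfl
theorem F2340 : act 3 n3105 = n3041 := d2_2 (iv F1724) D3105 (iv D3041)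
def n3106 : Q := act 2 n2314
theorem D3106 : act 2 n2314 = n3106 := rfl
theorem F2341 : act 1 n3106 = n2316 := d3_1 D3106 (iv D2316) (iv D1701) (iv F1249) D2314
def n3107 : Q := act 0 n2315
theorem D3107 : act 0 n2315 = n3107 := rfl
theorem F2342 : act 2 n3107 = n3039 := d1_2 (iv F1725) D3107 F2288
theorem F2343 : act 3 n3107 = n3098 := d2_2 (iv F1726) D3107 (iv D3098)
def n3108 : Q := act 3 n2316
theorem D3108 : act 3 n2316 = n3108 := rfl
def n3109 : Q := act 3 n2317
theorem D3109 : act 3 n2317 = n3109 := rfl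
def n3110 : Q := act 2 n2318
theorem D3110 : act 2 n2318 = n3110 := rfl
def n3111 : Q := act 1 n2319
theorem D3111 : act 1 n2319 = n3111 := rfl
def n3112 : Q := act 3 n2319
theorem D3112 : act 3 n2319 = n3112 := rfl
theorem F2345 : act 2 n3112 = n3017 := d6_2 D2319 D3112 (iv D3017) (iv D2246) (iv D1645) F854 D1230 (iv F1256)
def n3113 : Q := act 0 n2320
theorem D3113 : act 0 n2320 = n3113 := rfl
def n3114 : Q := act 3 n2320
theorem D3114 : act 3 n2320 = n3114 := rfl
def n3117 : Q := act 0 n2323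
theorem D3117 : act 0 n2323 = n3117 := rfl
theorem F2350 : act 1 n3117 = n2329 := d0_2 D2323 D3117 (iv D2329) (iv D1710) (iv D1236) (iv D880) (iv F628) D1232 D1706
def n3118 : Q := act 2 n2323
theorem D3118 : act 2 n2323 = n3118 := rfl
def n3119 : Q := act 3 n2323
theorem D3119 : act 3 n2323 = n3119 := rfl
theorem F2351 : act 1 n3119 = n2324 := d4_1 D3119 (iv D2324) D2323
def n3120 : Q := act 2 n2324
theorem D3120 : act 2 n2324 = n3120 := rfl
theorem F2352 : act 0 n3120 = n2325 := d1_1 D3120 (iv D2325) (iv F1730)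
def n3121 : Q := act 3 n2325
theorem D3121 : act 3 n2325 = n3121 := rfl
def n3122 : Q := act 0 n2326
theorem D3122 : act 0 n2326 = n3122 := rfl
def n3123 : Q := act 2 n2326
theorem D3123 : act 2 n2326 = n3123 := rfl
def n3124 : Q := act 3 n2326
theorem D3124 : act 3 n2326 = n3124 := rfl
theorem F2353 : act 1 n3124 = n2327 := d4_1 D3124 (iv D2327) D2326
def n3125 : Q := act 2 n2327
theorem D3125 : act 2 n2327 = n3125 := rfl
theorem F2354 : act 0 n3125 = n2328 := d1_1 D3125 (iv D2328) (iv F1731)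
def n3126 : Q := act 3 n2328
theorem D3126 : act 3 n2328 = n3126 := rfl
theorem F2355 : act 1 n3126 = n3121 := d4_1 D3126 (iv D3121) (iv F1732)
def n3127 : Q := act 2 n2329
theorem D3127 : act 2 n2329 = n3127 := rfl
theorem F2356 : act 0 n3127 = n2330 := d1_1 D3127 (iv D2330) D2329
def n3128 : Q := act 3 n2329
theorem D3128 : act 3 n2329 = n3128 := rfl
theorem F2357 : act 0 n3128 = n2331 := d2_1 D3128 (iv D2331) D2329
def n3129 : Q := act 3 n2330
theorem D3129 : act 3 n2330 = n3129 := rfl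
theorem F2358 : act 1 n3129 = n2336 := d4_1 D3129 (iv D2336) (iv F1733)
def n3130 : Q := act 2 n2331
theorem D3130 : act 2 n2331 = n3130 := rfl
theorem F2359 : act 1 n3130 = n2415 := d3_1 D3130 (iv D2415) F1737 (iv D2332) (iv F1734)
def n3131 : Q := act 0 n2333
theorem D3131 : act 0 n2333 = n3131 := rfl
def n3132 : Q := act 3 n2333
theorem D3132 : act 3 n2333 = n3132 := rfl
theorem F2361 : act 1 n3132 = n2334 := d4_1 D3132 (iv D2334) D2333
def n3134 : Q := act 2 n2336
theorem D3134 : act 2 n2336 = n3134 := rfl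
theorem F2363 : act 0 n3134 = n3043 := d1_1 D3134 (iv D3043) (iv F1742)
def n3135 : Q := act 1 n2337
theorem D3135 : act 1 n2337 = n3135 := rfl
theorem F2364 : act 2 n3135 = n2338 := d3_2 D2337 D3135 (iv D2338) (iv D1716) (iv F1263)
def n3136 : Q := act 3 n2337
theorem D3136 : act 3 n2337 = n3136 := rfl
theorem F2365 : act 0 n3136 = n3044 := d2_1 D3136 (iv D3044) (iv F1743)
def n3137 : Q := act 0 n2338
theorem D3137 : act 0 n2338 = n3137 := rfl
def n3138 : Q := act 2 n2339
theorem D3138 : act 2 n2339 = n3138 := rfl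
theorem F2366 : act 0 n3138 = n2340 := d1_1 D3138 (iv D2340) D2339
def n3139 : Q := act 3 n2340
theorem D3139 : act 3 n2340 = n3139 := rfl
theorem F2367 : act 1 n3139 = n3044 := d4_1 D3139 (iv D3044) (iv F1746)
def n3141 : Q := act 1 n2342
theorem D3141 : act 1 n2342 = n3141 := rfl
theorem F2369 : act 2 n3141 = n2343 := d3_2 D2342 D3141 (iv D2343) (iv D1720) (iv F1268)
def n3142 : Q := act 3 n2342
theorem D3142 : act 3 n2342 = n3142 := rfl
theorem F2370 : act 0 n3142 = n2467 := d2_1 D3142 (iv D2467) (iv F1748)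
def n3143 : Q := act 0 n2343
theorem D3143 : act 0 n2343 = n3143 := rfl
def n3144 : Q := act 3 n2343
theorem D3144 : act 3 n2343 = n3144 := rfl
theorem F2371 : act 1 n3144 = n2344 := d4_1 D3144 (iv D2344) D2343
def n3145 : Q := act 1 n2345
theorem D3145 : act 1 n2345 = n3145 := rfl
def n3146 : Q := act 3 n2345
theorem D3146 : act 3 n2345 = n3146 := rfl
theorem F2373 : act 2 n3146 = n2591 := d6_2 (iv F1751) D3146 (iv D2591) (iv D1906) (iv F1278) F1277 F911 D1723
def n3147 : Q := act 2 n2346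
theorem D3147 : act 2 n2346 = n3147 := rfl
theorem F2375 : act 3 n3147 = n2590 := d5_2 D2346 D3147 (iv D2590) (iv F1767) F1766 F1279 (iv F1751) D3146 F2373 (iv D2591) (iv D1906) (iv F1278) F1277 F911 (iv F1270)
def n3148 : Q := act 1 n2347
theorem D3148 : act 1 n2347 = n3148 := rfl
theorem F2376 : act 3 n3148 = n3024 := d4_2 (iv F1754) D3148 (iv D3024)
def n3149 : Q := act 0 n2348
theorem D3149 : act 0 n2348 = n3149 := rfl
theorem F2377 : act 1 n3149 = n2354 := d0_2 D2348 D3149 (iv D2354) (iv D1727) (iv D1249) (iv D890) (iv F634) D1246 D1723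
def n3150 : Q := act 2 n2348
theorem D3150 : act 2 n2348 = n3150 := rfl
def n3151 : Q := act 2 n2349
theorem D3151 : act 2 n2349 = n3151 := rfl
theorem F2378 : act 0 n3151 = n2350 := d1_1 D3151 (iv D2350) D2349
def n3152 : Q := act 3 n2349
theorem D3152 : act 3 n2349 = n3152 := rfl
theorem F2379 : act 0 n3152 = n2351 := d2_1 D3152 (iv D2351) D2349
theorem F2380 : act 1 n3152 = n2360 := d4_1 D3152 (iv D2360) (iv F1755)
def n3153 : Q := act 3 n2350
theorem D3153 : act 3 n2350 = n3153 := rfl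
def n3154 : Q := act 2 n2351
theorem D3154 : act 2 n2351 = n3154 := rfl
def n3155 : Q := act 1 n2352
theorem D3155 : act 1 n2352 = n3155 := rfl
def n3156 : Q := act 3 n2352
theorem D3156 : act 3 n2352 = n3156 := rfl
theorem F2382 : act 2 n3156 = n3032 := d6_2 D2352 D3156 (iv D3032) (iv D2258) (iv D1654) F859 D1248 (iv F1271)
def n3157 : Q := act 2 n2353
theorem D3157 : act 2 n2353 = n3157 := rfl
theorem F2384 : act 3 n3157 = n3031 := d5_2 D2353 D3157 (iv D3031) (iv D2257) F1213 D1725 D2352 D3156 F2382 (iv D3032) (iv D2258) (iv D1654) F859 D1248 D1726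
def n3158 : Q := act 2 n2354
theorem D3158 : act 2 n2354 = n3158 := rfl
theorem F2385 : act 0 n3158 = n2355 := d1_1 D3158 (iv D2355) D2354
def n3159 : Q := act 3 n2354
theorem D3159 : act 3 n2354 = n3159 := rfl
theorem F2386 : act 0 n3159 = n2356 := d2_1 D3159 (iv D2356) D2354
def n3160 : Q := act 3 n2355
theorem D3160 : act 3 n2355 = n3160 := rfl
def n3161 : Q := act 2 n2356
theorem D3161 : act 2 n2356 = n3161 := rfl
def n3162 : Q := act 1 n2357
theorem D3162 : act 1 n2357 = n3162 := rfl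
def n3163 : Q := act 1 n2359
theorem D3163 : act 1 n2359 = n3163 := rfl
def n3164 : Q := act 3 n2359
theorem D3164 : act 3 n2359 = n3164 := rfl
theorem F2389 : act 2 n3164 = n2577 := d6_2 D2359 D3164 (iv D2577) F1396 (iv F1008) F1276 (iv D1732) D1730
def n3166 : Q := act 1 n2362
theorem D3166 : act 1 n2362 = n3166 := rfl
theorem F2392 : act 0 n3166 = n2582 := d0_1 D3166 F1937 F1397 F1005 F712 (iv F716) (iv F909) D1733 D2362
theorem F2393 : act 3 n3166 = n2580 := d4_2 (iv F1767) D3166 F1936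
def n3167 : Q := act 0 n2363
theorem D3167 : act 0 n2363 = n3167 := rfl
theorem F2394 : act 1 n3167 = n3159 := d0_2 D2363 D3167 F2386 F1759 F1272 F906 (iv F640) D1254 D1734
theorem F2395 : act 3 n3167 = n3149 := d2_2 (iv F1768) D3167 (iv D3149)
def n3168 : Q := act 2 n2363
theorem D3168 : act 2 n2363 = n3168 := rfl
def n3169 : Q := act 0 n2364
theorem D3169 : act 0 n2364 = n3169 := rfl
theorem F2396 : act 2 n3169 = n2367 := d1_2 (iv F1769) D3169 (iv D2367)
def n3170 : Q := act 3 n2364
theorem D3170 : act 3 n2364 = n3170 := rfl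
theorem F2397 : act 1 n3170 = n2365 := d4_1 D3170 (iv D2365) D2364
def n3171 : Q := act 2 n2365
theorem D3171 : act 2 n2365 = n3171 := rfl
theorem F2399 : act 3 n3171 = n2506 := d6_1 D3171 (iv D2506) (iv D1842) (iv D1340) F686 D1256 D1736 (iv F1770)
def n3172 : Q := act 1 n2366
theorem D3172 : act 1 n2366 = n3172 := rfl
def n3173 : Q := act 3 n2366
theorem D3173 : act 3 n2366 = n3173 := rfl
theorem F2401 : act 2 n3173 = n2505 := d5_1 D3173 (iv D2505) (iv D1841) F972 D1735 D2365 D3171 F2399 (iv D2506) (iv D1842) (iv D1340) F686 D1256 D1736 D2366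
def n3174 : Q := act 1 n2367
theorem D3174 : act 1 n2367 = n3174 := rfl
theorem F2402 : act 0 n3174 = n2375 := d0_1 D3174 (iv D2375) (iv D1742) (iv D1261) F644 (iv F642) (iv F913) D1737 D2367
def n3175 : Q := act 3 n2367
theorem D3175 : act 3 n2367 = n3175 := rfl
theorem F2403 : act 0 n3175 = n2368 := d2_1 D3175 (iv D2368) D2367
def n3176 : Q := act 2 n2368
theorem D3176 : act 2 n2368 = n3176 := rfl
def n3177 : Q := act 0 n2370
theorem D3177 : act 0 n2370 = n3177 := rfl
def n3178 : Q := act 3 n2370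
theorem D3178 : act 3 n2370 = n3178 := rfl
def n3179 : Q := act 0 n2372
theorem D3179 : act 0 n2372 = n3179 := rfl
def n3180 : Q := act 3 n2372
theorem D3180 : act 3 n2372 = n3180 := rfl
theorem F2406 : act 1 n3180 = n2373 := d4_1 D3180 (iv D2373) D2372
def n3181 : Q := act 2 n2375
theorem D3181 : act 2 n2375 = n3181 := rfl
theorem F2407 : act 1 n3181 = n3118 := d3_1 D3181 (iv D3118) (iv D2323) (iv F1284) D2375
def n3183 : Q := act 2 n2376
theorem D3183 : act 2 n2376 = n3183 := rfl
theorem F2409 : act 0 n3183 = n2377 := d1_1 D3183 (iv D2377) (iv F1779)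
def n3184 : Q := act 3 n2377
theorem D3184 : act 3 n2377 = n3184 := rfl
def n3186 : Q := act 0 n2379
theorem D3186 : act 0 n2379 = n3186 := rfl
theorem F2410 : act 2 n3186 = n2507 := d1_2 (iv F1780) D3186 (iv D2507)
def n3187 : Q := act 3 n2379
theorem D3187 : act 3 n2379 = n3187 := rfl
theorem F2411 : act 1 n3187 = n2380 := d4_1 D3187 (iv D2380) D2379
def n3188 : Q := act 1 n2381
theorem D3188 : act 1 n2381 = n3188 := rfl
def n3189 : Q := act 3 n2381
theorem D3189 : act 3 n2381 = n3189 := rfl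
theorem F2412 : act 0 n3189 = n2382 := d2_1 D3189 (iv D2382) D2381
def n3192 : Q := act 0 n2384
theorem D3192 : act 0 n2384 = n3192 := rfl
theorem F2414 : act 1 n3192 = n2385 := d0_2 D2384 D3192 (iv D2385) (iv D1749) (iv D1267) (iv D904) (iv F647) D1266 D1748
def n3193 : Q := act 2 n2384
theorem D3193 : act 2 n2384 = n3193 := rfl
def n3194 : Q := act 2 n2385
theorem D3194 : act 2 n2385 = n3194 := rfl
theorem F2415 : act 0 n3194 = n2386 := d1_1 D3194 (iv D2386) D2385
def n3195 : Q := act 3 n2385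
theorem D3195 : act 3 n2385 = n3195 := rfl
theorem F2416 : act 0 n3195 = n2387 := d2_1 D3195 (iv D2387) D2385
def n3196 : Q := act 3 n2386
theorem D3196 : act 3 n2386 = n3196 := rfl
theorem F2417 : act 1 n3196 = n2391 := d4_1 D3196 (iv D2391) (iv F1786)
def n3197 : Q := act 2 n2387
theorem D3197 : act 2 n2387 = n3197 := rfl
def n3198 : Q := act 1 n2390
theorem D3198 : act 1 n2390 = n3198 := rfl
theorem F2418 : act 2 n3198 = n2399 := d3_2 D2390 D3198 (iv D2399) (iv D1759) (iv F1288)
def n3200 : Q := act 2 n2391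
theorem D3200 : act 2 n2391 = n3200 := rfl
def n3201 : Q := act 0 n2392
theorem D3201 : act 0 n2392 = n3201 := rfl
theorem F2420 : act 2 n3201 = n2408 := d1_2 (iv F1793) D3201 (iv D2408)
def n3202 : Q := act 3 n2392
theorem D3202 : act 3 n2392 = n3202 := rfl
theorem F2421 : act 1 n3202 = n2393 := d4_1 D3202 (iv D2393) D2392
def n3203 : Q := act 2 n2393
theorem D3203 : act 2 n2393 = n3203 := rfl
def n3204 : Q := act 1 n2394
theorem D3204 : act 1 n2394 = n3204 := rfl
theorem F2423 : act 2 n3204 = n2411 := d3_2 D2394 D3204 (iv D2411) (iv D1768) (iv F1291)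
def n3205 : Q := act 3 n2394
theorem D3205 : act 3 n2394 = n3205 := rfl
def n3206 : Q := act 1 n2395
theorem D3206 : act 1 n2395 = n3206 := rfl
theorem F2425 : act 2 n3206 = n2531 := d3_2 D2395 D3206 (iv D2531) (iv D1861) (iv F1292)
def n3207 : Q := act 3 n2395
theorem D3207 : act 3 n2395 = n3207 := rfl
theorem F2426 : act 2 n3207 = n3205 := d6_2 D2395 D3207 (iv D3205) (iv D2394) (iv D1755) D1754 D2393 F1794
def n3208 : Q := act 0 n2396
theorem D3208 : act 0 n2396 = n3208 := rfl
theorem F2427 : act 2 n3208 = n2398 := d1_2 (iv F1796) D3208 (iv D2398)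
theorem F2428 : act 3 n2743 = n3208 := d6_7 F1796 (iv F1374) F1373 (iv D1482) (iv F1081) D2025 D2743 (iv D3208)
def n3209 : Q := act 3 n2396
theorem D3209 : act 3 n2396 = n3209 := rfl
theorem F2430 : act 1 n3209 = n2397 := d4_1 D3209 (iv D2397) D2396
theorem F2431 : act 2 n3209 = n2742 := d5_1 D3209 (iv D2742) F1490 D2028 (iv F1900) F1901 (iv F2427) (iv F2428) (iv D2743) (iv D2025) F1081 D1482 (iv F1373) F1374 (iv F1796)
def n3210 : Q := act 2 n2397
theorem D3210 : act 2 n2397 = n3210 := rfl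
theorem F2433 : act 3 n3210 = n3203 := d5_2 D2397 D3210 (iv D3203) (iv D2393) (iv D1754) D1755 D2394 D3205 (iv F2426) (iv D3207) (iv D2395) (iv D1756) (iv D1271) D1272 D1757
def n3211 : Q := act 1 n2398
theorem D3211 : act 1 n2398 = n3211 := rfl
def n3212 : Q := act 0 n2399
theorem D3212 : act 0 n2399 = n3212 := rfl
def n3213 : Q := act 3 n2399
theorem D3213 : act 3 n2399 = n3213 := rfl
theorem F2434 : act 1 n3213 = n2400 := d4_1 D3213 (iv D2400) D2399
def n3214 : Q := act 2 n2400
theorem D3214 : act 2 n2400 = n3214 := rfl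
theorem F2435 : act 0 n3214 = n2402 := d1_1 D3214 (iv D2402) (iv F1797)
def n3215 : Q := act 1 n2401
theorem D3215 : act 1 n2401 = n3215 := rfl
def n3216 : Q := act 3 n2401
theorem D3216 : act 3 n2401 = n3216 := rfl
theorem F2436 : act 0 n3216 = n2404 := d2_1 D3216 (iv D2404) (iv F1798)
def n3217 : Q := act 1 n2402
theorem D3217 : act 1 n2402 = n3217 := rfl
def n3218 : Q := act 3 n2402
theorem D3218 : act 3 n2402 = n3218 := rfl
theorem F2437 : act 2 n3218 = n3216 := d6_2 D2402 D3218 (iv D3216) (iv D2401) (iv D1760) D1759 D2400 F1797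
def n3219 : Q := act 0 n2403
theorem D3219 : act 0 n2403 = n3219 := rfl
theorem F2438 : act 2 n3219 = n2405 := d1_2 (iv F1799) D3219 (iv D2405)
def n3220 : Q := act 3 n2403
theorem D3220 : act 3 n2403 = n3220 := rfl
theorem F2439 : act 1 n3220 = n2404 := d4_1 D3220 (iv D2404) D2403
def n3221 : Q := act 2 n2404
theorem D3221 : act 2 n2404 = n3221 := rfl
theorem F2440 : act 0 n3221 = n3218 := d1_1 D3221 F2437 F2436
theorem F2441 : act 3 n3221 = n3214 := d5_2 D2404 D3221 (iv D3214) (iv D2400) (iv D1759) D1760 D2401 D3216 (iv F2437) (iv D3218) (iv D2402) (iv D1761) (iv D1276) D1277 D1762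
def n3222 : Q := act 1 n2405
theorem D3222 : act 1 n2405 = n3222 := rfl
theorem F2442 : act 0 n3222 = n3211 := d0_1 D3222 (iv D3211) (iv D2398) (iv D1758) F924 (iv F651) (iv F926) D1763 D2405
def n3223 : Q := act 3 n2405
theorem D3223 : act 3 n2405 = n3223 := rfl
theorem F2443 : act 0 n3223 = n2406 := d2_1 D3223 (iv D2406) D2405
def n3224 : Q := act 0 n2407
theorem D3224 : act 0 n2407 = n3224 := rfl
theorem F2444 : act 2 n3224 = n2537 := d1_2 (iv F1801) D3224 F1899
theorem F2445 : act 3 n3224 = n3075 := d2_2 (iv F1802) D3224 (iv D3075)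
def n3225 : Q := act 1 n2408
theorem D3225 : act 1 n2408 = n3225 := rfl
theorem F2446 : act 0 n3225 = n2422 := d0_1 D3225 (iv D2422) (iv D1778) (iv D1288) F657 (iv F652) (iv F928) D1766 D2408
def n3226 : Q := act 3 n2408
theorem D3226 : act 3 n2408 = n3226 := rfl
theorem F2447 : act 0 n3226 = n2409 := d2_1 D3226 (iv D2409) D2408
def n3227 : Q := act 2 n2409
theorem D3227 : act 2 n2409 = n3227 := rfl
def n3228 : Q := act 1 n2410
theorem D3228 : act 1 n2410 = n3228 := rfl
theorem F2448 : act 3 n3228 = n3130 := d4_2 F1809 D3228 F2359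
def n3229 : Q := act 0 n2411
theorem D3229 : act 0 n2411 = n3229 := rfl
def n3230 : Q := act 3 n2411
theorem D3230 : act 3 n2411 = n3230 := rfl
theorem F2449 : act 1 n3230 = n2412 := d4_1 D3230 (iv D2412) D2411
def n3231 : Q := act 0 n2413
theorem D3231 : act 0 n2413 = n3231 := rfl
theorem F2450 : act 2 n3231 = n2428 := d1_2 (iv F1806) D3231 (iv D2428)
def n3232 : Q := act 3 n2413
theorem D3232 : act 3 n2413 = n3232 := rfl
theorem F2451 : act 1 n3232 = n2414 := d4_1 D3232 (iv D2414) D2413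
def n3233 : Q := act 0 n2416
theorem D3233 : act 0 n2416 = n3233 := rfl
theorem F2453 : act 3 n3233 = n3137 := d2_2 (iv F1810) D3233 (iv D3137)
def n3234 : Q := act 2 n2416
theorem D3234 : act 2 n2416 = n3234 := rfl
def n3235 : Q := act 2 n2417
theorem D3235 : act 2 n2417 = n3235 := rfl
theorem F2454 : act 0 n3235 = n2418 := d1_1 D3235 (iv D2418) D2417
def n3236 : Q := act 3 n2417
theorem D3236 : act 3 n2417 = n3236 := rfl
def n3237 : Q := act 3 n2418
theorem D3237 : act 3 n2418 = n3237 := rfl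
def n3238 : Q := act 2 n2419
theorem D3238 : act 2 n2419 = n3238 := rfl
def n3239 : Q := act 1 n2420
theorem D3239 : act 1 n2420 = n3239 := rfl
theorem F2458 : act 2 n3239 = n3215 := d3_2 D2420 D3239 (iv D3215) (iv D2401) (iv F1304)
def n3242 : Q := act 2 n2422
theorem D3242 : act 2 n2422 = n3242 := rfl
theorem F2460 : act 1 n3242 = n2437 := d3_1 D3242 (iv D2437) (iv D1791) (iv F1306) D2422
def n3243 : Q := act 3 n2422
theorem D3243 : act 3 n2422 = n3243 := rfl
def n3245 : Q := act 1 n2424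
theorem D3245 : act 1 n2424 = n3245 := rfl
theorem F2463 : act 2 n3245 = n2425 := d3_2 D2424 D3245 (iv D2425) (iv D1780) (iv F1307)
def n3246 : Q := act 3 n2424
theorem D3246 : act 3 n2424 = n3246 := rfl
def n3247 : Q := act 0 n2425
theorem D3247 : act 0 n2425 = n3247 := rfl
def n3248 : Q := act 1 n2426
theorem D3248 : act 1 n2426 = n3248 := rfl
def n3249 : Q := act 3 n2426
theorem D3249 : act 3 n2426 = n3249 := rfl
def n3250 : Q := act 2 n2427
theorem D3250 : act 2 n2427 = n3250 := rfl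
def n3251 : Q := act 1 n2428
theorem D3251 : act 1 n2428 = n3251 := rfl
def n3252 : Q := act 3 n2428
theorem D3252 : act 3 n2428 = n3252 := rfl
theorem F2465 : act 0 n3252 = n2429 := d2_1 D3252 (iv D2429) D2428
def n3253 : Q := act 2 n2429
theorem D3253 : act 2 n2429 = n3253 := rfl
theorem F2466 : act 1 n3253 = n3250 := d3_1 D3253 (iv D3250) F1816 (iv F1311) (iv F1817)
def n3254 : Q := act 0 n2430
theorem D3254 : act 0 n2430 = n3254 := rfl
def n3255 : Q := act 2 n2430
theorem D3255 : act 2 n2430 = n3255 := rfl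
theorem F2467 : act 1 n3255 = n2434 := d3_1 D3255 (iv D2434) (iv D1788) (iv F1312) D2430
def n3256 : Q := act 3 n2430
theorem D3256 : act 3 n2430 = n3256 := rfl
theorem F2468 : act 1 n3256 = n2431 := d4_1 D3256 (iv D2431) D2430
def n3257 : Q := act 2 n2431
theorem D3257 : act 2 n2431 = n3257 := rfl
def n3258 : Q := act 1 n2432
theorem D3258 : act 1 n2432 = n3258 := rfl
theorem F2470 : act 2 n3258 = n2433 := d3_2 D2432 D3258 (iv D2433) (iv D1787) (iv F1313)
def n3259 : Q := act 3 n2432
theorem D3259 : act 3 n2432 = n3259 := rfl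
def n3260 : Q := act 0 n2433
theorem D3260 : act 0 n2433 = n3260 := rfl
theorem F2471 : act 3 n3260 = n3247 := d2_2 (iv F1819) D3260 (iv D3247)
def n3261 : Q := act 3 n2434
theorem D3261 : act 3 n2434 = n3261 := rfl
theorem F2472 : act 0 n3261 = n3108 := d2_1 D3261 (iv D3108) (iv F1820)
def n3262 : Q := act 1 n2435
theorem D3262 : act 1 n2435 = n3262 := rfl
def n3263 : Q := act 3 n2435
theorem D3263 : act 3 n2435 = n3263 := rfl
theorem F2473 : act 0 n3263 = n2436 := d2_1 D3263 (iv D2436) (iv F1821)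
theorem F2474 : act 2 n3263 = n3259 := d6_2 D2435 D3263 (iv D3259) (iv D2432) (iv D1786) F938 D1295 (iv F1317)
def n3264 : Q := act 2 n2436
theorem D3264 : act 2 n2436 = n3264 := rfl
theorem F2475 : act 0 n3264 = n3259 := d1_1 D3264 (iv F2474) F2473
theorem F2476 : act 1 n3264 = n3197 := d3_1 D3264 (iv D3197) F1787 D2388 (iv F1822)
theorem F2477 : act 3 n3264 = n3257 := d5_2 D2436 D3264 (iv D3257) (iv D2431) F1312 D1789 D2435 D3263 F2474 (iv D3259) (iv D2432) (iv D1786) F938 D1295 D1790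
def n3265 : Q := act 3 n2437
theorem D3265 : act 3 n2437 = n3265 := rfl
theorem F2478 : act 0 n3265 = n2454 := d2_1 D3265 (iv D2454) (iv F1823)
def n3266 : Q := act 2 n2438
theorem D3266 : act 2 n2438 = n3266 := rfl
theorem F2479 : act 0 n3266 = n2455 := d1_1 D3266 (iv D2455) (iv F1824)
def n3267 : Q := act 1 n2439
theorem D3267 : act 1 n2439 = n3267 := rfl
def n3268 : Q := act 3 n2439
theorem D3268 : act 3 n2439 = n3268 := rfl
theorem F2481 : act 2 n3268 = n3246 := d6_2 D2439 D3268 (iv D3246) (iv D2424) (iv D1779) F935 D1297 (iv F1320)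
def n3270 : Q := act 2 n2441
theorem D3270 : act 2 n2441 = n3270 := rfl
theorem F2485 : act 0 n3270 = n2943 := d1_1 D3270 (iv D2943) (iv F1828)
def n3271 : Q := act 2 n2442
theorem D3271 : act 2 n2442 = n3271 := rfl
theorem F2486 : act 0 n3271 = n2443 := d1_1 D3271 (iv D2443) (iv F1830)
def n3272 : Q := act 3 n2443
theorem D3272 : act 3 n2443 = n3272 := rfl
def n3273 : Q := act 0 n2444
theorem D3273 : act 0 n2444 = n3273 := rfl
def n3274 : Q := act 2 n2444
theorem D3274 : act 2 n2444 = n3274 := rfl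
theorem F2487 : act 1 n3274 = n2461 := d3_1 D3274 (iv D2461) (iv D1810) (iv F1322) D2444
def n3275 : Q := act 3 n2444
theorem D3275 : act 3 n2444 = n3275 := rfl
theorem F2488 : act 1 n3275 = n2445 := d4_1 D3275 (iv D2445) D2444
def n3276 : Q := act 2 n2445
theorem D3276 : act 2 n2445 = n3276 := rfl
theorem F2489 : act 0 n3276 = n2446 := d1_1 D3276 (iv D2446) (iv F1832)
def n3277 : Q := act 3 n2446
theorem D3277 : act 3 n2446 = n3277 := rfl
theorem F2490 : act 1 n3277 = n3272 := d4_1 D3277 (iv D3272) (iv F1833)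
def n3278 : Q := act 0 n2447
theorem D3278 : act 0 n2447 = n3278 := rfl
def n3279 : Q := act 3 n2447
theorem D3279 : act 3 n2447 = n3279 := rfl
theorem F2491 : act 1 n3279 = n2448 := d4_1 D3279 (iv D2448) D2447
def n3280 : Q := act 2 n2448
theorem D3280 : act 2 n2448 = n3280 := rfl
theorem F2492 : act 0 n3280 = n2449 := d1_1 D3280 (iv D2449) (iv F1834)
def n3281 : Q := act 1 n2449
theorem D3281 : act 1 n2449 = n3281 := rfl
theorem F2493 : act 2 n3281 = n2453 := d3_2 D2449 D3281 (iv D2453) (iv D1803) (iv F1325)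
def n3282 : Q := act 3 n2449
theorem D3282 : act 3 n2449 = n3282 := rfl
theorem F2494 : act 2 n3282 = n2957 := d6_2 D2449 D3282 (iv D2957) (iv D2199) (iv F1174) D1798 D2448 F1834
def n3283 : Q := act 2 n2450
theorem D3283 : act 2 n2450 = n3283 := rfl
theorem F2496 : act 3 n3283 = n3280 := d5_2 D2450 D3283 (iv D3280) (iv D2448) (iv D1798) F1174 D2199 D2957 (iv F2494) (iv D3282) (iv D2449) (iv D1799) (iv D1305) D1306 D1800
def n3284 : Q := act 1 n2451
theorem D3284 : act 1 n2451 = n3284 := rfl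
def n3285 : Q := act 3 n2451
theorem D3285 : act 3 n2451 = n3285 := rfl
theorem F2497 : act 0 n3285 = n2452 := d2_1 D3285 (iv D2452) D2451
def n3286 : Q := act 2 n2452
theorem D3286 : act 2 n2452 = n3286 := rfl
def n3287 : Q := act 0 n2453
theorem D3287 : act 0 n2453 = n3287 := rfl
def n3288 : Q := act 2 n2454
theorem D3288 : act 2 n2454 = n3288 := rfl
def n3289 : Q := act 1 n2455
theorem D3289 : act 1 n2455 = n3289 := rfl
theorem F2498 : act 2 n3289 = n2456 := d3_2 D2455 D3289 (iv D2456) (iv D1806) (iv F1329)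
def n3290 : Q := act 3 n2455
theorem D3290 : act 3 n2455 = n3290 := rfl
def n3291 : Q := act 0 n2456
theorem D3291 : act 0 n2456 = n3291 := rfl
def n3292 : Q := act 1 n2457
theorem D3292 : act 1 n2457 = n3292 := rfl
def n3293 : Q := act 3 n2457
theorem D3293 : act 3 n2457 = n3293 := rfl
theorem F2499 : act 0 n3293 = n2458 := d2_1 D3293 (iv D2458) D2457
def n3294 : Q := act 2 n2458
theorem D3294 : act 2 n2458 = n3294 := rfl
def n3295 : Q := act 0 n2459
theorem D3295 : act 0 n2459 = n3295 := rfl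
theorem F2500 : act 1 n3295 = n2460 := d0_2 D2459 D3295 (iv D2460) (iv D1810) (iv D1313) (iv D940) (iv F673) D1312 D1809
def n3296 : Q := act 2 n2459
theorem D3296 : act 2 n2459 = n3296 := rfl
def n3297 : Q := act 2 n2460
theorem D3297 : act 2 n2460 = n3297 := rfl
theorem F2502 : act 0 n3297 = n2461 := d1_1 D3297 (iv D2461) D2460
def n3298 : Q := act 3 n2460
theorem D3298 : act 3 n2460 = n3298 := rfl
theorem F2503 : act 0 n3298 = n2462 := d2_1 D3298 (iv D2462) D2460
def n3300 : Q := act 2 n2462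
theorem D3300 : act 2 n2462 = n3300 := rfl
def n3301 : Q := act 1 n2463
theorem D3301 : act 1 n2463 = n3301 := rfl
def n3302 : Q := act 3 n2463
theorem D3302 : act 3 n2463 = n3302 := rfl
theorem F2505 : act 0 n3302 = n2464 := d2_1 D3302 (iv D2464) (iv F1842)
theorem F2506 : act 2 n3302 = n3277 := d6_2 D2463 D3302 (iv D3277) (iv D2446) (iv D1797) F943 D1314 (iv F1333)
def n3303 : Q := act 2 n2464
theorem D3303 : act 2 n2464 = n3303 := rfl
theorem F2507 : act 0 n3303 = n3277 := d1_1 D3303 (iv F2506) F2505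
theorem F2508 : act 3 n3303 = n3276 := d5_2 D2464 D3303 (iv D3276) (iv D2445) F1322 D1811 D2463 D3302 F2506 (iv D3277) (iv D2446) (iv D1797) F943 D1314 D1812
def n3304 : Q := act 1 n2465
theorem D3304 : act 1 n2465 = n3304 := rfl
theorem F2509 : act 2 n3304 = n2634 := d3_2 D2465 D3304 (iv D2634) (iv D1940) (iv F1335)
def n3305 : Q := act 3 n2465
theorem D3305 : act 3 n2465 = n3305 := rfl
theorem F2510 : act 2 n3305 = n3142 := d6_2 D2465 D3305 (iv D3142) (iv D2342) (iv D1719) D1718 D2341 F1747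
def n3306 : Q := act 0 n2466
theorem D3306 : act 0 n2466 = n3306 := rfl
theorem F2511 : act 2 n3306 = n2468 := d1_2 (iv F1844) D3306 (iv D2468)
def n3307 : Q := act 3 n2466
theorem D3307 : act 3 n2466 = n3307 := rfl
theorem F2512 : act 1 n3307 = n2467 := d4_1 D3307 (iv D2467) D2466
def n3308 : Q := act 2 n2467
theorem D3308 : act 2 n2467 = n3308 := rfl
theorem F2513 : act 0 n3308 = n3305 := d1_1 D3308 F2510 F2370
def n3309 : Q := act 1 n2468
theorem D3309 : act 1 n2468 = n3309 := rfl
def n3310 : Q := act 0 n2469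
theorem D3310 : act 0 n2469 = n3310 := rfl
def n3311 : Q := act 2 n2469
theorem D3311 : act 2 n2469 = n3311 := rfl
theorem F2515 : act 1 n3311 = n2473 := d3_1 D3311 (iv D2473) (iv D1818) (iv F1336) D2469
def n3312 : Q := act 3 n2469
theorem D3312 : act 3 n2469 = n3312 := rfl
theorem F2516 : act 1 n3312 = n2470 := d4_1 D3312 (iv D2470) D2469
def n3313 : Q := act 2 n2470
theorem D3313 : act 2 n2470 = n3313 := rfl
theorem F2517 : act 0 n3313 = n2471 := d1_1 D3313 (iv D2471) (iv F1845)
theorem F2518 : act 3 n3313 = n2493 := d6_1 D3313 (iv D2493) (iv D1834) F964 F682 (iv F957) D1817 (iv F1845)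
def n3314 : Q := act 3 n2471
theorem D3314 : act 3 n2471 = n3314 := rfl
theorem F2519 : act 0 n3314 = n2493 := d2_1 D3314 (iv F2518) F2517
theorem F2520 : act 2 n3314 = n2492 := d5_1 D3314 (iv D2492) F1348 F965 (iv F1336) D2470 D3313 F2518 (iv D2493) (iv D1834) F964 F682 (iv F957) D1817 D2471
def n3315 : Q := act 2 n2472
theorem D3315 : act 2 n2472 = n3315 := rfl
theorem F2521 : act 0 n3315 = n2473 := d1_1 D3315 (iv D2473) D2472
def n3317 : Q := act 1 n2474
theorem D3317 : act 1 n2474 = n3317 := rfl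
theorem F2522 : act 2 n3317 = n2486 := d3_2 D2474 D3317 (iv D2486) (iv D1829) (iv F1338)
def n3319 : Q := act 2 n2475
theorem D3319 : act 2 n2475 = n3319 := rfl
def n3321 : Q := act 1 n2477
theorem D3321 : act 1 n2477 = n3321 := rfl
theorem F2525 : act 2 n3321 = n2478 := d3_2 D2477 D3321 (iv D2478) (iv D1822) (iv F1340)
def n3323 : Q := act 0 n2478
theorem D3323 : act 0 n2478 = n3323 := rfl
def n3324 : Q := act 1 n2479
theorem D3324 : act 1 n2479 = n3324 := rfl
def n3326 : Q := act 2 n2480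
theorem D3326 : act 2 n2480 = n3326 := rfl
theorem F2527 : act 0 n3326 = n2482 := d1_1 D3326 (iv D2482) (iv F1852)
def n3328 : Q := act 1 n2482
theorem D3328 : act 1 n2482 = n3328 := rfl
theorem F2528 : act 2 n3328 = n2483 := d3_2 D2482 D3328 (iv D2483) (iv D1827) (iv F1342)
def n3329 : Q := act 3 n2482
theorem D3329 : act 3 n2482 = n3329 := rfl
def n3330 : Q := act 0 n2483
theorem D3330 : act 0 n2483 = n3330 := rfl
def n3331 : Q := act 3 n2483
theorem D3331 : act 3 n2483 = n3331 := rfl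
theorem F2529 : act 1 n3331 = n2484 := d4_1 D3331 (iv D2484) D2483
def n3332 : Q := act 1 n2485
theorem D3332 : act 1 n2485 = n3332 := rfl
theorem F2530 : act 2 n3332 = n2654 := d3_2 D2485 D3332 F1987 F1437 (iv F1344)
theorem F2531 : act 3 n3332 = n3162 := d4_2 (iv F1856) D3332 (iv D3162)
def n3333 : Q := act 0 n2486
theorem D3333 : act 0 n2486 = n3333 := rfl
def n3334 : Q := act 3 n2486
theorem D3334 : act 3 n2486 = n3334 := rfl
theorem F2532 : act 1 n3334 = n2487 := d4_1 D3334 (iv D2487) D2486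
def n3335 : Q := act 2 n2487
theorem D3335 : act 2 n2487 = n3335 := rfl
theorem F2533 : act 0 n3335 = n2489 := d1_1 D3335 (iv D2489) (iv F1857)
def n3336 : Q := act 1 n2488
theorem D3336 : act 1 n2488 = n3336 := rfl
def n3337 : Q := act 3 n2488
theorem D3337 : act 3 n2488 = n3337 := rfl
def n3338 : Q := act 1 n2489
theorem D3338 : act 1 n2489 = n3338 := rfl
theorem F2535 : act 2 n3338 = n2496 := d3_2 D2489 D3338 (iv D2496) (iv D1836) (iv F1347)
def n3339 : Q := act 3 n2489
theorem D3339 : act 3 n2489 = n3339 := rfl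
theorem F2536 : act 2 n3339 = n3337 := d6_2 D2489 D3339 (iv D3337) (iv D2488) (iv D1830) D1829 D2487 F1857
def n3340 : Q := act 2 n2490
theorem D3340 : act 2 n2490 = n3340 := rfl
theorem F2538 : act 1 n3340 = n3008 := d3_1 D3340 (iv D3008) F1666 D2238 (iv F1859)
theorem F2539 : act 3 n3340 = n3335 := d5_2 D2490 D3340 (iv D3335) (iv D2487) (iv D1829) D1830 D2488 D3337 (iv F2536) (iv D3339) (iv D2489) (iv D1831) (iv D1328) D1329 D1832
def n3341 : Q := act 0 n2491
theorem D3341 : act 0 n2491 = n3341 := rfl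
def n3342 : Q := act 2 n2491
theorem D3342 : act 2 n2491 = n3342 := rfl
theorem F2540 : act 1 n3342 = n2495 := d3_1 D3342 (iv D2495) (iv D1835) (iv F1348) D2491
def n3343 : Q := act 3 n2491
theorem D3343 : act 3 n2491 = n3343 := rfl
theorem F2541 : act 1 n3343 = n2492 := d4_1 D3343 (iv D2492) D2491
def n3345 : Q := act 3 n2495
theorem D3345 : act 3 n2495 = n3345 := rfl
def n3346 : Q := act 0 n2496
theorem D3346 : act 0 n2496 = n3346 := rfl
def n3347 : Q := act 3 n2496
theorem D3347 : act 3 n2496 = n3347 := rfl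
theorem F2543 : act 1 n3347 = n2497 := d4_1 D3347 (iv D2497) D2496
def n3348 : Q := act 1 n2498
theorem D3348 : act 1 n2498 = n3348 := rfl
def n3349 : Q := act 3 n2498
theorem D3349 : act 3 n2498 = n3349 := rfl
theorem F2544 : act 0 n3349 = n2499 := d2_1 D3349 (iv D2499) D2498
def n3350 : Q := act 2 n2499
theorem D3350 : act 2 n2499 = n3350 := rfl
def n3351 : Q := act 1 n2500
theorem D3351 : act 1 n2500 = n3351 := rfl
theorem F2545 : act 3 n3351 = n2628 := d4_2 (iv F1867) D3351 (iv D2628)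
def n3352 : Q := act 2 n2501
theorem D3352 : act 2 n2501 = n3352 := rfl
theorem F2546 : act 0 n3352 = n3005 := d1_1 D3352 (iv D3005) (iv F1868)
def n3353 : Q := act 2 n2502
theorem D3353 : act 2 n2502 = n3353 := rfl
theorem F2547 : act 0 n3353 = n2503 := d1_1 D3353 (iv D2503) (iv F1870)
def n3354 : Q := act 3 n2503
theorem D3354 : act 3 n2503 = n3354 := rfl
theorem F2548 : act 1 n3354 = n3313 := d4_1 D3354 F2518 (iv F1872)
def n3355 : Q := act 0 n2504
theorem D3355 : act 0 n2504 = n3355 := rfl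
theorem F2549 : act 2 n3355 = n3177 := d1_2 (iv F1873) D3355 (iv D3177)
def n3356 : Q := act 3 n2504
theorem D3356 : act 3 n2504 = n3356 := rfl
theorem F2550 : act 1 n3356 = n2505 := d4_1 D3356 (iv D2505) D2504
def n3357 : Q := act 1 n2506
theorem D3357 : act 1 n2506 = n3357 := rfl
def n3358 : Q := act 1 n2507
theorem D3358 : act 1 n2507 = n3358 := rfl
def n3359 : Q := act 0 n2508
theorem D3359 : act 0 n2508 = n3359 := rfl
theorem F2551 : act 1 n3359 = n2695 := d0_2 D2508 D3359 (iv D2695) (iv D1989) (iv D1454) (iv D1042) (iv F688) D1342 D1844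
def n3360 : Q := act 2 n2508
theorem D3360 : act 2 n2508 = n3360 := rfl
theorem F2552 : act 1 n3360 = n2512 := d3_1 D3360 (iv D2512) (iv D1846) (iv F1354) D2508
def n3361 : Q := act 3 n2508
theorem D3361 : act 3 n2508 = n3361 := rfl
theorem F2553 : act 1 n3361 = n2509 := d4_1 D3361 (iv D2509) D2508
def n3362 : Q := act 2 n2509
theorem D3362 : act 2 n2509 = n3362 := rfl
def n3363 : Q := act 3 n2510
theorem D3363 : act 3 n2510 = n3363 := rfl
def n3364 : Q := act 2 n2511
theorem D3364 : act 2 n2511 = n3364 := rfl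
theorem F2555 : act 0 n3364 = n2512 := d1_1 D3364 (iv D2512) D2511
def n3365 : Q := act 3 n2511
theorem D3365 : act 3 n2511 = n3365 := rfl
theorem F2557 : act 1 n3365 = n2517 := d4_1 D3365 (iv D2517) (iv F1876)
def n3366 : Q := act 3 n2512
theorem D3366 : act 3 n2512 = n3366 := rfl
def n3369 : Q := act 3 n2514
theorem D3369 : act 3 n2514 = n3369 := rfl
theorem F2559 : act 2 n3369 = n3363 := d6_2 D2514 D3369 (iv D3363) (iv D2510) (iv D1845) F974 D1345 (iv F1356)
def n3370 : Q := act 2 n2515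
theorem D3370 : act 2 n2515 = n3370 := rfl
theorem F2561 : act 1 n3370 = n3238 := d3_1 D3370 (iv D3238) F1812 (iv F1791) (iv F1879)
theorem F2562 : act 3 n3370 = n3362 := d5_2 D2515 D3370 (iv D3362) (iv D2509) F1354 D1847 D2514 D3369 F2559 (iv D3363) (iv D2510) (iv D1845) F974 D1345 D1848
def n3371 : Q := act 1 n2516
theorem D3371 : act 1 n2516 = n3371 := rfl
def n3372 : Q := act 3 n2516
theorem D3372 : act 3 n2516 = n3372 := rfl
theorem F2563 : act 0 n3372 = n2518 := d2_1 D3372 (iv D2518) (iv F1880)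
def n3373 : Q := act 2 n2517
theorem D3373 : act 2 n2517 = n3373 := rfl
theorem F2564 : act 0 n3373 = n2519 := d1_1 D3373 (iv D2519) (iv F1881)
def n3374 : Q := act 2 n2518
theorem D3374 : act 2 n2518 = n3374 := rfl
def n3375 : Q := act 1 n2520
theorem D3375 : act 1 n2520 = n3375 := rfl
def n3377 : Q := act 2 n2521
theorem D3377 : act 2 n2521 = n3377 := rfl
theorem F2566 : act 1 n3377 = n2559 := d3_1 D3377 (iv D2559) F1387 (iv F1365) (iv F1885)
def n3378 : Q := act 0 n2522
theorem D3378 : act 0 n2522 = n3378 := rfl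
theorem F2567 : act 1 n3378 = n3195 := d0_2 D2522 D3378 F2416 F1787 F1287 F920 (iv F693) D1349 D1855
theorem F2568 : act 3 n3378 = n3192 := d2_2 (iv F1886) D3378 (iv D3192)
def n3379 : Q := act 2 n2522
theorem D3379 : act 2 n2522 = n3379 := rfl
def n3380 : Q := act 0 n2523
theorem D3380 : act 0 n2523 = n3380 := rfl
theorem F2569 : act 2 n3380 = n2539 := d1_2 (iv F1887) D3380 (iv D2539)
def n3381 : Q := act 3 n2523
theorem D3381 : act 3 n2523 = n3381 := rfl
theorem F2570 : act 1 n3381 = n2524 := d4_1 D3381 (iv D2524) D2523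
def n3382 : Q := act 2 n2524
theorem D3382 : act 2 n2524 = n3382 := rfl
theorem F2572 : act 3 n3382 = n2562 := d6_1 D3382 (iv D2562) (iv D1886) (iv D1373) F707 D1351 D1857 (iv F1888)
def n3383 : Q := act 1 n2525
theorem D3383 : act 1 n2525 = n3383 := rfl
def n3384 : Q := act 3 n2525
theorem D3384 : act 3 n2525 = n3384 := rfl
theorem F2574 : act 2 n3384 = n2561 := d5_1 D3384 (iv D2561) (iv D1885) F996 D1856 D2524 D3382 F2572 (iv D2562) (iv D1886) (iv D1373) F707 D1351 D1857 D2525
def n3385 : Q := act 1 n2526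
theorem D3385 : act 1 n2526 = n3385 := rfl
def n3386 : Q := act 3 n2526
theorem D3386 : act 3 n2526 = n3386 := rfl
def n3387 : Q := act 2 n2527
theorem D3387 : act 2 n2527 = n3387 := rfl
def n3388 : Q := act 1 n2528
theorem D3388 : act 1 n2528 = n3388 := rfl
def n3389 : Q := act 0 n2529
theorem D3389 : act 0 n2529 = n3389 := rfl
theorem F2576 : act 2 n3389 = n2553 := d1_2 (iv F1892) D3389 (iv D2553)
def n3390 : Q := act 3 n2529
theorem D3390 : act 3 n2529 = n3390 := rfl
theorem F2577 : act 1 n3390 = n2530 := d4_1 D3390 (iv D2530) D2529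
def n3391 : Q := act 0 n2531
theorem D3391 : act 0 n2531 = n3391 := rfl
def n3392 : Q := act 3 n2531
theorem D3392 : act 3 n2531 = n3392 := rfl
theorem F2578 : act 1 n3392 = n2532 := d4_1 D3392 (iv D2532) D2531
def n3393 : Q := act 1 n2533
theorem D3393 : act 1 n2533 = n3393 := rfl
def n3394 : Q := act 3 n2533
theorem D3394 : act 3 n2533 = n3394 := rfl
def n3395 : Q := act 2 n2534
theorem D3395 : act 2 n2534 = n3395 := rfl
def n3396 : Q := act 1 n2535
theorem D3396 : act 1 n2535 = n3396 := rfl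
theorem F2580 : act 3 n3396 = n3388 := d4_2 (iv F1898) D3396 (iv D3388)
def n3397 : Q := act 2 n2536
theorem D3397 : act 2 n2536 = n3397 := rfl
def n3398 : Q := act 3 n2536
theorem D3398 : act 3 n2536 = n3398 := rfl
theorem F2581 : act 0 n3398 = n2747 := d2_1 D3398 F2054 F1911
theorem F2582 : act 1 n3398 = n2537 := d4_1 D3398 (iv D2537) D2536
def n3399 : Q := act 1 n2538
theorem D3399 : act 1 n2538 = n3399 := rfl
theorem F2583 : act 3 n3399 = n3211 := d4_2 (iv F1901) D3399 (iv D3211)
def n3400 : Q := act 1 n2539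
theorem D3400 : act 1 n2539 = n3400 := rfl
theorem F2584 : act 0 n3400 = n2733 := d0_1 D3400 (iv D2733) (iv D2017) (iv D1475) F756 (iv F698) (iv F987) D1867 D2539
def n3401 : Q := act 3 n2539
theorem D3401 : act 3 n2539 = n3401 := rfl
theorem F2585 : act 0 n3401 = n2540 := d2_1 D3401 (iv D2540) D2539
def n3402 : Q := act 2 n2540
theorem D3402 : act 2 n2540 = n3402 := rfl
def n3403 : Q := act 1 n2541
theorem D3403 : act 1 n2541 = n3403 := rfl
def n3404 : Q := act 0 n2542
theorem D3404 : act 0 n2542 = n3404 := rfl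
def n3405 : Q := act 3 n2542
theorem D3405 : act 3 n2542 = n3405 := rfl
theorem F2586 : act 1 n3405 = n2543 := d4_1 D3405 (iv D2543) D2542
def n3406 : Q := act 0 n2544
theorem D3406 : act 0 n2544 = n3406 := rfl
def n3407 : Q := act 3 n2544
theorem D3407 : act 3 n2544 = n3407 := rfl
theorem F2588 : act 1 n3407 = n2545 := d4_1 D3407 (iv D2545) D2544
def n3408 : Q := act 1 n2546
theorem D3408 : act 1 n2546 = n3408 := rfl
def n3409 : Q := act 1 n2548
theorem D3409 : act 1 n2548 = n3409 := rfl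
theorem F2589 : act 3 n3409 = n3403 := d4_2 (iv F1910) D3409 (iv D3403)
def n3410 : Q := act 2 n2549
theorem D3410 : act 2 n2549 = n3410 := rfl
theorem F2590 : act 0 n3410 = n3397 := d1_1 D3410 (iv D3397) (iv F1911)
def n3411 : Q := act 2 n2550
theorem D3411 : act 2 n2550 = n3411 := rfl
theorem F2591 : act 0 n3411 = n2563 := d1_1 D3411 (iv D2563) (iv F1912)
def n3412 : Q := act 3 n2550
theorem D3412 : act 3 n2550 = n3412 := rfl
theorem F2592 : act 0 n3412 = n2564 := d2_1 D3412 (iv D2564) (iv F1912)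
theorem F2593 : act 1 n3412 = n2551 := d4_1 D3412 (iv D2551) D2550
def n3413 : Q := act 2 n2551
theorem D3413 : act 2 n2551 = n3413 := rfl
theorem F2594 : act 0 n3413 = n2552 := d1_1 D3413 (iv D2552) (iv F1913)
def n3414 : Q := act 3 n2552
theorem D3414 : act 3 n2552 = n3414 := rfl
theorem F2595 : act 1 n3414 = n2871 := d4_1 D3414 (iv F2160) F2159
def n3415 : Q := act 1 n2553
theorem D3415 : act 1 n2553 = n3415 := rfl
theorem F2596 : act 0 n3415 = n2879 := d0_1 D3415 F2162 F1585 F1138 (iv F812) F813 (iv F991) D1877 D2553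
theorem F2597 : act 3 n2877 = n3415 := d2_0 F2596 (iv D2879) D2877
def n3416 : Q := act 3 n2553
theorem D3416 : act 3 n2553 = n3416 := rfl
theorem F2598 : act 0 n3416 = n2554 := d2_1 D3416 (iv D2554) D2553
theorem F2599 : act 1 n3416 = n2877 := d4_1 D3416 F2597 (iv D3415)
def n3417 : Q := act 2 n2554
theorem D3417 : act 2 n2554 = n3417 := rfl
def n3418 : Q := act 1 n2555
theorem D3418 : act 1 n2555 = n3418 := rfl
def n3419 : Q := act 3 n2555
theorem D3419 : act 3 n2555 = n3419 := rfl
theorem F2600 : act 0 n3419 = n2556 := d2_1 D3419 (iv D2556) D2555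
def n3420 : Q := act 2 n2556
theorem D3420 : act 2 n2556 = n3420 := rfl
theorem F2601 : act 1 n3420 = n3417 := d3_1 D3420 (iv D3417) F1914 (iv F1382) (iv F1916)
def n3421 : Q := act 1 n2557
theorem D3421 : act 1 n2557 = n3421 := rfl
def n3422 : Q := act 3 n2557
theorem D3422 : act 3 n2557 = n3422 := rfl
theorem F2602 : act 0 n3422 = n2558 := d2_1 D3422 (iv D2558) (iv F1917)
def n3423 : Q := act 2 n2558
theorem D3423 : act 2 n2558 = n3423 := rfl
def n3424 : Q := act 3 n2559
theorem D3424 : act 3 n2559 = n3424 := rfl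
def n3425 : Q := act 0 n2560
theorem D3425 : act 0 n2560 = n3425 := rfl
theorem F2603 : act 2 n3425 = n3404 := d1_2 (iv F1919) D3425 (iv D3404)
def n3426 : Q := act 3 n2560
theorem D3426 : act 3 n2560 = n3426 := rfl
theorem F2604 : act 1 n3426 = n2561 := d4_1 D3426 (iv D2561) D2560
def n3427 : Q := act 1 n2562
theorem D3427 : act 1 n2562 = n3427 := rfl
def n3428 : Q := act 3 n2563
theorem D3428 : act 3 n2563 = n3428 := rfl
theorem F2605 : act 1 n3428 = n2572 := d4_1 D3428 (iv D2572) (iv F1921)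
def n3429 : Q := act 2 n2564
theorem D3429 : act 2 n2564 = n3429 := rfl
def n3430 : Q := act 1 n2565
theorem D3430 : act 1 n2565 = n3430 := rfl
def n3431 : Q := act 0 n2566
theorem D3431 : act 0 n2566 = n3431 := rfl
theorem F2606 : act 2 n3431 = n2568 := d1_2 (iv F1924) D3431 (iv D2568)
def n3432 : Q := act 3 n2566
theorem D3432 : act 3 n2566 = n3432 := rfl
theorem F2607 : act 1 n3432 = n2567 := d4_1 D3432 (iv D2567) D2566
def n3433 : Q := act 1 n2568
theorem D3433 : act 1 n2568 = n3433 := rfl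
theorem F2608 : act 3 n3433 = n2836 := d4_2 (iv F1925) D3433 (iv D2836)
def n3434 : Q := act 0 n2569
theorem D3434 : act 0 n2569 = n3434 := rfl
def n3435 : Q := act 2 n2569
theorem D3435 : act 2 n2569 = n3435 := rfl
def n3436 : Q := act 3 n2569
theorem D3436 : act 3 n2569 = n3436 := rfl
theorem F2609 : act 1 n3436 = n2570 := d4_1 D3436 (iv D2570) D2569
def n3437 : Q := act 2 n2570
theorem D3437 : act 2 n2570 = n3437 := rfl
theorem F2610 : act 0 n3437 = n2571 := d1_1 D3437 (iv D2571) (iv F1926)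
def n3438 : Q := act 3 n2571
theorem D3438 : act 3 n2571 = n3438 := rfl
theorem F2611 : act 1 n3438 = n2835 := d4_1 D3438 (iv D2835) (iv F1927)
def n3439 : Q := act 2 n2572
theorem D3439 : act 2 n2572 = n3439 := rfl
def n3440 : Q := act 1 n2573
theorem D3440 : act 1 n2573 = n3440 := rfl
theorem F2613 : act 2 n3440 = n2574 := d3_2 D2573 D3440 (iv D2574) (iv D1895) (iv F1394)
def n3441 : Q := act 3 n2573
theorem D3441 : act 3 n2573 = n3441 := rfl
def n3442 : Q := act 0 n2574
theorem D3442 : act 0 n2574 = n3442 := rfl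
def n3443 : Q := act 3 n2574
theorem D3443 : act 3 n2574 = n3443 := rfl
theorem F2615 : act 1 n3443 = n2575 := d4_1 D3443 (iv D2575) D2574
def n3445 : Q := act 1 n2578
theorem D3445 : act 1 n2578 = n3445 := rfl
theorem F2616 : act 3 n3445 = n3430 := d4_2 (iv F1935) D3445 (iv D3430)
def n3448 : Q := act 2 n2580
theorem D3448 : act 2 n2580 = n3448 := rfl
theorem F2618 : act 0 n3448 = n2581 := d1_1 D3448 (iv D2581) D2580
def n3449 : Q := act 3 n2581
theorem D3449 : act 3 n2581 = n3449 := rfl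
def n3450 : Q := act 2 n2582
theorem D3450 : act 2 n2582 = n3450 := rfl
def n3451 : Q := act 1 n2583
theorem D3451 : act 1 n2583 = n3451 := rfl
def n3452 : Q := act 3 n2583
theorem D3452 : act 3 n2583 = n3452 := rfl
theorem F2619 : act 0 n3452 = n2584 := d2_1 D3452 (iv D2584) (iv F1938)
theorem F2620 : act 2 n3452 = n2835 := d6_2 D2583 D3452 (iv D2835) (iv D2104) (iv D1536) F794 D1384 (iv F1397)
def n3453 : Q := act 2 n2584
theorem D3453 : act 2 n2584 = n3453 := rfl
theorem F2621 : act 0 n3453 = n2835 := d1_1 D3453 (iv F2620) F2619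
theorem F2622 : act 3 n3453 = n2834 := d5_2 D2584 D3453 (iv D2834) (iv D2103) F1120 D1900 D2583 D3452 F2620 (iv D2835) (iv D2104) (iv D1536) F794 D1384 D1901
def n3454 : Q := act 2 n2585
theorem D3454 : act 2 n2585 = n3454 := rfl
theorem F2623 : act 0 n3454 = n2586 := d1_1 D3454 (iv D2586) D2585
def n3455 : Q := act 3 n2585
theorem D3455 : act 3 n2585 = n3455 := rfl
theorem F2624 : act 0 n3455 = n2587 := d2_1 D3455 (iv D2587) D2585
def n3456 : Q := act 3 n2586
theorem D3456 : act 3 n2586 = n3456 := rfl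
theorem F2625 : act 1 n3456 = n2614 := d4_1 D3456 (iv D2614) (iv F1939)
def n3457 : Q := act 2 n2587
theorem D3457 : act 2 n2587 = n3457 := rfl
def n3458 : Q := act 1 n2588
theorem D3458 : act 1 n2588 = n3458 := rfl
def n3459 : Q := act 1 n2590
theorem D3459 : act 1 n2590 = n3459 := rfl
def n3460 : Q := act 0 n2592
theorem D3460 : act 0 n2592 = n3460 := rfl
theorem F2626 : act 1 n3460 = n3455 := d0_2 D2592 D3460 F2624 F1940 F1398 F1007 (iv F717) D1388 D1907
def n3461 : Q := act 2 n2592
theorem D3461 : act 2 n2592 = n3461 := rfl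
def n3462 : Q := act 1 n2593
theorem D3462 : act 1 n2593 = n3462 := rfl
def n3463 : Q := act 3 n2593
theorem D3463 : act 3 n2593 = n3463 := rfl
theorem F2629 : act 2 n3463 = n2632 := d5_1 D3463 (iv D2632) (iv D1938) F1027 D1510 D2066 D2793 F2087 (iv D2633) (iv D1939) (iv D1413) F728 D1389 D1908 D2593
def n3464 : Q := act 1 n2594
theorem D3464 : act 1 n2594 = n3464 := rfl
def n3465 : Q := act 3 n2594
theorem D3465 : act 3 n2594 = n3465 := rfl
theorem F2630 : act 2 n3465 = n3441 := d6_2 D2594 D3465 (iv D3441) (iv D2573) (iv D1894) D1893 D2572 F1928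
def n3466 : Q := act 0 n2595
theorem D3466 : act 0 n2595 = n3466 := rfl
theorem F2631 : act 2 n3466 = n2597 := d1_2 (iv F1946) D3466 (iv D2597)
def n3467 : Q := act 3 n2595
theorem D3467 : act 3 n2595 = n3467 := rfl
def n3468 : Q := act 2 n2596
theorem D3468 : act 2 n2596 = n3468 := rfl
theorem F2634 : act 3 n3468 = n3439 := d5_2 D2596 D3468 (iv D3439) (iv D2572) (iv D1893) D1894 D2573 D3441 (iv F2630) (iv D3465) (iv D2594) (iv D1909) (iv D1390) D1391 D1910
def n3469 : Q := act 1 n2597
theorem D3469 : act 1 n2597 = n3469 := rfl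
def n3470 : Q := act 3 n2597
theorem D3470 : act 3 n2597 = n3470 := rfl
theorem F2635 : act 0 n3470 = n2598 := d2_1 D3470 (iv D2598) D2597
def n3471 : Q := act 2 n2598
theorem D3471 : act 2 n2598 = n3471 := rfl
theorem F2636 : act 1 n3471 = n3294 := d3_1 D3471 (iv D3294) F1839 (iv F1403) (iv F1947)
def n3472 : Q := act 0 n2599
theorem D3472 : act 0 n2599 = n3472 := rfl
def n3473 : Q := act 2 n2599
theorem D3473 : act 2 n2599 = n3473 := rfl
theorem F2637 : act 1 n3473 = n2604 := d3_1 D3473 (iv D2604) (iv D1916) (iv F1404) D2599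
def n3474 : Q := act 3 n2599
theorem D3474 : act 3 n2599 = n3474 := rfl
theorem F2638 : act 1 n3474 = n2600 := d4_1 D3474 (iv D2600) D2599
def n3475 : Q := act 2 n2600
theorem D3475 : act 2 n2600 = n3475 := rfl
theorem F2639 : act 0 n3475 = n2601 := d1_1 D3475 (iv D2601) (iv F1948)
theorem F2640 : act 3 n3475 = n2625 := d6_1 D3475 (iv D2625) (iv D1932) F1020 F723 (iv F1011) D1914 (iv F1948)
theorem F2641 : act 1 n2761 = n3475 := d4_3 F2640 F1967 D2761
def n3476 : Q := act 1 n2601
theorem D3476 : act 1 n2601 = n3476 := rfl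
theorem F2642 : act 2 n3476 = n2602 := d3_2 D2601 D3476 (iv D2602) (iv D1915) (iv F1405)
def n3477 : Q := act 3 n2601
theorem D3477 : act 3 n2601 = n3477 := rfl
theorem F2644 : act 2 n3477 = n2624 := d5_1 D3477 (iv D2624) F1418 F1023 (iv F1404) D2600 D3475 F2640 (iv D2625) (iv D1932) F1020 F723 (iv F1011) D1914 D2601
def n3478 : Q := act 0 n2602
theorem D3478 : act 0 n2602 = n3478 := rfl
theorem F2645 : act 3 n3478 = n3291 := d2_2 (iv F1949) D3478 (iv D3291)
def n3479 : Q := act 2 n2603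
theorem D3479 : act 2 n2603 = n3479 := rfl
theorem F2646 : act 0 n3479 = n2604 := d1_1 D3479 (iv D2604) D2603
def n3480 : Q := act 3 n2604
theorem D3480 : act 3 n2604 = n3480 := rfl
def n3481 : Q := act 1 n2605
theorem D3481 : act 1 n2605 = n3481 := rfl
theorem F2647 : act 2 n3481 = n2619 := d3_2 D2605 D3481 (iv D2619) (iv D1927) (iv F1408)
def n3482 : Q := act 3 n2605
theorem D3482 : act 3 n2605 = n3482 := rfl
theorem F2648 : act 0 n3482 = n2607 := d2_1 D3482 (iv D2607) (iv F1951)
def n3483 : Q := act 2 n2606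
theorem D3483 : act 2 n2606 = n3483 := rfl
theorem F2649 : act 0 n3483 = n2608 := d1_1 D3483 (iv D2608) (iv F1952)
def n3484 : Q := act 2 n2607
theorem D3484 : act 2 n2607 = n3484 := rfl
def n3485 : Q := act 1 n2608
theorem D3485 : act 1 n2608 = n3485 := rfl
theorem F2650 : act 2 n3485 = n2609 := d3_2 D2608 D3485 (iv D2609) (iv D1920) (iv F1409)
def n3487 : Q := act 0 n2609
theorem D3487 : act 0 n2609 = n3487 := rfl
def n3488 : Q := act 3 n2609
theorem D3488 : act 3 n2609 = n3488 := rfl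
theorem F2651 : act 1 n3488 = n2610 := d4_1 D3488 (iv D2610) D2609
def n3489 : Q := act 1 n2611
theorem D3489 : act 1 n2611 = n3489 := rfl
theorem F2652 : act 3 n3489 = n2689 := d4_2 (iv F1957) D3489 (iv D2689)
def n3490 : Q := act 1 n2612
theorem D3490 : act 1 n2612 = n3490 := rfl
def n3491 : Q := act 3 n2612
theorem D3491 : act 3 n2612 = n3491 := rfl
theorem F2653 : act 0 n3491 = n2614 := d2_1 D3491 (iv D2614) (iv F1958)
def n3492 : Q := act 2 n2613
theorem D3492 : act 2 n2613 = n3492 := rfl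
theorem F2654 : act 0 n3492 = n2615 := d1_1 D3492 (iv D2615) (iv F1959)
def n3493 : Q := act 2 n2614
theorem D3493 : act 2 n2614 = n3493 := rfl
def n3494 : Q := act 1 n2615
theorem D3494 : act 1 n2615 = n3494 := rfl
theorem F2655 : act 2 n3494 = n2616 := d3_2 D2615 D3494 (iv D2616) (iv D1925) (iv F1411)
def n3495 : Q := act 3 n2615
theorem D3495 : act 3 n2615 = n3495 := rfl
def n3496 : Q := act 0 n2616
theorem D3496 : act 0 n2616 = n3496 := rfl
def n3497 : Q := act 3 n2616
theorem D3497 : act 3 n2616 = n3497 := rfl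
theorem F2656 : act 1 n3497 = n2617 := d4_1 D3497 (iv D2617) D2616
def n3498 : Q := act 1 n2618
theorem D3498 : act 1 n2618 = n3498 := rfl
theorem F2657 : act 2 n3498 = n3489 := d3_2 D2618 D3498 (iv D3489) (iv D2611) (iv F1413)
theorem F2658 : act 3 n3498 = n3458 := d4_2 (iv F1963) D3498 (iv D3458)
def n3499 : Q := act 0 n2619
theorem D3499 : act 0 n2619 = n3499 := rfl
theorem F2659 : act 1 n3499 = n3333 := d0_2 D2619 D3499 (iv D3333) (iv D2486) F1345 F961 (iv F724) (iv F1015) (iv F1414)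
def n3501 : Q := act 2 n2620
theorem D3501 : act 2 n2620 = n3501 := rfl
theorem F2662 : act 3 n3501 = n2751 := d6_1 D3501 F2059 F1500 (iv D1930) (iv D1404) D1403 D1929 (iv F1964)
def n3502 : Q := act 1 n2621
theorem D3502 : act 1 n2621 = n3502 := rfl
def n3503 : Q := act 1 n2622
theorem D3503 : act 1 n2622 = n3503 := rfl
theorem F2664 : act 2 n3503 = n2628 := d3_2 D2622 D3503 (iv D2628) (iv D1934) (iv F1416)
def n3504 : Q := act 3 n2622
theorem D3504 : act 3 n2622 = n3504 := rfl
theorem F2666 : act 2 n3504 = n2753 := d5_1 D3504 F2060 (iv D2621) (iv D1928) D1927 D2620 D3501 F2662 F2059 F1500 (iv D1930) (iv D1404) D1403 D1929 D2622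
def n3505 : Q := act 0 n2623
theorem D3505 : act 0 n2623 = n3505 := rfl
theorem F2667 : act 1 n3505 = n2755 := d0_2 D2623 D3505 F2061 F1501 F1087 F1019 F1017 D1406 D1931
theorem F2668 : act 3 n2754 = n3505 := d4_0 F2667 (iv D2755) D2754
def n3506 : Q := act 2 n2623
theorem D3506 : act 2 n2623 = n3506 := rfl
theorem F2669 : act 1 n3506 = n2627 := d3_1 D3506 (iv D2627) (iv D1933) (iv F1418) D2623
def n3507 : Q := act 3 n2623
theorem D3507 : act 3 n2623 = n3507 := rfl
theorem F2670 : act 0 n3507 = n2754 := d2_1 D3507 F2668 (iv D3505)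
theorem F2671 : act 1 n3507 = n2624 := d4_1 D3507 (iv D2624) D2623
def n3508 : Q := act 2 n2626
theorem D3508 : act 2 n2626 = n3508 := rfl
theorem F2672 : act 0 n3508 = n2627 := d1_1 D3508 (iv D2627) D2626
def n3509 : Q := act 3 n2627
theorem D3509 : act 3 n2627 = n3509 := rfl
def n3510 : Q := act 0 n2628
theorem D3510 : act 0 n2628 = n3510 := rfl
def n3511 : Q := act 1 n2629
theorem D3511 : act 1 n2629 = n3511 := rfl
def n3512 : Q := act 3 n2629
theorem D3512 : act 3 n2629 = n3512 := rfl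
theorem F2673 : act 0 n3512 = n2630 := d2_1 D3512 (iv D2630) D2629
def n3513 : Q := act 2 n2630
theorem D3513 : act 2 n2630 = n3513 := rfl
def n3514 : Q := act 0 n2631
theorem D3514 : act 0 n2631 = n3514 := rfl
theorem F2674 : act 2 n3514 = n2794 := d1_2 (iv F1972) D3514 (iv D2794)
def n3515 : Q := act 3 n2631
theorem D3515 : act 3 n2631 = n3515 := rfl
theorem F2675 : act 1 n3515 = n2632 := d4_1 D3515 (iv D2632) D2631
def n3516 : Q := act 1 n2633
theorem D3516 : act 1 n2633 = n3516 := rfl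
def n3517 : Q := act 0 n2634
theorem D3517 : act 0 n2634 = n3517 := rfl
def n3518 : Q := act 1 n2635
theorem D3518 : act 1 n2635 = n3518 := rfl
def n3519 : Q := act 3 n2635
theorem D3519 : act 3 n2635 = n3519 := rfl
theorem F2677 : act 0 n3519 = n2636 := d2_1 D3519 (iv D2636) D2635
def n3520 : Q := act 2 n2636
theorem D3520 : act 2 n2636 = n3520 := rfl
def n3521 : Q := act 0 n2637
theorem D3521 : act 0 n2637 = n3521 := rfl
theorem F2678 : act 1 n3521 = n2640 := d0_2 D2637 D3521 (iv D2640) (iv D1945) (iv D1418) (iv D1017) (iv F732) D1416 D1943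
def n3522 : Q := act 2 n2637
theorem D3522 : act 2 n2637 = n3522 := rfl
def n3523 : Q := act 3 n2637
theorem D3523 : act 3 n2637 = n3523 := rfl
theorem F2679 : act 1 n3523 = n2638 := d4_1 D3523 (iv D2638) D2637
def n3524 : Q := act 2 n2638
theorem D3524 : act 2 n2638 = n3524 := rfl
theorem F2680 : act 0 n3524 = n2639 := d1_1 D3524 (iv D2639) (iv F1976)
def n3525 : Q := act 3 n2639
theorem D3525 : act 3 n2639 = n3525 := rfl
theorem F2681 : act 1 n3525 = n3314 := d4_1 D3525 (iv D3314) (iv F1977)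
def n3526 : Q := act 2 n2640
theorem D3526 : act 2 n2640 = n3526 := rfl
theorem F2682 : act 0 n3526 = n2641 := d1_1 D3526 (iv D2641) D2640
def n3527 : Q := act 3 n2640
theorem D3527 : act 3 n2640 = n3527 := rfl
theorem F2683 : act 0 n3527 = n2642 := d2_1 D3527 (iv D2642) D2640
def n3528 : Q := act 3 n2641
theorem D3528 : act 3 n2641 = n3528 := rfl
def n3529 : Q := act 0 n2643
theorem D3529 : act 0 n2643 = n3529 := rfl
theorem F2685 : act 2 n3529 = n2644 := d1_2 (iv F1980) D3529 (iv D2644)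
def n3530 : Q := act 1 n2644
theorem D3530 : act 1 n2644 = n3530 := rfl
def n3531 : Q := act 1 n2645
theorem D3531 : act 1 n2645 = n3531 := rfl
theorem F2687 : act 2 n3531 = n2656 := d3_2 D2645 D3531 (iv D2656) (iv D1958) (iv F1432)
def n3534 : Q := act 0 n2647
theorem D3534 : act 0 n2647 = n3534 := rfl
theorem F2689 : act 2 n3534 = n2663 := d1_2 (iv F1983) D3534 (iv D2663)
def n3535 : Q := act 3 n2647
theorem D3535 : act 3 n2647 = n3535 := rfl
theorem F2690 : act 1 n3535 = n2648 := d4_1 D3535 (iv D2648) D2647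
def n3536 : Q := act 2 n2648
theorem D3536 : act 2 n2648 = n3536 := rfl
def n3537 : Q := act 3 n2649
theorem D3537 : act 3 n2649 = n3537 := rfl
def n3539 : Q := act 3 n2650
theorem D3539 : act 3 n2650 = n3539 := rfl
theorem F2693 : act 2 n3539 = n3537 := d6_2 D2650 D3539 (iv D3537) (iv D2649) (iv D1952) D1951 D2648 F1984
def n3540 : Q := act 0 n2651
theorem D3540 : act 0 n2651 = n3540 := rfl
theorem F2694 : act 2 n3540 = n2653 := d1_2 (iv F1986) D3540 (iv D2653)
def n3541 : Q := act 3 n2651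
theorem D3541 : act 3 n2651 = n3541 := rfl
theorem F2695 : act 1 n3541 = n2652 := d4_1 D3541 (iv D2652) D2651
def n3542 : Q := act 2 n2652
theorem D3542 : act 2 n2652 = n3542 := rfl
theorem F2697 : act 3 n3542 = n3536 := d5_2 D2652 D3542 (iv D3536) (iv D2648) (iv D1951) D1952 D2649 D3537 (iv F2693) (iv D3539) (iv D2650) (iv D1953) (iv D1423) D1424 D1954
def n3543 : Q := act 1 n2653
theorem D3543 : act 1 n2653 = n3543 := rfl
def n3544 : Q := act 3 n2653
theorem D3544 : act 3 n2653 = n3544 := rfl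
theorem F2698 : act 0 n3544 = n2654 := d2_1 D3544 (iv D2654) D2653
def n3545 : Q := act 0 n2655
theorem D3545 : act 0 n2655 = n3545 := rfl
theorem F2700 : act 3 n3545 = n3323 := d2_2 (iv F1989) D3545 (iv D3323)
def n3546 : Q := act 0 n2656
theorem D3546 : act 0 n2656 = n3546 := rfl
def n3547 : Q := act 3 n2656
theorem D3547 : act 3 n2656 = n3547 := rfl
theorem F2701 : act 1 n3547 = n2657 := d4_1 D3547 (iv D2657) D2656
def n3548 : Q := act 2 n2657
theorem D3548 : act 2 n2657 = n3548 := rfl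
theorem F2702 : act 0 n3548 = n2659 := d1_1 D3548 (iv D2659) (iv F1990)
def n3549 : Q := act 1 n2658
theorem D3549 : act 1 n2658 = n3549 := rfl
def n3550 : Q := act 3 n2658
theorem D3550 : act 3 n2658 = n3550 := rfl
theorem F2703 : act 0 n3550 = n2661 := d2_1 D3550 (iv D2661) (iv F1991)
def n3552 : Q := act 3 n2659
theorem D3552 : act 3 n2659 = n3552 := rfl
theorem F2705 : act 2 n3552 = n3550 := d6_2 D2659 D3552 (iv D3550) (iv D2658) (iv D1959) D1958 D2657 F1990
def n3554 : Q := act 3 n2660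
theorem D3554 : act 3 n2660 = n3554 := rfl
theorem F2707 : act 1 n3554 = n2661 := d4_1 D3554 (iv D2661) D2660
def n3555 : Q := act 2 n2661
theorem D3555 : act 2 n2661 = n3555 := rfl
theorem F2708 : act 0 n3555 = n3552 := d1_1 D3555 F2705 F2703
theorem F2709 : act 3 n3555 = n3548 := d5_2 D2661 D3555 (iv D3548) (iv D2657) (iv D1958) D1959 D2658 D3550 (iv F2705) (iv D3552) (iv D2659) (iv D1960) (iv D1428) D1429 D1961
def n3556 : Q := act 1 n2662
theorem D3556 : act 1 n2662 = n3556 := rfl
theorem F2710 : act 0 n3556 = n3543 := d0_1 D3556 (iv D3543) (iv D2653) (iv D1955) F1039 (iv F736) (iv F1042) D1962 D2662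
def n3557 : Q := act 1 n2663
theorem D3557 : act 1 n2663 = n3557 := rfl
theorem F2711 : act 0 n3557 = n2669 := d0_1 D3557 (iv D2669) (iv D1969) (iv D1437) F741 (iv F737) (iv F1044) D1963 D2663
def n3558 : Q := act 3 n2663
theorem D3558 : act 3 n2663 = n3558 := rfl
theorem F2712 : act 0 n3558 = n2664 := d2_1 D3558 (iv D2664) D2663
def n3559 : Q := act 0 n2665
theorem D3559 : act 0 n2665 = n3559 := rfl
theorem F2713 : act 2 n3559 = n2673 := d1_2 (iv F1994) D3559 (iv D2673)
def n3560 : Q := act 3 n2666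
theorem D3560 : act 3 n2666 = n3560 := rfl
def n3564 : Q := act 2 n2669
theorem D3564 : act 2 n2669 = n3564 := rfl
theorem F2717 : act 1 n3564 = n2675 := d3_1 D3564 (iv D2675) (iv D1974) (iv F1446) D2669
def n3565 : Q := act 3 n2669
theorem D3565 : act 3 n2669 = n3565 := rfl
theorem F2718 : act 1 n3565 = n2670 := d4_1 D3565 (iv D2670) D2669
def n3566 : Q := act 2 n2670
theorem D3566 : act 2 n2670 = n3566 := rfl
theorem F2719 : act 0 n3566 = n2671 := d1_1 D3566 (iv D2671) (iv F1997)
def n3567 : Q := act 1 n2671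
theorem D3567 : act 1 n2671 = n3567 := rfl
theorem F2720 : act 2 n3567 = n2672 := d3_2 D2671 D3567 (iv D2672) (iv D1971) (iv F1447)
def n3568 : Q := act 3 n2671
theorem D3568 : act 3 n2671 = n3568 := rfl
def n3569 : Q := act 0 n2672
theorem D3569 : act 0 n2672 = n3569 := rfl
theorem F2721 : act 3 n3569 = n2964 := d2_2 (iv F1998) D3569 (iv D2964)
def n3570 : Q := act 1 n2673
theorem D3570 : act 1 n2673 = n3570 := rfl
def n3571 : Q := act 3 n2673
theorem D3571 : act 3 n2673 = n3571 := rfl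
theorem F2722 : act 0 n3571 = n2674 := d2_1 D3571 (iv D2674) D2673
def n3572 : Q := act 2 n2674
theorem D3572 : act 2 n2674 = n3572 := rfl
theorem F2723 : act 1 n3572 = n2963 := d3_1 D3572 (iv D2963) F1641 (iv F1451) (iv F1999)
def n3573 : Q := act 3 n2675
theorem D3573 : act 3 n2675 = n3573 := rfl
theorem F2724 : act 0 n3573 = n2687 := d2_1 D3573 (iv D2687) (iv F2000)
def n3574 : Q := act 2 n2676
theorem D3574 : act 2 n2676 = n3574 := rfl
theorem F2725 : act 0 n3574 = n2688 := d1_1 D3574 (iv D2688) (iv F2001)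
def n3575 : Q := act 1 n2677
theorem D3575 : act 1 n2677 = n3575 := rfl
def n3576 : Q := act 3 n2677
theorem D3576 : act 3 n2677 = n3576 := rfl
theorem F2727 : act 2 n3576 = n3568 := d6_2 D2677 D3576 (iv D3568) (iv D2671) (iv D1970) F1049 D1441 (iv F1453)
def n3577 : Q := act 2 n2679
theorem D3577 : act 2 n2679 = n3577 := rfl
theorem F2729 : act 3 n3577 = n3566 := d5_2 D2679 D3577 (iv D3566) (iv D2670) F1446 D1975 D2677 D3576 F2727 (iv D3568) (iv D2671) (iv D1970) F1049 D1441 D1976
def n3578 : Q := act 1 n2680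
theorem D3578 : act 1 n2680 = n3578 := rfl
theorem F2730 : act 3 n3578 = n3079 := d4_2 (iv F2005) D3578 (iv D3079)
def n3579 : Q := act 2 n2681
theorem D3579 : act 2 n2681 = n3579 := rfl
def n3580 : Q := act 2 n2682
theorem D3580 : act 2 n2682 = n3580 := rfl
theorem F2731 : act 0 n3580 = n2683 := d1_1 D3580 (iv D2683) (iv F2006)
def n3581 : Q := act 3 n2683
theorem D3581 : act 3 n2683 = n3581 := rfl
def n3582 : Q := act 0 n2684
theorem D3582 : act 0 n2684 = n3582 := rfl
def n3583 : Q := act 2 n2684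
theorem D3583 : act 2 n2684 = n3583 := rfl
def n3584 : Q := act 3 n2684
theorem D3584 : act 3 n2684 = n3584 := rfl
theorem F2733 : act 1 n3584 = n2685 := d4_1 D3584 (iv D2685) D2684
def n3585 : Q := act 2 n2685
theorem D3585 : act 2 n2685 = n3585 := rfl
theorem F2734 : act 0 n3585 = n2686 := d1_1 D3585 (iv D2686) (iv F2007)
theorem F2735 : act 3 n3585 = n3294 := d6_1 D3585 (iv D3294) (iv D2458) F1331 F952 (iv F1054) D1981 (iv F2007)
def n3586 : Q := act 3 n2686
theorem D3586 : act 3 n2686 = n3586 := rfl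
theorem F2736 : act 0 n3586 = n3294 := d2_1 D3586 (iv F2735) F2734
theorem F2737 : act 1 n3586 = n3581 := d4_1 D3586 (iv D3581) (iv F2008)
theorem F2738 : act 2 n3586 = n3293 := d5_1 D3586 (iv D3293) F1838 F1332 (iv F1456) D2685 D3585 F2735 (iv D3294) (iv D2458) F1331 F952 (iv F1054) D1981 D2686
def n3587 : Q := act 2 n2687
theorem D3587 : act 2 n2687 = n3587 := rfl
def n3588 : Q := act 1 n2688
theorem D3588 : act 1 n2688 = n3588 := rfl
theorem F2739 : act 2 n3588 = n2689 := d3_2 D2688 D3588 (iv D2689) (iv D1984) (iv F1459)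
def n3589 : Q := act 3 n2688
theorem D3589 : act 3 n2688 = n3589 := rfl
def n3590 : Q := act 0 n2689
theorem D3590 : act 0 n2689 = n3590 := rfl
def n3593 : Q := act 0 n2692
theorem D3593 : act 0 n2692 = n3593 := rfl
def n3595 : Q := act 3 n2692
theorem D3595 : act 3 n2692 = n3595 := rfl
theorem F2742 : act 1 n3595 = n2693 := d4_1 D3595 (iv D2693) D2692
def n3596 : Q := act 2 n2693
theorem D3596 : act 2 n2693 = n3596 := rfl
theorem F2743 : act 0 n3596 = n2694 := d1_1 D3596 (iv D2694) (iv F2010)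
def n3599 : Q := act 3 n2695
theorem D3599 : act 3 n2695 = n3599 := rfl
theorem F2746 : act 0 n3599 = n2697 := d2_1 D3599 (iv D2697) D2695
def n3601 : Q := act 2 n2697
theorem D3601 : act 2 n2697 = n3601 := rfl
def n3602 : Q := act 0 n2699
theorem D3602 : act 0 n2699 = n3602 := rfl
theorem F2748 : act 2 n3602 = n2701 := d1_2 (iv F2015) D3602 (iv D2701)
def n3603 : Q := act 3 n2699
theorem D3603 : act 3 n2699 = n3603 := rfl
theorem F2749 : act 1 n3603 = n2700 := d4_1 D3603 (iv D2700) D2699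
def n3604 : Q := act 1 n2701
theorem D3604 : act 1 n2701 = n3604 := rfl
theorem F2750 : act 3 n3604 = n3358 := d4_2 (iv F2016) D3604 (iv D3358)
def n3605 : Q := act 1 n2702
theorem D3605 : act 1 n2702 = n3605 := rfl
theorem F2751 : act 2 n3605 = n2709 := d3_2 D2702 D3605 (iv D2709) (iv D1998) (iv F1465)
def n3606 : Q := act 3 n2702
theorem D3606 : act 3 n2702 = n3606 := rfl
theorem F2752 : act 0 n3606 = n2704 := d2_1 D3606 (iv D2704) (iv F2017)
def n3607 : Q := act 2 n2703
theorem D3607 : act 2 n2703 = n3607 := rfl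
theorem F2753 : act 0 n3607 = n2705 := d1_1 D3607 (iv D2705) (iv F2018)
def n3608 : Q := act 2 n2704
theorem D3608 : act 2 n2704 = n3608 := rfl
def n3609 : Q := act 1 n2705
theorem D3609 : act 1 n2705 = n3609 := rfl
theorem F2754 : act 2 n3609 = n2706 := d3_2 D2705 D3609 (iv D2706) (iv D1996) (iv F1466)
def n3610 : Q := act 3 n2705
theorem D3610 : act 3 n2705 = n3610 := rfl
def n3611 : Q := act 0 n2706
theorem D3611 : act 0 n2706 = n3611 := rfl
def n3612 : Q := act 3 n2706
theorem D3612 : act 3 n2706 = n3612 := rfl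
theorem F2755 : act 1 n3612 = n2707 := d4_1 D3612 (iv D2707) D2706
def n3613 : Q := act 0 n2709
theorem D3613 : act 0 n2709 = n3613 := rfl
def n3614 : Q := act 3 n2709
theorem D3614 : act 3 n2709 = n3614 := rfl
theorem F2756 : act 1 n3614 = n2710 := d4_1 D3614 (iv D2710) D2709
def n3615 : Q := act 2 n2710
theorem D3615 : act 2 n2710 = n3615 := rfl
theorem F2757 : act 0 n3615 = n2712 := d1_1 D3615 (iv D2712) (iv F2025)
def n3616 : Q := act 1 n2711
theorem D3616 : act 1 n2711 = n3616 := rfl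
def n3617 : Q := act 3 n2711
theorem D3617 : act 3 n2711 = n3617 := rfl
theorem F2758 : act 0 n3617 = n2713 := d2_1 D3617 (iv D2713) (iv F2026)
def n3618 : Q := act 1 n2712
theorem D3618 : act 1 n2712 = n3618 := rfl
theorem F2759 : act 2 n3618 = n2717 := d3_2 D2712 D3618 (iv D2717) (iv D2004) (iv F1471)
def n3619 : Q := act 3 n2712
theorem D3619 : act 3 n2712 = n3619 := rfl
theorem F2760 : act 2 n3619 = n3617 := d6_2 D2712 D3619 (iv D3617) (iv D2711) (iv D1999) D1998 D2710 F2025
def n3620 : Q := act 2 n2713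
theorem D3620 : act 2 n2713 = n3620 := rfl
theorem F2761 : act 0 n3620 = n3619 := d1_1 D3620 F2760 F2758
theorem F2762 : act 1 n3620 = n2789 := d3_1 D3620 (iv D2789) F1520 D2062 (iv F2027)
theorem F2763 : act 3 n3620 = n3615 := d5_2 D2713 D3620 (iv D3615) (iv D2710) (iv D1998) D1999 D2711 D3617 (iv F2760) (iv D3619) (iv D2712) (iv D2000) (iv D1461) D1462 D2001
def n3621 : Q := act 1 n2714
theorem D3621 : act 1 n2714 = n3621 := rfl
def n3622 : Q := act 3 n2714
theorem D3622 : act 3 n2714 = n3622 := rfl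
def n3623 : Q := act 2 n2715
theorem D3623 : act 2 n2715 = n3623 := rfl
def n3624 : Q := act 1 n2716
theorem D3624 : act 1 n2716 = n3624 := rfl
theorem F2765 : act 3 n3624 = n2769 := d4_2 (iv F2031) D3624 (iv D2769)
def n3625 : Q := act 0 n2717
theorem D3625 : act 0 n2717 = n3625 := rfl
def n3626 : Q := act 3 n2717
theorem D3626 : act 3 n2717 = n3626 := rfl
theorem F2766 : act 1 n3626 = n2718 := d4_1 D3626 (iv D2718) D2717
def n3630 : Q := act 1 n2721
theorem D3630 : act 1 n2721 = n3630 := rfl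
theorem F2772 : act 2 n3630 = n2722 := d3_2 D2721 D3630 (iv D2722) (iv D2007) (iv F1475)
def n3631 : Q := act 3 n2721
theorem D3631 : act 3 n2721 = n3631 := rfl
def n3632 : Q := act 0 n2722
theorem D3632 : act 0 n2722 = n3632 := rfl
def n3633 : Q := act 1 n2723
theorem D3633 : act 1 n2723 = n3633 := rfl
def n3634 : Q := act 3 n2723
theorem D3634 : act 3 n2723 = n3634 := rfl
theorem F2773 : act 0 n3634 = n2724 := d2_1 D3634 (iv D2724) D2723
def n3635 : Q := act 2 n2724
theorem D3635 : act 2 n2724 = n3635 := rfl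
def n3636 : Q := act 1 n2725
theorem D3636 : act 1 n2725 = n3636 := rfl
def n3637 : Q := act 3 n2725
theorem D3637 : act 3 n2725 = n3637 := rfl
theorem F2774 : act 0 n3637 = n2726 := d2_1 D3637 (iv D2726) D2725
def n3638 : Q := act 2 n2726
theorem D3638 : act 2 n2726 = n3638 := rfl
theorem F2775 : act 1 n3638 = n3635 := d3_1 D3638 (iv D3635) F2037 (iv F1480) (iv F2039)
def n3639 : Q := act 0 n2727
theorem D3639 : act 0 n2727 = n3639 := rfl
def n3640 : Q := act 2 n2727
theorem D3640 : act 2 n2727 = n3640 := rfl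
theorem F2776 : act 1 n3640 = n2731 := d3_1 D3640 (iv D2731) (iv D2015) (iv F1481) D2727
def n3641 : Q := act 3 n2727
theorem D3641 : act 3 n2727 = n3641 := rfl
theorem F2777 : act 1 n3641 = n2728 := d4_1 D3641 (iv D2728) D2727
theorem F2778 : act 2 n3409 = n3641 := d3_0 F2777 F2041 F1908 D2548 D3409
def n3642 : Q := act 1 n2729
theorem D3642 : act 1 n2729 = n3642 := rfl
theorem F2779 : act 2 n3642 = n2730 := d3_2 D2729 D3642 (iv D2730) (iv D2014) (iv F1482)
theorem F2780 : act 3 n3642 = n3408 := d4_2 (iv F2043) D3642 (iv D3408)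
def n3643 : Q := act 0 n2730
theorem D3643 : act 0 n2730 = n3643 := rfl
theorem F2781 : act 3 n3643 = n3632 := d2_2 (iv F2044) D3643 (iv D3632)
def n3644 : Q := act 3 n2731
theorem D3644 : act 3 n2731 = n3644 := rfl
def n3645 : Q := act 2 n2732
theorem D3645 : act 2 n2732 = n3645 := rfl
def n3647 : Q := act 3 n2733
theorem D3647 : act 3 n2733 = n3647 := rfl
theorem F2782 : act 1 n3647 = n2734 := d4_1 D3647 (iv D2734) D2733
def n3648 : Q := act 2 n2734
theorem D3648 : act 2 n2734 = n3648 := rfl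
theorem F2783 : act 0 n3648 = n2735 := d1_1 D3648 (iv D2735) (iv F2046)
def n3649 : Q := act 1 n2735
theorem D3649 : act 1 n2735 = n3649 := rfl
theorem F2784 : act 2 n3649 = n2736 := d3_2 D2735 D3649 (iv D2736) (iv D2019) (iv F1486)
def n3650 : Q := act 3 n2735
theorem D3650 : act 3 n2735 = n3650 := rfl
def n3651 : Q := act 0 n2736
theorem D3651 : act 0 n2736 = n3651 := rfl
def n3653 : Q := act 3 n2737
theorem D3653 : act 3 n2737 = n3653 := rfl
theorem F2785 : act 0 n3653 = n2738 := d2_1 D3653 (iv D2738) D2737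
def n3654 : Q := act 2 n2738
theorem D3654 : act 2 n2738 = n3654 := rfl
def n3656 : Q := act 3 n2739
theorem D3656 : act 3 n2739 = n3656 := rfl
theorem F2786 : act 0 n3656 = n2740 := d2_1 D3656 (iv D2740) D2739
def n3657 : Q := act 2 n2740
theorem D3657 : act 2 n2740 = n3657 := rfl
theorem F2787 : act 1 n3657 = n3654 := d3_1 D3657 (iv D3654) F2047 (iv F1489) (iv F2048)
def n3659 : Q := act 2 n2741
theorem D3659 : act 2 n2741 = n3659 := rfl
theorem F2788 : act 1 n3659 = n2745 := d3_1 D3659 (iv D2745) (iv D2027) (iv F1490) D2741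
def n3660 : Q := act 3 n2741
theorem D3660 : act 3 n2741 = n3660 := rfl
theorem F2789 : act 1 n3660 = n2742 := d4_1 D3660 (iv D2742) D2741
def n3661 : Q := act 1 n2743
theorem D3661 : act 1 n2743 = n3661 := rfl
theorem F2790 : act 2 n3661 = n2744 := d3_2 D2743 D3661 (iv D2744) (iv D2026) (iv F1491)
def n3662 : Q := act 0 n2744
theorem D3662 : act 0 n2744 = n3662 := rfl
theorem F2791 : act 3 n3662 = n3651 := d2_2 (iv F2050) D3662 (iv D3651)
def n3663 : Q := act 3 n2745
theorem D3663 : act 3 n2745 = n3663 := rfl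
theorem F2792 : act 0 n3663 = n3644 := d2_1 D3663 (iv D3644) (iv F2051)
def n3664 : Q := act 2 n2746
theorem D3664 : act 2 n2746 = n3664 := rfl
theorem F2793 : act 0 n3664 = n3645 := d1_1 D3664 (iv D3645) (iv F2052)
def n3665 : Q := act 2 n2747
theorem D3665 : act 2 n2747 = n3665 := rfl
theorem F2794 : act 1 n3665 = n3645 := d3_1 D3665 (iv D3645) F2045 (iv F1496) D2747
def n3666 : Q := act 3 n2748
theorem D3666 : act 3 n2748 = n3666 := rfl
theorem F2795 : act 0 n3666 = n2770 := d2_1 D3666 (iv D2770) (iv F2055)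
def n3667 : Q := act 2 n2749
theorem D3667 : act 2 n2749 = n3667 := rfl
def n3668 : Q := act 1 n2750
theorem D3668 : act 1 n2750 = n3668 := rfl
def n3669 : Q := act 3 n2750
theorem D3669 : act 3 n2750 = n3669 := rfl
theorem F2798 : act 2 n3669 = n3631 := d6_2 D2750 D3669 (iv D3631) (iv D2721) (iv D2006) F1074 D1485 (iv F1499)
def n3672 : Q := act 2 n2754
theorem D3672 : act 2 n2754 = n3672 := rfl
def n3673 : Q := act 2 n2755
theorem D3673 : act 2 n2755 = n3673 := rfl
theorem F2802 : act 0 n3673 = n2756 := d1_1 D3673 (iv D2756) (iv F2061)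
def n3674 : Q := act 3 n2756
theorem D3674 : act 3 n2756 = n3674 := rfl
def n3677 : Q := act 3 n2757
theorem D3677 : act 3 n2757 = n3677 := rfl
theorem F2804 : act 1 n3677 = n2758 := d4_1 D3677 (iv D2758) D2757
def n3678 : Q := act 2 n2758
theorem D3678 : act 2 n2758 = n3678 := rfl
theorem F2805 : act 0 n3678 = n2759 := d1_1 D3678 (iv D2759) (iv F2062)
def n3679 : Q := act 3 n2759
theorem D3679 : act 3 n2759 = n3679 := rfl
theorem F2806 : act 1 n3679 = n3674 := d4_1 D3679 (iv D3674) (iv F2063)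
def n3680 : Q := act 1 n2760
theorem D3680 : act 1 n2760 = n3680 := rfl
theorem F2807 : act 2 n3680 = n2762 := d3_2 D2760 D3680 (iv D2762) (iv D2040) (iv F1504)
def n3681 : Q := act 3 n2760
theorem D3681 : act 3 n2760 = n3681 := rfl
def n3682 : Q := act 2 n2761
theorem D3682 : act 2 n2761 = n3682 := rfl
def n3683 : Q := act 0 n2762
theorem D3683 : act 0 n2762 = n3683 := rfl
def n3684 : Q := act 3 n2762
theorem D3684 : act 3 n2762 = n3684 := rfl
theorem F2809 : act 1 n3684 = n2763 := d4_1 D3684 (iv D2763) D2762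
def n3685 : Q := act 2 n2763
theorem D3685 : act 2 n2763 = n3685 := rfl
def n3686 : Q := act 1 n2764
theorem D3686 : act 1 n2764 = n3686 := rfl
theorem F2811 : act 2 n3686 = n3511 := d3_2 D2764 D3686 (iv D3511) F1970 (iv F1508)
def n3687 : Q := act 3 n2764
theorem D3687 : act 3 n2764 = n3687 := rfl
theorem F2812 : act 0 n3687 = n2766 := d2_1 D3687 (iv D2766) (iv F2066)
def n3688 : Q := act 1 n2765
theorem D3688 : act 1 n2765 = n3688 := rfl
theorem F2813 : act 2 n3688 = n2769 := d3_2 D2765 D3688 (iv D2769) (iv D2046) (iv F1509)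
def n3689 : Q := act 3 n2765
theorem D3689 : act 3 n2765 = n3689 := rfl
theorem F2814 : act 2 n3689 = n3687 := d6_2 D2765 D3689 (iv D3687) (iv D2764) (iv D2041) D2040 D2763 F2065
def n3690 : Q := act 2 n2766
theorem D3690 : act 2 n2766 = n3690 := rfl
theorem F2815 : act 0 n3690 = n3689 := d1_1 D3690 F2814 F2812
theorem F2816 : act 1 n3690 = n3601 := d3_1 D3690 (iv D3601) F2013 D2698 (iv F2067)
theorem F2817 : act 3 n3690 = n3685 := d5_2 D2766 D3690 (iv D3685) (iv D2763) (iv D2040) D2041 D2764 D3687 (iv F2814) (iv D3689) (iv D2765) (iv D2042) (iv D1494) D1495 D2043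
def n3692 : Q := act 3 n2767
theorem D3692 : act 3 n2767 = n3692 := rfl
theorem F2818 : act 0 n3692 = n2768 := d2_1 D3692 (iv D2768) D2767
def n3693 : Q := act 2 n2768
theorem D3693 : act 2 n2768 = n3693 := rfl
def n3695 : Q := act 2 n2770
theorem D3695 : act 2 n2770 = n3695 := rfl
def n3696 : Q := act 1 n2771
theorem D3696 : act 1 n2771 = n3696 := rfl
theorem F2819 : act 2 n3696 = n2772 := d3_2 D2771 D3696 (iv D2772) (iv D2049) (iv F1513)
def n3697 : Q := act 3 n2771
theorem D3697 : act 3 n2771 = n3697 := rfl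
def n3698 : Q := act 0 n2772
theorem D3698 : act 0 n2772 = n3698 := rfl
def n3699 : Q := act 1 n2773
theorem D3699 : act 1 n2773 = n3699 := rfl
def n3700 : Q := act 3 n2773
theorem D3700 : act 3 n2773 = n3700 := rfl
theorem F2820 : act 0 n3700 = n2774 := d2_1 D3700 (iv D2774) D2773
def n3701 : Q := act 2 n2774
theorem D3701 : act 2 n2774 = n3701 := rfl
def n3704 : Q := act 2 n2776
theorem D3704 : act 2 n2776 = n3704 := rfl
theorem F2822 : act 0 n3704 = n2777 := d1_1 D3704 (iv D2777) D2776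
def n3705 : Q := act 3 n2776
theorem D3705 : act 3 n2776 = n3705 := rfl
def n3706 : Q := act 3 n2777
theorem D3706 : act 3 n2777 = n3706 := rfl
theorem F2825 : act 1 n3706 = n2806 := d4_1 D3706 (iv D2806) (iv F2074)
def n3707 : Q := act 2 n2778
theorem D3707 : act 2 n2778 = n3707 := rfl
def n3708 : Q := act 1 n2779
theorem D3708 : act 1 n2779 = n3708 := rfl
def n3710 : Q := act 3 n2781
theorem D3710 : act 3 n2781 = n3710 := rfl
theorem F2827 : act 0 n3710 = n2783 := d2_1 D3710 (iv D2783) D2781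
def n3714 : Q := act 3 n2784
theorem D3714 : act 3 n2784 = n3714 := rfl
theorem F2828 : act 0 n3714 = n2785 := d2_1 D3714 (iv D2785) (iv F2078)
theorem F2829 : act 2 n3714 = n3679 := d6_2 D2784 D3714 (iv D3679) (iv D2759) (iv D2037) F1088 D1505 (iv F1517)
def n3715 : Q := act 2 n2785
theorem D3715 : act 2 n2785 = n3715 := rfl
theorem F2830 : act 0 n3715 = n3679 := d1_1 D3715 (iv F2829) F2828
theorem F2831 : act 3 n3715 = n3678 := d5_2 D2785 D3715 (iv D3678) (iv D2758) F1502 D2057 D2784 D3714 F2829 (iv D3679) (iv D2759) (iv D2037) F1088 D1505 D2058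
def n3716 : Q := act 1 n2786
theorem D3716 : act 1 n2786 = n3716 := rfl
def n3717 : Q := act 3 n2786
theorem D3717 : act 3 n2786 = n3717 := rfl
theorem F2832 : act 0 n3717 = n2788 := d2_1 D3717 (iv D2788) (iv F2080)
def n3718 : Q := act 2 n2787
theorem D3718 : act 2 n2787 = n3718 := rfl
theorem F2833 : act 0 n3718 = n2789 := d1_1 D3718 (iv D2789) (iv F2081)
def n3719 : Q := act 2 n2788
theorem D3719 : act 2 n2788 = n3719 := rfl
def n3720 : Q := act 3 n2789
theorem D3720 : act 3 n2789 = n3720 := rfl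
theorem F2834 : act 1 n3720 = n3615 := d4_1 D3720 (iv F2763) F2762
def n3721 : Q := act 1 n2790
theorem D3721 : act 1 n2790 = n3721 := rfl
def n3722 : Q := act 3 n2790
theorem D3722 : act 3 n2790 = n3722 := rfl
theorem F2835 : act 0 n3722 = n2791 := d2_1 D3722 (iv D2791) D2790
def n3723 : Q := act 2 n2791
theorem D3723 : act 2 n2791 = n3723 := rfl
def n3724 : Q := act 0 n2792
theorem D3724 : act 0 n2792 = n3724 := rfl
theorem F2836 : act 1 n3724 = n3710 := d0_2 D2792 D3724 F2827 F2077 F1517 F1099 (iv F777) D1509 D2065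
def n3725 : Q := act 2 n2792
theorem D3725 : act 2 n2792 = n3725 := rfl
def n3726 : Q := act 1 n2793
theorem D3726 : act 1 n2793 = n3726 := rfl
theorem F2838 : act 3 n3726 = n3516 := d4_2 (iv F2087) D3726 (iv D3516)
def n3727 : Q := act 1 n2794
theorem D3727 : act 1 n2794 = n3727 := rfl
theorem F2839 : act 0 n3727 = n3612 := d0_1 D3727 F2755 F2020 F1468 F1071 (iv F781) (iv F1103) D2067 D2794
theorem F2840 : act 3 n3611 = n3727 := d2_0 F2839 (iv D3612) D3611
def n3728 : Q := act 3 n2794
theorem D3728 : act 3 n2794 = n3728 := rfl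
theorem F2841 : act 0 n3728 = n2795 := d2_1 D3728 (iv D2795) D2794
theorem F2842 : act 1 n3728 = n3611 := d4_1 D3728 F2840 (iv D3727)
def n3729 : Q := act 2 n2795
theorem D3729 : act 2 n2795 = n3729 := rfl
theorem F2843 : act 1 n3729 = n3723 := d3_1 D3729 (iv D3723) F2084 (iv F1526) (iv F2088)
def n3730 : Q := act 1 n2796
theorem D3730 : act 1 n2796 = n3730 := rfl
def n3731 : Q := act 0 n2797
theorem D3731 : act 0 n2797 = n3731 := rfl
theorem F2844 : act 2 n3731 = n2799 := d1_2 (iv F2090) D3731 (iv D2799)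
def n3733 : Q := act 1 n2799
theorem D3733 : act 1 n2799 = n3733 := rfl
def n3734 : Q := act 3 n2799
theorem D3734 : act 3 n2799 = n3734 := rfl
theorem F2846 : act 0 n3734 = n2800 := d2_1 D3734 (iv D2800) D2799
def n3735 : Q := act 2 n2800
theorem D3735 : act 2 n2800 = n3735 := rfl
theorem F2847 : act 1 n3735 = n3701 := d3_1 D3735 (iv D3701) F2072 (iv F1533) (iv F2092)
def n3736 : Q := act 0 n2801
theorem D3736 : act 0 n2801 = n3736 := rfl
theorem F2848 : act 3 n3736 = n3559 := d2_2 (iv F2093) D3736 (iv D3559)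
def n3737 : Q := act 2 n2801
theorem D3737 : act 2 n2801 = n3737 := rfl
def n3738 : Q := act 0 n2802
theorem D3738 : act 0 n2802 = n3738 := rfl
theorem F2850 : act 2 n3738 = n3558 := d1_2 (iv F2094) D3738 F2712
theorem F2851 : act 3 n3738 = n3698 := d2_2 (iv F2095) D3738 (iv D3698)
def n3741 : Q := act 1 n2805
theorem D3741 : act 1 n2805 = n3741 := rfl
theorem F2853 : act 2 n3741 = n2816 := d3_2 D2805 D3741 (iv D2816) (iv D2088) (iv F1541)
def n3742 : Q := act 3 n2805
theorem D3742 : act 3 n2805 = n3742 := rfl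
theorem F2854 : act 0 n3742 = n2806 := d2_1 D3742 (iv D2806) (iv F2097)
def n3743 : Q := act 2 n2806
theorem D3743 : act 2 n2806 = n3743 := rfl
def n3744 : Q := act 1 n2807
theorem D3744 : act 1 n2807 = n3744 := rfl
theorem F2855 : act 2 n3744 = n2808 := d3_2 D2807 D3744 (iv D2808) (iv D2081) (iv F1544)
def n3745 : Q := act 3 n2807
theorem D3745 : act 3 n2807 = n3745 := rfl
theorem F2856 : act 0 n3745 = n3560 := d2_1 D3745 (iv D3560) (iv F2098)
def n3746 : Q := act 0 n2808
theorem D3746 : act 0 n2808 = n3746 := rfl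
def n3747 : Q := act 3 n2808
theorem D3747 : act 3 n2808 = n3747 := rfl
theorem F2857 : act 1 n3747 = n2809 := d4_1 D3747 (iv D2809) D2808
def n3748 : Q := act 1 n2810
theorem D3748 : act 1 n2810 = n3748 := rfl
theorem F2858 : act 2 n3748 = n2867 := d3_2 D2810 D3748 F2149 F1579 F1549
theorem F2859 : act 3 n3748 = n3708 := d4_2 (iv F2102) D3748 (iv D3708)
def n3750 : Q := act 3 n2811
theorem D3750 : act 3 n2811 = n3750 := rfl
theorem F2860 : act 0 n3750 = n2813 := d2_1 D3750 (iv D2813) (iv F2103)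
def n3751 : Q := act 2 n2812
theorem D3751 : act 2 n2812 = n3751 := rfl
theorem F2861 : act 0 n3751 = n2814 := d1_1 D3751 (iv D2814) (iv F2104)
def n3752 : Q := act 2 n2813
theorem D3752 : act 2 n2813 = n3752 := rfl
def n3753 : Q := act 1 n2814
theorem D3753 : act 1 n2814 = n3753 := rfl
theorem F2862 : act 2 n3753 = n2815 := d3_2 D2814 D3753 (iv D2815) (iv D2086) (iv F1547)
def n3754 : Q := act 3 n2814
theorem D3754 : act 3 n2814 = n3754 := rfl
def n3755 : Q := act 0 n2815
theorem D3755 : act 0 n2815 = n3755 := rfl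
def n3756 : Q := act 0 n2816
theorem D3756 : act 0 n2816 = n3756 := rfl
theorem F2863 : act 3 n3756 = n3529 := d2_2 (iv F2106) D3756 (iv D3529)
def n3757 : Q := act 2 n2817
theorem D3757 : act 2 n2817 = n3757 := rfl
theorem F2864 : act 0 n3757 = n2818 := d1_1 D3757 (iv D2818) D2817
def n3759 : Q := act 1 n2819
theorem D3759 : act 1 n2819 = n3759 := rfl
def n3760 : Q := act 3 n2819
theorem D3760 : act 3 n2819 = n3760 := rfl
def n3761 : Q := act 2 n2820
theorem D3761 : act 2 n2820 = n3761 := rfl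
def n3762 : Q := act 1 n2821
theorem D3762 : act 1 n2821 = n3762 := rfl
theorem F2867 : act 3 n3762 = n2891 := d4_2 (iv F2113) D3762 (iv D2891)
def n3763 : Q := act 0 n2822
theorem D3763 : act 0 n2822 = n3763 := rfl
theorem F2868 : act 2 n3763 = n3527 := d1_2 (iv F2114) D3763 F2683
def n3764 : Q := act 3 n2822
theorem D3764 : act 3 n2822 = n3764 := rfl
theorem F2869 : act 1 n3764 = n2823 := d4_1 D3764 (iv D2823) D2822
def n3765 : Q := act 2 n2824
theorem D3765 : act 2 n2824 = n3765 := rfl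
theorem F2870 : act 0 n3765 = n2832 := d1_1 D3765 (iv D2832) (iv F2117)
def n3766 : Q := act 3 n2824
theorem D3766 : act 3 n2824 = n3766 := rfl
theorem F2871 : act 0 n3766 = n2833 := d2_1 D3766 (iv D2833) (iv F2117)
theorem F2872 : act 1 n3766 = n2825 := d4_1 D3766 (iv D2825) D2824
def n3767 : Q := act 2 n2825
theorem D3767 : act 2 n2825 = n3767 := rfl
theorem F2873 : act 0 n3767 = n2826 := d1_1 D3767 (iv D2826) (iv F2118)
def n3768 : Q := act 1 n2826
theorem D3768 : act 1 n2826 = n3768 := rfl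
theorem F2874 : act 2 n3768 = n2827 := d3_2 D2826 D3768 (iv D2827) (iv D2096) (iv F1558)
def n3769 : Q := act 3 n2826
theorem D3769 : act 3 n2826 = n3769 := rfl
def n3770 : Q := act 0 n2827
theorem D3770 : act 0 n2827 = n3770 := rfl
theorem F2875 : act 3 n3770 = n3373 := d2_2 (iv F2119) D3770 F2564
def n3771 : Q := act 1 n2828
theorem D3771 : act 1 n2828 = n3771 := rfl
def n3772 : Q := act 3 n2828
theorem D3772 : act 3 n2828 = n3772 := rfl
theorem F2876 : act 0 n3772 = n2829 := d2_1 D3772 (iv D2829) D2828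
def n3773 : Q := act 2 n2829
theorem D3773 : act 2 n2829 = n3773 := rfl
def n3774 : Q := act 1 n2830
theorem D3774 : act 1 n2830 = n3774 := rfl
def n3775 : Q := act 3 n2830
theorem D3775 : act 3 n2830 = n3775 := rfl
theorem F2877 : act 0 n3775 = n2831 := d2_1 D3775 (iv D2831) D2830
def n3776 : Q := act 2 n2831
theorem D3776 : act 2 n2831 = n3776 := rfl
theorem F2878 : act 1 n3776 = n3773 := d3_1 D3776 (iv D3773) F2120 (iv F1562) (iv F2122)
def n3777 : Q := act 3 n2832
theorem D3777 : act 3 n2832 = n3777 := rfl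
theorem F2879 : act 1 n3777 = n3449 := d4_1 D3777 (iv D3449) (iv F2123)
def n3778 : Q := act 2 n2833
theorem D3778 : act 2 n2833 = n3778 := rfl
def n3779 : Q := act 1 n2834
theorem D3779 : act 1 n2834 = n3779 := rfl
def n3780 : Q := act 0 n2836
theorem D3780 : act 0 n2836 = n3780 := rfl
def n3781 : Q := act 2 n2836
theorem D3781 : act 2 n2836 = n3781 := rfl
def n3784 : Q := act 1 n2839
theorem D3784 : act 1 n2839 = n3784 := rfl
def n3785 : Q := act 3 n2839
theorem D3785 : act 3 n2839 = n3785 := rfl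
def n3786 : Q := act 2 n2840
theorem D3786 : act 2 n2840 = n3786 := rfl
def n3787 : Q := act 1 n2841
theorem D3787 : act 1 n2841 = n3787 := rfl
theorem F2883 : act 3 n3787 = n3730 := d4_2 (iv F2131) D3787 (iv D3730)
def n3791 : Q := act 2 n2843
theorem D3791 : act 2 n2843 = n3791 := rfl
def n3792 : Q := act 3 n2844
theorem D3792 : act 3 n2844 = n3792 := rfl
theorem F2887 : act 1 n3792 = n2849 := d4_1 D3792 (iv D2849) (iv F2133)
def n3793 : Q := act 2 n2845
theorem D3793 : act 2 n2845 = n3793 := rfl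
theorem F2888 : act 0 n3793 = n2846 := d1_1 D3793 (iv D2846) D2845
def n3794 : Q := act 3 n2845
theorem D3794 : act 3 n2845 = n3794 := rfl
theorem F2889 : act 0 n3794 = n2847 := d2_1 D3794 (iv D2847) D2845
def n3795 : Q := act 3 n2846
theorem D3795 : act 3 n2846 = n3795 := rfl
theorem F2890 : act 1 n3795 = n2851 := d4_1 D3795 (iv D2851) (iv F2134)
def n3796 : Q := act 2 n2847
theorem D3796 : act 2 n2847 = n3796 := rfl
def n3797 : Q := act 1 n2850
theorem D3797 : act 1 n2850 = n3797 := rfl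
theorem F2891 : act 2 n3797 = n2860 := d3_2 D2850 D3797 (iv D2860) (iv D2122) (iv F1569)
def n3798 : Q := act 3 n2850
theorem D3798 : act 3 n2850 = n3798 := rfl
theorem F2892 : act 0 n3798 = n2851 := d2_1 D3798 (iv D2851) (iv F2140)
def n3799 : Q := act 2 n2851
theorem D3799 : act 2 n2851 = n3799 := rfl
def n3800 : Q := act 0 n2852
theorem D3800 : act 0 n2852 = n3800 := rfl
theorem F2893 : act 2 n3800 = n2869 := d1_2 (iv F2141) D3800 (iv D2869)
def n3801 : Q := act 3 n2852
theorem D3801 : act 3 n2852 = n3801 := rfl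
theorem F2894 : act 1 n3801 = n2853 := d4_1 D3801 (iv D2853) D2852
def n3802 : Q := act 2 n2853
theorem D3802 : act 2 n2853 = n3802 := rfl
def n3803 : Q := act 1 n2854
theorem D3803 : act 1 n2854 = n3803 := rfl
theorem F2896 : act 2 n3803 = n2872 := d3_2 D2854 D3803 (iv D2872) (iv D2131) (iv F1572)
def n3804 : Q := act 3 n2854
theorem D3804 : act 3 n2854 = n3804 := rfl
theorem F2897 : act 0 n3804 = n2857 := d2_1 D3804 (iv D2857) (iv F2143)
def n3805 : Q := act 1 n2855
theorem D3805 : act 1 n2855 = n3805 := rfl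
def n3806 : Q := act 3 n2855
theorem D3806 : act 3 n2855 = n3806 := rfl
theorem F2899 : act 2 n3806 = n3804 := d6_2 D2855 D3806 (iv D3804) (iv D2854) (iv D2117) D2116 D2853 F2142
def n3807 : Q := act 0 n2856
theorem D3807 : act 0 n2856 = n3807 := rfl
theorem F2900 : act 2 n3807 = n2858 := d1_2 (iv F2144) D3807 (iv D2858)
def n3808 : Q := act 3 n2856
theorem D3808 : act 3 n2856 = n3808 := rfl
theorem F2901 : act 1 n3808 = n2857 := d4_1 D3808 (iv D2857) D2856
def n3809 : Q := act 2 n2857
theorem D3809 : act 2 n2857 = n3809 := rfl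
theorem F2902 : act 0 n3809 = n3806 := d1_1 D3809 F2899 F2897
theorem F2903 : act 3 n3809 = n3802 := d5_2 D2857 D3809 (iv D3802) (iv D2853) (iv D2116) D2117 D2854 D3804 (iv F2899) (iv D3806) (iv D2855) (iv D2118) (iv D1546) D1547 D2119
def n3810 : Q := act 1 n2858
theorem D3810 : act 1 n2858 = n3810 := rfl
def n3811 : Q := act 3 n2858
theorem D3811 : act 3 n2858 = n3811 := rfl
theorem F2904 : act 0 n3811 = n2859 := d2_1 D3811 (iv D2859) D2858
def n3812 : Q := act 0 n2860
theorem D3812 : act 0 n2860 = n3812 := rfl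
def n3813 : Q := act 3 n2860
theorem D3813 : act 3 n2860 = n3813 := rfl
def n3819 : Q := act 0 n2864
theorem D3819 : act 0 n2864 = n3819 := rfl
theorem F2909 : act 2 n3819 = n2866 := d1_2 (iv F2148) D3819 (iv D2866)
def n3820 : Q := act 3 n2864
theorem D3820 : act 3 n2864 = n3820 := rfl
def n3822 : Q := act 1 n2866
theorem D3822 : act 1 n2866 = n3822 := rfl
theorem F2913 : act 0 n3822 = n3810 := d0_1 D3822 (iv D3810) (iv D2858) (iv D2120) F1130 (iv F802) (iv F1132) D2126 D2866
def n3823 : Q := act 3 n2866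
theorem D3823 : act 3 n2866 = n3823 := rfl
theorem F2914 : act 0 n3823 = n2867 := d2_1 D3823 (iv D2867) D2866
def n3824 : Q := act 0 n2868
theorem D3824 : act 0 n2868 = n3824 := rfl
theorem F2915 : act 2 n3824 = n3811 := d1_2 (iv F2150) D3824 F2904
theorem F2916 : act 3 n3824 = n3755 := d2_2 (iv F2151) D3824 (iv D3755)
def n3825 : Q := act 3 n2869
theorem D3825 : act 3 n2869 = n3825 := rfl
theorem F2917 : act 0 n3825 = n2870 := d2_1 D3825 (iv D2870) D2869
def n3826 : Q := act 2 n2870
theorem D3826 : act 2 n2870 = n3826 := rfl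
def n3827 : Q := act 0 n2872
theorem D3827 : act 0 n2872 = n3827 := rfl
def n3828 : Q := act 3 n2872
theorem D3828 : act 3 n2872 = n3828 := rfl
theorem F2919 : act 1 n3828 = n2873 := d4_1 D3828 (iv D2873) D2872
def n3829 : Q := act 0 n2874
theorem D3829 : act 0 n2874 = n3829 := rfl
theorem F2920 : act 2 n3829 = n2882 := d1_2 (iv F2156) D3829 (iv D2882)
def n3830 : Q := act 3 n2874
theorem D3830 : act 3 n2874 = n3830 := rfl
theorem F2921 : act 1 n3830 = n2875 := d4_1 D3830 (iv D2875) D2874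
def n3831 : Q := act 2 n2877
theorem D3831 : act 2 n2877 = n3831 := rfl
theorem F2922 : act 0 n3831 = n2878 := d1_1 D3831 (iv D2878) D2877
def n3832 : Q := act 3 n2878
theorem D3832 : act 3 n2878 = n3832 := rfl
def n3833 : Q := act 2 n2879
theorem D3833 : act 2 n2879 = n3833 := rfl
def n3834 : Q := act 1 n2880
theorem D3834 : act 1 n2880 = n3834 := rfl
def n3835 : Q := act 3 n2880
theorem D3835 : act 3 n2880 = n3835 := rfl
theorem F2925 : act 0 n3835 = n2881 := d2_1 D3835 (iv D2881) (iv F2163)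
def n3836 : Q := act 2 n2881
theorem D3836 : act 2 n2881 = n3836 := rfl
def n3837 : Q := act 1 n2882
theorem D3837 : act 1 n2882 = n3837 := rfl
def n3838 : Q := act 0 n2883
theorem D3838 : act 0 n2883 = n3838 := rfl
theorem F2926 : act 1 n3838 = n2950 := d0_2 D2883 D3838 (iv D2950) (iv D2195) (iv D1604) (iv D1159) (iv F809) D1563 D2140
def n3839 : Q := act 2 n2883
theorem D3839 : act 2 n2883 = n3839 := rfl
theorem F2927 : act 1 n3839 = n2886 := d3_1 D3839 (iv D2886) (iv D2142) (iv F1588) D2883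
def n3840 : Q := act 3 n2883
theorem D3840 : act 3 n2883 = n3840 := rfl
theorem F2928 : act 1 n3840 = n2884 := d4_1 D3840 (iv D2884) D2883
def n3841 : Q := act 2 n2884
theorem D3841 : act 2 n2884 = n3841 := rfl
theorem F2929 : act 0 n3841 = n2885 := d1_1 D3841 (iv D2885) (iv F2164)
def n3842 : Q := act 3 n2885
theorem D3842 : act 3 n2885 = n3842 := rfl
def n3843 : Q := act 3 n2886
theorem D3843 : act 3 n2886 = n3843 := rfl
def n3844 : Q := act 1 n2887
theorem D3844 : act 1 n2887 = n3844 := rfl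
theorem F2931 : act 2 n3844 = n3421 := d3_2 D2887 D3844 (iv D3421) (iv D2557) (iv F1593)
def n3845 : Q := act 3 n2887
theorem D3845 : act 3 n2887 = n3845 := rfl
theorem F2933 : act 2 n3845 = n3842 := d6_2 D2887 D3845 (iv D3842) (iv D2885) (iv D2141) F1141 D1566 (iv F1592)
def n3846 : Q := act 2 n2888
theorem D3846 : act 2 n2888 = n3846 := rfl
theorem F2935 : act 1 n3846 = n3796 := d3_1 D3846 (iv D3796) F2135 D2848 (iv F2167)
theorem F2936 : act 3 n3846 = n3841 := d5_2 D2888 D3846 (iv D3841) (iv D2884) F1588 D2143 D2887 D3845 F2933 (iv D3842) (iv D2885) (iv D2141) F1141 D1566 D2144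
def n3847 : Q := act 1 n2889
theorem D3847 : act 1 n2889 = n3847 := rfl
theorem F2937 : act 0 n3847 = n2961 := d0_1 D3847 (iv D2961) (iv D2202) (iv D1610) F838 (iv F817) (iv F1144) D2145 D2889
def n3849 : Q := act 2 n2890
theorem D3849 : act 2 n2890 = n3849 := rfl
def n3850 : Q := act 0 n2891
theorem D3850 : act 0 n2891 = n3850 := rfl
theorem F2939 : act 2 n3850 = n2964 := d1_2 (iv F2170) D3850 (iv D2964)
def n3852 : Q := act 3 n2892
theorem D3852 : act 3 n2892 = n3852 := rfl
theorem F2940 : act 0 n3852 = n2893 := d2_1 D3852 (iv D2893) D2892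
def n3853 : Q := act 2 n2893
theorem D3853 : act 2 n2893 = n3853 := rfl
theorem F2941 : act 1 n3853 = n3520 := d3_1 D3853 (iv D3520) F1975 (iv F1598) (iv F2172)
def n3854 : Q := act 0 n2894
theorem D3854 : act 0 n2894 = n3854 := rfl
def n3855 : Q := act 2 n2894
theorem D3855 : act 2 n2894 = n3855 := rfl
theorem F2942 : act 1 n3855 = n2899 := d3_1 D3855 (iv D2899) (iv D2153) (iv F1599) D2894
def n3856 : Q := act 3 n2894
theorem D3856 : act 3 n2894 = n3856 := rfl
theorem F2943 : act 1 n3856 = n2895 := d4_1 D3856 (iv D2895) D2894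
def n3857 : Q := act 2 n2895
theorem D3857 : act 2 n2895 = n3857 := rfl
theorem F2944 : act 0 n3857 = n2896 := d1_1 D3857 (iv D2896) (iv F2173)
def n3858 : Q := act 1 n2896
theorem D3858 : act 1 n2896 = n3858 := rfl
theorem F2945 : act 2 n3858 = n2897 := d3_2 D2896 D3858 (iv D2897) (iv D2152) (iv F1600)
def n3859 : Q := act 3 n2896
theorem D3859 : act 3 n2896 = n3859 := rfl
def n3860 : Q := act 0 n2897
theorem D3860 : act 0 n2897 = n3860 := rfl
theorem F2946 : act 3 n3860 = n3517 := d2_2 (iv F2174) D3860 (iv D3517)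
def n3861 : Q := act 2 n2898
theorem D3861 : act 2 n2898 = n3861 := rfl
theorem F2947 : act 0 n3861 = n2899 := d1_1 D3861 (iv D2899) D2898
def n3862 : Q := act 3 n2898
theorem D3862 : act 3 n2898 = n3862 := rfl
theorem F2948 : act 0 n3862 = n2900 := d2_1 D3862 (iv D2900) D2898
theorem F2949 : act 1 n3862 = n2904 := d4_1 D3862 (iv D2904) (iv F2175)
def n3863 : Q := act 3 n2899
theorem D3863 : act 3 n2899 = n3863 := rfl
def n3864 : Q := act 2 n2900
theorem D3864 : act 2 n2900 = n3864 := rfl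
def n3865 : Q := act 1 n2901
theorem D3865 : act 1 n2901 = n3865 := rfl
def n3866 : Q := act 3 n2901
theorem D3866 : act 3 n2901 = n3866 := rfl
theorem F2950 : act 0 n3866 = n2902 := d2_1 D3866 (iv D2902) (iv F2177)
theorem F2951 : act 2 n3866 = n3859 := d6_2 D2901 D3866 (iv D3859) (iv D2896) (iv D2151) F1146 D1573 (iv F1603)
def n3867 : Q := act 2 n2902
theorem D3867 : act 2 n2902 = n3867 := rfl
theorem F2953 : act 1 n3867 = n2943 := d3_1 D3867 (iv D2943) F1632 (iv F1610) (iv F2178)
theorem F2954 : act 3 n3867 = n3857 := d5_2 D2902 D3867 (iv D3857) (iv D2895) F1599 D2154 D2901 D3866 F2951 (iv D3859) (iv D2896) (iv D2151) F1146 D1573 D2155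
def n3868 : Q := act 1 n2903
theorem D3868 : act 1 n2903 = n3868 := rfl
def n3869 : Q := act 3 n2903
theorem D3869 : act 3 n2903 = n3869 := rfl
theorem F2955 : act 0 n3869 = n2905 := d2_1 D3869 (iv D2905) (iv F2179)
def n3870 : Q := act 2 n2904
theorem D3870 : act 2 n2904 = n3870 := rfl
theorem F2956 : act 0 n3870 = n2906 := d1_1 D3870 (iv D2906) (iv F2180)
def n3871 : Q := act 2 n2905
theorem D3871 : act 2 n2905 = n3871 := rfl
def n3872 : Q := act 3 n2906
theorem D3872 : act 3 n2906 = n3872 := rfl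
theorem F2957 : act 1 n3872 = n2953 := d4_1 D3872 (iv F2229) F2228
def n3873 : Q := act 0 n2907
theorem D3873 : act 0 n2907 = n3873 := rfl
theorem F2958 : act 2 n3873 = n2922 := d1_2 (iv F2182) D3873 (iv D2922)
def n3875 : Q := act 2 n2908
theorem D3875 : act 2 n2908 = n3875 := rfl
theorem F2960 : act 0 n3875 = n2909 := d1_1 D3875 (iv D2909) (iv F2183)
theorem F2961 : act 3 n3875 = n2946 := d6_1 D3875 (iv D2946) (iv D2192) (iv D1601) F835 D1578 D2162 (iv F2183)
def n3876 : Q := act 1 n2909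
theorem D3876 : act 1 n2909 = n3876 := rfl
def n3877 : Q := act 3 n2909
theorem D3877 : act 3 n2909 = n3877 := rfl
theorem F2962 : act 0 n3877 = n2946 := d2_1 D3877 (iv F2961) F2960
theorem F2963 : act 2 n3877 = n2945 := d5_1 D3877 (iv D2945) (iv D2191) F1167 D2161 D2908 D3875 F2961 (iv D2946) (iv D2192) (iv D1601) F835 D1578 D2162 D2909
def n3882 : Q := act 0 n2913
theorem D3882 : act 0 n2913 = n3882 := rfl
theorem F2966 : act 2 n3882 = n2937 := d1_2 (iv F2187) D3882 (iv D2937)
def n3883 : Q := act 3 n2913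
theorem D3883 : act 3 n2913 = n3883 := rfl
theorem F2967 : act 1 n3883 = n2914 := d4_1 D3883 (iv D2914) D2913
def n3885 : Q := act 3 n2915
theorem D3885 : act 3 n2915 = n3885 := rfl
theorem F2969 : act 1 n3885 = n2916 := d4_1 D3885 (iv D2916) D2915
def n3886 : Q := act 1 n2917
theorem D3886 : act 1 n2917 = n3886 := rfl
def n3887 : Q := act 3 n2917
theorem D3887 : act 3 n2917 = n3887 := rfl
theorem F2971 : act 2 n3887 = n3554 := d6_2 (iv F2191) D3887 (iv D3554) F1992 (iv F1622) F1621 (iv D2170) D2169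
def n3891 : Q := act 3 n2920
theorem D3891 : act 3 n2920 = n3891 := rfl
def n3892 : Q := act 1 n2922
theorem D3892 : act 1 n2922 = n3892 := rfl
def n3894 : Q := act 2 n2923
theorem D3894 : act 2 n2923 = n3894 := rfl
def n3895 : Q := act 1 n2924
theorem D3895 : act 1 n2924 = n3895 := rfl
def n3896 : Q := act 0 n2925
theorem D3896 : act 0 n2925 = n3896 := rfl
def n3897 : Q := act 3 n2925
theorem D3897 : act 3 n2925 = n3897 := rfl
theorem F2977 : act 1 n3897 = n2926 := d4_1 D3897 (iv D2926) D2925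
def n3902 : Q := act 2 n2930
theorem D3902 : act 2 n2930 = n3902 := rfl
def n3903 : Q := act 1 n2931
theorem D3903 : act 1 n2931 = n3903 := rfl
theorem F2980 : act 3 n3903 = n3895 := d4_2 (iv F2203) D3903 (iv D3895)
def n3905 : Q := act 3 n2932
theorem D3905 : act 3 n2932 = n3905 := rfl
theorem F2982 : act 0 n3905 = n3891 := d2_1 D3905 (iv D3891) (iv F2204)
theorem F2983 : act 1 n3905 = n2933 := d4_1 D3905 (iv D2933) D2932
def n3906 : Q := act 1 n2934
theorem D3906 : act 1 n2934 = n3906 := rfl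
theorem F2984 : act 3 n3906 = n3556 := d4_2 (iv F2207) D3906 (iv D3556)
def n3909 : Q := act 1 n2937
theorem D3909 : act 1 n2937 = n3909 := rfl
theorem F2987 : act 0 n3909 = n3275 := d0_1 D3909 F2488 F1832 F1323 (iv F945) F946 (iv F1163) D2183 D2937
theorem F2988 : act 3 n3273 = n3909 := d2_0 F2987 (iv D3275) D3273
def n3910 : Q := act 3 n2937
theorem D3910 : act 3 n2937 = n3910 := rfl
theorem F2989 : act 0 n3910 = n2938 := d2_1 D3910 (iv D2938) D2937
def n3911 : Q := act 2 n2938
theorem D3911 : act 2 n2938 = n3911 := rfl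
def n3912 : Q := act 1 n2939
theorem D3912 : act 1 n2939 = n3912 := rfl
def n3913 : Q := act 3 n2939
theorem D3913 : act 3 n2939 = n3913 := rfl
theorem F2991 : act 0 n3913 = n2940 := d2_1 D3913 (iv D2940) D2939
def n3914 : Q := act 2 n2940
theorem D3914 : act 2 n2940 = n3914 := rfl
theorem F2992 : act 1 n3914 = n3911 := d3_1 D3914 (iv D3911) F2209 (iv F1627) (iv F2211)
def n3915 : Q := act 1 n2941
theorem D3915 : act 1 n2941 = n3915 := rfl
def n3916 : Q := act 3 n2941
theorem D3916 : act 3 n2941 = n3916 := rfl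
theorem F2993 : act 0 n3916 = n2942 := d2_1 D3916 (iv D2942) (iv F2212)
def n3917 : Q := act 2 n2942
theorem D3917 : act 2 n2942 = n3917 := rfl
def n3918 : Q := act 3 n2943
theorem D3918 : act 3 n2943 = n3918 := rfl
theorem F2994 : act 1 n3918 = n3857 := d4_1 D3918 (iv F2954) F2953
def n3919 : Q := act 0 n2944
theorem D3919 : act 0 n2944 = n3919 := rfl
def n3920 : Q := act 3 n2944
theorem D3920 : act 3 n2944 = n3920 := rfl
theorem F2996 : act 1 n3920 = n2945 := d4_1 D3920 (iv D2945) D2944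
def n3921 : Q := act 1 n2946
theorem D3921 : act 1 n2946 = n3921 := rfl
def n3922 : Q := act 0 n2947
theorem D3922 : act 0 n2947 = n3922 := rfl
def n3923 : Q := act 2 n2947
theorem D3923 : act 2 n2947 = n3923 := rfl
def n3925 : Q := act 2 n2948
theorem D3925 : act 2 n2948 = n3925 := rfl
def n3926 : Q := act 3 n2949
theorem D3926 : act 3 n2949 = n3926 := rfl
theorem F2999 : act 1 n3926 = n3842 := d4_1 D3926 (iv D3842) (iv F2217)
def n3927 : Q := act 2 n2950
theorem D3927 : act 2 n2950 = n3927 := rfl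
theorem F3000 : act 0 n3927 = n2951 := d1_1 D3927 (iv D2951) D2950
def n3928 : Q := act 3 n2950
theorem D3928 : act 3 n2950 = n3928 := rfl
theorem F3001 : act 0 n3928 = n2952 := d2_1 D3928 (iv D2952) D2950
def n3929 : Q := act 3 n2951
theorem D3929 : act 3 n2951 = n3929 := rfl
theorem F3002 : act 1 n3929 = n2957 := d4_1 D3929 (iv D2957) (iv F2218)
def n3930 : Q := act 2 n2952
theorem D3930 : act 2 n2952 = n3930 := rfl
def n3932 : Q := act 3 n2954
theorem D3932 : act 3 n2954 = n3932 := rfl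
theorem F3004 : act 1 n3932 = n2955 := d4_1 D3932 (iv D2955) D2954
def n3934 : Q := act 0 n2958
theorem D3934 : act 0 n2958 = n3934 := rfl
theorem F3006 : act 2 n3934 = n3278 := d1_2 (iv F2224) D3934 (iv D3278)
def n3935 : Q := act 3 n2958
theorem D3935 : act 3 n2958 = n3935 := rfl
theorem F3007 : act 1 n3935 = n2959 := d4_1 D3935 (iv D2959) D2958
def n3936 : Q := act 2 n2961
theorem D3936 : act 2 n2961 = n3936 := rfl
def n3937 : Q := act 3 n2961
theorem D3937 : act 3 n2961 = n3937 := rfl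
theorem F3009 : act 1 n3937 = n2962 := d4_1 D3937 (iv D2962) D2961
def n3938 : Q := act 2 n2962
theorem D3938 : act 2 n2962 = n3938 := rfl
theorem F3010 : act 0 n3938 = n2963 := d1_1 D3938 (iv D2963) (iv F2230)
def n3939 : Q := act 3 n2963
theorem D3939 : act 3 n2963 = n3939 := rfl
def n3940 : Q := act 1 n2964
theorem D3940 : act 1 n2964 = n3940 := rfl
def n3943 : Q := act 0 n2966
theorem D3943 : act 0 n2966 = n3943 := rfl
theorem F3014 : act 2 n3943 = n2968 := d1_2 (iv F2232) D3943 (iv D2968)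
def n3944 : Q := act 3 n2966
theorem D3944 : act 3 n2966 = n3944 := rfl
def n3945 : Q := act 1 n2968
theorem D3945 : act 1 n2968 = n3945 := rfl
def n3946 : Q := act 0 n2969
theorem D3946 : act 0 n2969 = n3946 := rfl
def n3947 : Q := act 2 n2969
theorem D3947 : act 2 n2969 = n3947 := rfl
def n3948 : Q := act 3 n2969
theorem D3948 : act 3 n2969 = n3948 := rfl
theorem F3017 : act 1 n3948 = n2970 := d4_1 D3948 (iv D2970) D2969
def n3949 : Q := act 2 n2970
theorem D3949 : act 2 n2970 = n3949 := rfl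
theorem F3018 : act 0 n3949 = n2971 := d1_1 D3949 (iv D2971) (iv F2234)
theorem F3019 : act 3 n3949 = n2992 := d6_1 D3949 (iv D2992) (iv D2226) F1192 F846 (iv F1185) D2209 (iv F2234)
def n3950 : Q := act 3 n2971
theorem D3950 : act 3 n2971 = n3950 := rfl
theorem F3020 : act 0 n3950 = n2992 := d2_1 D3950 (iv F3019) F3018
theorem F3021 : act 2 n3950 = n2991 := d5_1 D3950 (iv D2991) F1658 F1193 (iv F1645) D2970 D3949 F3019 (iv D2992) (iv D2226) F1192 F846 (iv F1185) D2209 D2971
def n3953 : Q := act 1 n2974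
theorem D3953 : act 1 n2974 = n3953 := rfl
theorem F3023 : act 2 n3953 = n2985 := d3_2 D2974 D3953 (iv D2985) (iv D2221) (iv F1647)
def n3954 : Q := act 3 n2974
theorem D3954 : act 3 n2974 = n3954 := rfl
theorem F3024 : act 0 n3954 = n2976 := d2_1 D3954 (iv D2976) (iv F2236)
def n3955 : Q := act 2 n2975
theorem D3955 : act 2 n2975 = n3955 := rfl
theorem F3025 : act 0 n3955 = n2977 := d1_1 D3955 (iv D2977) (iv F2237)
def n3956 : Q := act 2 n2976
theorem D3956 : act 2 n2976 = n3956 := rfl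
def n3957 : Q := act 1 n2977
theorem D3957 : act 1 n2977 = n3957 := rfl
theorem F3026 : act 2 n3957 = n2978 := d3_2 D2977 D3957 (iv D2978) (iv D2214) (iv F1649)
def n3958 : Q := act 3 n2977
theorem D3958 : act 3 n2977 = n3958 := rfl
def n3959 : Q := act 0 n2978
theorem D3959 : act 0 n2978 = n3959 := rfl
def n3962 : Q := act 2 n2980
theorem D3962 : act 2 n2980 = n3962 := rfl
theorem F3028 : act 0 n3962 = n2982 := d1_1 D3962 (iv D2982) (iv F2241)
def n3964 : Q := act 1 n2982
theorem D3964 : act 1 n2982 = n3964 := rfl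
theorem F3029 : act 2 n3964 = n2983 := d3_2 D2982 D3964 (iv D2983) (iv D2219) (iv F1652)
def n3965 : Q := act 3 n2982
theorem D3965 : act 3 n2982 = n3965 := rfl
def n3966 : Q := act 0 n2983
theorem D3966 : act 0 n2983 = n3966 := rfl
def n3967 : Q := act 3 n2983
theorem D3967 : act 3 n2983 = n3967 := rfl
theorem F3030 : act 1 n3967 = n2984 := d4_1 D3967 (iv D2984) D2983
theorem F3031 : act 2 n3067 = n3967 := d3_0 F3030 F2244 F1654 (iv F1701) (iv F2310)
def n3968 : Q := act 0 n2985
theorem D3968 : act 0 n2985 = n3968 := rfl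
def n3969 : Q := act 3 n2985
theorem D3969 : act 3 n2985 = n3969 := rfl
theorem F3032 : act 1 n3969 = n2986 := d4_1 D3969 (iv D2986) D2985
def n3970 : Q := act 2 n2986
theorem D3970 : act 2 n2986 = n3970 := rfl
def n3971 : Q := act 1 n2987
theorem D3971 : act 1 n2987 = n3971 := rfl
def n3972 : Q := act 3 n2987
theorem D3972 : act 3 n2987 = n3972 := rfl
def n3974 : Q := act 3 n2988
theorem D3974 : act 3 n2988 = n3974 := rfl
theorem F3036 : act 2 n3974 = n3972 := d6_2 D2988 D3974 (iv D3972) (iv D2987) (iv D2222) D2221 D2986 F2245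
def n3975 : Q := act 2 n2989
theorem D3975 : act 2 n2989 = n3975 := rfl
theorem F3038 : act 1 n3975 = n3176 := d3_1 D3975 (iv D3176) F1771 D2369 (iv F2247)
theorem F3039 : act 3 n3975 = n3970 := d5_2 D2989 D3975 (iv D3970) (iv D2986) (iv D2221) D2222 D2987 D3972 (iv F3036) (iv D3974) (iv D2988) (iv D2223) (iv D1626) D1627 D2224
def n3976 : Q := act 0 n2990
theorem D3976 : act 0 n2990 = n3976 := rfl
def n3977 : Q := act 2 n2990
theorem D3977 : act 2 n2990 = n3977 := rfl
theorem F3040 : act 1 n3977 = n2994 := d3_1 D3977 (iv D2994) (iv D2227) (iv F1658) D2990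
def n3978 : Q := act 3 n2990
theorem D3978 : act 3 n2990 = n3978 := rfl
theorem F3041 : act 1 n3978 = n2991 := d4_1 D3978 (iv D2991) D2990
def n3979 : Q := act 2 n2993
theorem D3979 : act 2 n2993 = n3979 := rfl
theorem F3042 : act 0 n3979 = n2994 := d1_1 D3979 (iv D2994) D2993
def n3980 : Q := act 3 n2994
theorem D3980 : act 3 n2994 = n3980 := rfl
def n3981 : Q := act 1 n2995
theorem D3981 : act 1 n2995 = n3981 := rfl
def n3982 : Q := act 3 n2995
theorem D3982 : act 3 n2995 = n3982 := rfl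
def n3983 : Q := act 2 n2996
theorem D3983 : act 2 n2996 = n3983 := rfl
def n3985 : Q := act 0 n2998
theorem D3985 : act 0 n2998 = n3985 := rfl
theorem F3044 : act 2 n3985 = n3009 := d1_2 (iv F2254) D3985 (iv D3009)
def n3986 : Q := act 3 n2998
theorem D3986 : act 3 n2998 = n3986 := rfl
theorem F3045 : act 1 n3986 = n2999 := d4_1 D3986 (iv D2999) D2998
def n3988 : Q := act 3 n3000
theorem D3988 : act 3 n3000 = n3988 := rfl
theorem F3046 : act 1 n3988 = n3001 := d4_1 D3988 (iv D3001) D3000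
def n3989 : Q := act 1 n3002
theorem D3989 : act 1 n3002 = n3989 := rfl
def n3990 : Q := act 3 n3002
theorem D3990 : act 3 n3002 = n3990 := rfl
theorem F3047 : act 0 n3990 = n3003 := d2_1 D3990 (iv D3003) D3002
def n3991 : Q := act 2 n3003
theorem D3991 : act 2 n3003 = n3991 := rfl
def n3993 : Q := act 3 n3005
theorem D3993 : act 3 n3005 = n3993 := rfl
theorem F3049 : act 1 n3993 = n3949 := d4_1 D3993 F3019 (iv F2261)
def n3994 : Q := act 2 n3006
theorem D3994 : act 2 n3006 = n3994 := rfl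
theorem F3050 : act 0 n3994 = n3013 := d1_1 D3994 (iv D3013) (iv F2262)
def n3995 : Q := act 3 n3006
theorem D3995 : act 3 n3006 = n3995 := rfl
theorem F3052 : act 1 n3995 = n3007 := d4_1 D3995 (iv D3007) D3006
def n3996 : Q := act 2 n3007
theorem D3996 : act 2 n3007 = n3996 := rfl
def n3997 : Q := act 3 n3008
theorem D3997 : act 3 n3008 = n3997 := rfl
theorem F3054 : act 1 n3997 = n3335 := d4_1 D3997 (iv F2539) F2538
def n3998 : Q := act 1 n3009
theorem D3998 : act 1 n3009 = n3998 := rfl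
theorem F3055 : act 0 n3998 = n3343 := d0_1 D3998 F2541 F1860 F1349 (iv F968) F969 (iv F1203) D2239 D3009
theorem F3056 : act 3 n3341 = n3998 := d2_0 F3055 (iv D3343) D3341
def n3999 : Q := act 3 n3009
theorem D3999 : act 3 n3009 = n3999 := rfl
theorem F3057 : act 0 n3999 = n3010 := d2_1 D3999 (iv D3010) D3009
theorem F3058 : act 1 n3999 = n3341 := d4_1 D3999 F3056 (iv D3998)
def n4000 : Q := act 2 n3010
theorem D4000 : act 2 n3010 = n4000 := rfl
def n4004 : Q := act 3 n3013
theorem D4004 : act 3 n3013 = n4004 := rfl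
theorem F3061 : act 1 n4004 = n3109 := d4_1 D4004 (iv D3109) (iv F2267)
def n4008 : Q := act 3 n3016
theorem D4008 : act 3 n3016 = n4008 := rfl
theorem F3063 : act 1 n4008 = n3017 := d4_1 D4008 (iv D3017) D3016
def n4013 : Q := act 2 n3020
theorem D4013 : act 2 n3020 = n4013 := rfl
theorem F3066 : act 0 n4013 = n3021 := d1_1 D4013 (iv D3021) (iv F2272)
def n4014 : Q := act 3 n3021
theorem D4014 : act 3 n3021 = n4014 := rfl
def n4016 : Q := act 1 n3023
theorem D4016 : act 1 n3023 = n4016 := rfl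
theorem F3069 : act 2 n4016 = n3024 := d3_2 D3023 D4016 (iv D3024) (iv D2252) (iv F1680)
def n4018 : Q := act 0 n3024
theorem D4018 : act 0 n3024 = n4018 := rfl
def n4021 : Q := act 2 n3026
theorem D4021 : act 2 n3026 = n4021 := rfl
def n4024 : Q := act 2 n3028
theorem D4024 : act 2 n3028 = n4024 := rfl
theorem F3073 : act 0 n4024 = n3029 := d1_1 D4024 (iv D3029) D3028
def n4025 : Q := act 3 n3028
theorem D4025 : act 3 n3028 = n4025 := rfl
theorem F3074 : act 0 n4025 = n3030 := d2_1 D4025 (iv D3030) D3028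
def n4026 : Q := act 3 n3029
theorem D4026 : act 3 n3029 = n4026 := rfl
def n4027 : Q := act 2 n3030
theorem D4027 : act 2 n3030 = n4027 := rfl
def n4028 : Q := act 1 n3031
theorem D4028 : act 1 n3031 = n4028 := rfl
def n4029 : Q := act 2 n3033
theorem D4029 : act 2 n3033 = n4029 := rfl
theorem F3077 : act 0 n4029 = n3034 := d1_1 D4029 (iv D3034) D3033
def n4030 : Q := act 3 n3033
theorem D4030 : act 3 n3033 = n4030 := rfl
theorem F3078 : act 0 n4030 = n3035 := d2_1 D4030 (iv D3035) D3033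
def n4031 : Q := act 3 n3034
theorem D4031 : act 3 n3034 = n4031 := rfl
def n4032 : Q := act 2 n3035
theorem D4032 : act 2 n3035 = n4032 := rfl
def n4033 : Q := act 1 n3036
theorem D4033 : act 1 n3036 = n4033 := rfl
def n4034 : Q := act 3 n3036
theorem D4034 : act 3 n3036 = n4034 := rfl
theorem F3081 : act 2 n4034 = n3037 := d6_2 D3036 D4034 (iv D3037) (iv D2261) (iv D1656) F861 D1656 (iv F1684)
def n4035 : Q := act 1 n3038
theorem D4035 : act 1 n3038 = n4035 := rfl
def n4036 : Q := act 3 n3038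
theorem D4036 : act 3 n3038 = n4036 := rfl
def n4037 : Q := act 2 n3040
theorem D4037 : act 2 n3040 = n4037 := rfl
def n4038 : Q := act 1 n3041
theorem D4038 : act 1 n3041 = n4038 := rfl
def n4039 : Q := act 0 n3042
theorem D4039 : act 0 n3042 = n4039 := rfl
theorem F3083 : act 1 n4039 = n4030 := d0_2 D3042 D4039 F3078 F2284 F1684 F1216 (iv F865) D1660 D2266
def n4040 : Q := act 2 n3042
theorem D4040 : act 2 n3042 = n4040 := rfl
def n4041 : Q := act 1 n3043
theorem D4041 : act 1 n3043 = n4041 := rfl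
def n4042 : Q := act 3 n3043
theorem D4042 : act 3 n3043 = n4042 := rfl
theorem F3085 : act 2 n4042 = n3136 := d6_2 D3043 D4042 (iv D3136) (iv D2337) (iv D1715) D1714 D2336 F1742
def n4043 : Q := act 2 n3044
theorem D4043 : act 2 n3044 = n4043 := rfl
theorem F3087 : act 3 n4043 = n3134 := d5_2 D3044 D4043 (iv D3134) (iv D2336) (iv D1714) D1715 D2337 D3136 (iv F3085) (iv D4042) (iv D3043) (iv D2267) (iv D1661) D1662 D2268
def n4045 : Q := act 1 n3046
theorem D4045 : act 1 n3046 = n4045 := rfl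
def n4046 : Q := act 3 n3046
theorem D4046 : act 3 n3046 = n4046 := rfl
def n4047 : Q := act 2 n3047
theorem D4047 : act 2 n3047 = n4047 := rfl
def n4048 : Q := act 0 n3048
theorem D4048 : act 0 n3048 = n4048 := rfl
theorem F3089 : act 1 n4048 = n3051 := d0_2 D3048 D4048 (iv D3051) (iv D2274) (iv D1667) (iv D1204) (iv F871) D1665 D2272
def n4049 : Q := act 2 n3048
theorem D4049 : act 2 n3048 = n4049 := rfl
def n4050 : Q := act 3 n3048
theorem D4050 : act 3 n3048 = n4050 := rfl
theorem F3090 : act 1 n4050 = n3049 := d4_1 D4050 (iv D3049) D3048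
def n4051 : Q := act 2 n3049
theorem D4051 : act 2 n3049 = n4051 := rfl
theorem F3091 : act 0 n4051 = n3050 := d1_1 D4051 (iv D3050) (iv F2294)
def n4052 : Q := act 3 n3050
theorem D4052 : act 3 n3050 = n4052 := rfl
theorem F3092 : act 1 n4052 = n3950 := d4_1 D4052 (iv D3950) (iv F2295)
def n4053 : Q := act 2 n3051
theorem D4053 : act 2 n3051 = n4053 := rfl
theorem F3093 : act 0 n4053 = n3052 := d1_1 D4053 (iv D3052) D3051
def n4054 : Q := act 3 n3051
theorem D4054 : act 3 n3051 = n4054 := rfl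
theorem F3094 : act 0 n4054 = n3053 := d2_1 D4054 (iv D3053) D3051
def n4055 : Q := act 3 n3052
theorem D4055 : act 3 n3052 = n4055 := rfl
theorem F3095 : act 1 n4055 = n3059 := d4_1 D4055 (iv D3059) (iv F2296)
def n4056 : Q := act 2 n3053
theorem D4056 : act 2 n3053 = n4056 := rfl
theorem F3096 : act 1 n4056 = n3283 := d3_1 D4056 (iv D3283) F2300 (iv D3054) (iv F2297)
def n4057 : Q := act 0 n3055
theorem D4057 : act 0 n3055 = n4057 := rfl
theorem F3097 : act 2 n4057 = n3057 := d1_2 (iv F2301) D4057 (iv D3057)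
def n4058 : Q := act 3 n3055
theorem D4058 : act 3 n3055 = n4058 := rfl
theorem F3098 : act 1 n4058 = n3056 := d4_1 D4058 (iv D3056) D3055
def n4059 : Q := act 1 n3057
theorem D4059 : act 1 n3057 = n4059 := rfl
theorem F3099 : act 3 n4059 = n3945 := d4_2 (iv F2304) D4059 (iv D3945)
def n4060 : Q := act 1 n3058
theorem D4060 : act 1 n3058 = n4060 := rfl
theorem F3100 : act 2 n4060 = n3069 := d3_2 D3058 D4060 (iv D3069) (iv D2287) (iv F1696)
def n4061 : Q := act 3 n3058
theorem D4061 : act 3 n3058 = n4061 := rfl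
theorem F3101 : act 0 n4061 = n3059 := d2_1 D4061 (iv D3059) (iv F2305)
def n4062 : Q := act 2 n3059
theorem D4062 : act 2 n3059 = n4062 := rfl
def n4063 : Q := act 0 n3060
theorem D4063 : act 0 n3060 = n4063 := rfl
theorem F3102 : act 2 n4063 = n3076 := d1_2 (iv F2306) D4063 (iv D3076)
def n4064 : Q := act 3 n3060
theorem D4064 : act 3 n3060 = n4064 := rfl
theorem F3103 : act 1 n4064 = n3061 := d4_1 D4064 (iv D3061) D3060
def n4065 : Q := act 2 n3061
theorem D4065 : act 2 n3061 = n4065 := rfl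
theorem F3104 : act 0 n4065 = n3063 := d1_1 D4065 (iv D3063) (iv F2307)
def n4066 : Q := act 1 n3062
theorem D4066 : act 1 n3062 = n4066 := rfl
theorem F3105 : act 2 n4066 = n3079 := d3_2 D3062 D4066 (iv D3079) (iv D2294) (iv F1699)
def n4067 : Q := act 3 n3062
theorem D4067 : act 3 n3062 = n4067 := rfl
def n4068 : Q := act 1 n3063
theorem D4068 : act 1 n3063 = n4068 := rfl
def n4069 : Q := act 3 n3063
theorem D4069 : act 3 n3063 = n4069 := rfl
theorem F3107 : act 2 n4069 = n4067 := d6_2 D3063 D4069 (iv D4067) (iv D3062) (iv D2281) D2280 D3061 F2307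
def n4070 : Q := act 0 n3064
theorem D4070 : act 0 n3064 = n4070 := rfl
theorem F3108 : act 2 n4070 = n3066 := d1_2 (iv F2309) D4070 (iv D3066)
def n4071 : Q := act 3 n3064
theorem D4071 : act 3 n3064 = n4071 := rfl
theorem F3109 : act 1 n4071 = n3065 := d4_1 D4071 (iv D3065) D3064
def n4072 : Q := act 2 n3065
theorem D4072 : act 2 n3065 = n4072 := rfl
theorem F3111 : act 3 n4072 = n4065 := d5_2 D3065 D4072 (iv D4065) (iv D3061) (iv D2280) D2281 D3062 D4067 (iv F3107) (iv D4069) (iv D3063) (iv D2282) (iv D1672) D1673 D2283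
def n4073 : Q := act 1 n3066
theorem D4073 : act 1 n3066 = n4073 := rfl
def n4074 : Q := act 3 n3066
theorem D4074 : act 3 n3066 = n4074 := rfl
theorem F3112 : act 0 n4074 = n3067 := d2_1 D4074 (iv D3067) D3066
def n4075 : Q := act 0 n3068
theorem D4075 : act 0 n3068 = n4075 := rfl
theorem F3113 : act 2 n4075 = n3223 := d1_2 (iv F2311) D4075 F2443
theorem F3114 : act 3 n4075 = n3959 := d2_2 (iv F2312) D4075 (iv D3959)
def n4076 : Q := act 0 n3069
theorem D4076 : act 0 n3069 = n4076 := rfl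
def n4077 : Q := act 3 n3069
theorem D4077 : act 3 n3069 = n4077 := rfl
theorem F3115 : act 1 n4077 = n3070 := d4_1 D4077 (iv D3070) D3069
def n4078 : Q := act 2 n3070
theorem D4078 : act 2 n3070 = n4078 := rfl
def n4079 : Q := act 1 n3071
theorem D4079 : act 1 n3071 = n4079 := rfl
def n4080 : Q := act 3 n3071
theorem D4080 : act 3 n3071 = n4080 := rfl
def n4081 : Q := act 1 n3072
theorem D4081 : act 1 n3072 = n4081 := rfl
theorem F3118 : act 2 n4081 = n3217 := d3_2 D3072 D4081 (iv D3217) (iv D2402) (iv F1706)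
def n4082 : Q := act 3 n3072
theorem D4082 : act 3 n3072 = n4082 := rfl
theorem F3119 : act 2 n4082 = n4080 := d6_2 D3072 D4082 (iv D4080) (iv D3071) (iv D2288) D2287 D3070 F2313
def n4083 : Q := act 0 n3073
theorem D4083 : act 0 n3073 = n4083 := rfl
theorem F3120 : act 2 n4083 = n3075 := d1_2 (iv F2315) D4083 (iv D3075)
theorem F3121 : act 3 n3395 = n4083 := d6_7 F2315 (iv F1802) F1801 (iv D1865) (iv F1371) D2534 D3395 (iv D4083)
def n4084 : Q := act 3 n3073
theorem D4084 : act 3 n3073 = n4084 := rfl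
theorem F3123 : act 1 n4084 = n3074 := d4_1 D4084 (iv D3074) D3073
theorem F3124 : act 2 n4084 = n3394 := d5_1 D4084 (iv D3394) F1895 D2537 (iv F2444) F2445 (iv F3120) (iv F3121) (iv D3395) (iv D2534) F1371 D1865 (iv F1801) F1802 (iv F2315)
def n4085 : Q := act 2 n3074
theorem D4085 : act 2 n3074 = n4085 := rfl
theorem F3126 : act 3 n4085 = n4078 := d5_2 D3074 D4085 (iv D4078) (iv D3070) (iv D2287) D2288 D3071 D4080 (iv F3119) (iv D4082) (iv D3072) (iv D2289) (iv D1677) D1678 D2290
def n4086 : Q := act 1 n3075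
theorem D4086 : act 1 n3075 = n4086 := rfl
theorem F3127 : act 0 n4086 = n4073 := d0_1 D4086 (iv D4073) (iv D3066) (iv D2284) F1230 (iv F875) (iv F1233) D2291 D3075
def n4087 : Q := act 1 n3076
theorem D4087 : act 1 n3076 = n4087 := rfl
theorem F3128 : act 0 n4087 = n3087 := d0_1 D4087 (iv D3087) (iv D2301) (iv D1688) F885 (iv F876) (iv F1235) D2292 D3076
def n4088 : Q := act 3 n3076
theorem D4088 : act 3 n3076 = n4088 := rfl
theorem F3129 : act 0 n4088 = n3077 := d2_1 D4088 (iv D3077) D3076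
def n4089 : Q := act 2 n3077
theorem D4089 : act 2 n3077 = n4089 := rfl
theorem F3130 : act 1 n4089 = n3577 := d3_1 D4089 (iv D3577) F2319 (iv D3078) (iv F2316)
def n4090 : Q := act 0 n3079
theorem D4090 : act 0 n3079 = n4090 := rfl
def n4091 : Q := act 0 n3080
theorem D4091 : act 0 n3080 = n4091 := rfl
theorem F3131 : act 2 n4091 = n3091 := d1_2 (iv F2320) D4091 (iv D3091)
def n4092 : Q := act 3 n3080
theorem D4092 : act 3 n3080 = n4092 := rfl
theorem F3132 : act 1 n4092 = n3081 := d4_1 D4092 (iv D3081) D3080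
def n4093 : Q := act 2 n3082
theorem D4093 : act 2 n3082 = n4093 := rfl
theorem F3133 : act 0 n4093 = n3083 := d1_1 D4093 (iv D3083) D3082
def n4094 : Q := act 3 n3083
theorem D4094 : act 3 n3083 = n4094 := rfl
theorem F3134 : act 1 n4094 = n3086 := d4_1 D4094 (iv D3086) (iv F2325)
def n4095 : Q := act 2 n3084
theorem D4095 : act 2 n3084 = n4095 := rfl
theorem F3135 : act 0 n4095 = n3579 := d1_1 D4095 (iv D3579) (iv F2326)
def n4096 : Q := act 1 n3085
theorem D4096 : act 1 n3085 = n4096 := rfl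
theorem F3136 : act 2 n4096 = n4079 := d3_2 D3085 D4096 (iv D4079) (iv D3071) (iv F1711)
def n4097 : Q := act 3 n3085
theorem D4097 : act 3 n3085 = n4097 := rfl
theorem F3137 : act 0 n4097 = n3086 := d2_1 D4097 (iv D3086) (iv F2328)
def n4098 : Q := act 2 n3086
theorem D4098 : act 2 n3086 = n4098 := rfl
def n4099 : Q := act 2 n3087
theorem D4099 : act 2 n3087 = n4099 := rfl
theorem F3138 : act 1 n4099 = n3093 := d3_1 D4099 (iv D3093) (iv D2306) (iv F1713) D3087
def n4100 : Q := act 3 n3087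
theorem D4100 : act 3 n3087 = n4100 := rfl
theorem F3139 : act 1 n4100 = n3088 := d4_1 D4100 (iv D3088) D3087
def n4101 : Q := act 2 n3088
theorem D4101 : act 2 n3088 = n4101 := rfl
def n4102 : Q := act 1 n3089
theorem D4102 : act 1 n3089 = n4102 := rfl
theorem F3141 : act 2 n4102 = n3090 := d3_2 D3089 D4102 (iv D3090) (iv D2303) (iv F1714)
def n4103 : Q := act 3 n3089
theorem D4103 : act 3 n3089 = n4103 := rfl
def n4104 : Q := act 0 n3090
theorem D4104 : act 0 n3090 = n4104 := rfl
theorem F3142 : act 3 n4104 = n3287 := d2_2 (iv F2330) D4104 (iv D3287)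
def n4106 : Q := act 3 n3091
theorem D4106 : act 3 n3091 = n4106 := rfl
theorem F3143 : act 0 n4106 = n3092 := d2_1 D4106 (iv D3092) D3091
def n4107 : Q := act 2 n3092
theorem D4107 : act 2 n3092 = n4107 := rfl
theorem F3144 : act 1 n4107 = n3286 := d3_1 D4107 (iv D3286) F1836 (iv F1718) (iv F2331)
def n4108 : Q := act 3 n3093
theorem D4108 : act 3 n3093 = n4108 := rfl
theorem F3145 : act 0 n4108 = n3109 := d2_1 D4108 (iv D3109) (iv F2332)
def n4109 : Q := act 2 n3094
theorem D4109 : act 2 n3094 = n4109 := rfl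
theorem F3146 : act 0 n4109 = n3110 := d1_1 D4109 (iv D3110) (iv F2333)
def n4110 : Q := act 1 n3095
theorem D4110 : act 1 n3095 = n4110 := rfl
def n4111 : Q := act 3 n3095
theorem D4111 : act 3 n3095 = n4111 := rfl
theorem F3147 : act 0 n4111 = n3097 := d2_1 D4111 (iv D3097) (iv F2335)
theorem F3148 : act 2 n4111 = n4103 := d6_2 D3095 D4111 (iv D4103) (iv D3089) (iv D2302) F1242 D1692 (iv F1720)
def n4112 : Q := act 0 n3096
theorem D4112 : act 0 n3096 = n4112 := rfl
theorem F3149 : act 2 n4112 = n3098 := d1_2 (iv F2336) D4112 (iv D3098)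
theorem F3150 : act 3 n4037 = n4112 := d6_7 F2336 (iv F1726) F1725 (iv D2264) D2263 D3040 D4037 (iv D4112)
def n4113 : Q := act 3 n3096
theorem D4113 : act 3 n3096 = n4113 := rfl
theorem F3151 : act 0 n4113 = n4037 := d2_1 D4113 F3150 (iv D4112)
theorem F3152 : act 1 n4113 = n3097 := d4_1 D4113 (iv D3097) D3096
theorem F3153 : act 2 n4113 = n4036 := d5_1 D4113 (iv D4036) (iv D3038) D3039 (iv F2342) F2343 (iv F3149) (iv F3150) (iv D4037) (iv D3040) (iv D2263) D2264 (iv F1725) F1726 (iv F2336)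
def n4114 : Q := act 2 n3097
theorem D4114 : act 2 n3097 = n4114 := rfl
theorem F3154 : act 0 n4114 = n4103 := d1_1 D4114 (iv F3148) F3147
theorem F3155 : act 3 n4114 = n4101 := d5_2 D3097 D4114 (iv D4101) (iv D3088) F1713 D2307 D3095 D4111 F3148 (iv D4103) (iv D3089) (iv D2302) F1242 D1692 D2308
def n4115 : Q := act 1 n3098
theorem D4115 : act 1 n3098 = n4115 := rfl
def n4116 : Q := act 0 n3099
theorem D4116 : act 0 n3099 = n4116 := rfl
theorem F3156 : act 1 n4116 = n3105 := d0_2 D3099 D4116 (iv D3105) (iv D2314) (iv D1698) (iv D1226) (iv F887) D1694 D2310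
theorem F3157 : act 3 n4038 = n4116 := d4_0 F3156 F2340 D4038
def n4117 : Q := act 2 n3099
theorem D4117 : act 2 n3099 = n4117 := rfl
def n4118 : Q := act 3 n3099
theorem D4118 : act 3 n3099 = n4118 := rfl
theorem F3158 : act 0 n4118 = n4038 := d2_1 D4118 F3157 (iv D4116)
theorem F3159 : act 1 n4118 = n3100 := d4_1 D4118 (iv D3100) D3099
def n4119 : Q := act 2 n3100
theorem D4119 : act 2 n3100 = n4119 := rfl
theorem F3160 : act 0 n4119 = n3101 := d1_1 D4119 (iv D3101) (iv F2337)
def n4120 : Q := act 3 n3101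
theorem D4120 : act 3 n3101 = n4120 := rfl
def n4121 : Q := act 0 n3102
theorem D4121 : act 0 n3102 = n4121 := rfl
def n4122 : Q := act 2 n3102
theorem D4122 : act 2 n3102 = n4122 := rfl
theorem F3161 : act 1 n4122 = n3123 := d3_1 D4122 (iv D3123) (iv D2326) (iv F1722) D3102
def n4123 : Q := act 3 n3102
theorem D4123 : act 3 n3102 = n4123 := rfl
theorem F3162 : act 1 n4123 = n3103 := d4_1 D4123 (iv D3103) D3102
def n4124 : Q := act 2 n3103
theorem D4124 : act 2 n3103 = n4124 := rfl
theorem F3163 : act 0 n4124 = n3104 := d1_1 D4124 (iv D3104) (iv F2338)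
def n4125 : Q := act 3 n3104
theorem D4125 : act 3 n3104 = n4125 := rfl
theorem F3164 : act 1 n4125 = n4120 := d4_1 D4125 (iv D4120) (iv F2339)
def n4126 : Q := act 2 n3105
theorem D4126 : act 2 n3105 = n4126 := rfl
theorem F3165 : act 0 n4126 = n3106 := d1_1 D4126 (iv D3106) D3105
theorem F3166 : act 3 n4126 = n4021 := d6_1 D4126 (iv D4021) (iv D3026) F1682 (iv F1218) (iv F1688) (iv F1724) D3105
def n4128 : Q := act 1 n3107
theorem D4128 : act 1 n3107 = n4128 := rfl
theorem F3170 : act 3 n4128 = n4115 := d4_2 (iv F2343) D4128 (iv D4115)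
def n4130 : Q := act 2 n3109
theorem D4130 : act 2 n3109 = n4130 := rfl
def n4131 : Q := act 1 n3110
theorem D4131 : act 1 n3110 = n4131 := rfl
theorem F3171 : act 2 n4131 = n3111 := d3_2 D3110 D4131 (iv D3111) (iv D2319) (iv F1727)
def n4132 : Q := act 3 n3110
theorem D4132 : act 3 n3110 = n4132 := rfl
def n4133 : Q := act 0 n3111
theorem D4133 : act 0 n3111 = n4133 := rfl
def n4134 : Q := act 3 n3111
theorem D4134 : act 3 n3111 = n4134 := rfl
theorem F3172 : act 1 n4134 = n3112 := d4_1 D4134 (iv D3112) D3111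
def n4135 : Q := act 1 n3113
theorem D4135 : act 1 n3113 = n4135 := rfl
def n4136 : Q := act 3 n3113
theorem D4136 : act 3 n3113 = n4136 := rfl
theorem F3173 : act 0 n4136 = n3114 := d2_1 D4136 (iv D3114) D3113
def n4137 : Q := act 2 n3114
theorem D4137 : act 2 n3114 = n4137 := rfl
def n4141 : Q := act 2 n3117
theorem D4141 : act 2 n3117 = n4141 := rfl
theorem F3176 : act 0 n4141 = n3118 := d1_1 D4141 (iv D3118) D3117
def n4142 : Q := act 3 n3117
theorem D4142 : act 3 n3117 = n4142 := rfl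
theorem F3178 : act 1 n4142 = n3128 := d4_1 D4142 (iv D3128) (iv F2350)
def n4143 : Q := act 3 n3118
theorem D4143 : act 3 n3118 = n4143 := rfl
def n4144 : Q := act 2 n3119
theorem D4144 : act 2 n3119 = n4144 := rfl
def n4145 : Q := act 1 n3120
theorem D4145 : act 1 n3120 = n4145 := rfl
def n4146 : Q := act 3 n3120
theorem D4146 : act 3 n3120 = n4146 := rfl
theorem F3179 : act 0 n4146 = n3121 := d2_1 D4146 (iv D3121) (iv F2352)
theorem F3180 : act 2 n4146 = n3184 := d6_2 D3120 D4146 (iv D3184) (iv D2377) (iv D1743) F916 D1707 (iv F1730)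
def n4147 : Q := act 2 n3121
theorem D4147 : act 2 n3121 = n4147 := rfl
theorem F3182 : act 3 n4147 = n3183 := d5_2 D3121 D4147 (iv D3183) (iv D2376) F1284 D2324 D3120 D4146 F3180 (iv D3184) (iv D2377) (iv D1743) F916 D1707 D2325
def n4148 : Q := act 2 n3122
theorem D4148 : act 2 n3122 = n4148 := rfl
theorem F3183 : act 0 n4148 = n3123 := d1_1 D4148 (iv D3123) D3122
def n4149 : Q := act 3 n3122
theorem D4149 : act 3 n3122 = n4149 := rfl
def n4150 : Q := act 3 n3123
theorem D4150 : act 3 n3123 = n4150 := rfl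
def n4151 : Q := act 2 n3124
theorem D4151 : act 2 n3124 = n4151 := rfl
def n4152 : Q := act 1 n3125
theorem D4152 : act 1 n3125 = n4152 := rfl
def n4153 : Q := act 3 n3125
theorem D4153 : act 3 n3125 = n4153 := rfl
theorem F3185 : act 0 n4153 = n3126 := d2_1 D4153 (iv D3126) (iv F2354)
theorem F3186 : act 2 n4153 = n4125 := d6_2 D3125 D4153 (iv D4125) (iv D3104) (iv D2313) F1247 D1709 (iv F1731)
def n4154 : Q := act 2 n3126
theorem D4154 : act 2 n3126 = n4154 := rfl
theorem F3187 : act 0 n4154 = n4125 := d1_1 D4154 (iv F3186) F3185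
theorem F3188 : act 3 n4154 = n4124 := d5_2 D3126 D4154 (iv D4124) (iv D3103) F1722 D2327 D3125 D4153 F3186 (iv D4125) (iv D3104) (iv D2313) F1247 D1709 D2328
def n4155 : Q := act 1 n3127
theorem D4155 : act 1 n3127 = n4155 := rfl
def n4156 : Q := act 3 n3127
theorem D4156 : act 3 n3127 = n4156 := rfl
theorem F3189 : act 0 n4156 = n3129 := d2_1 D4156 (iv D3129) (iv F2356)
def n4157 : Q := act 2 n3128
theorem D4157 : act 2 n3128 = n4157 := rfl
theorem F3190 : act 0 n4157 = n3130 := d1_1 D4157 (iv D3130) (iv F2357)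
def n4158 : Q := act 2 n3129
theorem D4158 : act 2 n3129 = n4158 := rfl
def n4159 : Q := act 1 n3131
theorem D4159 : act 1 n3131 = n4159 := rfl
def n4161 : Q := act 2 n3132
theorem D4161 : act 2 n3132 = n4161 := rfl
theorem F3192 : act 1 n4161 = n3234 := d3_1 D4161 (iv D3234) (iv D2416) (iv F1740) (iv F2361)
def n4164 : Q := act 1 n3134
theorem D4164 : act 1 n3134 = n4164 := rfl
def n4165 : Q := act 0 n3135
theorem D4165 : act 0 n3135 = n4165 := rfl
theorem F3195 : act 2 n4165 = n3137 := d1_2 (iv F2364) D4165 (iv D3137)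
def n4166 : Q := act 3 n3135
theorem D4166 : act 3 n3135 = n4166 := rfl
theorem F3196 : act 1 n4166 = n3136 := d4_1 D4166 (iv D3136) D3135
def n4169 : Q := act 2 n3139
theorem D4169 : act 2 n3139 = n4169 := rfl
def n4171 : Q := act 0 n3141
theorem D4171 : act 0 n3141 = n4171 := rfl
theorem F3199 : act 2 n4171 = n3143 := d1_2 (iv F2369) D4171 (iv D3143)
def n4172 : Q := act 3 n3141
theorem D4172 : act 3 n3141 = n4172 := rfl
theorem F3200 : act 1 n4172 = n3142 := d4_1 D4172 (iv D3142) D3141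
def n4173 : Q := act 1 n3143
theorem D4173 : act 1 n3143 = n4173 := rfl
def n4174 : Q := act 3 n3143
theorem D4174 : act 3 n3143 = n4174 := rfl
theorem F3201 : act 0 n4174 = n3144 := d2_1 D4174 (iv D3144) D3143
def n4175 : Q := act 2 n3144
theorem D4175 : act 2 n3144 = n4175 := rfl
theorem F3202 : act 1 n4175 = n4021 := d3_1 D4175 (iv D4021) F2278 (iv F1750) (iv F2371)
def n4176 : Q := act 0 n3145
theorem D4176 : act 0 n3145 = n4176 := rfl
def n4177 : Q := act 2 n3145
theorem D4177 : act 2 n3145 = n4177 := rfl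
theorem F3203 : act 1 n4177 = n3150 := d3_1 D4177 (iv D3150) (iv D2348) (iv F1751) D3145
def n4178 : Q := act 3 n3145
theorem D4178 : act 3 n3145 = n4178 := rfl
theorem F3204 : act 1 n4178 = n3146 := d4_1 D4178 (iv D3146) D3145
theorem F3205 : act 2 n3462 = n4178 := d3_0 F3204 F2373 F1944 D2593 D3462
def n4179 : Q := act 1 n3147
theorem D4179 : act 1 n3147 = n4179 := rfl
theorem F3206 : act 2 n4179 = n3148 := d3_2 D3147 D4179 (iv D3148) (iv D2347) (iv F1752)
theorem F3207 : act 3 n4179 = n3459 := d4_2 (iv F2375) D4179 (iv D3459)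
def n4181 : Q := act 2 n3149
theorem D4181 : act 2 n3149 = n4181 := rfl
theorem F3209 : act 0 n4181 = n3150 := d1_1 D4181 (iv D3150) D3149
def n4182 : Q := act 3 n3150
theorem D4182 : act 3 n3150 = n4182 := rfl
def n4183 : Q := act 1 n3151
theorem D4183 : act 1 n3151 = n4183 := rfl
theorem F3210 : act 2 n4183 = n3163 := d3_2 D3151 D4183 (iv D3163) (iv D2359) (iv F1755)
def n4184 : Q := act 3 n3151
theorem D4184 : act 3 n3151 = n4184 := rfl
theorem F3211 : act 0 n4184 = n3153 := d2_1 D4184 (iv D3153) (iv F2378)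
def n4185 : Q := act 2 n3152
theorem D4185 : act 2 n3152 = n4185 := rfl
theorem F3212 : act 0 n4185 = n3154 := d1_1 D4185 (iv D3154) (iv F2379)
theorem F3213 : act 1 n4185 = n3461 := d3_1 D4185 (iv D3461) (iv D2592) F1764 (iv F2380)
def n4186 : Q := act 2 n3153
theorem D4186 : act 2 n3153 = n4186 := rfl
def n4187 : Q := act 1 n3154
theorem D4187 : act 1 n3154 = n4187 := rfl
theorem F3214 : act 2 n4187 = n3155 := d3_2 D3154 D4187 (iv D3155) (iv D2352) (iv F1756)
def n4188 : Q := act 3 n3154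
theorem D4188 : act 3 n3154 = n4188 := rfl
def n4189 : Q := act 0 n3155
theorem D4189 : act 0 n3155 = n4189 := rfl
def n4190 : Q := act 3 n3155
theorem D4190 : act 3 n3155 = n4190 := rfl
theorem F3215 : act 1 n4190 = n3156 := d4_1 D4190 (iv D3156) D3155
def n4191 : Q := act 1 n3157
theorem D4191 : act 1 n3157 = n4191 := rfl
theorem F3216 : act 2 n4191 = n3331 := d3_2 D3157 D4191 F2529 F1854 F1761
theorem F3217 : act 3 n4191 = n4028 := d4_2 (iv F2384) D4191 (iv D4028)
def n4192 : Q := act 1 n3158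
theorem D4192 : act 1 n3158 = n4192 := rfl
def n4193 : Q := act 3 n3158
theorem D4193 : act 3 n3158 = n4193 := rfl
theorem F3218 : act 0 n4193 = n3160 := d2_1 D4193 (iv D3160) (iv F2385)
def n4194 : Q := act 2 n3159
theorem D4194 : act 2 n3159 = n4194 := rfl
theorem F3219 : act 0 n4194 = n3161 := d1_1 D4194 (iv D3161) (iv F2386)
def n4195 : Q := act 2 n3160
theorem D4195 : act 2 n3160 = n4195 := rfl
def n4196 : Q := act 1 n3161
theorem D4196 : act 1 n3161 = n4196 := rfl
theorem F3220 : act 2 n4196 = n3162 := d3_2 D3161 D4196 (iv D3162) (iv D2357) (iv F1759)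
def n4197 : Q := act 3 n3161
theorem D4197 : act 3 n3161 = n4197 := rfl
def n4198 : Q := act 0 n3162
theorem D4198 : act 0 n3162 = n4198 := rfl
def n4199 : Q := act 0 n3163
theorem D4199 : act 0 n3163 = n4199 := rfl
def n4200 : Q := act 3 n3163
theorem D4200 : act 3 n3163 = n4200 := rfl
theorem F3221 : act 1 n4200 = n3164 := d4_1 D4200 (iv D3164) D3163
theorem F3222 : act 2 n3445 = n4200 := d3_0 F3221 F2389 F1933 D2578 D3445
def n4202 : Q := act 2 n3166
theorem D4202 : act 2 n3166 = n4202 := rfl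
theorem F3225 : act 0 n4202 = n3450 := d1_1 D4202 (iv D3450) (iv F2392)
theorem F3226 : act 1 n4202 = n3168 := d3_1 D4202 (iv D3168) (iv D2363) (iv F1766) D3166
def n4203 : Q := act 2 n3167
theorem D4203 : act 2 n3167 = n4203 := rfl
theorem F3227 : act 0 n4203 = n3168 := d1_1 D4203 (iv D3168) D3167
def n4204 : Q := act 3 n3168
theorem D4204 : act 3 n3168 = n4204 := rfl
def n4205 : Q := act 1 n3169
theorem D4205 : act 1 n3169 = n4205 := rfl
def n4206 : Q := act 3 n3169
theorem D4206 : act 3 n3169 = n4206 := rfl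
theorem F3228 : act 0 n4206 = n3170 := d2_1 D4206 (iv D3170) D3169
def n4207 : Q := act 2 n3170
theorem D4207 : act 2 n3170 = n4207 := rfl
def n4208 : Q := act 1 n3171
theorem D4208 : act 1 n3171 = n4208 := rfl
theorem F3229 : act 3 n4208 = n3357 := d4_2 (iv F2399) D4208 (iv D3357)
def n4210 : Q := act 3 n3172
theorem D4210 : act 3 n3172 = n4210 := rfl
theorem F3230 : act 1 n4210 = n3173 := d4_1 D4210 (iv D3173) D3172
def n4211 : Q := act 2 n3174
theorem D4211 : act 2 n3174 = n4211 := rfl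
theorem F3231 : act 0 n4211 = n3181 := d1_1 D4211 (iv D3181) (iv F2402)
def n4213 : Q := act 2 n3175
theorem D4213 : act 2 n3175 = n4213 := rfl
def n4214 : Q := act 3 n3176
theorem D4214 : act 3 n3176 = n4214 := rfl
theorem F3235 : act 1 n4214 = n3970 := d4_1 D4214 (iv F3039) F3038
def n4215 : Q := act 1 n3177
theorem D4215 : act 1 n3177 = n4215 := rfl
theorem F3236 : act 0 n4215 = n3978 := d0_1 D4215 F3041 F2248 F1659 (iv F1199) F1200 (iv F1282) D2370 D3177
theorem F3237 : act 3 n3976 = n4215 := d2_0 F3236 (iv D3978) D3976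
def n4216 : Q := act 3 n3177
theorem D4216 : act 3 n3177 = n4216 := rfl
theorem F3238 : act 0 n4216 = n3178 := d2_1 D4216 (iv D3178) D3177
theorem F3239 : act 1 n4216 = n3976 := d4_1 D4216 F3237 (iv D4215)
def n4218 : Q := act 1 n3179
theorem D4218 : act 1 n3179 = n4218 := rfl
def n4219 : Q := act 3 n3179
theorem D4219 : act 3 n3179 = n4219 := rfl
theorem F3240 : act 0 n4219 = n3180 := d2_1 D4219 (iv D3180) D3179
def n4223 : Q := act 1 n3183
theorem D4223 : act 1 n3183 = n4223 := rfl
def n4226 : Q := act 1 n3186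
theorem D4226 : act 1 n3186 = n4226 := rfl
def n4227 : Q := act 3 n3186
theorem D4227 : act 3 n3186 = n4227 := rfl
theorem F3243 : act 0 n4227 = n3187 := d2_1 D4227 (iv D3187) D3186
def n4228 : Q := act 2 n3187
theorem D4228 : act 2 n3187 = n4228 := rfl
theorem F3244 : act 1 n4228 = n4047 := d3_1 D4228 (iv D4047) F2293 (iv F1781) (iv F2411)
def n4229 : Q := act 0 n3188
theorem D4229 : act 0 n3188 = n4229 := rfl
def n4230 : Q := act 2 n3188
theorem D4230 : act 2 n3188 = n4230 := rfl
theorem F3245 : act 1 n4230 = n3193 := d3_1 D4230 (iv D3193) (iv D2384) (iv F1782) D3188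
def n4231 : Q := act 3 n3188
theorem D4231 : act 3 n3188 = n4231 := rfl
theorem F3246 : act 1 n4231 = n3189 := d4_1 D4231 (iv D3189) D3188
def n4232 : Q := act 2 n3189
theorem D4232 : act 2 n3189 = n4232 := rfl
theorem F3248 : act 3 n4232 = n3377 := d6_1 D4232 (iv D3377) (iv D2521) F1363 F978 (iv F1286) D2382 (iv F2412)
theorem F3249 : act 1 n3424 = n4232 := d4_3 F3248 F2566 D3424
def n4236 : Q := act 2 n3192
theorem D4236 : act 2 n3192 = n4236 := rfl
theorem F3254 : act 0 n4236 = n3193 := d1_1 D4236 (iv D3193) D3192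
def n4237 : Q := act 3 n3193
theorem D4237 : act 3 n3193 = n4237 := rfl
def n4238 : Q := act 1 n3194
theorem D4238 : act 1 n3194 = n4238 := rfl
def n4239 : Q := act 3 n3194
theorem D4239 : act 3 n3194 = n4239 := rfl
theorem F3255 : act 0 n4239 = n3196 := d2_1 D4239 (iv D3196) (iv F2415)
def n4240 : Q := act 2 n3195
theorem D4240 : act 2 n3195 = n4240 := rfl
theorem F3256 : act 0 n4240 = n3197 := d1_1 D4240 (iv D3197) (iv F2416)
def n4241 : Q := act 2 n3196
theorem D4241 : act 2 n3196 = n4241 := rfl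
def n4242 : Q := act 3 n3197
theorem D4242 : act 3 n3197 = n4242 := rfl
theorem F3257 : act 1 n4242 = n3257 := d4_1 D4242 (iv F2477) F2476
def n4243 : Q := act 0 n3198
theorem D4243 : act 0 n3198 = n4243 := rfl
theorem F3258 : act 2 n4243 = n3212 := d1_2 (iv F2418) D4243 (iv D3212)
def n4246 : Q := act 1 n3200
theorem D4246 : act 1 n3200 = n4246 := rfl
def n4248 : Q := act 1 n3201
theorem D4248 : act 1 n3201 = n4248 := rfl
theorem F3264 : act 0 n4248 = n3385 := d0_1 D4248 (iv D3385) (iv D2526) (iv D1858) F980 (iv F922) (iv F1289) D2392 D3201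
def n4249 : Q := act 3 n3201
theorem D4249 : act 3 n3201 = n4249 := rfl
def n4250 : Q := act 2 n3202
theorem D4250 : act 2 n3202 = n4250 := rfl
def n4251 : Q := act 1 n3203
theorem D4251 : act 1 n3203 = n4251 := rfl
def n4253 : Q := act 3 n3204
theorem D4253 : act 3 n3204 = n4253 := rfl
theorem F3267 : act 1 n4253 = n3205 := d4_1 D4253 (iv D3205) D3204
def n4255 : Q := act 3 n3206
theorem D4255 : act 3 n3206 = n4255 := rfl
theorem F3269 : act 1 n4255 = n3207 := d4_1 D4255 (iv D3207) D3206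
def n4256 : Q := act 1 n3208
theorem D4256 : act 1 n3208 = n4256 := rfl
theorem F3270 : act 3 n4256 = n3661 := d4_2 F2428 D4256 (iv D3661)
def n4257 : Q := act 1 n3210
theorem D4257 : act 1 n3210 = n4257 := rfl
theorem F3271 : act 2 n4257 = n3660 := d3_2 D3210 D4257 F2789 (iv F2431) F2430
theorem F3272 : act 3 n4257 = n4251 := d4_2 (iv F2433) D4257 (iv D4251)
def n4258 : Q := act 2 n3211
theorem D4258 : act 2 n3211 = n4258 := rfl
def n4259 : Q := act 1 n3212
theorem D4259 : act 1 n3212 = n4259 := rfl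
def n4261 : Q := act 2 n3213
theorem D4261 : act 2 n3213 = n4261 := rfl
def n4262 : Q := act 1 n3214
theorem D4262 : act 1 n3214 = n4262 := rfl
def n4263 : Q := act 0 n3215
theorem D4263 : act 0 n3215 = n4263 := rfl
def n4264 : Q := act 3 n3215
theorem D4264 : act 3 n3215 = n4264 := rfl
theorem F3274 : act 1 n4264 = n3216 := d4_1 D4264 (iv D3216) D3215
def n4265 : Q := act 0 n3217
theorem D4265 : act 0 n3217 = n4265 := rfl
def n4266 : Q := act 3 n3217
theorem D4266 : act 3 n3217 = n4266 := rfl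
theorem F3275 : act 1 n4266 = n3218 := d4_1 D4266 (iv D3218) D3217
def n4267 : Q := act 1 n3219
theorem D4267 : act 1 n3219 = n4267 := rfl
def n4268 : Q := act 3 n3219
theorem D4268 : act 3 n3219 = n4268 := rfl
theorem F3276 : act 0 n4268 = n3220 := d2_1 D4268 (iv D3220) D3219
def n4269 : Q := act 2 n3220
theorem D4269 : act 2 n3220 = n4269 := rfl
def n4270 : Q := act 1 n3221
theorem D4270 : act 1 n3221 = n4270 := rfl
theorem F3277 : act 3 n4270 = n4262 := d4_2 (iv F2441) D4270 (iv D4262)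
def n4271 : Q := act 2 n3222
theorem D4271 : act 2 n3222 = n4271 := rfl
def n4272 : Q := act 3 n3222
theorem D4272 : act 3 n3222 = n4272 := rfl
theorem F3279 : act 0 n4272 = n3399 := d2_1 D4272 F2583 (iv F2442)
theorem F3280 : act 1 n4272 = n3223 := d4_1 D4272 (iv D3223) D3222
def n4273 : Q := act 1 n3224
theorem D4273 : act 1 n3224 = n4273 := rfl
theorem F3281 : act 3 n4273 = n4086 := d4_2 (iv F2445) D4273 (iv D4086)
def n4274 : Q := act 2 n3225
theorem D4274 : act 2 n3225 = n4274 := rfl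
theorem F3282 : act 0 n4274 = n3242 := d1_1 D4274 (iv D3242) (iv F2446)
def n4275 : Q := act 3 n3225
theorem D4275 : act 3 n3225 = n4275 := rfl
theorem F3283 : act 0 n4275 = n3243 := d2_1 D4275 (iv D3243) (iv F2446)
def n4276 : Q := act 2 n3226
theorem D4276 : act 2 n3226 = n4276 := rfl
theorem F3285 : act 0 n4276 = n3227 := d1_1 D4276 (iv D3227) (iv F2447)
def n4277 : Q := act 1 n3227
theorem D4277 : act 1 n3227 = n4277 := rfl
theorem F3286 : act 2 n4277 = n3228 := d3_2 D3227 D4277 (iv D3228) (iv D2410) (iv F1803)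
def n4278 : Q := act 3 n3227
theorem D4278 : act 3 n3227 = n4278 := rfl
def n4279 : Q := act 0 n3228
theorem D4279 : act 0 n3228 = n4279 := rfl
theorem F3287 : act 3 n4279 = n4157 := d2_2 (iv F2448) D4279 F3190
def n4280 : Q := act 1 n3229
theorem D4280 : act 1 n3229 = n4280 := rfl
def n4281 : Q := act 3 n3229
theorem D4281 : act 3 n3229 = n4281 := rfl
theorem F3288 : act 0 n4281 = n3230 := d2_1 D4281 (iv D3230) D3229
def n4282 : Q := act 2 n3230
theorem D4282 : act 2 n3230 = n4282 := rfl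
def n4283 : Q := act 1 n3231
theorem D4283 : act 1 n3231 = n4283 := rfl
def n4284 : Q := act 3 n3231
theorem D4284 : act 3 n3231 = n4284 := rfl
theorem F3289 : act 0 n4284 = n3232 := d2_1 D4284 (iv D3232) D3231
def n4285 : Q := act 2 n3232
theorem D4285 : act 2 n3232 = n4285 := rfl
theorem F3290 : act 1 n4285 = n4282 := d3_1 D4285 (iv D4282) F2449 (iv F1807) (iv F2451)
def n4286 : Q := act 2 n3233
theorem D4286 : act 2 n3233 = n4286 := rfl
def n4287 : Q := act 3 n3234
theorem D4287 : act 3 n3234 = n4287 := rfl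
def n4289 : Q := act 3 n3235
theorem D4289 : act 3 n3235 = n4289 := rfl
theorem F3292 : act 0 n4289 = n3237 := d2_1 D4289 (iv D3237) (iv F2454)
def n4290 : Q := act 2 n3236
theorem D4290 : act 2 n3236 = n4290 := rfl
def n4291 : Q := act 2 n3237
theorem D4291 : act 2 n3237 = n4291 := rfl
def n4292 : Q := act 3 n3238
theorem D4292 : act 3 n3238 = n4292 := rfl
theorem F3294 : act 1 n4292 = n3362 := d4_1 D4292 (iv F2562) F2561
def n4293 : Q := act 0 n3239
theorem D4293 : act 0 n3239 = n4293 := rfl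
theorem F3295 : act 2 n4293 = n4263 := d1_2 (iv F2458) D4293 (iv D4263)
def n4294 : Q := act 3 n3239
theorem D4294 : act 3 n3239 = n4294 := rfl
def n4296 : Q := act 3 n3242
theorem D4296 : act 3 n3242 = n4296 := rfl
def n4297 : Q := act 2 n3243
theorem D4297 : act 2 n3243 = n4297 := rfl
def n4298 : Q := act 0 n3245
theorem D4298 : act 0 n3245 = n4298 := rfl
theorem F3298 : act 2 n4298 = n3247 := d1_2 (iv F2463) D4298 (iv D3247)
def n4299 : Q := act 3 n3245
theorem D4299 : act 3 n3245 = n4299 := rfl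
theorem F3299 : act 1 n4299 = n3246 := d4_1 D4299 (iv D3246) D3245
def n4300 : Q := act 1 n3247
theorem D4300 : act 1 n3247 = n4300 := rfl
def n4301 : Q := act 0 n3248
theorem D4301 : act 0 n3248 = n4301 := rfl
theorem F3300 : act 1 n4301 = n3254 := d0_2 D3248 D4301 (iv D3254) (iv D2430) (iv D1785) (iv D1292) (iv F937) D1781 D2426
def n4302 : Q := act 2 n3248
theorem D4302 : act 2 n3248 = n4302 := rfl
theorem F3301 : act 1 n4302 = n3270 := d3_1 D4302 (iv D3270) (iv D2441) (iv F1815) D3248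
def n4303 : Q := act 3 n3248
theorem D4303 : act 3 n3248 = n4303 := rfl
theorem F3302 : act 1 n4303 = n3249 := d4_1 D4303 (iv D3249) D3248
def n4304 : Q := act 2 n3249
theorem D4304 : act 2 n3249 = n4304 := rfl
def n4305 : Q := act 3 n3250
theorem D4305 : act 3 n3250 = n4305 := rfl
def n4306 : Q := act 0 n3251
theorem D4306 : act 0 n3251 = n4306 := rfl
def n4309 : Q := act 2 n3252
theorem D4309 : act 2 n3252 = n4309 := rfl
theorem F3305 : act 0 n4309 = n3253 := d1_1 D4309 (iv D3253) (iv F2465)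
def n4310 : Q := act 3 n3253
theorem D4310 : act 3 n3253 = n4310 := rfl
theorem F3306 : act 1 n4310 = n4305 := d4_1 D4310 (iv D4305) (iv F2466)
def n4311 : Q := act 2 n3254
theorem D4311 : act 2 n3254 = n4311 := rfl
theorem F3307 : act 0 n4311 = n3255 := d1_1 D4311 (iv D3255) D3254
def n4312 : Q := act 3 n3254
theorem D4312 : act 3 n3254 = n4312 := rfl
def n4313 : Q := act 3 n3255
theorem D4313 : act 3 n3255 = n4313 := rfl
theorem F3309 : act 1 n4313 = n3261 := d4_1 D4313 (iv D3261) (iv F2467)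
def n4314 : Q := act 2 n3256
theorem D4314 : act 2 n3256 = n4314 := rfl
def n4315 : Q := act 0 n3258
theorem D4315 : act 0 n3258 = n4315 := rfl
theorem F3310 : act 2 n4315 = n3260 := d1_2 (iv F2470) D4315 (iv D3260)
def n4316 : Q := act 3 n3258
theorem D4316 : act 3 n3258 = n4316 := rfl
theorem F3311 : act 1 n4316 = n3259 := d4_1 D4316 (iv D3259) D3258
def n4317 : Q := act 1 n3260
theorem D4317 : act 1 n3260 = n4317 := rfl
theorem F3312 : act 3 n4317 = n4300 := d4_2 (iv F2471) D4317 (iv D4300)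
def n4318 : Q := act 2 n3261
theorem D4318 : act 2 n3261 = n4318 := rfl
theorem F3314 : act 3 n4318 = n4169 := d6_1 D4318 (iv D4169) (iv D3139) (iv D2340) F1265 D2316 D3108 (iv F2472)
def n4320 : Q := act 3 n3262
theorem D4320 : act 3 n3262 = n4320 := rfl
theorem F3315 : act 1 n4320 = n3263 := d4_1 D4320 (iv D3263) D3262
def n4321 : Q := act 2 n3265
theorem D4321 : act 2 n3265 = n4321 := rfl
theorem F3316 : act 0 n4321 = n3288 := d1_1 D4321 (iv D3288) (iv F2478)
def n4322 : Q := act 1 n3266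
theorem D4322 : act 1 n3266 = n4322 := rfl
theorem F3317 : act 2 n4322 = n3267 := d3_2 D3266 D4322 (iv D3267) (iv D2439) (iv F1825)
def n4323 : Q := act 3 n3266
theorem D4323 : act 3 n3266 = n4323 := rfl
theorem F3318 : act 0 n4323 = n3290 := d2_1 D4323 (iv D3290) (iv F2479)
def n4324 : Q := act 0 n3267
theorem D4324 : act 0 n3267 = n4324 := rfl
def n4325 : Q := act 3 n3267
theorem D4325 : act 3 n3267 = n4325 := rfl
theorem F3319 : act 1 n4325 = n3268 := d4_1 D4325 (iv D3268) D3267
def n4326 : Q := act 3 n3270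
theorem D4326 : act 3 n3270 = n4326 := rfl
theorem F3320 : act 0 n4326 = n3918 := d2_1 D4326 (iv D3918) (iv F2485)
def n4327 : Q := act 1 n3271
theorem D4327 : act 1 n3271 = n4327 := rfl
theorem F3321 : act 2 n4327 = n3915 := d3_2 D3271 D4327 (iv D3915) (iv D2941) (iv F1831)
def n4328 : Q := act 3 n3271
theorem D4328 : act 3 n3271 = n4328 := rfl
theorem F3322 : act 0 n4328 = n3272 := d2_1 D4328 (iv D3272) (iv F2486)
theorem F3323 : act 2 n4328 = n4305 := d6_2 D3271 D4328 (iv D4305) (iv D3250) (iv D2427) F1309 D1795 (iv F1830)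
def n4329 : Q := act 2 n3272
theorem D4329 : act 2 n3272 = n4329 := rfl
theorem F3324 : act 0 n4329 = n4305 := d1_1 D4329 (iv F3323) F3322
theorem F3325 : act 3 n4329 = n4304 := d5_2 D3272 D4329 (iv D4304) (iv D3249) F1815 D2442 D3271 D4328 F3323 (iv D4305) (iv D3250) (iv D2427) F1309 D1795 D2443
def n4330 : Q := act 2 n3273
theorem D4330 : act 2 n3273 = n4330 := rfl
theorem F3326 : act 0 n4330 = n3274 := d1_1 D4330 (iv D3274) D3273
def n4331 : Q := act 3 n3274
theorem D4331 : act 3 n3274 = n4331 := rfl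
def n4332 : Q := act 2 n3275
theorem D4332 : act 2 n3275 = n4332 := rfl
def n4333 : Q := act 1 n3276
theorem D4333 : act 1 n3276 = n4333 := rfl
def n4334 : Q := act 1 n3278
theorem D4334 : act 1 n3278 = n4334 := rfl
theorem F3328 : act 0 n4334 = n3284 := d0_1 D4334 (iv D3284) (iv D2451) (iv D1801) F950 (iv F948) (iv F1324) D2447 D3278
def n4335 : Q := act 3 n3278
theorem D4335 : act 3 n3278 = n4335 := rfl
theorem F3329 : act 0 n4335 = n3279 := d2_1 D4335 (iv D3279) D3278
def n4336 : Q := act 2 n3279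
theorem D4336 : act 2 n3279 = n4336 := rfl
def n4337 : Q := act 1 n3280
theorem D4337 : act 1 n3280 = n4337 := rfl
theorem F3330 : act 3 n4337 = n4056 := d4_2 F2496 D4337 F3096
def n4338 : Q := act 0 n3281
theorem D4338 : act 0 n3281 = n4338 := rfl
theorem F3331 : act 2 n4338 = n3287 := d1_2 (iv F2493) D4338 (iv D3287)
def n4339 : Q := act 3 n3281
theorem D4339 : act 3 n3281 = n4339 := rfl
theorem F3332 : act 1 n4339 = n3282 := d4_1 D4339 (iv D3282) D3281
def n4340 : Q := act 2 n3284
theorem D4340 : act 2 n3284 = n4340 := rfl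
theorem F3333 : act 1 n4340 = n4117 := d3_1 D4340 (iv D4117) (iv D3099) (iv F1835) D3284
def n4341 : Q := act 3 n3284
theorem D4341 : act 3 n3284 = n4341 := rfl
theorem F3334 : act 1 n4341 = n3285 := d4_1 D4341 (iv D3285) D3284
def n4342 : Q := act 2 n3285
theorem D4342 : act 2 n3285 = n4342 := rfl
def n4343 : Q := act 3 n3286
theorem D4343 : act 3 n3286 = n4343 := rfl
def n4344 : Q := act 1 n3287
theorem D4344 : act 1 n3287 = n4344 := rfl
def n4345 : Q := act 1 n3288
theorem D4345 : act 1 n3288 = n4345 := rfl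
theorem F3336 : act 2 n4345 = n3464 := d3_2 D3288 D4345 (iv D3464) (iv D2594) (iv F1837)
def n4346 : Q := act 3 n3288
theorem D4346 : act 3 n3288 = n4346 := rfl
theorem F3337 : act 2 n4346 = n4323 := d6_2 D3288 D4346 (iv D4323) (iv D3266) (iv D2438) D2437 D3265 F2478
def n4347 : Q := act 0 n3289
theorem D4347 : act 0 n3289 = n4347 := rfl
theorem F3338 : act 2 n4347 = n3291 := d1_2 (iv F2498) D4347 (iv D3291)
def n4348 : Q := act 3 n3289
theorem D4348 : act 3 n3289 = n4348 := rfl
def n4349 : Q := act 2 n3290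
theorem D4349 : act 2 n3290 = n4349 := rfl
theorem F3340 : act 0 n4349 = n4346 := d1_1 D4349 F3337 F3318
theorem F3341 : act 3 n4349 = n4321 := d5_2 D3290 D4349 (iv D4321) (iv D3265) (iv D2437) D2438 D3266 D4323 (iv F3337) (iv D4346) (iv D3288) (iv D2454) (iv D1804) D1805 D2455
def n4350 : Q := act 1 n3291
theorem D4350 : act 1 n3291 = n4350 := rfl
def n4351 : Q := act 0 n3292
theorem D4351 : act 0 n3292 = n4351 := rfl
def n4352 : Q := act 2 n3292
theorem D4352 : act 2 n3292 = n4352 := rfl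
theorem F3342 : act 1 n4352 = n3296 := d3_1 D4352 (iv D3296) (iv D2459) (iv F1838) D3292
def n4353 : Q := act 3 n3292
theorem D4353 : act 3 n3292 = n4353 := rfl
theorem F3343 : act 1 n4353 = n3293 := d4_1 D4353 (iv D3293) D3292
def n4354 : Q := act 2 n3295
theorem D4354 : act 2 n3295 = n4354 := rfl
theorem F3344 : act 0 n4354 = n3296 := d1_1 D4354 (iv D3296) D3295
def n4356 : Q := act 1 n3297
theorem D4356 : act 1 n3297 = n4356 := rfl
def n4360 : Q := act 1 n3300
theorem D4360 : act 1 n3300 = n4360 := rfl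
theorem F3347 : act 2 n4360 = n3301 := d3_2 D3300 D4360 (iv D3301) (iv D2463) (iv F1841)
def n4362 : Q := act 0 n3301
theorem D4362 : act 0 n3301 = n4362 := rfl
def n4363 : Q := act 3 n3301
theorem D4363 : act 3 n3301 = n4363 := rfl
theorem F3348 : act 1 n4363 = n3302 := d4_1 D4363 (iv D3302) D3301
def n4364 : Q := act 1 n3303
theorem D4364 : act 1 n3303 = n4364 := rfl
theorem F3349 : act 2 n4364 = n3488 := d3_2 D3303 D4364 F2651 F1955 (iv F1843)
theorem F3350 : act 3 n4364 = n4333 := d4_2 (iv F2508) D4364 (iv D4333)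
def n4365 : Q := act 0 n3304
theorem D4365 : act 0 n3304 = n4365 := rfl
def n4366 : Q := act 3 n3304
theorem D4366 : act 3 n3304 = n4366 := rfl
theorem F3352 : act 1 n4366 = n3305 := d4_1 D4366 (iv D3305) D3304
def n4367 : Q := act 1 n3306
theorem D4367 : act 1 n3306 = n4367 := rfl
def n4368 : Q := act 3 n3306
theorem D4368 : act 3 n3306 = n4368 := rfl
theorem F3353 : act 0 n4368 = n3307 := d2_1 D4368 (iv D3307) D3306
def n4369 : Q := act 2 n3307
theorem D4369 : act 2 n3307 = n4369 := rfl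
def n4370 : Q := act 1 n3308
theorem D4370 : act 1 n3308 = n4370 := rfl
def n4371 : Q := act 0 n3309
theorem D4371 : act 0 n3309 = n4371 := rfl
theorem F3355 : act 1 n4371 = n3310 := d0_2 D3309 D4371 (iv D3310) (iv D2469) (iv D1816) (iv D1318) (iv F956) D1815 D2468
def n4372 : Q := act 2 n3309
theorem D4372 : act 2 n3309 = n4372 := rfl
def n4373 : Q := act 2 n3310
theorem D4373 : act 2 n3310 = n4373 := rfl
theorem F3356 : act 0 n4373 = n3311 := d1_1 D4373 (iv D3311) D3310
def n4374 : Q := act 3 n3310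
theorem D4374 : act 3 n3310 = n4374 := rfl
theorem F3357 : act 0 n4374 = n3312 := d2_1 D4374 (iv D3312) D3310
def n4375 : Q := act 3 n3311
theorem D4375 : act 3 n3311 = n4375 := rfl
def n4376 : Q := act 2 n3312
theorem D4376 : act 2 n3312 = n4376 := rfl
def n4377 : Q := act 1 n3315
theorem D4377 : act 1 n3315 = n4377 := rfl
theorem F3359 : act 2 n4377 = n3324 := d3_2 D3315 D4377 (iv D3324) (iv D2479) (iv F1846)
def n4380 : Q := act 0 n3317
theorem D4380 : act 0 n3317 = n4380 := rfl
theorem F3361 : act 2 n4380 = n3333 := d1_2 (iv F2522) D4380 (iv D3333)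
def n4381 : Q := act 3 n3317
theorem D4381 : act 3 n3317 = n4381 := rfl
def n4383 : Q := act 1 n3319
theorem D4383 : act 1 n3319 = n4383 := rfl
theorem F3364 : act 2 n4383 = n3336 := d3_2 D3319 D4383 (iv D3336) (iv D2488) (iv F1849)
def n4387 : Q := act 0 n3321
theorem D4387 : act 0 n3321 = n4387 := rfl
theorem F3368 : act 2 n4387 = n3323 := d1_2 (iv F2525) D4387 (iv D3323)
theorem F3369 : act 3 n3902 = n4387 := d6_7 F2525 (iv F1989) F1988 (iv D2178) (iv F1619) D2930 D3902 (iv D4387)
def n4390 : Q := act 1 n3323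
theorem D4390 : act 1 n3323 = n4390 := rfl
def n4391 : Q := act 0 n3324
theorem D4391 : act 0 n3324 = n4391 := rfl
def n4394 : Q := act 1 n3326
theorem D4394 : act 1 n3326 = n4394 := rfl
def n4395 : Q := act 3 n3326
theorem D4395 : act 3 n3326 = n4395 := rfl
theorem F3377 : act 0 n4395 = n3329 := d2_1 D4395 (iv D3329) (iv F2527)
def n4398 : Q := act 0 n3328
theorem D4398 : act 0 n3328 = n4398 := rfl
theorem F3379 : act 2 n4398 = n3330 := d1_2 (iv F2528) D4398 (iv D3330)
def n4399 : Q := act 3 n3328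
theorem D4399 : act 3 n3328 = n4399 := rfl
theorem F3380 : act 1 n4399 = n3329 := d4_1 D4399 (iv D3329) D3328
def n4401 : Q := act 1 n3330
theorem D4401 : act 1 n3330 = n4401 := rfl
theorem F3383 : act 0 n4401 = n4390 := d0_1 D4401 (iv D4390) (iv D3323) (iv D2478) F1341 (iv F960) (iv F1343) D2483 D3330
def n4402 : Q := act 3 n3330
theorem D4402 : act 3 n3330 = n4402 := rfl
theorem F3384 : act 0 n4402 = n3331 := d2_1 D4402 (iv D3331) D3330
def n4403 : Q := act 0 n3332
theorem D4403 : act 0 n3332 = n4403 := rfl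
theorem F3385 : act 2 n4403 = n3544 := d1_2 (iv F2530) D4403 F2698
theorem F3386 : act 3 n4403 = n4198 := d2_2 (iv F2531) D4403 (iv D4198)
def n4404 : Q := act 3 n3333
theorem D4404 : act 3 n3333 = n4404 := rfl
theorem F3387 : act 0 n4404 = n3334 := d2_1 D4404 (iv D3334) D3333
def n4405 : Q := act 2 n3334
theorem D4405 : act 2 n3334 = n4405 := rfl
def n4406 : Q := act 0 n3336
theorem D4406 : act 0 n3336 = n4406 := rfl
def n4407 : Q := act 3 n3336
theorem D4407 : act 3 n3336 = n4407 := rfl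
theorem F3388 : act 1 n4407 = n3337 := d4_1 D4407 (iv D3337) D3336
def n4408 : Q := act 0 n3338
theorem D4408 : act 0 n3338 = n4408 := rfl
theorem F3389 : act 2 n4408 = n3346 := d1_2 (iv F2535) D4408 (iv D3346)
def n4409 : Q := act 3 n3338
theorem D4409 : act 3 n3338 = n4409 := rfl
theorem F3390 : act 1 n4409 = n3339 := d4_1 D4409 (iv D3339) D3338
def n4410 : Q := act 2 n3341
theorem D4410 : act 2 n3341 = n4410 := rfl
theorem F3391 : act 0 n4410 = n3342 := d1_1 D4410 (iv D3342) D3341
def n4411 : Q := act 3 n3342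
theorem D4411 : act 3 n3342 = n4411 := rfl
theorem F3392 : act 1 n4411 = n3345 := d4_1 D4411 (iv D3345) (iv F2540)
def n4412 : Q := act 2 n3343
theorem D4412 : act 2 n3343 = n4412 := rfl
def n4415 : Q := act 2 n3345
theorem D4415 : act 2 n3345 = n4415 := rfl
def n4417 : Q := act 3 n3346
theorem D4417 : act 3 n3346 = n4417 := rfl
theorem F3395 : act 0 n4417 = n3347 := d2_1 D4417 (iv D3347) D3346
def n4418 : Q := act 2 n3347
theorem D4418 : act 2 n3347 = n4418 := rfl
theorem F3396 : act 1 n4418 = n3513 := d3_1 D4418 (iv D3513) F1971 (iv F1863) (iv F2543)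
def n4419 : Q := act 0 n3348
theorem D4419 : act 0 n3348 = n4419 := rfl
def n4420 : Q := act 2 n3348
theorem D4420 : act 2 n3348 = n4420 := rfl
theorem F3397 : act 1 n4420 = n3352 := d3_1 D4420 (iv D3352) (iv D2501) (iv F1864) D3348
def n4421 : Q := act 3 n3348
theorem D4421 : act 3 n3348 = n4421 := rfl
theorem F3398 : act 1 n4421 = n3349 := d4_1 D4421 (iv D3349) D3348
def n4422 : Q := act 2 n3349
theorem D4422 : act 2 n3349 = n4422 := rfl
def n4423 : Q := act 1 n3350
theorem D4423 : act 1 n3350 = n4423 := rfl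
theorem F3400 : act 2 n4423 = n3351 := d3_2 D3350 D4423 (iv D3351) (iv D2500) (iv F1865)
def n4424 : Q := act 3 n3350
theorem D4424 : act 3 n3350 = n4424 := rfl
def n4425 : Q := act 0 n3351
theorem D4425 : act 0 n3351 = n4425 := rfl
theorem F3401 : act 3 n4425 = n3510 := d2_2 (iv F2545) D4425 (iv D3510)
def n4426 : Q := act 3 n3352
theorem D4426 : act 3 n3352 = n4426 := rfl
theorem F3402 : act 0 n4426 = n3993 := d2_1 D4426 (iv D3993) (iv F2546)
def n4427 : Q := act 1 n3353
theorem D4427 : act 1 n3353 = n4427 := rfl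
theorem F3403 : act 2 n4427 = n3989 := d3_2 D3353 D4427 (iv D3989) F2257 (iv F1871)
def n4428 : Q := act 3 n3353
theorem D4428 : act 3 n3353 = n4428 := rfl
theorem F3404 : act 0 n4428 = n3354 := d2_1 D4428 (iv D3354) (iv F2547)
theorem F3405 : act 2 n4428 = n4424 := d6_2 D3353 D4428 (iv D4424) (iv D3350) (iv D2499) F1351 D1840 (iv F1870)
def n4429 : Q := act 2 n3354
theorem D4429 : act 2 n3354 = n4429 := rfl
theorem F3407 : act 1 n4429 = n4376 := d3_1 D4429 (iv D4376) F2516 D3313 (iv F2548)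
theorem F3408 : act 3 n4429 = n4422 := d5_2 D3354 D4429 (iv D4422) (iv D3349) F1864 D2502 D3353 D4428 F3405 (iv D4424) (iv D3350) (iv D2499) F1351 D1840 D2503
def n4430 : Q := act 1 n3355
theorem D4430 : act 1 n3355 = n4430 := rfl
def n4432 : Q := act 2 n3356
theorem D4432 : act 2 n3356 = n4432 := rfl
def n4434 : Q := act 0 n3358
theorem D4434 : act 0 n3358 = n4434 := rfl
def n4435 : Q := act 2 n3358
theorem D4435 : act 2 n3358 = n4435 := rfl
def n4437 : Q := act 3 n3359
theorem D4437 : act 3 n3359 = n4437 := rfl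
theorem F3412 : act 0 n4437 = n3361 := d2_1 D4437 (iv D3361) D3359
theorem F3413 : act 1 n4437 = n3599 := d4_1 D4437 (iv D3599) (iv F2551)
def n4438 : Q := act 3 n3360
theorem D4438 : act 3 n3360 = n4438 := rfl
theorem F3414 : act 1 n4438 = n3366 := d4_1 D4438 (iv D3366) (iv F2552)
def n4439 : Q := act 2 n3361
theorem D4439 : act 2 n3361 = n4439 := rfl
def n4441 : Q := act 3 n3364
theorem D4441 : act 3 n3364 = n4441 := rfl
theorem F3416 : act 0 n4441 = n3366 := d2_1 D4441 (iv D3366) (iv F2555)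
def n4442 : Q := act 2 n3365
theorem D4442 : act 2 n3365 = n4442 := rfl
def n4443 : Q := act 2 n3366
theorem D4443 : act 2 n3366 = n4443 := rfl
def n4448 : Q := act 0 n3371
theorem D4448 : act 0 n3371 = n4448 := rfl
def n4449 : Q := act 3 n3371
theorem D4449 : act 3 n3371 = n4449 := rfl
theorem F3420 : act 1 n4449 = n3372 := d4_1 D4449 (iv D3372) D3371
def n4450 : Q := act 2 n3372
theorem D4450 : act 2 n3372 = n4450 := rfl
theorem F3421 : act 0 n4450 = n3374 := d1_1 D4450 (iv D3374) (iv F2563)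
theorem F3422 : act 3 n4450 = n3768 := d6_1 D4450 F2874 F2119 (iv D2519) (iv D1851) D1850 D2518 (iv F2563)
theorem F3423 : act 1 n3769 = n4450 := d4_3 F3422 (iv D3768) D3769
def n4451 : Q := act 1 n3373
theorem D4451 : act 1 n3373 = n4451 := rfl
def n4452 : Q := act 1 n3374
theorem D4452 : act 1 n3374 = n4452 := rfl
theorem F3424 : act 2 n4452 = n3383 := d3_2 D3374 D4452 (iv D3383) (iv D2525) (iv F1882)
def n4453 : Q := act 3 n3374
theorem D4453 : act 3 n3374 = n4453 := rfl
theorem F3426 : act 2 n4453 = n3770 := d5_1 D4453 F2875 (iv D3373) (iv D2517) D2516 D3372 D4450 F3422 F2874 F2119 (iv D2519) (iv D1851) D1850 D2518 D3374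
def n4454 : Q := act 0 n3375
theorem D4454 : act 0 n3375 = n4454 := rfl
theorem F3427 : act 1 n4454 = n3772 := d0_2 D3375 D4454 F2876 F2120 F1560 F1362 F1360 D1853 D2520
theorem F3428 : act 3 n3771 = n4454 := d4_0 F3427 (iv D3772) D3771
def n4455 : Q := act 2 n3375
theorem D4455 : act 2 n3375 = n4455 := rfl
theorem F3429 : act 1 n4455 = n3379 := d3_1 D4455 (iv D3379) (iv D2522) (iv F1884) D3375
def n4456 : Q := act 3 n3375
theorem D4456 : act 3 n3375 = n4456 := rfl
theorem F3430 : act 0 n4456 = n3771 := d2_1 D4456 F3428 (iv D4454)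
def n4457 : Q := act 2 n3378
theorem D4457 : act 2 n3378 = n4457 := rfl
def n4458 : Q := act 3 n3379
theorem D4458 : act 3 n3379 = n4458 := rfl
def n4459 : Q := act 1 n3380
theorem D4459 : act 1 n3380 = n4459 := rfl
def n4460 : Q := act 3 n3380
theorem D4460 : act 3 n3380 = n4460 := rfl
theorem F3433 : act 0 n4460 = n3381 := d2_1 D4460 (iv D3381) D3380
def n4461 : Q := act 2 n3381
theorem D4461 : act 2 n3381 = n4461 := rfl
def n4462 : Q := act 1 n3382
theorem D4462 : act 1 n3382 = n4462 := rfl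
theorem F3434 : act 3 n4462 = n3427 := d4_2 (iv F2572) D4462 (iv D3427)
def n4463 : Q := act 0 n3383
theorem D4463 : act 0 n3383 = n4463 := rfl
def n4464 : Q := act 3 n3383
theorem D4464 : act 3 n3383 = n4464 := rfl
theorem F3435 : act 1 n4464 = n3384 := d4_1 D4464 (iv D3384) D3383
def n4465 : Q := act 2 n3385
theorem D4465 : act 2 n3385 = n4465 := rfl
theorem F3436 : act 1 n4465 = n3411 := d3_1 D4465 (iv D3411) (iv D2550) (iv F1889) D3385
def n4466 : Q := act 3 n3385
theorem D4466 : act 3 n3385 = n4466 := rfl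
theorem F3437 : act 1 n4466 = n3386 := d4_1 D4466 (iv D3386) D3385
def n4467 : Q := act 2 n3386
theorem D4467 : act 2 n3386 = n4467 := rfl
def n4468 : Q := act 1 n3387
theorem D4468 : act 1 n3387 = n4468 := rfl
theorem F3439 : act 2 n4468 = n3388 := d3_2 D3387 D4468 (iv D3388) (iv D2528) (iv F1890)
def n4469 : Q := act 3 n3387
theorem D4469 : act 3 n3387 = n4469 := rfl
def n4470 : Q := act 0 n3388
theorem D4470 : act 0 n3388 = n4470 := rfl
def n4471 : Q := act 1 n3389
theorem D4471 : act 1 n3389 = n4471 := rfl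
def n4472 : Q := act 3 n3389
theorem D4472 : act 3 n3389 = n4472 := rfl
def n4473 : Q := act 2 n3390
theorem D4473 : act 2 n3390 = n4473 := rfl
def n4475 : Q := act 3 n3391
theorem D4475 : act 3 n3391 = n4475 := rfl
theorem F3441 : act 0 n4475 = n3392 := d2_1 D4475 (iv D3392) D3391
def n4476 : Q := act 2 n3392
theorem D4476 : act 2 n3392 = n4476 := rfl
theorem F3442 : act 1 n4476 = n4473 := d3_1 D4476 (iv D4473) F2577 (iv F1894) (iv F2578)
def n4477 : Q := act 0 n3393
theorem D4477 : act 0 n3393 = n4477 := rfl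
def n4478 : Q := act 2 n3393
theorem D4478 : act 2 n3393 = n4478 := rfl
theorem F3443 : act 1 n4478 = n3397 := d3_1 D4478 (iv D3397) (iv D2536) (iv F1895) D3393
def n4479 : Q := act 3 n3393
theorem D4479 : act 3 n3393 = n4479 := rfl
theorem F3444 : act 1 n4479 = n3394 := d4_1 D4479 (iv D3394) D3393
def n4480 : Q := act 1 n3395
theorem D4480 : act 1 n3395 = n4480 := rfl
theorem F3445 : act 2 n4480 = n3396 := d3_2 D3395 D4480 (iv D3396) (iv D2535) (iv F1896)
def n4481 : Q := act 0 n3396
theorem D4481 : act 0 n3396 = n4481 := rfl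
theorem F3446 : act 3 n4481 = n4470 := d2_2 (iv F2580) D4481 (iv D4470)
def n4482 : Q := act 3 n3397
theorem D4482 : act 3 n3397 = n4482 := rfl
def n4483 : Q := act 2 n3398
theorem D4483 : act 2 n3398 = n4483 := rfl
theorem F3447 : act 0 n4483 = n3665 := d1_1 D4483 (iv D3665) (iv F2581)
def n4484 : Q := act 2 n3399
theorem D4484 : act 2 n3399 = n4484 := rfl
theorem F3448 : act 1 n4484 = n3664 := d3_1 D4484 (iv D3664) F2053 (iv F1900) D3399
def n4485 : Q := act 2 n3400
theorem D4485 : act 2 n3400 = n4485 := rfl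
def n4486 : Q := act 3 n3400
theorem D4486 : act 3 n3400 = n4486 := rfl
theorem F3450 : act 0 n4486 = n3647 := d2_1 D4486 (iv D3647) (iv F2584)
theorem F3451 : act 1 n4486 = n3401 := d4_1 D4486 (iv D3401) D3400
def n4487 : Q := act 2 n3401
theorem D4487 : act 2 n3401 = n4487 := rfl
def n4488 : Q := act 1 n3402
theorem D4488 : act 1 n3402 = n4488 := rfl
theorem F3453 : act 2 n4488 = n3403 := d3_2 D3402 D4488 (iv D3403) (iv D2541) (iv F1902)
def n4489 : Q := act 3 n3402
theorem D4489 : act 3 n3402 = n4489 := rfl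
def n4490 : Q := act 0 n3403
theorem D4490 : act 0 n3403 = n4490 := rfl
def n4491 : Q := act 1 n3404
theorem D4491 : act 1 n3404 = n4491 := rfl
def n4492 : Q := act 3 n3404
theorem D4492 : act 3 n3404 = n4492 := rfl
theorem F3454 : act 0 n4492 = n3405 := d2_1 D4492 (iv D3405) D3404
def n4493 : Q := act 2 n3405
theorem D4493 : act 2 n3405 = n4493 := rfl
def n4494 : Q := act 1 n3406
theorem D4494 : act 1 n3406 = n4494 := rfl
def n4495 : Q := act 3 n3406
theorem D4495 : act 3 n3406 = n4495 := rfl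
theorem F3455 : act 0 n4495 = n3407 := d2_1 D4495 (iv D3407) D3406
def n4496 : Q := act 2 n3407
theorem D4496 : act 2 n3407 = n4496 := rfl
theorem F3456 : act 1 n4496 = n4493 := d3_1 D4496 (iv D4493) F2586 (iv F1906) (iv F2588)
def n4497 : Q := act 0 n3408
theorem D4497 : act 0 n3408 = n4497 := rfl
def n4498 : Q := act 2 n3408
theorem D4498 : act 2 n3408 = n4498 := rfl
theorem F3457 : act 1 n4498 = n3410 := d3_1 D4498 (iv D3410) (iv D2549) (iv F1907) D3408
def n4499 : Q := act 0 n3409
theorem D4499 : act 0 n3409 = n4499 := rfl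
theorem F3458 : act 3 n4499 = n4490 := d2_2 (iv F2589) D4499 (iv D4490)
def n4500 : Q := act 3 n3410
theorem D4500 : act 3 n3410 = n4500 := rfl
theorem F3459 : act 0 n4500 = n4482 := d2_1 D4500 (iv D4482) (iv F2590)
def n4501 : Q := act 3 n3411
theorem D4501 : act 3 n3411 = n4501 := rfl
theorem F3460 : act 0 n4501 = n3428 := d2_1 D4501 (iv D3428) (iv F2591)
def n4502 : Q := act 2 n3412
theorem D4502 : act 2 n3412 = n4502 := rfl
theorem F3461 : act 0 n4502 = n3429 := d1_1 D4502 (iv D3429) (iv F2592)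
def n4503 : Q := act 1 n3413
theorem D4503 : act 1 n3413 = n4503 := rfl
def n4504 : Q := act 3 n3413
theorem D4504 : act 3 n3413 = n4504 := rfl
theorem F3463 : act 2 n4504 = n4469 := d6_2 D3413 D4504 (iv D4469) (iv D3387) (iv D2527) F1368 D1875 (iv F1913)
def n4505 : Q := act 2 n3414
theorem D4505 : act 2 n3414 = n4505 := rfl
theorem F3465 : act 1 n4505 = n3826 := d3_1 D4505 (iv D3826) F2153 D2871 (iv F2595)
theorem F3466 : act 3 n4505 = n4467 := d5_2 D3414 D4505 (iv D4467) (iv D3386) F1889 D2551 D3413 D4504 F3463 (iv D4469) (iv D3387) (iv D2527) F1368 D1875 D2552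
def n4506 : Q := act 2 n3415
theorem D4506 : act 2 n3415 = n4506 := rfl
def n4507 : Q := act 2 n3416
theorem D4507 : act 2 n3416 = n4507 := rfl
theorem F3468 : act 0 n4507 = n3417 := d1_1 D4507 (iv D3417) (iv F2598)
def n4508 : Q := act 3 n3417
theorem D4508 : act 3 n3417 = n4508 := rfl
def n4509 : Q := act 0 n3418
theorem D4509 : act 0 n3418 = n4509 := rfl
def n4510 : Q := act 2 n3418
theorem D4510 : act 2 n3418 = n4510 := rfl
theorem F3469 : act 1 n4510 = n3435 := d3_1 D4510 (iv D3435) (iv D2569) (iv F1915) D3418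
def n4511 : Q := act 3 n3418
theorem D4511 : act 3 n3418 = n4511 := rfl
theorem F3470 : act 1 n4511 = n3419 := d4_1 D4511 (iv D3419) D3418
def n4512 : Q := act 2 n3419
theorem D4512 : act 2 n3419 = n4512 := rfl
theorem F3471 : act 0 n4512 = n3420 := d1_1 D4512 (iv D3420) (iv F2600)
def n4513 : Q := act 3 n3420
theorem D4513 : act 3 n3420 = n4513 := rfl
theorem F3472 : act 1 n4513 = n4508 := d4_1 D4513 (iv D4508) (iv F2601)
def n4514 : Q := act 0 n3421
theorem D4514 : act 0 n3421 = n4514 := rfl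
def n4515 : Q := act 3 n3421
theorem D4515 : act 3 n3421 = n4515 := rfl
theorem F3473 : act 1 n4515 = n3422 := d4_1 D4515 (iv D3422) D3421
def n4516 : Q := act 2 n3422
theorem D4516 : act 2 n3422 = n4516 := rfl
theorem F3474 : act 0 n4516 = n3423 := d1_1 D4516 (iv D3423) (iv F2602)
def n4517 : Q := act 1 n3423
theorem D4517 : act 1 n3423 = n4517 := rfl
theorem F3475 : act 2 n4517 = n3427 := d3_2 D3423 D4517 (iv D3427) (iv D2562) (iv F1918)
def n4518 : Q := act 3 n3423
theorem D4518 : act 3 n3423 = n4518 := rfl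
theorem F3476 : act 2 n4518 = n3843 := d6_2 D3423 D4518 (iv D3843) (iv D2886) (iv F1591) D2557 D3422 F2602
def n4519 : Q := act 2 n3424
theorem D4519 : act 2 n3424 = n4519 := rfl
theorem F3478 : act 3 n4519 = n4516 := d5_2 D3424 D4519 (iv D4516) (iv D3422) (iv D2557) F1591 D2886 D3843 (iv F3476) (iv D4518) (iv D3423) (iv D2558) (iv D1883) D1884 D2559
def n4521 : Q := act 3 n3425
theorem D4521 : act 3 n3425 = n4521 := rfl
def n4522 : Q := act 2 n3426
theorem D4522 : act 2 n3426 = n4522 := rfl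
def n4523 : Q := act 0 n3427
theorem D4523 : act 0 n3427 = n4523 := rfl
def n4524 : Q := act 2 n3428
theorem D4524 : act 2 n3428 = n4524 := rfl
def n4525 : Q := act 1 n3429
theorem D4525 : act 1 n3429 = n4525 := rfl
theorem F3480 : act 2 n4525 = n3430 := d3_2 D3429 D4525 (iv D3430) (iv D2565) (iv F1922)
def n4526 : Q := act 3 n3429
theorem D4526 : act 3 n3429 = n4526 := rfl
def n4527 : Q := act 0 n3430
theorem D4527 : act 0 n3430 = n4527 := rfl
def n4528 : Q := act 1 n3431
theorem D4528 : act 1 n3431 = n4528 := rfl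
def n4529 : Q := act 3 n3431
theorem D4529 : act 3 n3431 = n4529 := rfl
theorem F3481 : act 0 n4529 = n3432 := d2_1 D4529 (iv D3432) D3431
def n4530 : Q := act 2 n3432
theorem D4530 : act 2 n3432 = n4530 := rfl
def n4531 : Q := act 0 n3433
theorem D4531 : act 0 n3433 = n4531 := rfl
theorem F3482 : act 1 n4531 = n3434 := d0_2 D3433 D4531 (iv D3434) (iv D2569) (iv D1891) (iv D1377) (iv F999) D1890 D2568
theorem F3483 : act 3 n4531 = n3780 := d2_2 (iv F2608) D4531 (iv D3780)
def n4532 : Q := act 2 n3433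
theorem D4532 : act 2 n3433 = n4532 := rfl
def n4533 : Q := act 2 n3434
theorem D4533 : act 2 n3434 = n4533 := rfl
theorem F3484 : act 0 n4533 = n3435 := d1_1 D4533 (iv D3435) D3434
def n4534 : Q := act 3 n3434
theorem D4534 : act 3 n3434 = n4534 := rfl
def n4535 : Q := act 3 n3435
theorem D4535 : act 3 n3435 = n4535 := rfl
def n4536 : Q := act 2 n3436
theorem D4536 : act 2 n3436 = n4536 := rfl
def n4537 : Q := act 1 n3437
theorem D4537 : act 1 n3437 = n4537 := rfl
def n4538 : Q := act 3 n3437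
theorem D4538 : act 3 n3437 = n4538 := rfl
theorem F3488 : act 2 n4538 = n4513 := d6_2 D3437 D4538 (iv D4513) (iv D3420) (iv D2556) F1381 D1892 (iv F1926)
def n4539 : Q := act 2 n3438
theorem D4539 : act 2 n3438 = n4539 := rfl
theorem F3490 : act 3 n4539 = n4512 := d5_2 D3438 D4539 (iv D4512) (iv D3419) F1915 D2570 D3437 D4538 F3488 (iv D4513) (iv D3420) (iv D2556) F1381 D1892 D2571
def n4540 : Q := act 1 n3439
theorem D4540 : act 1 n3439 = n4540 := rfl
def n4541 : Q := act 0 n3440
theorem D4541 : act 0 n3440 = n4541 := rfl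
theorem F3491 : act 2 n4541 = n3442 := d1_2 (iv F2613) D4541 (iv D3442)
def n4542 : Q := act 3 n3440
theorem D4542 : act 3 n3440 = n4542 := rfl
theorem F3492 : act 1 n4542 = n3441 := d4_1 D4542 (iv D3441) D3440
def n4544 : Q := act 3 n3442
theorem D4544 : act 3 n3442 = n4544 := rfl
theorem F3493 : act 0 n4544 = n3443 := d2_1 D4544 (iv D3443) D3442
def n4545 : Q := act 2 n3443
theorem D4545 : act 2 n3443 = n4545 := rfl
theorem F3494 : act 1 n4545 = n4530 := d3_1 D4545 (iv D4530) F2607 (iv F1931) (iv F2615)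
def n4548 : Q := act 0 n3445
theorem D4548 : act 0 n3445 = n4548 := rfl
theorem F3496 : act 3 n4548 = n4527 := d2_2 (iv F2616) D4548 (iv D4527)
def n4551 : Q := act 1 n3448
theorem D4551 : act 1 n3448 = n4551 := rfl
theorem F3498 : act 2 n4551 = n3459 := d3_2 D3448 D4551 (iv D3459) (iv D2590) (iv F1936)
def n4552 : Q := act 3 n3448
theorem D4552 : act 3 n3448 = n4552 := rfl
theorem F3499 : act 0 n4552 = n3449 := d2_1 D4552 (iv D3449) (iv F2618)
def n4553 : Q := act 2 n3449
theorem D4553 : act 2 n3449 = n4553 := rfl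
def n4554 : Q := act 1 n3450
theorem D4554 : act 1 n3450 = n4554 := rfl
theorem F3500 : act 2 n4554 = n3451 := d3_2 D3450 D4554 (iv D3451) (iv D2583) (iv F1937)
def n4555 : Q := act 3 n3450
theorem D4555 : act 3 n3450 = n4555 := rfl
def n4556 : Q := act 0 n3451
theorem D4556 : act 0 n3451 = n4556 := rfl
def n4557 : Q := act 3 n3451
theorem D4557 : act 3 n3451 = n4557 := rfl
theorem F3501 : act 1 n4557 = n3452 := d4_1 D4557 (iv D3452) D3451
def n4558 : Q := act 1 n3453
theorem D4558 : act 1 n3453 = n4558 := rfl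
theorem F3502 : act 2 n4558 = n3497 := d3_2 D3453 D4558 F2656 F1961 F1942
theorem F3503 : act 3 n4558 = n3779 := d4_2 (iv F2622) D4558 (iv D3779)
def n4560 : Q := act 3 n3454
theorem D4560 : act 3 n3454 = n4560 := rfl
theorem F3504 : act 0 n4560 = n3456 := d2_1 D4560 (iv D3456) (iv F2623)
def n4561 : Q := act 2 n3455
theorem D4561 : act 2 n3455 = n4561 := rfl
theorem F3505 : act 0 n4561 = n3457 := d1_1 D4561 (iv D3457) (iv F2624)
def n4562 : Q := act 2 n3456
theorem D4562 : act 2 n3456 = n4562 := rfl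
def n4563 : Q := act 1 n3457
theorem D4563 : act 1 n3457 = n4563 := rfl
theorem F3506 : act 2 n4563 = n3458 := d3_2 D3457 D4563 (iv D3458) (iv D2588) (iv F1940)
def n4564 : Q := act 3 n3457
theorem D4564 : act 3 n3457 = n4564 := rfl
def n4565 : Q := act 0 n3458
theorem D4565 : act 0 n3458 = n4565 := rfl
def n4567 : Q := act 2 n3460
theorem D4567 : act 2 n3460 = n4567 := rfl
theorem F3507 : act 0 n4567 = n3461 := d1_1 D4567 (iv D3461) D3460
def n4568 : Q := act 3 n3461
theorem D4568 : act 3 n3461 = n4568 := rfl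
def n4569 : Q := act 0 n3462
theorem D4569 : act 0 n3462 = n4569 := rfl
def n4570 : Q := act 3 n3462
theorem D4570 : act 3 n3462 = n4570 := rfl
theorem F3508 : act 1 n4570 = n3463 := d4_1 D4570 (iv D3463) D3462
def n4571 : Q := act 0 n3464
theorem D4571 : act 0 n3464 = n4571 := rfl
def n4572 : Q := act 3 n3464
theorem D4572 : act 3 n3464 = n4572 := rfl
theorem F3509 : act 1 n4572 = n3465 := d4_1 D4572 (iv D3465) D3464
def n4573 : Q := act 1 n3466
theorem D4573 : act 1 n3466 = n4573 := rfl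
def n4574 : Q := act 3 n3466
theorem D4574 : act 3 n3466 = n4574 := rfl
def n4575 : Q := act 2 n3467
theorem D4575 : act 2 n3467 = n4575 := rfl
def n4576 : Q := act 1 n3468
theorem D4576 : act 1 n3468 = n4576 := rfl
theorem F3511 : act 3 n4576 = n4540 := d4_2 (iv F2634) D4576 (iv D4540)
def n4577 : Q := act 0 n3469
theorem D4577 : act 0 n3469 = n4577 := rfl
theorem F3512 : act 1 n4577 = n3472 := d0_2 D3469 D4577 (iv D3472) (iv D2599) (iv D1913) (iv D1393) (iv F1010) D1911 D2597
def n4578 : Q := act 2 n3469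
theorem D4578 : act 2 n3469 = n4578 := rfl
def n4580 : Q := act 2 n3470
theorem D4580 : act 2 n3470 = n4580 := rfl
theorem F3514 : act 0 n4580 = n3471 := d1_1 D4580 (iv D3471) (iv F2635)
def n4581 : Q := act 3 n3471
theorem D4581 : act 3 n3471 = n4581 := rfl
theorem F3515 : act 1 n4581 = n3585 := d4_1 D4581 F2735 (iv F2636)
def n4582 : Q := act 2 n3472
theorem D4582 : act 2 n3472 = n4582 := rfl
theorem F3516 : act 0 n4582 = n3473 := d1_1 D4582 (iv D3473) D3472
def n4583 : Q := act 3 n3472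
theorem D4583 : act 3 n3472 = n4583 := rfl
def n4584 : Q := act 3 n3473
theorem D4584 : act 3 n3473 = n4584 := rfl
theorem F3518 : act 1 n4584 = n3480 := d4_1 D4584 (iv D3480) (iv F2637)
def n4585 : Q := act 2 n3474
theorem D4585 : act 2 n3474 = n4585 := rfl
theorem F3519 : act 1 n4585 = n3682 := d3_1 D4585 (iv D3682) F2641 (iv D3475) (iv F2638)
def n4587 : Q := act 3 n3476
theorem D4587 : act 3 n3476 = n4587 := rfl
theorem F3521 : act 1 n4587 = n3477 := d4_1 D4587 (iv D3477) D3476
def n4588 : Q := act 1 n3478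
theorem D4588 : act 1 n3478 = n4588 := rfl
theorem F3522 : act 3 n4588 = n4350 := d4_2 (iv F2645) D4588 (iv D4350)
def n4589 : Q := act 1 n3479
theorem D4589 : act 1 n3479 = n4589 := rfl
theorem F3523 : act 2 n4589 = n3490 := d3_2 D3479 D4589 (iv D3490) (iv D2612) (iv F1950)
def n4590 : Q := act 3 n3479
theorem D4590 : act 3 n3479 = n4590 := rfl
theorem F3524 : act 0 n4590 = n3480 := d2_1 D4590 (iv D3480) (iv F2646)
def n4591 : Q := act 2 n3480
theorem D4591 : act 2 n3480 = n4591 := rfl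
def n4592 : Q := act 0 n3481
theorem D4592 : act 0 n3481 = n4592 := rfl
theorem F3525 : act 2 n4592 = n3499 := d1_2 (iv F2647) D4592 (iv D3499)
def n4595 : Q := act 1 n3483
theorem D4595 : act 1 n3483 = n4595 := rfl
theorem F3528 : act 2 n4595 = n3502 := d3_2 D3483 D4595 (iv D3502) (iv D2621) (iv F1953)
def n4596 : Q := act 3 n3483
theorem D4596 : act 3 n3483 = n4596 := rfl
def n4598 : Q := act 3 n3484
theorem D4598 : act 3 n3484 = n4598 := rfl
theorem F3530 : act 2 n4598 = n4596 := d6_2 D3484 D4598 (iv D4596) (iv D3483) (iv D2606) D2605 D3482 F2648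
def n4599 : Q := act 0 n3485
theorem D4599 : act 0 n3485 = n4599 := rfl
theorem F3531 : act 2 n4599 = n3487 := d1_2 (iv F2650) D4599 (iv D3487)
def n4600 : Q := act 3 n3485
theorem D4600 : act 3 n3485 = n4600 := rfl
def n4602 : Q := act 1 n3487
theorem D4602 : act 1 n3487 = n4602 := rfl
def n4603 : Q := act 3 n3487
theorem D4603 : act 3 n3487 = n4603 := rfl
theorem F3535 : act 0 n4603 = n3488 := d2_1 D4603 (iv D3488) D3487
def n4604 : Q := act 0 n3489
theorem D4604 : act 0 n3489 = n4604 := rfl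
theorem F3536 : act 3 n4604 = n3590 := d2_2 (iv F2652) D4604 (iv D3590)
def n4605 : Q := act 0 n3490
theorem D4605 : act 0 n3490 = n4605 := rfl
def n4606 : Q := act 3 n3490
theorem D4606 : act 3 n3490 = n4606 := rfl
def n4608 : Q := act 1 n3492
theorem D4608 : act 1 n3492 = n4608 := rfl
def n4609 : Q := act 3 n3492
theorem D4609 : act 3 n3492 = n4609 := rfl
def n4610 : Q := act 1 n3493
theorem D4610 : act 1 n3493 = n4610 := rfl
def n4611 : Q := act 3 n3493
theorem D4611 : act 3 n3493 = n4611 := rfl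
theorem F3540 : act 2 n4611 = n4609 := d6_2 D3493 D4611 (iv D4609) (iv D3492) (iv D2613) D2612 D3491 F2653
def n4612 : Q := act 0 n3494
theorem D4612 : act 0 n3494 = n4612 := rfl
theorem F3541 : act 2 n4612 = n3496 := d1_2 (iv F2655) D4612 (iv D3496)
def n4613 : Q := act 3 n3494
theorem D4613 : act 3 n3494 = n4613 := rfl
theorem F3542 : act 1 n4613 = n3495 := d4_1 D4613 (iv D3495) D3494
def n4614 : Q := act 2 n3495
theorem D4614 : act 2 n3495 = n4614 := rfl
def n4615 : Q := act 1 n3496
theorem D4615 : act 1 n3496 = n4615 := rfl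
theorem F3545 : act 0 n4615 = n4602 := d0_1 D4615 (iv D4602) (iv D3487) (iv D2609) F1410 (iv F1014) (iv F1412) D2616 D3496
def n4616 : Q := act 3 n3496
theorem D4616 : act 3 n3496 = n4616 := rfl
theorem F3546 : act 0 n4616 = n3497 := d2_1 D4616 (iv D3497) D3496
def n4617 : Q := act 0 n3498
theorem D4617 : act 0 n3498 = n4617 := rfl
theorem F3547 : act 2 n4617 = n4604 := d1_2 (iv F2657) D4617 (iv D4604)
theorem F3548 : act 3 n4617 = n4565 := d2_2 (iv F2658) D4617 (iv D4565)
def n4620 : Q := act 0 n3502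
theorem D4620 : act 0 n3502 = n4620 := rfl
def n4621 : Q := act 0 n3503
theorem D4621 : act 0 n3503 = n4621 := rfl
theorem F3552 : act 2 n4621 = n3510 := d1_2 (iv F2664) D4621 (iv D3510)
def n4622 : Q := act 3 n3503
theorem D4622 : act 3 n3503 = n4622 := rfl
def n4623 : Q := act 2 n3505
theorem D4623 : act 2 n3505 = n4623 := rfl
theorem F3554 : act 0 n4623 = n3506 := d1_1 D4623 (iv D3506) D3505
def n4624 : Q := act 3 n3506
theorem D4624 : act 3 n3506 = n4624 := rfl
theorem F3555 : act 1 n4624 = n3509 := d4_1 D4624 (iv D3509) (iv F2669)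
def n4625 : Q := act 2 n3507
theorem D4625 : act 2 n3507 = n4625 := rfl
theorem F3556 : act 0 n4625 = n3672 := d1_1 D4625 (iv D3672) (iv F2670)
def n4626 : Q := act 1 n3508
theorem D4626 : act 1 n3508 = n4626 := rfl
theorem F3557 : act 2 n4626 = n4608 := d3_2 D3508 D4626 (iv D4608) (iv D3492) (iv F1968)
def n4627 : Q := act 3 n3508
theorem D4627 : act 3 n3508 = n4627 := rfl
def n4628 : Q := act 2 n3509
theorem D4628 : act 2 n3509 = n4628 := rfl
def n4629 : Q := act 1 n3510
theorem D4629 : act 1 n3510 = n4629 := rfl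
def n4630 : Q := act 0 n3511
theorem D4630 : act 0 n3511 = n4630 := rfl
theorem F3559 : act 1 n4630 = n4419 := d0_2 D3511 D4630 (iv D4419) (iv D3348) (iv D2498) (iv D1837) (iv F1025) D1935 D2629
def n4631 : Q := act 3 n3511
theorem D4631 : act 3 n3511 = n4631 := rfl
theorem F3560 : act 1 n4631 = n3512 := d4_1 D4631 (iv D3512) D3511
def n4632 : Q := act 2 n3512
theorem D4632 : act 2 n3512 = n4632 := rfl
theorem F3561 : act 0 n4632 = n3513 := d1_1 D4632 (iv D3513) (iv F2673)
theorem F3562 : act 3 n4632 = n3682 := d6_1 D4632 (iv D3682) (iv D2761) (iv D2039) F1092 (iv F1422) D2630 (iv F2673)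
def n4633 : Q := act 3 n3513
theorem D4633 : act 3 n3513 = n4633 := rfl
theorem F3564 : act 2 n4633 = n3681 := d5_1 D4633 (iv D3681) (iv D2760) F1505 (iv F1970) D3512 D4632 F3562 (iv D3682) (iv D2761) (iv D2039) F1092 (iv F1422) D2630 D3513
def n4634 : Q := act 1 n3514
theorem D4634 : act 1 n3514 = n4634 := rfl
theorem F3565 : act 0 n4634 = n4430 := d0_1 D4634 (iv D4430) (iv D3355) (iv D2504) F1353 (iv F1028) (iv F1424) D2631 D3514
def n4636 : Q := act 2 n3515
theorem D4636 : act 2 n3515 = n4636 := rfl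
def n4638 : Q := act 1 n3517
theorem D4638 : act 1 n3517 = n4638 := rfl
def n4639 : Q := act 0 n3518
theorem D4639 : act 0 n3518 = n4639 := rfl
theorem F3568 : act 1 n4639 = n3854 := d0_2 D3518 D4639 (iv D3854) (iv D2894) (iv D2150) (iv D1570) (iv F1030) D1941 D2635
def n4640 : Q := act 2 n3518
theorem D4640 : act 2 n3518 = n4640 := rfl
theorem F3569 : act 1 n4640 = n3522 := d3_1 D4640 (iv D3522) (iv D2637) (iv F1974) D3518
def n4641 : Q := act 3 n3518
theorem D4641 : act 3 n3518 = n4641 := rfl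
theorem F3570 : act 1 n4641 = n3519 := d4_1 D4641 (iv D3519) D3518
def n4642 : Q := act 2 n3519
theorem D4642 : act 2 n3519 = n4642 := rfl
theorem F3571 : act 0 n4642 = n3520 := d1_1 D4642 (iv D3520) (iv F2677)
def n4643 : Q := act 3 n3520
theorem D4643 : act 3 n3520 = n4643 := rfl
def n4644 : Q := act 2 n3521
theorem D4644 : act 2 n3521 = n4644 := rfl
theorem F3572 : act 0 n4644 = n3522 := d1_1 D4644 (iv D3522) D3521
def n4645 : Q := act 3 n3521
theorem D4645 : act 3 n3521 = n4645 := rfl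
theorem F3573 : act 0 n4645 = n3523 := d2_1 D4645 (iv D3523) D3521
theorem F3574 : act 1 n4645 = n3527 := d4_1 D4645 (iv D3527) (iv F2678)
def n4646 : Q := act 3 n3522
theorem D4646 : act 3 n3522 = n4646 := rfl
def n4647 : Q := act 2 n3523
theorem D4647 : act 2 n3523 = n4647 := rfl
def n4648 : Q := act 1 n3524
theorem D4648 : act 1 n3524 = n4648 := rfl
def n4649 : Q := act 3 n3524
theorem D4649 : act 3 n3524 = n4649 := rfl
theorem F3575 : act 0 n4649 = n3525 := d2_1 D4649 (iv D3525) (iv F2680)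
theorem F3576 : act 2 n4649 = n4643 := d6_2 D3524 D4649 (iv D4643) (iv D3520) (iv D2636) F1427 D1944 (iv F1976)
def n4650 : Q := act 2 n3525
theorem D4650 : act 2 n3525 = n4650 := rfl
theorem F3578 : act 1 n4650 = n4412 := d3_1 D4650 (iv D4412) F2541 (iv F2520) (iv F2681)
theorem F3579 : act 3 n4650 = n4642 := d5_2 D3525 D4650 (iv D4642) (iv D3519) F1974 D2638 D3524 D4649 F3576 (iv D4643) (iv D3520) (iv D2636) F1427 D1944 D2639
def n4651 : Q := act 1 n3526
theorem D4651 : act 1 n3526 = n4651 := rfl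
def n4652 : Q := act 3 n3526
theorem D4652 : act 3 n3526 = n4652 := rfl
theorem F3580 : act 0 n4652 = n3528 := d2_1 D4652 (iv D3528) (iv F2682)
def n4654 : Q := act 1 n3529
theorem D4654 : act 1 n3529 = n4654 := rfl
def n4655 : Q := act 0 n3530
theorem D4655 : act 0 n3530 = n4655 := rfl
theorem F3581 : act 1 n4655 = n4374 := d0_2 D3530 D4655 F3357 F2516 F1845 F1337 (iv F1035) D1948 D2644
def n4656 : Q := act 2 n3530
theorem D4656 : act 2 n3530 = n4656 := rfl
def n4657 : Q := act 0 n3531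
theorem D4657 : act 0 n3531 = n4657 := rfl
theorem F3583 : act 2 n4657 = n3546 := d1_2 (iv F2687) D4657 (iv D3546)
def n4658 : Q := act 3 n3531
theorem D4658 : act 3 n3531 = n4658 := rfl
def n4662 : Q := act 1 n3534
theorem D4662 : act 1 n3534 = n4662 := rfl
def n4663 : Q := act 3 n3534
theorem D4663 : act 3 n3534 = n4663 := rfl
def n4664 : Q := act 2 n3535
theorem D4664 : act 2 n3535 = n4664 := rfl
def n4665 : Q := act 1 n3536
theorem D4665 : act 1 n3536 = n4665 := rfl
def n4668 : Q := act 1 n3540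
theorem D4668 : act 1 n3540 = n4668 := rfl
def n4669 : Q := act 3 n3540
theorem D4669 : act 3 n3540 = n4669 := rfl
def n4670 : Q := act 2 n3541
theorem D4670 : act 2 n3541 = n4670 := rfl
def n4671 : Q := act 1 n3542
theorem D4671 : act 1 n3542 = n4671 := rfl
theorem F3592 : act 3 n4671 = n4665 := d4_2 (iv F2697) D4671 (iv D4665)
def n4672 : Q := act 2 n3543
theorem D4672 : act 2 n3543 = n4672 := rfl
def n4673 : Q := act 3 n3543
theorem D4673 : act 3 n3543 = n4673 := rfl
theorem F3593 : act 0 n4673 = n3906 := d2_1 D4673 F2984 F2710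
theorem F3594 : act 1 n4673 = n3544 := d4_1 D4673 (iv D3544) D3543
def n4674 : Q := act 1 n3545
theorem D4674 : act 1 n3545 = n4674 := rfl
theorem F3595 : act 3 n4674 = n4390 := d4_2 (iv F2700) D4674 (iv D4390)
def n4675 : Q := act 1 n3546
theorem D4675 : act 1 n3546 = n4675 := rfl
theorem F3596 : act 0 n4675 = n3892 := d0_1 D4675 (iv D3892) (iv D2922) (iv D2171) F1156 (iv F1040) (iv F1440) D2656 D3546
def n4676 : Q := act 3 n3546
theorem D4676 : act 3 n3546 = n4676 := rfl
theorem F3597 : act 0 n4676 = n3547 := d2_1 D4676 (iv D3547) D3546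
def n4677 : Q := act 2 n3547
theorem D4677 : act 2 n3547 = n4677 := rfl
def n4678 : Q := act 1 n3548
theorem D4678 : act 1 n3548 = n4678 := rfl
def n4679 : Q := act 0 n3549
theorem D4679 : act 0 n3549 = n4679 := rfl
def n4680 : Q := act 3 n3549
theorem D4680 : act 3 n3549 = n4680 := rfl
theorem F3598 : act 1 n4680 = n3550 := d4_1 D4680 (iv D3550) D3549
def n4684 : Q := act 1 n3555
theorem D4684 : act 1 n3555 = n4684 := rfl
theorem F3601 : act 3 n4684 = n4678 := d4_2 (iv F2709) D4684 (iv D4678)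
def n4685 : Q := act 2 n3556
theorem D4685 : act 2 n3556 = n4685 := rfl
theorem F3602 : act 0 n4685 = n4672 := d1_1 D4685 (iv D4672) (iv F2710)
def n4686 : Q := act 2 n3557
theorem D4686 : act 2 n3557 = n4686 := rfl
theorem F3603 : act 0 n4686 = n3564 := d1_1 D4686 (iv D3564) (iv F2711)
def n4687 : Q := act 3 n3557
theorem D4687 : act 3 n3557 = n4687 := rfl
theorem F3604 : act 0 n4687 = n3565 := d2_1 D4687 (iv D3565) (iv F2711)
theorem F3605 : act 1 n4687 = n3558 := d4_1 D4687 (iv D3558) D3557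
def n4688 : Q := act 1 n3559
theorem D4688 : act 1 n3559 = n4688 := rfl
def n4689 : Q := act 2 n3560
theorem D4689 : act 2 n3560 = n4689 := rfl
theorem F3606 : act 3 n4689 = n3743 := d6_1 D4689 (iv D3743) (iv D2806) (iv D2079) D2080 D2807 D3745 F2856
def n4693 : Q := act 3 n3564
theorem D4693 : act 3 n3564 = n4693 := rfl
theorem F3609 : act 1 n4693 = n3573 := d4_1 D4693 (iv D3573) (iv F2717)
def n4694 : Q := act 2 n3565
theorem D4694 : act 2 n3565 = n4694 := rfl
def n4695 : Q := act 1 n3566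
theorem D4695 : act 1 n3566 = n4695 := rfl
theorem F3610 : act 3 n4695 = n4089 := d4_2 F2729 D4695 F3130
def n4696 : Q := act 0 n3567
theorem D4696 : act 0 n3567 = n4696 := rfl
theorem F3611 : act 2 n4696 = n3569 := d1_2 (iv F2720) D4696 (iv D3569)
def n4697 : Q := act 3 n3567
theorem D4697 : act 3 n3567 = n4697 := rfl
theorem F3612 : act 1 n4697 = n3568 := d4_1 D4697 (iv D3568) D3567
def n4698 : Q := act 1 n3569
theorem D4698 : act 1 n3569 = n4698 := rfl
theorem F3613 : act 3 n4698 = n3940 := d4_2 (iv F2721) D4698 (iv D3940)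
def n4699 : Q := act 0 n3570
theorem D4699 : act 0 n3570 = n4699 := rfl
def n4700 : Q := act 2 n3570
theorem D4700 : act 2 n3570 = n4700 := rfl
def n4702 : Q := act 2 n3571
theorem D4702 : act 2 n3571 = n4702 := rfl
def n4703 : Q := act 3 n3572
theorem D4703 : act 3 n3572 = n4703 := rfl
theorem F3616 : act 1 n4703 = n3939 := d4_1 D4703 (iv D3939) (iv F2723)
def n4704 : Q := act 2 n3573
theorem D4704 : act 2 n3573 = n4704 := rfl
def n4705 : Q := act 1 n3574
theorem D4705 : act 1 n3574 = n4705 := rfl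
theorem F3618 : act 2 n4705 = n3575 := d3_2 D3574 D4705 (iv D3575) (iv D2677) (iv F2002)
def n4706 : Q := act 3 n3574
theorem D4706 : act 3 n3574 = n4706 := rfl
def n4707 : Q := act 0 n3575
theorem D4707 : act 0 n3575 = n4707 := rfl
def n4708 : Q := act 3 n3575
theorem D4708 : act 3 n3575 = n4708 := rfl
theorem F3620 : act 1 n4708 = n3576 := d4_1 D4708 (iv D3576) D3575
def n4709 : Q := act 0 n3578
theorem D4709 : act 0 n3578 = n4709 := rfl
theorem F3621 : act 1 n4709 = n3582 := d0_2 D3578 D4709 (iv D3582) (iv D2684) (iv D1980) (iv D1445) (iv F1052) D1977 D2680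
theorem F3622 : act 3 n4709 = n4090 := d2_2 (iv F2730) D4709 (iv D4090)
def n4710 : Q := act 2 n3578
theorem D4710 : act 2 n3578 = n4710 := rfl
def n4711 : Q := act 3 n3579
theorem D4711 : act 3 n3579 = n4711 := rfl
def n4712 : Q := act 1 n3580
theorem D4712 : act 1 n3580 = n4712 := rfl
def n4713 : Q := act 3 n3580
theorem D4713 : act 3 n3580 = n4713 := rfl
theorem F3624 : act 2 n4713 = n3939 := d6_2 D3580 D4713 (iv D3939) (iv D2963) (iv D2203) F1178 D1979 (iv F2006)
def n4714 : Q := act 2 n3581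
theorem D4714 : act 2 n3581 = n4714 := rfl
theorem F3626 : act 3 n4714 = n3938 := d5_2 D3581 D4714 (iv D3938) (iv D2962) F1640 D2682 D3580 D4713 F3624 (iv D3939) (iv D2963) (iv D2203) F1178 D1979 D2683
def n4715 : Q := act 2 n3582
theorem D4715 : act 2 n3582 = n4715 := rfl
theorem F3627 : act 0 n4715 = n3583 := d1_1 D4715 (iv D3583) D3582
def n4716 : Q := act 3 n3582
theorem D4716 : act 3 n3582 = n4716 := rfl
theorem F3628 : act 0 n4716 = n3584 := d2_1 D4716 (iv D3584) D3582
theorem F3629 : act 1 n4716 = n4090 := d4_1 D4716 (iv F3622) F3621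
def n4717 : Q := act 3 n3583
theorem D4717 : act 3 n3583 = n4717 := rfl
def n4718 : Q := act 2 n3584
theorem D4718 : act 2 n3584 = n4718 := rfl
def n4720 : Q := act 3 n3587
theorem D4720 : act 3 n3587 = n4720 := rfl
theorem F3632 : act 2 n4720 = n4706 := d6_2 D3587 D4720 (iv D4706) (iv D3574) (iv D2676) D2675 D3573 F2724
def n4721 : Q := act 0 n3588
theorem D4721 : act 0 n3588 = n4721 := rfl
theorem F3633 : act 2 n4721 = n3590 := d1_2 (iv F2739) D4721 (iv D3590)
def n4722 : Q := act 3 n3588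
theorem D4722 : act 3 n3588 = n4722 := rfl
theorem F3634 : act 1 n4722 = n3589 := d4_1 D4722 (iv D3589) D3588
def n4723 : Q := act 2 n3589
theorem D4723 : act 2 n3589 = n4723 := rfl
theorem F3636 : act 3 n4723 = n4704 := d5_2 D3589 D4723 (iv D4704) (iv D3573) (iv D2675) D2676 D3574 D4706 (iv F3632) (iv D4720) (iv D3587) (iv D2687) (iv D1982) D1983 D2688
def n4724 : Q := act 1 n3590
theorem D4724 : act 1 n3590 = n4724 := rfl
def n4729 : Q := act 3 n3593
theorem D4729 : act 3 n3593 = n4729 := rfl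
theorem F3639 : act 0 n4729 = n3595 := d2_1 D4729 (iv D3595) D3593
def n4732 : Q := act 1 n3596
theorem D4732 : act 1 n3596 = n4732 := rfl
def n4736 : Q := act 2 n3599
theorem D4736 : act 2 n3599 = n4736 := rfl
theorem F3644 : act 0 n4736 = n3601 := d1_1 D4736 (iv D3601) (iv F2746)
def n4738 : Q := act 3 n3601
theorem D4738 : act 3 n3601 = n4738 := rfl
theorem F3645 : act 1 n4738 = n3685 := d4_1 D4738 (iv F2817) F2816
def n4739 : Q := act 1 n3602
theorem D4739 : act 1 n3602 = n4739 := rfl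
def n4740 : Q := act 3 n3602
theorem D4740 : act 3 n3602 = n4740 := rfl
theorem F3646 : act 0 n4740 = n3603 := d2_1 D4740 (iv D3603) D3602
def n4741 : Q := act 2 n3603
theorem D4741 : act 2 n3603 = n4741 := rfl
def n4742 : Q := act 0 n3604
theorem D4742 : act 0 n3604 = n4742 := rfl
theorem F3647 : act 1 n4742 = n4729 := d0_2 D3604 D4742 F3639 F2742 F2010 F1462 (iv F1063) D1992 D2701
theorem F3648 : act 3 n4742 = n4434 := d2_2 (iv F2750) D4742 (iv D4434)
def n4743 : Q := act 2 n3604
theorem D4743 : act 2 n3604 = n4743 := rfl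
def n4744 : Q := act 0 n3605
theorem D4744 : act 0 n3605 = n4744 := rfl
theorem F3649 : act 2 n4744 = n3613 := d1_2 (iv F2751) D4744 (iv D3613)
def n4745 : Q := act 3 n3605
theorem D4745 : act 3 n3605 = n4745 := rfl
def n4747 : Q := act 1 n3607
theorem D4747 : act 1 n3607 = n4747 := rfl
theorem F3652 : act 2 n4747 = n3616 := d3_2 D3607 D4747 (iv D3616) (iv D2711) (iv F2019)
def n4748 : Q := act 3 n3607
theorem D4748 : act 3 n3607 = n4748 := rfl
theorem F3653 : act 0 n4748 = n3610 := d2_1 D4748 (iv D3610) (iv F2753)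
def n4750 : Q := act 3 n3608
theorem D4750 : act 3 n3608 = n4750 := rfl
theorem F3654 : act 2 n4750 = n4748 := d6_2 D3608 D4750 (iv D4748) (iv D3607) (iv D2703) D2702 D3606 F2752
def n4751 : Q := act 0 n3609
theorem D4751 : act 0 n3609 = n4751 := rfl
theorem F3655 : act 2 n4751 = n3611 := d1_2 (iv F2754) D4751 (iv D3611)
def n4752 : Q := act 3 n3609
theorem D4752 : act 3 n3609 = n4752 := rfl
theorem F3656 : act 1 n4752 = n3610 := d4_1 D4752 (iv D3610) D3609
def n4753 : Q := act 2 n3610
theorem D4753 : act 2 n3610 = n4753 := rfl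
theorem F3657 : act 0 n4753 = n4750 := d1_1 D4753 F3654 F3653
def n4754 : Q := act 2 n3612
theorem D4754 : act 2 n3612 = n4754 := rfl
theorem F3659 : act 1 n4754 = n4741 := d3_1 D4754 (iv D4741) F2749 (iv F2021) (iv F2755)
def n4755 : Q := act 1 n3613
theorem D4755 : act 1 n3613 = n4755 := rfl
theorem F3660 : act 0 n4755 = n3621 := d0_1 D4755 (iv D3621) (iv D2714) (iv D2002) F1073 (iv F1067) (iv F1469) D2709 D3613
def n4756 : Q := act 3 n3613
theorem D4756 : act 3 n3613 = n4756 := rfl
theorem F3661 : act 0 n4756 = n3614 := d2_1 D4756 (iv D3614) D3613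
def n4757 : Q := act 2 n3614
theorem D4757 : act 2 n3614 = n4757 := rfl
def n4758 : Q := act 0 n3616
theorem D4758 : act 0 n3616 = n4758 := rfl
def n4759 : Q := act 3 n3616
theorem D4759 : act 3 n3616 = n4759 := rfl
theorem F3662 : act 1 n4759 = n3617 := d4_1 D4759 (iv D3617) D3616
def n4760 : Q := act 0 n3618
theorem D4760 : act 0 n3618 = n4760 := rfl
theorem F3663 : act 2 n4760 = n3625 := d1_2 (iv F2759) D4760 (iv D3625)
def n4761 : Q := act 3 n3618
theorem D4761 : act 3 n3618 = n4761 := rfl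
theorem F3664 : act 1 n4761 = n3619 := d4_1 D4761 (iv D3619) D3618
def n4763 : Q := act 3 n3621
theorem D4763 : act 3 n3621 = n4763 := rfl
theorem F3666 : act 1 n4763 = n3622 := d4_1 D4763 (iv D3622) D3621
def n4764 : Q := act 2 n3622
theorem D4764 : act 2 n3622 = n4764 := rfl
def n4765 : Q := act 1 n3623
theorem D4765 : act 1 n3623 = n4765 := rfl
theorem F3668 : act 2 n4765 = n3624 := d3_2 D3623 D4765 (iv D3624) (iv D2716) (iv F2029)
def n4766 : Q := act 3 n3623
theorem D4766 : act 3 n3623 = n4766 := rfl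
def n4769 : Q := act 3 n3625
theorem D4769 : act 3 n3625 = n4769 := rfl
theorem F3670 : act 0 n4769 = n3626 := d2_1 D4769 (iv D3626) D3625
def n4770 : Q := act 2 n3626
theorem D4770 : act 2 n3626 = n4770 := rfl
theorem F3671 : act 1 n4770 = n3693 := d3_1 D4770 (iv D3693) F2069 (iv F2033) (iv F2766)
def n4774 : Q := act 0 n3630
theorem D4774 : act 0 n3630 = n4774 := rfl
theorem F3676 : act 2 n4774 = n3632 := d1_2 (iv F2772) D4774 (iv D3632)
def n4775 : Q := act 3 n3630
theorem D4775 : act 3 n3630 = n4775 := rfl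
theorem F3677 : act 1 n4775 = n3631 := d4_1 D4775 (iv D3631) D3630
def n4777 : Q := act 0 n3633
theorem D4777 : act 0 n3633 = n4777 := rfl
theorem F3678 : act 1 n4777 = n3639 := d0_2 D3633 D4777 (iv D3639) (iv D2727) (iv D2012) (iv D1471) (iv F1076) D2008 D2723
def n4778 : Q := act 2 n3633
theorem D4778 : act 2 n3633 = n4778 := rfl
theorem F3679 : act 1 n4778 = n3672 := d3_1 D4778 (iv D3672) (iv D2754) (iv F2036) D3633
def n4779 : Q := act 3 n3633
theorem D4779 : act 3 n3633 = n4779 := rfl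
theorem F3680 : act 1 n4779 = n3634 := d4_1 D4779 (iv D3634) D3633
def n4780 : Q := act 2 n3634
theorem D4780 : act 2 n3634 = n4780 := rfl
def n4781 : Q := act 3 n3635
theorem D4781 : act 3 n3635 = n4781 := rfl
def n4784 : Q := act 3 n3636
theorem D4784 : act 3 n3636 = n4784 := rfl
theorem F3683 : act 1 n4784 = n3637 := d4_1 D4784 (iv D3637) D3636
def n4785 : Q := act 2 n3637
theorem D4785 : act 2 n3637 = n4785 := rfl
theorem F3684 : act 0 n4785 = n3638 := d1_1 D4785 (iv D3638) (iv F2774)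
def n4786 : Q := act 3 n3638
theorem D4786 : act 3 n3638 = n4786 := rfl
theorem F3685 : act 1 n4786 = n4781 := d4_1 D4786 (iv D4781) (iv F2775)
def n4787 : Q := act 2 n3639
theorem D4787 : act 2 n3639 = n4787 := rfl
theorem F3686 : act 0 n4787 = n3640 := d1_1 D4787 (iv D3640) D3639
def n4788 : Q := act 3 n3639
theorem D4788 : act 3 n3639 = n4788 := rfl
theorem F3687 : act 0 n4788 = n3641 := d2_1 D4788 (iv D3641) D3639
theorem F3688 : act 2 n4499 = n4788 := d1_0 F3687 (iv F2778) D4499
def n4789 : Q := act 3 n3640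
theorem D4789 : act 3 n3640 = n4789 := rfl
theorem F3689 : act 1 n4789 = n3644 := d4_1 D4789 (iv D3644) (iv F2776)
def n4790 : Q := act 0 n3642
theorem D4790 : act 0 n3642 = n4790 := rfl
theorem F3690 : act 2 n4790 = n3643 := d1_2 (iv F2779) D4790 (iv D3643)
theorem F3691 : act 3 n4790 = n4497 := d2_2 (iv F2780) D4790 (iv D4497)
def n4791 : Q := act 1 n3643
theorem D4791 : act 1 n3643 = n4791 := rfl
def n4792 : Q := act 2 n3644
theorem D4792 : act 2 n3644 = n4792 := rfl
def n4793 : Q := act 3 n3645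
theorem D4793 : act 3 n3645 = n4793 := rfl
def n4796 : Q := act 1 n3648
theorem D4796 : act 1 n3648 = n4796 := rfl
def n4797 : Q := act 3 n3648
theorem D4797 : act 3 n3648 = n4797 := rfl
theorem F3693 : act 0 n4797 = n3650 := d2_1 D4797 (iv D3650) (iv F2783)
theorem F3694 : act 2 n4797 = n4766 := d6_2 D3648 D4797 (iv D4766) (iv D3623) (iv D2715) F1472 D2018 (iv F2046)
def n4798 : Q := act 0 n3649
theorem D4798 : act 0 n3649 = n4798 := rfl
theorem F3695 : act 2 n4798 = n3651 := d1_2 (iv F2784) D4798 (iv D3651)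
def n4799 : Q := act 3 n3649
theorem D4799 : act 3 n3649 = n4799 := rfl
theorem F3696 : act 1 n4799 = n3650 := d4_1 D4799 (iv D3650) D3649
def n4800 : Q := act 2 n3650
theorem D4800 : act 2 n3650 = n4800 := rfl
theorem F3697 : act 0 n4800 = n4766 := d1_1 D4800 (iv F3694) F3693
theorem F3698 : act 3 n4800 = n4764 := d5_2 D3650 D4800 (iv D4764) (iv D3622) F2028 D2734 D3648 D4797 F3694 (iv D4766) (iv D3623) (iv D2715) F1472 D2018 D2735
def n4805 : Q := act 2 n3653
theorem D4805 : act 2 n3653 = n4805 := rfl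
theorem F3701 : act 0 n4805 = n3654 := d1_1 D4805 (iv D3654) (iv F2785)
def n4806 : Q := act 3 n3654
theorem D4806 : act 3 n3654 = n4806 := rfl
def n4810 : Q := act 2 n3656
theorem D4810 : act 2 n3656 = n4810 := rfl
theorem F3703 : act 0 n4810 = n3657 := d1_1 D4810 (iv D3657) (iv F2786)
def n4811 : Q := act 3 n3657
theorem D4811 : act 3 n3657 = n4811 := rfl
theorem F3704 : act 1 n4811 = n4806 := d4_1 D4811 (iv D4806) (iv F2787)
def n4814 : Q := act 3 n3659
theorem D4814 : act 3 n3659 = n4814 := rfl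
theorem F3707 : act 1 n4814 = n3663 := d4_1 D4814 (iv D3663) (iv F2788)
def n4815 : Q := act 0 n3661
theorem D4815 : act 0 n3661 = n4815 := rfl
theorem F3708 : act 2 n4815 = n3662 := d1_2 (iv F2790) D4815 (iv D3662)
def n4817 : Q := act 2 n3663
theorem D4817 : act 2 n3663 = n4817 := rfl
theorem F3710 : act 0 n4817 = n4792 := d1_1 D4817 (iv D4792) (iv F2792)
def n4818 : Q := act 3 n3664
theorem D4818 : act 3 n3664 = n4818 := rfl
theorem F3711 : act 0 n4818 = n4793 := d2_1 D4818 (iv D4793) (iv F2793)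
def n4819 : Q := act 3 n3665
theorem D4819 : act 3 n3665 = n4819 := rfl
theorem F3712 : act 1 n4819 = n4793 := d4_1 D4819 (iv D4793) (iv F2794)
def n4820 : Q := act 2 n3666
theorem D4820 : act 2 n3666 = n4820 := rfl
theorem F3713 : act 0 n4820 = n3695 := d1_1 D4820 (iv D3695) (iv F2795)
def n4821 : Q := act 1 n3667
theorem D4821 : act 1 n3667 = n4821 := rfl
theorem F3714 : act 2 n4821 = n3668 := d3_2 D3667 D4821 (iv D3668) (iv D2750) (iv F2057)
def n4822 : Q := act 3 n3667
theorem D4822 : act 3 n3667 = n4822 := rfl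
def n4823 : Q := act 0 n3668
theorem D4823 : act 0 n3668 = n4823 := rfl
def n4824 : Q := act 3 n3668
theorem D4824 : act 3 n3668 = n4824 := rfl
theorem F3716 : act 1 n4824 = n3669 := d4_1 D4824 (iv D3669) D3668
def n4827 : Q := act 3 n3672
theorem D4827 : act 3 n3672 = n4827 := rfl
def n4828 : Q := act 1 n3673
theorem D4828 : act 1 n3673 = n4828 := rfl
def n4829 : Q := act 3 n3673
theorem D4829 : act 3 n3673 = n4829 := rfl
theorem F3719 : act 0 n4829 = n3674 := d2_1 D4829 (iv D3674) (iv F2802)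
theorem F3720 : act 2 n4829 = n4781 := d6_2 D3673 D4829 (iv D4781) (iv D3635) (iv D2724) F1477 D2035 (iv F2061)
def n4830 : Q := act 2 n3674
theorem D4830 : act 2 n3674 = n4830 := rfl
theorem F3722 : act 3 n4830 = n4780 := d5_2 D3674 D4830 (iv D4780) (iv D3634) F2036 D2755 D3673 D4829 F3720 (iv D4781) (iv D3635) (iv D2724) F1477 D2035 D2756
def n4834 : Q := act 2 n3677
theorem D4834 : act 2 n3677 = n4834 := rfl
def n4835 : Q := act 1 n3678
theorem D4835 : act 1 n3678 = n4835 := rfl
def n4836 : Q := act 0 n3680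
theorem D4836 : act 0 n3680 = n4836 := rfl
theorem F3727 : act 2 n4836 = n3683 := d1_2 (iv F2807) D4836 (iv D3683)
def n4837 : Q := act 3 n3680
theorem D4837 : act 3 n3680 = n4837 := rfl
theorem F3728 : act 1 n4837 = n3681 := d4_1 D4837 (iv D3681) D3680
def n4839 : Q := act 3 n3683
theorem D4839 : act 3 n3683 = n4839 := rfl
theorem F3730 : act 0 n4839 = n3684 := d2_1 D4839 (iv D3684) D3683
def n4840 : Q := act 2 n3684
theorem D4840 : act 2 n3684 = n4840 := rfl
def n4841 : Q := act 0 n3686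
theorem D4841 : act 0 n3686 = n4841 := rfl
theorem F3731 : act 2 n4841 = n4630 := d1_2 (iv F2811) D4841 (iv D4630)
def n4842 : Q := act 3 n3686
theorem D4842 : act 3 n3686 = n4842 := rfl
theorem F3732 : act 1 n4842 = n3687 := d4_1 D4842 (iv D3687) D3686
def n4843 : Q := act 0 n3688
theorem D4843 : act 0 n3688 = n4843 := rfl
def n4844 : Q := act 3 n3688
theorem D4844 : act 3 n3688 = n4844 := rfl
theorem F3734 : act 1 n4844 = n3689 := d4_1 D4844 (iv D3689) D3688
def n4847 : Q := act 2 n3692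
theorem D4847 : act 2 n3692 = n4847 := rfl
theorem F3737 : act 0 n4847 = n3693 := d1_1 D4847 (iv D3693) (iv F2818)
def n4848 : Q := act 3 n3693
theorem D4848 : act 3 n3693 = n4848 := rfl
def n4850 : Q := act 1 n3695
theorem D4850 : act 1 n3695 = n4850 := rfl
theorem F3738 : act 2 n4850 = n3730 := d3_2 D3695 D4850 (iv D3730) (iv D2796) (iv F2070)
def n4851 : Q := act 3 n3695
theorem D4851 : act 3 n3695 = n4851 := rfl
theorem F3739 : act 2 n4851 = n4822 := d6_2 D3695 D4851 (iv D4822) (iv D3667) (iv D2749) D2748 D3666 F2795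
def n4852 : Q := act 0 n3696
theorem D4852 : act 0 n3696 = n4852 := rfl
theorem F3740 : act 2 n4852 = n3698 := d1_2 (iv F2819) D4852 (iv D3698)
theorem F3741 : act 3 n4664 = n4852 := d6_7 F2819 (iv F2095) F2094 (iv D2664) (iv F1983) D3535 D4664 (iv D4852)
def n4853 : Q := act 3 n3696
theorem D4853 : act 3 n3696 = n4853 := rfl
theorem F3743 : act 1 n4853 = n3697 := d4_1 D4853 (iv D3697) D3696
theorem F3744 : act 2 n4853 = n4663 := d5_1 D4853 (iv D4663) F2689 D3558 (iv F2850) F2851 (iv F3740) (iv F3741) (iv D4664) (iv D3535) F1983 D2664 (iv F2094) F2095 (iv F2819)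
def n4854 : Q := act 2 n3697
theorem D4854 : act 2 n3697 = n4854 := rfl
theorem F3746 : act 3 n4854 = n4820 := d5_2 D3697 D4854 (iv D4820) (iv D3666) (iv D2748) D2749 D3667 D4822 (iv F3739) (iv D4851) (iv D3695) (iv D2770) (iv D2047) D2048 D2771
def n4855 : Q := act 1 n3698
theorem D4855 : act 1 n3698 = n4855 := rfl
def n4856 : Q := act 0 n3699
theorem D4856 : act 0 n3699 = n4856 := rfl
def n4858 : Q := act 3 n3699
theorem D4858 : act 3 n3699 = n4858 := rfl
theorem F3748 : act 1 n4858 = n3700 := d4_1 D4858 (iv D3700) D3699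
def n4859 : Q := act 2 n3700
theorem D4859 : act 2 n3700 = n4859 := rfl
theorem F3749 : act 0 n4859 = n3701 := d1_1 D4859 (iv D3701) (iv F2820)
theorem F3750 : act 3 n4859 = n3723 := d6_1 D4859 (iv D3723) (iv D2791) F1522 F1101 (iv F1515) D2774 (iv F2820)
def n4860 : Q := act 3 n3701
theorem D4860 : act 3 n3701 = n4860 := rfl
theorem F3751 : act 0 n4860 = n3723 := d2_1 D4860 (iv F3750) F3749
theorem F3752 : act 2 n4860 = n3722 := d5_1 D4860 (iv D3722) F2083 F1523 (iv F2071) D3700 D4859 F3750 (iv D3723) (iv D2791) F1522 F1101 (iv F1515) D2774 D3701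
def n4863 : Q := act 1 n3704
theorem D4863 : act 1 n3704 = n4863 := rfl
theorem F3754 : act 2 n4863 = n3716 := d3_2 D3704 D4863 (iv D3716) (iv D2786) (iv F2073)
def n4864 : Q := act 3 n3704
theorem D4864 : act 3 n3704 = n4864 := rfl
theorem F3755 : act 0 n4864 = n3706 := d2_1 D4864 (iv D3706) (iv F2822)
def n4865 : Q := act 2 n3705
theorem D4865 : act 2 n3705 = n4865 := rfl
def n4866 : Q := act 2 n3706
theorem D4866 : act 2 n3706 = n4866 := rfl
def n4867 : Q := act 1 n3707
theorem D4867 : act 1 n3707 = n4867 := rfl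
theorem F3757 : act 2 n4867 = n3708 := d3_2 D3707 D4867 (iv D3708) (iv D2779) (iv F2075)
def n4868 : Q := act 3 n3707
theorem D4868 : act 3 n3707 = n4868 := rfl
def n4869 : Q := act 0 n3708
theorem D4869 : act 0 n3708 = n4869 := rfl
def n4878 : Q := act 1 n3715
theorem D4878 : act 1 n3715 = n4878 := rfl
theorem F3762 : act 2 n4878 = n3747 := d3_2 D3715 D4878 F2857 F2100 (iv F2079)
theorem F3763 : act 3 n4878 = n4835 := d4_2 (iv F2831) D4878 (iv D4835)
def n4879 : Q := act 0 n3716
theorem D4879 : act 0 n3716 = n4879 := rfl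
def n4880 : Q := act 3 n3716
theorem D4880 : act 3 n3716 = n4880 := rfl
theorem F3765 : act 1 n4880 = n3717 := d4_1 D4880 (iv D3717) D3716
def n4881 : Q := act 2 n3717
theorem D4881 : act 2 n3717 = n4881 := rfl
def n4882 : Q := act 1 n3718
theorem D4882 : act 1 n3718 = n4882 := rfl
def n4883 : Q := act 3 n3718
theorem D4883 : act 3 n3718 = n4883 := rfl
theorem F3767 : act 0 n4883 = n3720 := d2_1 D4883 (iv D3720) (iv F2833)
def n4884 : Q := act 1 n3719
theorem D4884 : act 1 n3719 = n4884 := rfl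
theorem F3768 : act 2 n4884 = n3726 := d3_2 D3719 D4884 (iv D3726) (iv D2793) (iv F2082)
def n4885 : Q := act 3 n3719
theorem D4885 : act 3 n3719 = n4885 := rfl
theorem F3769 : act 2 n4885 = n4883 := d6_2 D3719 D4885 (iv D4883) (iv D3718) (iv D2787) D2786 D3717 F2832
def n4886 : Q := act 2 n3720
theorem D4886 : act 2 n3720 = n4886 := rfl
theorem F3771 : act 1 n4886 = n4757 := d3_1 D4886 (iv D4757) F2756 D3615 (iv F2834)
theorem F3772 : act 3 n4886 = n4881 := d5_2 D3720 D4886 (iv D4881) (iv D3717) (iv D2786) D2787 D3718 D4883 (iv F3769) (iv D4885) (iv D3719) (iv D2788) (iv D2060) D2061 D2789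
def n4889 : Q := act 3 n3721
theorem D4889 : act 3 n3721 = n4889 := rfl
theorem F3774 : act 1 n4889 = n3722 := d4_1 D4889 (iv D3722) D3721
def n4890 : Q := act 2 n3724
theorem D4890 : act 2 n3724 = n4890 := rfl
theorem F3775 : act 0 n4890 = n3725 := d1_1 D4890 (iv D3725) D3724
def n4893 : Q := act 2 n3727
theorem D4893 : act 2 n3727 = n4893 := rfl
def n4894 : Q := act 2 n3728
theorem D4894 : act 2 n3728 = n4894 := rfl
theorem F3778 : act 0 n4894 = n3729 := d1_1 D4894 (iv D3729) (iv F2841)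
def n4895 : Q := act 3 n3729
theorem D4895 : act 3 n3729 = n4895 := rfl
theorem F3779 : act 1 n4895 = n4859 := d4_1 D4895 F3750 (iv F2843)
def n4896 : Q := act 0 n3730
theorem D4896 : act 0 n3730 = n4896 := rfl
def n4897 : Q := act 1 n3731
theorem D4897 : act 1 n3731 = n4897 := rfl
def n4900 : Q := act 0 n3733
theorem D4900 : act 0 n3733 = n4900 := rfl
theorem F3781 : act 1 n4900 = n3736 := d0_2 D3733 D4900 (iv D3736) (iv D2801) (iv D2074) (iv D1516) (iv F1108) D2072 D2799
theorem F3782 : act 3 n4688 = n4900 := d4_0 F3781 F2848 D4688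
def n4901 : Q := act 2 n3733
theorem D4901 : act 2 n3733 = n4901 := rfl
def n4902 : Q := act 3 n3733
theorem D4902 : act 3 n3733 = n4902 := rfl
theorem F3783 : act 0 n4902 = n4688 := d2_1 D4902 F3782 (iv D4900)
theorem F3784 : act 1 n4902 = n3734 := d4_1 D4902 (iv D3734) D3733
def n4903 : Q := act 2 n3734
theorem D4903 : act 2 n3734 = n4903 := rfl
theorem F3785 : act 0 n4903 = n3735 := d1_1 D4903 (iv D3735) (iv F2846)
def n4904 : Q := act 3 n3735
theorem D4904 : act 3 n3735 = n4904 := rfl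
theorem F3786 : act 1 n4904 = n4860 := d4_1 D4904 (iv D4860) (iv F2847)
def n4905 : Q := act 2 n3736
theorem D4905 : act 2 n3736 = n4905 := rfl
def n4906 : Q := act 3 n3737
theorem D4906 : act 3 n3737 = n4906 := rfl
def n4907 : Q := act 1 n3738
theorem D4907 : act 1 n3738 = n4907 := rfl
theorem F3789 : act 3 n4907 = n4855 := d4_2 (iv F2851) D4907 (iv D4855)
def n4911 : Q := act 0 n3741
theorem D4911 : act 0 n3741 = n4911 := rfl
theorem F3792 : act 2 n4911 = n3756 := d1_2 (iv F2853) D4911 (iv D3756)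
theorem F3793 : act 3 n4369 = n4911 := d6_7 F2853 F2106 F1980 F1431 (iv F1844) D3307 D4369 (iv D4911)
def n4912 : Q := act 3 n3741
theorem D4912 : act 3 n3741 = n4912 := rfl
theorem F3795 : act 1 n4912 = n3742 := d4_1 D4912 (iv D3742) D3741
theorem F3796 : act 2 n4912 = n4368 := d5_1 D4912 (iv D4368) F2511 (iv F1981) (iv F2685) (iv F2863) (iv F3792) (iv F3793) (iv D4369) (iv D3307) F1844 (iv F1431) (iv F1980) (iv F2106) (iv F2853)
def n4913 : Q := act 2 n3742
theorem D4913 : act 2 n3742 = n4913 := rfl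
def n4915 : Q := act 0 n3744
theorem D4915 : act 0 n3744 = n4915 := rfl
theorem F3798 : act 2 n4915 = n3746 := d1_2 (iv F2855) D4915 (iv D3746)
def n4916 : Q := act 3 n3744
theorem D4916 : act 3 n3744 = n4916 := rfl
theorem F3799 : act 1 n4916 = n3745 := d4_1 D4916 (iv D3745) D3744
def n4917 : Q := act 2 n3745
theorem D4917 : act 2 n3745 = n4917 := rfl
theorem F3801 : act 3 n4917 = n4913 := d5_2 D3745 D4917 (iv D4913) (iv D3742) (iv D2805) (iv F1542) D2666 D3560 D4689 F3606 (iv D3743) (iv D2806) (iv D2079) D2080 D2807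
def n4918 : Q := act 1 n3746
theorem D4918 : act 1 n3746 = n4918 := rfl
def n4919 : Q := act 3 n3746
theorem D4919 : act 3 n3746 = n4919 := rfl
theorem F3802 : act 0 n4919 = n3747 := d2_1 D4919 (iv D3747) D3746
def n4920 : Q := act 0 n3748
theorem D4920 : act 0 n3748 = n4920 := rfl
theorem F3803 : act 2 n4920 = n3823 := d1_2 (iv F2858) D4920 F2914
theorem F3804 : act 3 n4920 = n4869 := d2_2 (iv F2859) D4920 (iv D4869)
def n4923 : Q := act 2 n3750
theorem D4923 : act 2 n3750 = n4923 := rfl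
def n4924 : Q := act 1 n3751
theorem D4924 : act 1 n3751 = n4924 := rfl
def n4925 : Q := act 3 n3751
theorem D4925 : act 3 n3751 = n4925 := rfl
theorem F3807 : act 0 n4925 = n3754 := d2_1 D4925 (iv D3754) (iv F2861)
def n4927 : Q := act 3 n3752
theorem D4927 : act 3 n3752 = n4927 := rfl
theorem F3809 : act 2 n4927 = n4925 := d6_2 D3752 D4927 (iv D4925) (iv D3751) (iv D2812) D2811 D3750 F2860
def n4928 : Q := act 0 n3753
theorem D4928 : act 0 n3753 = n4928 := rfl
theorem F3810 : act 2 n4928 = n3755 := d1_2 (iv F2862) D4928 (iv D3755)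
def n4929 : Q := act 3 n3753
theorem D4929 : act 3 n3753 = n4929 := rfl
theorem F3811 : act 1 n4929 = n3754 := d4_1 D4929 (iv D3754) D3753
def n4930 : Q := act 2 n3754
theorem D4930 : act 2 n3754 = n4930 := rfl
theorem F3812 : act 0 n4930 = n4927 := d1_1 D4930 F3809 F3807
theorem F3813 : act 3 n4930 = n4923 := d5_2 D3754 D4930 (iv D4923) (iv D3750) (iv D2811) D2812 D3751 D4925 (iv F3809) (iv D4927) (iv D3752) (iv D2813) (iv D2084) D2085 D2814
def n4931 : Q := act 1 n3755
theorem D4931 : act 1 n3755 = n4931 := rfl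
theorem F3814 : act 0 n4931 = n4918 := d0_1 D4931 (iv D4918) (iv D3746) (iv D2808) F1545 (iv F1112) (iv F1548) D2815 D3755
def n4932 : Q := act 1 n3756
theorem D4932 : act 1 n3756 = n4932 := rfl
theorem F3815 : act 0 n4932 = n3759 := d0_1 D4932 (iv D3759) (iv D2819) (iv D2091) F1117 (iv F1114) (iv F1550) D2816 D3756
theorem F3816 : act 3 n4932 = n4654 := d4_2 (iv F2863) D4932 (iv D4654)
def n4933 : Q := act 1 n3757
theorem D4933 : act 1 n3757 = n4933 := rfl
theorem F3817 : act 2 n4933 = n4924 := d3_2 D3757 D4933 (iv D4924) (iv D3751) (iv F2107)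
def n4937 : Q := act 3 n3759
theorem D4937 : act 3 n3759 = n4937 := rfl
theorem F3820 : act 0 n4937 = n4654 := d2_1 D4937 (iv F3816) F3815
theorem F3821 : act 1 n4937 = n3760 := d4_1 D4937 (iv D3760) D3759
def n4938 : Q := act 2 n3760
theorem D4938 : act 2 n3760 = n4938 := rfl
def n4939 : Q := act 1 n3761
theorem D4939 : act 1 n3761 = n4939 := rfl
theorem F3823 : act 2 n4939 = n3762 := d3_2 D3761 D4939 (iv D3762) (iv D2821) (iv F2111)
def n4940 : Q := act 3 n3761
theorem D4940 : act 3 n3761 = n4940 := rfl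
def n4941 : Q := act 0 n3762
theorem D4941 : act 0 n3762 = n4941 := rfl
theorem F3824 : act 3 n4941 = n3850 := d2_2 (iv F2867) D4941 (iv D3850)
def n4942 : Q := act 1 n3763
theorem D4942 : act 1 n3763 = n4942 := rfl
def n4943 : Q := act 3 n3763
theorem D4943 : act 3 n3763 = n4943 := rfl
def n4944 : Q := act 2 n3764
theorem D4944 : act 2 n3764 = n4944 := rfl
theorem F3826 : act 1 n4944 = n3849 := d3_1 D4944 (iv D3849) F2169 (iv F2116) (iv F2869)
def n4945 : Q := act 3 n3765
theorem D4945 : act 3 n3765 = n4945 := rfl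
theorem F3827 : act 0 n4945 = n3777 := d2_1 D4945 (iv D3777) (iv F2870)
def n4946 : Q := act 2 n3766
theorem D4946 : act 2 n3766 = n4946 := rfl
theorem F3828 : act 0 n4946 = n3778 := d1_1 D4946 (iv D3778) (iv F2871)
def n4947 : Q := act 1 n3767
theorem D4947 : act 1 n3767 = n4947 := rfl
def n4948 : Q := act 3 n3767
theorem D4948 : act 3 n3767 = n4948 := rfl
theorem F3829 : act 0 n4948 = n3769 := d2_1 D4948 (iv D3769) (iv F2873)
theorem F3830 : act 2 n4948 = n4940 := d6_2 D3767 D4948 (iv D4940) (iv D3761) (iv D2820) F1556 D2095 (iv F2118)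
def n4949 : Q := act 2 n3769
theorem D4949 : act 2 n3769 = n4949 := rfl
theorem F3831 : act 0 n4949 = n4940 := d1_1 D4949 (iv F3830) F3829
theorem F3832 : act 3 n4949 = n4938 := d5_2 D3769 D4949 (iv D4938) (iv D3760) F2110 D2825 D3767 D4948 F3830 (iv D4940) (iv D3761) (iv D2820) F1556 D2095 D2826
def n4950 : Q := act 1 n3770
theorem D4950 : act 1 n3770 = n4950 := rfl
theorem F3833 : act 3 n4950 = n4451 := d4_2 (iv F2875) D4950 (iv D4451)
def n4951 : Q := act 2 n3771
theorem D4951 : act 2 n3771 = n4951 := rfl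
def n4952 : Q := act 2 n3772
theorem D4952 : act 2 n3772 = n4952 := rfl
theorem F3834 : act 0 n4952 = n3773 := d1_1 D4952 (iv D3773) (iv F2876)
def n4953 : Q := act 3 n3773
theorem D4953 : act 3 n3773 = n4953 := rfl
def n4954 : Q := act 0 n3774
theorem D4954 : act 0 n3774 = n4954 := rfl
def n4955 : Q := act 2 n3774
theorem D4955 : act 2 n3774 = n4955 := rfl
theorem F3835 : act 1 n4955 = n3781 := d3_1 D4955 (iv D3781) (iv D2836) (iv F2121) D3774
def n4956 : Q := act 3 n3774
theorem D4956 : act 3 n3774 = n4956 := rfl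
theorem F3836 : act 1 n4956 = n3775 := d4_1 D4956 (iv D3775) D3774
def n4957 : Q := act 2 n3775
theorem D4957 : act 2 n3775 = n4957 := rfl
theorem F3837 : act 0 n4957 = n3776 := d1_1 D4957 (iv D3776) (iv F2877)
theorem F3838 : act 3 n4957 = n4530 := d6_1 D4957 (iv D4530) (iv D3432) F1924 F1390 (iv F1561) D2831 (iv F2877)
def n4958 : Q := act 3 n3776
theorem D4958 : act 3 n3776 = n4958 := rfl
theorem F3839 : act 0 n4958 = n4530 := d2_1 D4958 (iv F3838) F3837
theorem F3840 : act 1 n4958 = n4953 := d4_1 D4958 (iv D4953) (iv F2878)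
theorem F3841 : act 2 n4958 = n4529 := d5_1 D4958 (iv D4529) F2606 F1925 (iv F2121) D3775 D4957 F3838 (iv D4530) (iv D3432) F1924 F1390 (iv F1561) D2831 D3776
def n4959 : Q := act 2 n3777
theorem D4959 : act 2 n3777 = n4959 := rfl
def n4960 : Q := act 1 n3778
theorem D4960 : act 1 n3778 = n4960 := rfl
theorem F3842 : act 2 n4960 = n3779 := d3_2 D3778 D4960 (iv D3779) (iv D2834) (iv F2124)
def n4961 : Q := act 3 n3778
theorem D4961 : act 3 n3778 = n4961 := rfl
def n4962 : Q := act 0 n3779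
theorem D4962 : act 0 n3779 = n4962 := rfl
def n4963 : Q := act 2 n3780
theorem D4963 : act 2 n3780 = n4963 := rfl
theorem F3843 : act 0 n4963 = n3781 := d1_1 D4963 (iv D3781) D3780
def n4964 : Q := act 3 n3781
theorem D4964 : act 3 n3781 = n4964 := rfl
def n4968 : Q := act 0 n3784
theorem D4968 : act 0 n3784 = n4968 := rfl
def n4969 : Q := act 2 n3784
theorem D4969 : act 2 n3784 = n4969 := rfl
def n4970 : Q := act 3 n3784
theorem D4970 : act 3 n3784 = n4970 := rfl
theorem F3847 : act 1 n4970 = n3785 := d4_1 D4970 (iv D3785) D3784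
def n4971 : Q := act 2 n3785
theorem D4971 : act 2 n3785 = n4971 := rfl
def n4972 : Q := act 1 n3786
theorem D4972 : act 1 n3786 = n4972 := rfl
theorem F3849 : act 2 n4972 = n3787 := d3_2 D3786 D4972 (iv D3787) (iv D2841) (iv F2129)
def n4973 : Q := act 3 n3786
theorem D4973 : act 3 n3786 = n4973 := rfl
def n4974 : Q := act 0 n3787
theorem D4974 : act 0 n3787 = n4974 := rfl
theorem F3850 : act 3 n4974 = n4896 := d2_2 (iv F2883) D4974 (iv D4896)
def n4980 : Q := act 3 n3791
theorem D4980 : act 3 n3791 = n4980 := rfl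
theorem F3855 : act 2 n4980 = n4973 := d6_2 D3791 D4980 (iv D4973) (iv D3786) (iv D2840) F1566 D2110 (iv F2132)
def n4981 : Q := act 2 n3792
theorem D4981 : act 2 n3792 = n4981 := rfl
theorem F3857 : act 1 n4981 = n3833 := d3_1 D4981 (iv D3833) F2162 (iv F2139) (iv F2887)
theorem F3858 : act 3 n4981 = n4971 := d5_2 D3792 D4981 (iv D4971) (iv D3785) F2128 D2843 D3791 D4980 F3855 (iv D4973) (iv D3786) (iv D2840) F1566 D2110 D2844
def n4983 : Q := act 3 n3793
theorem D4983 : act 3 n3793 = n4983 := rfl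
theorem F3859 : act 0 n4983 = n3795 := d2_1 D4983 (iv D3795) (iv F2888)
def n4984 : Q := act 2 n3794
theorem D4984 : act 2 n3794 = n4984 := rfl
theorem F3860 : act 0 n4984 = n3796 := d1_1 D4984 (iv D3796) (iv F2889)
def n4985 : Q := act 2 n3795
theorem D4985 : act 2 n3795 = n4985 := rfl
def n4986 : Q := act 3 n3796
theorem D4986 : act 3 n3796 = n4986 := rfl
theorem F3861 : act 1 n4986 = n3841 := d4_1 D4986 (iv F2936) F2935
def n4987 : Q := act 0 n3797
theorem D4987 : act 0 n3797 = n4987 := rfl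
theorem F3862 : act 2 n4987 = n3812 := d1_2 (iv F2891) D4987 (iv D3812)
def n4988 : Q := act 3 n3797
theorem D4988 : act 3 n3797 = n4988 := rfl
theorem F3863 : act 1 n4988 = n3798 := d4_1 D4988 (iv D3798) D3797
def n4989 : Q := act 2 n3798
theorem D4989 : act 2 n3798 = n4989 := rfl
theorem F3864 : act 0 n4989 = n3799 := d1_1 D4989 (iv D3799) (iv F2892)
theorem F3865 : act 3 n4989 = n3836 := d6_1 D4989 (iv D3836) (iv D2881) (iv D2138) F1139 D2115 D2851 (iv F2892)
def n4990 : Q := act 1 n3799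
theorem D4990 : act 1 n3799 = n4990 := rfl
def n4991 : Q := act 3 n3799
theorem D4991 : act 3 n3799 = n4991 := rfl
theorem F3867 : act 2 n4991 = n3835 := d5_1 D4991 (iv D3835) (iv D2880) F1587 D2850 D3798 D4989 F3865 (iv D3836) (iv D2881) (iv D2138) F1139 D2115 D2851 D3799
def n4993 : Q := act 3 n3800
theorem D4993 : act 3 n3800 = n4993 := rfl
theorem F3870 : act 0 n4993 = n3801 := d2_1 D4993 (iv D3801) D3800
def n4994 : Q := act 2 n3801
theorem D4994 : act 2 n3801 = n4994 := rfl
def n4995 : Q := act 1 n3802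
theorem D4995 : act 1 n3802 = n4995 := rfl
def n4996 : Q := act 0 n3803
theorem D4996 : act 0 n3803 = n4996 := rfl
theorem F3871 : act 2 n4996 = n3827 := d1_2 (iv F2896) D4996 (iv D3827)
def n4997 : Q := act 3 n3803
theorem D4997 : act 3 n3803 = n4997 := rfl
theorem F3872 : act 1 n4997 = n3804 := d4_1 D4997 (iv D3804) D3803
def n4999 : Q := act 3 n3805
theorem D4999 : act 3 n3805 = n4999 := rfl
theorem F3874 : act 1 n4999 = n3806 := d4_1 D4999 (iv D3806) D3805
def n5000 : Q := act 1 n3807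
theorem D5000 : act 1 n3807 = n5000 := rfl
def n5001 : Q := act 3 n3807
theorem D5001 : act 3 n3807 = n5001 := rfl
theorem F3875 : act 0 n5001 = n3808 := d2_1 D5001 (iv D3808) D3807
theorem F3876 : act 2 n5001 = n4929 := d6_2 (iv F2900) D5001 (iv D4929) F2862 (iv F2151) F2150 (iv D2859) D2858
def n5002 : Q := act 2 n3808
theorem D5002 : act 2 n3808 = n5002 := rfl
theorem F3877 : act 0 n5002 = n4929 := d1_1 D5002 (iv F3876) F3875
theorem F3878 : act 3 n5002 = n4928 := d5_2 D3808 D5002 F3810 (iv F2916) F2915 (iv D3811) (iv F2900) D5001 F3876 (iv D4929) F2862 (iv F2151) F2150 (iv D2859) (iv F2144)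
def n5003 : Q := act 1 n3809
theorem D5003 : act 1 n3809 = n5003 := rfl
theorem F3879 : act 3 n5003 = n4995 := d4_2 (iv F2903) D5003 (iv D4995)
def n5005 : Q := act 3 n3810
theorem D5005 : act 3 n3810 = n5005 := rfl
theorem F3880 : act 1 n5005 = n3811 := d4_1 D5005 (iv D3811) D3810
def n5007 : Q := act 3 n3812
theorem D5007 : act 3 n3812 = n5007 := rfl
theorem F3881 : act 0 n5007 = n3813 := d2_1 D5007 (iv D3813) D3812
def n5008 : Q := act 2 n3813
theorem D5008 : act 2 n3813 = n5008 := rfl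
def n5014 : Q := act 1 n3819
theorem D5014 : act 1 n3819 = n5014 := rfl
def n5015 : Q := act 3 n3819
theorem D5015 : act 3 n3819 = n5015 := rfl
theorem F3884 : act 0 n5015 = n3820 := d2_1 D5015 (iv D3820) D3819
def n5016 : Q := act 2 n3820
theorem D5016 : act 2 n3820 = n5016 := rfl
def n5020 : Q := act 1 n3824
theorem D5020 : act 1 n3824 = n5020 := rfl
theorem F3889 : act 3 n5020 = n4931 := d4_2 (iv F2916) D5020 (iv D4931)
def n5021 : Q := act 2 n3825
theorem D5021 : act 2 n3825 = n5021 := rfl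
def n5022 : Q := act 3 n3826
theorem D5022 : act 3 n3826 = n5022 := rfl
theorem F3891 : act 1 n5022 = n4467 := d4_1 D5022 (iv F3466) F3465
def n5023 : Q := act 1 n3827
theorem D5023 : act 1 n3827 = n5023 := rfl
theorem F3892 : act 0 n5023 = n4511 := d0_1 D5023 F3470 F2600 F1916 (iv F1383) F1384 (iv F1583) D2872 D3827
theorem F3893 : act 3 n4509 = n5023 := d2_0 F3892 (iv D4511) D4509
def n5024 : Q := act 3 n3827
theorem D5024 : act 3 n3827 = n5024 := rfl
theorem F3894 : act 0 n5024 = n3828 := d2_1 D5024 (iv D3828) D3827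
theorem F3895 : act 1 n5024 = n4509 := d4_1 D5024 F3893 (iv D5023)
def n5025 : Q := act 2 n3828
theorem D5025 : act 2 n3828 = n5025 := rfl
def n5026 : Q := act 1 n3829
theorem D5026 : act 1 n3829 = n5026 := rfl
def n5027 : Q := act 3 n3829
theorem D5027 : act 3 n3829 = n5027 := rfl
theorem F3896 : act 0 n5027 = n3830 := d2_1 D5027 (iv D3830) D3829
def n5028 : Q := act 2 n3830
theorem D5028 : act 2 n3830 = n5028 := rfl
theorem F3897 : act 1 n5028 = n5025 := d3_1 D5028 (iv D5025) F2919 (iv F2157) (iv F2921)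
def n5029 : Q := act 1 n3831
theorem D5029 : act 1 n3831 = n5029 := rfl
def n5030 : Q := act 3 n3831
theorem D5030 : act 3 n3831 = n5030 := rfl
theorem F3898 : act 0 n5030 = n3832 := d2_1 D5030 (iv D3832) (iv F2922)
def n5031 : Q := act 2 n3832
theorem D5031 : act 2 n3832 = n5031 := rfl
def n5032 : Q := act 3 n3833
theorem D5032 : act 3 n3833 = n5032 := rfl
theorem F3899 : act 1 n5032 = n4971 := d4_1 D5032 (iv F3858) F3857
def n5033 : Q := act 0 n3834
theorem D5033 : act 0 n3834 = n5033 := rfl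
def n5034 : Q := act 3 n3834
theorem D5034 : act 3 n3834 = n5034 := rfl
theorem F3901 : act 1 n5034 = n3835 := d4_1 D5034 (iv D3835) D3834
def n5036 : Q := act 0 n3837
theorem D5036 : act 0 n3837 = n5036 := rfl
theorem F3902 : act 1 n5036 = n3922 := d0_2 D3837 D5036 (iv D3922) (iv D2947) (iv D2193) (iv D1602) (iv F1140) D2139 D2882
def n5039 : Q := act 3 n3838
theorem D5039 : act 3 n3838 = n5039 := rfl
theorem F3904 : act 0 n5039 = n3840 := d2_1 D5039 (iv D3840) D3838
theorem F3905 : act 1 n5039 = n3928 := d4_1 D5039 (iv D3928) (iv F2926)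
def n5041 : Q := act 2 n3840
theorem D5041 : act 2 n3840 = n5041 := rfl
def n5042 : Q := act 0 n3844
theorem D5042 : act 0 n3844 = n5042 := rfl
theorem F3907 : act 2 n5042 = n4514 := d1_2 (iv F2931) D5042 (iv D4514)
def n5043 : Q := act 3 n3844
theorem D5043 : act 3 n3844 = n5043 := rfl
theorem F3908 : act 1 n5043 = n3845 := d4_1 D5043 (iv D3845) D3844
def n5044 : Q := act 2 n3847
theorem D5044 : act 2 n3847 = n5044 := rfl
theorem F3909 : act 0 n5044 = n3936 := d1_1 D5044 (iv D3936) (iv F2937)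
theorem F3910 : act 1 n5044 = n4951 := d3_1 D5044 (iv D4951) (iv D3771) (iv F2168) D3847
def n5045 : Q := act 3 n3847
theorem D5045 : act 3 n3847 = n5045 := rfl
def n5047 : Q := act 3 n3849
theorem D5047 : act 3 n3849 = n5047 := rfl
def n5048 : Q := act 1 n3850
theorem D5048 : act 1 n3850 = n5048 := rfl
def n5052 : Q := act 2 n3852
theorem D5052 : act 2 n3852 = n5052 := rfl
theorem F3916 : act 0 n5052 = n3853 := d1_1 D5052 (iv D3853) (iv F2940)
def n5053 : Q := act 3 n3853
theorem D5053 : act 3 n3853 = n5053 := rfl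
theorem F3917 : act 1 n5053 = n4643 := d4_1 D5053 (iv D4643) (iv F2941)
def n5054 : Q := act 2 n3854
theorem D5054 : act 2 n3854 = n5054 := rfl
theorem F3918 : act 0 n5054 = n3855 := d1_1 D5054 (iv D3855) D3854
def n5055 : Q := act 3 n3854
theorem D5055 : act 3 n3854 = n5055 := rfl
def n5056 : Q := act 3 n3855
theorem D5056 : act 3 n3855 = n5056 := rfl
theorem F3920 : act 1 n5056 = n3863 := d4_1 D5056 (iv D3863) (iv F2942)
def n5057 : Q := act 2 n3856
theorem D5057 : act 2 n3856 = n5057 := rfl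
def n5058 : Q := act 0 n3858
theorem D5058 : act 0 n3858 = n5058 := rfl
theorem F3921 : act 2 n5058 = n3860 := d1_2 (iv F2945) D5058 (iv D3860)
def n5059 : Q := act 3 n3858
theorem D5059 : act 3 n3858 = n5059 := rfl
theorem F3922 : act 1 n5059 = n3859 := d4_1 D5059 (iv D3859) D3858
def n5060 : Q := act 1 n3860
theorem D5060 : act 1 n3860 = n5060 := rfl
theorem F3923 : act 3 n5060 = n4638 := d4_2 (iv F2946) D5060 (iv D4638)
def n5061 : Q := act 1 n3861
theorem D5061 : act 1 n3861 = n5061 := rfl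
theorem F3924 : act 2 n5061 = n3868 := d3_2 D3861 D5061 (iv D3868) (iv D2903) (iv F2175)
def n5062 : Q := act 3 n3861
theorem D5062 : act 3 n3861 = n5062 := rfl
theorem F3925 : act 0 n5062 = n3863 := d2_1 D5062 (iv D3863) (iv F2947)
def n5063 : Q := act 2 n3862
theorem D5063 : act 2 n3862 = n5063 := rfl
theorem F3926 : act 0 n5063 = n3864 := d1_1 D5063 (iv D3864) (iv F2948)
def n5064 : Q := act 2 n3863
theorem D5064 : act 2 n3863 = n5064 := rfl
def n5065 : Q := act 1 n3864
theorem D5065 : act 1 n3864 = n5065 := rfl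
theorem F3927 : act 2 n5065 = n3865 := d3_2 D3864 D5065 (iv D3865) (iv D2901) (iv F2176)
def n5066 : Q := act 3 n3864
theorem D5066 : act 3 n3864 = n5066 := rfl
def n5067 : Q := act 0 n3865
theorem D5067 : act 0 n3865 = n5067 := rfl
def n5068 : Q := act 3 n3865
theorem D5068 : act 3 n3865 = n5068 := rfl
theorem F3928 : act 1 n5068 = n3866 := d4_1 D5068 (iv D3866) D3865
def n5069 : Q := act 0 n3868
theorem D5069 : act 0 n3868 = n5069 := rfl
def n5070 : Q := act 3 n3868
theorem D5070 : act 3 n3868 = n5070 := rfl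
theorem F3929 : act 1 n5070 = n3869 := d4_1 D5070 (iv D3869) D3868
def n5071 : Q := act 2 n3869
theorem D5071 : act 2 n3869 = n5071 := rfl
theorem F3930 : act 0 n5071 = n3871 := d1_1 D5071 (iv D3871) (iv F2955)
def n5072 : Q := act 1 n3870
theorem D5072 : act 1 n3870 = n5072 := rfl
def n5073 : Q := act 3 n3870
theorem D5073 : act 3 n3870 = n5073 := rfl
def n5074 : Q := act 1 n3871
theorem D5074 : act 1 n3871 = n5074 := rfl
theorem F3932 : act 2 n5074 = n3876 := d3_2 D3871 D5074 (iv D3876) (iv D2909) (iv F2181)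
def n5075 : Q := act 3 n3871
theorem D5075 : act 3 n3871 = n5075 := rfl
theorem F3933 : act 2 n5075 = n5073 := d6_2 D3871 D5075 (iv D5073) (iv D3870) (iv D2904) D2903 D3869 F2955
def n5076 : Q := act 2 n3872
theorem D5076 : act 2 n3872 = n5076 := rfl
theorem F3935 : act 1 n5076 = n3930 := d3_1 D5076 (iv D3930) F2219 D2953 (iv F2957)
theorem F3936 : act 3 n5076 = n5071 := d5_2 D3872 D5076 (iv D5071) (iv D3869) (iv D2903) D2904 D3870 D5073 (iv F3933) (iv D5075) (iv D3871) (iv D2905) (iv D2157) D2158 D2906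
def n5077 : Q := act 1 n3873
theorem D5077 : act 1 n3873 = n5077 := rfl
def n5080 : Q := act 1 n3875
theorem D5080 : act 1 n3875 = n5080 := rfl
theorem F3938 : act 3 n5080 = n3921 := d4_2 (iv F2961) D5080 (iv D3921)
def n5081 : Q := act 0 n3876
theorem D5081 : act 0 n3876 = n5081 := rfl
def n5082 : Q := act 3 n3876
theorem D5082 : act 3 n3876 = n5082 := rfl
theorem F3939 : act 1 n5082 = n3877 := d4_1 D5082 (iv D3877) D3876
def n5088 : Q := act 1 n3882
theorem D5088 : act 1 n3882 = n5088 := rfl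
def n5090 : Q := act 2 n3883
theorem D5090 : act 2 n3883 = n5090 := rfl
def n5093 : Q := act 2 n3885
theorem D5093 : act 2 n3885 = n5093 := rfl
theorem F3946 : act 1 n5093 = n5090 := d3_1 D5093 (iv D5090) F2967 (iv F2190) (iv F2969)
def n5094 : Q := act 0 n3886
theorem D5094 : act 0 n3886 = n5094 := rfl
def n5096 : Q := act 3 n3886
theorem D5096 : act 3 n3886 = n5096 := rfl
theorem F3948 : act 1 n5096 = n3887 := d4_1 D5096 (iv D3887) D3886
theorem F3949 : act 2 n4684 = n5096 := d3_0 F3948 F2971 F2707 D3555 D4684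
def n5100 : Q := act 2 n3891
theorem D5100 : act 2 n3891 = n5100 := rfl
def n5101 : Q := act 2 n3892
theorem D5101 : act 2 n3892 = n5101 := rfl
def n5104 : Q := act 1 n3894
theorem D5104 : act 1 n3894 = n5104 := rfl
theorem F3955 : act 2 n5104 = n3895 := d3_2 D3894 D5104 (iv D3895) (iv D2924) (iv F2196)
def n5106 : Q := act 0 n3895
theorem D5106 : act 0 n3895 = n5106 := rfl
def n5108 : Q := act 3 n3896
theorem D5108 : act 3 n3896 = n5108 := rfl
theorem F3956 : act 0 n5108 = n3897 := d2_1 D5108 (iv D3897) D3896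
def n5109 : Q := act 2 n3897
theorem D5109 : act 2 n3897 = n5109 := rfl
def n5116 : Q := act 1 n3902
theorem D5116 : act 1 n3902 = n5116 := rfl
theorem F3961 : act 2 n5116 = n3903 := d3_2 D3902 D5116 (iv D3903) (iv D2931) (iv F2201)
def n5117 : Q := act 0 n3903
theorem D5117 : act 0 n3903 = n5117 := rfl
theorem F3962 : act 3 n5117 = n5106 := d2_2 (iv F2980) D5117 (iv D5106)
def n5119 : Q := act 2 n3905
theorem D5119 : act 2 n3905 = n5119 := rfl
theorem F3964 : act 0 n5119 = n5100 := d1_1 D5119 (iv D5100) (iv F2982)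
def n5120 : Q := act 2 n3906
theorem D5120 : act 2 n3906 = n5120 := rfl
def n5124 : Q := act 2 n3909
theorem D5124 : act 2 n3909 = n5124 := rfl
theorem F3971 : act 0 n5124 = n4332 := d1_1 D5124 (iv D4332) (iv F2987)
def n5125 : Q := act 2 n3910
theorem D5125 : act 2 n3910 = n5125 := rfl
theorem F3972 : act 0 n5125 = n3911 := d1_1 D5125 (iv D3911) (iv F2989)
def n5126 : Q := act 3 n3911
theorem D5126 : act 3 n3911 = n5126 := rfl
def n5127 : Q := act 0 n3912
theorem D5127 : act 0 n3912 = n5127 := rfl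
def n5128 : Q := act 2 n3912
theorem D5128 : act 2 n3912 = n5128 := rfl
theorem F3973 : act 1 n5128 = n3923 := d3_1 D5128 (iv D3923) (iv D2947) (iv F2210) D3912
def n5129 : Q := act 3 n3912
theorem D5129 : act 3 n3912 = n5129 := rfl
theorem F3974 : act 1 n5129 = n3913 := d4_1 D5129 (iv D3913) D3912
def n5130 : Q := act 2 n3913
theorem D5130 : act 2 n3913 = n5130 := rfl
def n5131 : Q := act 3 n3914
theorem D5131 : act 3 n3914 = n5131 := rfl
theorem F3976 : act 1 n5131 = n5126 := d4_1 D5131 (iv D5126) (iv F2992)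
def n5132 : Q := act 0 n3915
theorem D5132 : act 0 n3915 = n5132 := rfl
def n5133 : Q := act 3 n3915
theorem D5133 : act 3 n3915 = n5133 := rfl
theorem F3977 : act 1 n5133 = n3916 := d4_1 D5133 (iv D3916) D3915
def n5134 : Q := act 2 n3916
theorem D5134 : act 2 n3916 = n5134 := rfl
def n5135 : Q := act 1 n3917
theorem D5135 : act 1 n3917 = n5135 := rfl
theorem F3979 : act 2 n5135 = n3921 := d3_2 D3917 D5135 (iv D3921) (iv D2946) (iv F2213)
def n5136 : Q := act 3 n3917
theorem D5136 : act 3 n3917 = n5136 := rfl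
theorem F3980 : act 2 n5136 = n4326 := d6_2 D3917 D5136 (iv D4326) (iv D3270) (iv F1829) D2941 D3916 F2993
def n5137 : Q := act 2 n3918
theorem D5137 : act 2 n3918 = n5137 := rfl
theorem F3981 : act 0 n5137 = n5136 := d1_1 D5137 F3980 F3320
theorem F3982 : act 1 n5137 = n5057 := d3_1 D5137 (iv D5057) F2943 D3857 (iv F2994)
theorem F3983 : act 3 n5137 = n5134 := d5_2 D3918 D5137 (iv D5134) (iv D3916) (iv D2941) F1829 D3270 D4326 (iv F3980) (iv D5136) (iv D3917) (iv D2942) (iv D2189) D2190 D2943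
def n5138 : Q := act 1 n3919
theorem D5138 : act 1 n3919 = n5138 := rfl
def n5139 : Q := act 3 n3919
theorem D5139 : act 3 n3919 = n5139 := rfl
theorem F3984 : act 0 n5139 = n3920 := d2_1 D5139 (iv D3920) D3919
def n5140 : Q := act 2 n3920
theorem D5140 : act 2 n3920 = n5140 := rfl
def n5141 : Q := act 0 n3921
theorem D5141 : act 0 n3921 = n5141 := rfl
def n5146 : Q := act 1 n3925
theorem D5146 : act 1 n3925 = n5146 := rfl
def n5147 : Q := act 3 n3925
theorem D5147 : act 3 n3925 = n5147 := rfl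
theorem F3988 : act 2 n5147 = n5131 := d6_2 D3925 D5147 (iv D5131) (iv D3914) (iv D2940) F1626 D2194 (iv F2216)
def n5148 : Q := act 2 n3926
theorem D5148 : act 2 n3926 = n5148 := rfl
theorem F3990 : act 3 n5148 = n5130 := d5_2 D3926 D5148 (iv D5130) (iv D3913) F2210 D2948 D3925 D5147 F3988 (iv D5131) (iv D3914) (iv D2940) F1626 D2194 D2949
def n5149 : Q := act 1 n3927
theorem D5149 : act 1 n3927 = n5149 := rfl
def n5150 : Q := act 3 n3927
theorem D5150 : act 3 n3927 = n5150 := rfl
theorem F3991 : act 0 n5150 = n3929 := d2_1 D5150 (iv D3929) (iv F3000)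
def n5151 : Q := act 2 n3928
theorem D5151 : act 2 n3928 = n5151 := rfl
theorem F3992 : act 0 n5151 = n3930 := d1_1 D5151 (iv D3930) (iv F3001)
def n5152 : Q := act 2 n3929
theorem D5152 : act 2 n3929 = n5152 := rfl
def n5153 : Q := act 3 n3930
theorem D5153 : act 3 n3930 = n5153 := rfl
theorem F3993 : act 1 n5153 = n5071 := d4_1 D5153 (iv F3936) F3935
def n5156 : Q := act 2 n3932
theorem D5156 : act 2 n3932 = n5156 := rfl
def n5159 : Q := act 1 n3934
theorem D5159 : act 1 n3934 = n5159 := rfl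
theorem F3997 : act 0 n5159 = n5068 := d0_1 D5159 F3928 F2950 F2178 F1609 (iv F1177) (iv F1638) D2958 D3934
theorem F3998 : act 3 n5067 = n5159 := d2_0 F3997 (iv D5068) D5067
def n5160 : Q := act 3 n3934
theorem D5160 : act 3 n3934 = n5160 := rfl
theorem F3999 : act 0 n5160 = n3935 := d2_1 D5160 (iv D3935) D3934
theorem F4000 : act 1 n5160 = n5067 := d4_1 D5160 F3998 (iv D5159)
def n5161 : Q := act 2 n3935
theorem D5161 : act 2 n3935 = n5161 := rfl
theorem F4001 : act 1 n5161 = n5156 := d3_1 D5161 (iv D5156) F3004 (iv F2226) (iv F3007)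
def n5162 : Q := act 3 n3936
theorem D5162 : act 3 n3936 = n5162 := rfl
def n5163 : Q := act 2 n3937
theorem D5163 : act 2 n3937 = n5163 := rfl
def n5164 : Q := act 1 n3938
theorem D5164 : act 1 n3938 = n5164 := rfl
def n5165 : Q := act 0 n3940
theorem D5165 : act 0 n3940 = n5165 := rfl
def n5169 : Q := act 1 n3943
theorem D5169 : act 1 n3943 = n5169 := rfl
def n5170 : Q := act 3 n3943
theorem D5170 : act 3 n3943 = n5170 := rfl
theorem F4005 : act 0 n5170 = n3944 := d2_1 D5170 (iv D3944) D3943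
def n5172 : Q := act 0 n3945
theorem D5172 : act 0 n3945 = n5172 := rfl
def n5173 : Q := act 2 n3945
theorem D5173 : act 2 n3945 = n5173 := rfl
def n5174 : Q := act 2 n3946
theorem D5174 : act 2 n3946 = n5174 := rfl
theorem F4007 : act 0 n5174 = n3947 := d1_1 D5174 (iv D3947) D3946
def n5175 : Q := act 3 n3946
theorem D5175 : act 3 n3946 = n5175 := rfl
theorem F4008 : act 0 n5175 = n3948 := d2_1 D5175 (iv D3948) D3946
def n5176 : Q := act 3 n3947
theorem D5176 : act 3 n3947 = n5176 := rfl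
def n5177 : Q := act 2 n3948
theorem D5177 : act 2 n3948 = n5177 := rfl
def n5181 : Q := act 0 n3953
theorem D5181 : act 0 n3953 = n5181 := rfl
theorem F4012 : act 2 n5181 = n3968 := d1_2 (iv F3023) D5181 (iv D3968)
def n5182 : Q := act 3 n3953
theorem D5182 : act 3 n3953 = n5182 := rfl
theorem F4013 : act 1 n5182 = n3954 := d4_1 D5182 (iv D3954) D3953
def n5183 : Q := act 2 n3954
theorem D5183 : act 2 n3954 = n5183 := rfl
def n5184 : Q := act 1 n3955
theorem D5184 : act 1 n3955 = n5184 := rfl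
theorem F4015 : act 2 n5184 = n3971 := d3_2 D3955 D5184 (iv D3971) (iv D2987) (iv F2238)
def n5185 : Q := act 3 n3955
theorem D5185 : act 3 n3955 = n5185 := rfl
theorem F4016 : act 0 n5185 = n3958 := d2_1 D5185 (iv D3958) (iv F3025)
def n5186 : Q := act 1 n3956
theorem D5186 : act 1 n3956 = n5186 := rfl
theorem F4017 : act 2 n5186 = n4068 := d3_2 D3956 D5186 (iv D4068) (iv D3063) (iv F2239)
def n5187 : Q := act 3 n3956
theorem D5187 : act 3 n3956 = n5187 := rfl
theorem F4018 : act 2 n5187 = n5185 := d6_2 D3956 D5187 (iv D5185) (iv D3955) (iv D2975) D2974 D3954 F3024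
def n5188 : Q := act 0 n3957
theorem D5188 : act 0 n3957 = n5188 := rfl
theorem F4019 : act 2 n5188 = n3959 := d1_2 (iv F3026) D5188 (iv D3959)
theorem F4020 : act 3 n4269 = n5188 := d6_7 F3026 (iv F2312) F2311 (iv D2406) (iv F1799) D3220 D4269 (iv D5188)
def n5189 : Q := act 3 n3957
theorem D5189 : act 3 n3957 = n5189 := rfl
theorem F4021 : act 0 n5189 = n4269 := d2_1 D5189 F4020 (iv D5188)
theorem F4022 : act 1 n5189 = n3958 := d4_1 D5189 (iv D3958) D3957
theorem F4023 : act 2 n5189 = n4268 := d5_1 D5189 (iv D4268) F2438 D3223 (iv F3113) F3114 (iv F4019) (iv F4020) (iv D4269) (iv D3220) F1799 D2406 (iv F2311) F2312 (iv F3026)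
def n5190 : Q := act 2 n3958
theorem D5190 : act 2 n3958 = n5190 := rfl
theorem F4025 : act 3 n5190 = n5183 := d5_2 D3958 D5190 (iv D5183) (iv D3954) (iv D2974) D2975 D3955 D5185 (iv F4018) (iv D5187) (iv D3956) (iv D2976) (iv D2212) D2213 D2977
def n5191 : Q := act 1 n3959
theorem D5191 : act 1 n3959 = n5191 := rfl
def n5195 : Q := act 1 n3962
theorem D5195 : act 1 n3962 = n5195 := rfl
def n5199 : Q := act 0 n3964
theorem D5199 : act 0 n3964 = n5199 := rfl
theorem F4031 : act 2 n5199 = n3966 := d1_2 (iv F3029) D5199 (iv D3966)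
def n5200 : Q := act 3 n3964
theorem D5200 : act 3 n3964 = n5200 := rfl
theorem F4032 : act 1 n5200 = n3965 := d4_1 D5200 (iv D3965) D3964
def n5201 : Q := act 2 n3965
theorem D5201 : act 2 n3965 = n5201 := rfl
def n5202 : Q := act 1 n3966
theorem D5202 : act 1 n3966 = n5202 := rfl
theorem F4035 : act 0 n5202 = n5191 := d0_1 D5202 (iv D5191) (iv D3959) (iv D2978) F1650 (iv F1188) (iv F1653) D2983 D3966
def n5203 : Q := act 3 n3966
theorem D5203 : act 3 n3966 = n5203 := rfl
theorem F4036 : act 0 n5203 = n3967 := d2_1 D5203 (iv D3967) D3966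
theorem F4037 : act 2 n4074 = n5203 := d1_0 F4036 (iv F3031) (iv F3112)
def n5204 : Q := act 1 n3968
theorem D5204 : act 1 n3968 = n5204 := rfl
theorem F4038 : act 0 n5204 = n3981 := d0_1 D5204 (iv D3981) (iv D2995) (iv D2228) F1194 (iv F1189) (iv F1655) D2985 D3968
def n5205 : Q := act 3 n3968
theorem D5205 : act 3 n3968 = n5205 := rfl
theorem F4039 : act 0 n5205 = n3969 := d2_1 D5205 (iv D3969) D3968
def n5206 : Q := act 2 n3969
theorem D5206 : act 2 n3969 = n5206 := rfl
def n5207 : Q := act 0 n3971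
theorem D5207 : act 0 n3971 = n5207 := rfl
def n5208 : Q := act 3 n3971
theorem D5208 : act 3 n3971 = n5208 := rfl
theorem F4040 : act 1 n5208 = n3972 := d4_1 D5208 (iv D3972) D3971
def n5211 : Q := act 2 n3976
theorem D5211 : act 2 n3976 = n5211 := rfl
theorem F4043 : act 0 n5211 = n3977 := d1_1 D5211 (iv D3977) D3976
def n5212 : Q := act 3 n3977
theorem D5212 : act 3 n3977 = n5212 := rfl
theorem F4044 : act 1 n5212 = n3980 := d4_1 D5212 (iv D3980) (iv F3040)
def n5213 : Q := act 2 n3978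
theorem D5213 : act 2 n3978 = n5213 := rfl
def n5214 : Q := act 1 n3979
theorem D5214 : act 1 n3979 = n5214 := rfl
theorem F4045 : act 2 n5214 = n5195 := d3_2 D3979 D5214 (iv D5195) (iv D3962) (iv F2249)
def n5215 : Q := act 3 n3979
theorem D5215 : act 3 n3979 = n5215 := rfl
theorem F4046 : act 0 n5215 = n3980 := d2_1 D5215 (iv D3980) (iv F3042)
def n5217 : Q := act 2 n3981
theorem D5217 : act 2 n3981 = n5217 := rfl
theorem F4047 : act 1 n5217 = n3994 := d3_1 D5217 (iv D3994) (iv D3006) (iv F2251) D3981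
def n5218 : Q := act 3 n3981
theorem D5218 : act 3 n3981 = n5218 := rfl
theorem F4048 : act 1 n5218 = n3982 := d4_1 D5218 (iv D3982) D3981
def n5219 : Q := act 2 n3982
theorem D5219 : act 2 n3982 = n5219 := rfl
def n5221 : Q := act 3 n3983
theorem D5221 : act 3 n3983 = n5221 := rfl
def n5223 : Q := act 1 n3985
theorem D5223 : act 1 n3985 = n5223 := rfl
def n5225 : Q := act 2 n3986
theorem D5225 : act 2 n3986 = n5225 := rfl
def n5228 : Q := act 2 n3988
theorem D5228 : act 2 n3988 = n5228 := rfl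
theorem F4053 : act 1 n5228 = n5225 := d3_1 D5228 (iv D5225) F3045 (iv F2256) (iv F3046)
def n5229 : Q := act 0 n3989
theorem D5229 : act 0 n3989 = n5229 := rfl
def n5230 : Q := act 3 n3989
theorem D5230 : act 3 n3989 = n5230 := rfl
theorem F4054 : act 1 n5230 = n3990 := d4_1 D5230 (iv D3990) D3989
def n5231 : Q := act 2 n3990
theorem D5231 : act 2 n3990 = n5231 := rfl
def n5233 : Q := act 3 n3991
theorem D5233 : act 3 n3991 = n5233 := rfl
theorem F4057 : act 2 n5233 = n4426 := d6_2 D3991 D5233 (iv D4426) (iv D3352) (iv F1869) (iv F2257) D3990 F3047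
def n5235 : Q := act 2 n3993
theorem D5235 : act 2 n3993 = n5235 := rfl
theorem F4060 : act 1 n5235 = n5177 := d3_1 D5235 (iv D5177) F3017 D3949 (iv F3049)
theorem F4061 : act 3 n5235 = n5231 := d5_2 D3993 D5235 (iv D5231) (iv D3990) F2257 F1869 D3352 D4426 (iv F4057) (iv D5233) (iv D3991) (iv D3003) F1664 D2235 D3005
def n5236 : Q := act 3 n3994
theorem D5236 : act 3 n3994 = n5236 := rfl
theorem F4062 : act 0 n5236 = n4004 := d2_1 D5236 (iv D4004) (iv F3050)
def n5239 : Q := act 3 n3996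
theorem D5239 : act 3 n3996 = n5239 := rfl
theorem F4065 : act 2 n5239 = n5221 := d6_2 D3996 D5239 (iv D5221) (iv D3983) (iv D2996) F1661 D2237 (iv F2263)
def n5240 : Q := act 2 n3997
theorem D5240 : act 2 n3997 = n5240 := rfl
theorem F4067 : act 1 n5240 = n4405 := d3_1 D5240 (iv D4405) F2532 D3335 (iv F3054)
theorem F4068 : act 3 n5240 = n5219 := d5_2 D3997 D5240 (iv D5219) (iv D3982) F2251 D3007 D3996 D5239 F4065 (iv D5221) (iv D3983) (iv D2996) F1661 D2237 D3008
def n5241 : Q := act 2 n3998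
theorem D5241 : act 2 n3998 = n5241 := rfl
theorem F4069 : act 0 n5241 = n4412 := d1_1 D5241 (iv D4412) (iv F3055)
def n5242 : Q := act 2 n3999
theorem D5242 : act 2 n3999 = n5242 := rfl
theorem F4070 : act 0 n5242 = n4000 := d1_1 D5242 (iv D4000) (iv F3057)
def n5249 : Q := act 2 n4004
theorem D5249 : act 2 n4004 = n5249 := rfl
def n5255 : Q := act 2 n4008
theorem D5255 : act 2 n4008 = n5255 := rfl
def n5262 : Q := act 1 n4013
theorem D5262 : act 1 n4013 = n5262 := rfl
def n5263 : Q := act 3 n4013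
theorem D5263 : act 3 n4013 = n5263 := rfl
theorem F4082 : act 0 n5263 = n4014 := d2_1 D5263 (iv D4014) (iv F3066)
def n5267 : Q := act 0 n4016
theorem D5267 : act 0 n4016 = n5267 := rfl
theorem F4089 : act 2 n5267 = n4018 := d1_2 (iv F3069) D5267 (iv D4018)
def n5275 : Q := act 1 n4024
theorem D5275 : act 1 n4024 = n5275 := rfl
theorem F4094 : act 2 n5275 = n4035 := d3_2 D4024 D5275 (iv D4035) (iv D3038) (iv F2279)
def n5276 : Q := act 3 n4024
theorem D5276 : act 3 n4024 = n5276 := rfl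
theorem F4095 : act 0 n5276 = n4026 := d2_1 D5276 (iv D4026) (iv F3073)
def n5277 : Q := act 2 n4025
theorem D5277 : act 2 n4025 = n5277 := rfl
def n5278 : Q := act 2 n4026
theorem D5278 : act 2 n4026 = n5278 := rfl
def n5279 : Q := act 1 n4027
theorem D5279 : act 1 n4027 = n5279 := rfl
theorem F4097 : act 2 n5279 = n4028 := d3_2 D4027 D5279 (iv D4028) (iv D3031) (iv F2281)
def n5280 : Q := act 3 n4027
theorem D5280 : act 3 n4027 = n5280 := rfl
def n5281 : Q := act 0 n4028
theorem D5281 : act 0 n4028 = n5281 := rfl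
def n5283 : Q := act 3 n4029
theorem D5283 : act 3 n4029 = n5283 := rfl
theorem F4098 : act 0 n5283 = n4031 := d2_1 D5283 (iv D4031) (iv F3077)
def n5284 : Q := act 2 n4030
theorem D5284 : act 2 n4030 = n5284 := rfl
theorem F4099 : act 0 n5284 = n4032 := d1_1 D5284 (iv D4032) (iv F3078)
def n5285 : Q := act 2 n4031
theorem D5285 : act 2 n4031 = n5285 := rfl
def n5286 : Q := act 1 n4032
theorem D5286 : act 1 n4032 = n5286 := rfl
theorem F4100 : act 2 n5286 = n4033 := d3_2 D4032 D5286 (iv D4033) (iv D3036) (iv F2284)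
def n5287 : Q := act 3 n4032
theorem D5287 : act 3 n4032 = n5287 := rfl
def n5288 : Q := act 0 n4033
theorem D5288 : act 0 n4033 = n5288 := rfl
def n5289 : Q := act 3 n4033
theorem D5289 : act 3 n4033 = n5289 := rfl
theorem F4101 : act 1 n5289 = n4034 := d4_1 D5289 (iv D4034) D4033
theorem F4102 : act 2 n4190 = n5289 := d3_0 F4101 F3081 F2286 (iv F2382) (iv F3215)
def n5290 : Q := act 0 n4035
theorem D5290 : act 0 n4035 = n5290 := rfl
def n5291 : Q := act 3 n4035
theorem D5291 : act 3 n4035 = n5291 := rfl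
theorem F4103 : act 1 n5291 = n4036 := d4_1 D5291 (iv D4036) D4035
def n5292 : Q := act 1 n4037
theorem D5292 : act 1 n4037 = n5292 := rfl
theorem F4104 : act 2 n5292 = n4041 := d3_2 D4037 D5292 (iv D4041) (iv D3043) (iv F2289)
def n5293 : Q := act 2 n4038
theorem D5293 : act 2 n4038 = n5293 := rfl
theorem F4105 : act 1 n5293 = n4040 := d3_1 D5293 (iv D4040) (iv D3042) (iv F2290) D4038
def n5294 : Q := act 2 n4039
theorem D5294 : act 2 n4039 = n5294 := rfl
theorem F4106 : act 0 n5294 = n4040 := d1_1 D5294 (iv D4040) D4039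
def n5296 : Q := act 0 n4041
theorem D5296 : act 0 n4041 = n5296 := rfl
def n5297 : Q := act 3 n4041
theorem D5297 : act 3 n4041 = n5297 := rfl
theorem F4107 : act 1 n5297 = n4042 := d4_1 D5297 (iv D4042) D4041
def n5298 : Q := act 1 n4043
theorem D5298 : act 1 n4043 = n5298 := rfl
theorem F4108 : act 3 n5298 = n4164 := d4_2 (iv F3087) D5298 (iv D4164)
def n5300 : Q := act 0 n4045
theorem D5300 : act 0 n4045 = n5300 := rfl
theorem F4109 : act 1 n5300 = n4229 := d0_2 D4045 D5300 (iv D4229) (iv D3188) (iv D2381) (iv D1746) (iv F1221) D2270 D3046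
def n5301 : Q := act 2 n4045
theorem D5301 : act 2 n4045 = n5301 := rfl
theorem F4110 : act 1 n5301 = n4049 := d3_1 D5301 (iv D4049) (iv D3048) (iv F2292) D4045
def n5302 : Q := act 3 n4045
theorem D5302 : act 3 n4045 = n5302 := rfl
theorem F4111 : act 1 n5302 = n4046 := d4_1 D5302 (iv D4046) D4045
def n5303 : Q := act 2 n4046
theorem D5303 : act 2 n4046 = n5303 := rfl
def n5304 : Q := act 3 n4047
theorem D5304 : act 3 n4047 = n5304 := rfl
def n5305 : Q := act 2 n4048
theorem D5305 : act 2 n4048 = n5305 := rfl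
theorem F4113 : act 0 n5305 = n4049 := d1_1 D5305 (iv D4049) D4048
def n5306 : Q := act 3 n4048
theorem D5306 : act 3 n4048 = n5306 := rfl
theorem F4114 : act 0 n5306 = n4050 := d2_1 D5306 (iv D4050) D4048
theorem F4115 : act 1 n5306 = n4054 := d4_1 D5306 (iv D4054) (iv F3089)
def n5307 : Q := act 3 n4049
theorem D5307 : act 3 n4049 = n5307 := rfl
def n5308 : Q := act 2 n4050
theorem D5308 : act 2 n4050 = n5308 := rfl
def n5309 : Q := act 1 n4051
theorem D5309 : act 1 n4051 = n5309 := rfl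
def n5310 : Q := act 3 n4051
theorem D5310 : act 3 n4051 = n5310 := rfl
theorem F4116 : act 0 n5310 = n4052 := d2_1 D5310 (iv D4052) (iv F3091)
theorem F4117 : act 2 n5310 = n5304 := d6_2 D4051 D5310 (iv D5304) (iv D4047) (iv D3047) F1691 D2273 (iv F2294)
def n5311 : Q := act 2 n4052
theorem D5311 : act 2 n4052 = n5311 := rfl
theorem F4118 : act 0 n5311 = n5304 := d1_1 D5311 (iv F4117) F4116
theorem F4119 : act 1 n5311 = n5213 := d3_1 D5311 (iv D5213) F3041 (iv F3021) (iv F3092)
theorem F4120 : act 3 n5311 = n5303 := d5_2 D4052 D5311 (iv D5303) (iv D4046) F2292 D3049 D4051 D5310 F4117 (iv D5304) (iv D4047) (iv D3047) F1691 D2273 D3050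
def n5312 : Q := act 1 n4053
theorem D5312 : act 1 n4053 = n5312 := rfl
def n5313 : Q := act 3 n4053
theorem D5313 : act 3 n4053 = n5313 := rfl
theorem F4121 : act 0 n5313 = n4055 := d2_1 D5313 (iv D4055) (iv F3093)
def n5314 : Q := act 2 n4054
theorem D5314 : act 2 n4054 = n5314 := rfl
theorem F4122 : act 0 n5314 = n4056 := d1_1 D5314 (iv D4056) (iv F3094)
def n5315 : Q := act 2 n4055
theorem D5315 : act 2 n4055 = n5315 := rfl
def n5316 : Q := act 1 n4057
theorem D5316 : act 1 n4057 = n5316 := rfl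
def n5317 : Q := act 3 n4057
theorem D5317 : act 3 n4057 = n5317 := rfl
theorem F4123 : act 0 n5317 = n4058 := d2_1 D5317 (iv D4058) D4057
def n5318 : Q := act 2 n4058
theorem D5318 : act 2 n4058 = n5318 := rfl
theorem F4124 : act 1 n5318 = n4095 := d3_1 D5318 (iv D4095) F2327 (iv F2303) (iv F3098)
def n5319 : Q := act 0 n4059
theorem D5319 : act 0 n4059 = n5319 := rfl
theorem F4125 : act 1 n5319 = n5175 := d0_2 D4059 D5319 F4008 F3017 F2234 F1646 (iv F1226) D2277 D3057
theorem F4126 : act 3 n5319 = n5172 := d2_2 (iv F3099) D5319 (iv D5172)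
def n5320 : Q := act 2 n4059
theorem D5320 : act 2 n4059 = n5320 := rfl
def n5321 : Q := act 0 n4060
theorem D5321 : act 0 n4060 = n5321 := rfl
theorem F4127 : act 2 n5321 = n4076 := d1_2 (iv F3100) D5321 (iv D4076)
def n5322 : Q := act 3 n4060
theorem D5322 : act 3 n4060 = n5322 := rfl
def n5323 : Q := act 2 n4061
theorem D5323 : act 2 n4061 = n5323 := rfl
theorem F4130 : act 3 n5323 = n4098 := d6_1 D5323 (iv D4098) (iv D3086) (iv D2300) F1241 D2279 D3059 (iv F3101)
def n5324 : Q := act 1 n4062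
theorem D5324 : act 1 n4062 = n5324 := rfl
def n5325 : Q := act 3 n4062
theorem D5325 : act 3 n4062 = n5325 := rfl
theorem F4132 : act 2 n5325 = n4097 := d5_1 D5325 (iv D4097) (iv D3085) F1712 D3058 D4061 D5323 F4130 (iv D4098) (iv D3086) (iv D2300) F1241 D2279 D3059 D4062
def n5326 : Q := act 1 n4063
theorem D5326 : act 1 n4063 = n5326 := rfl
def n5327 : Q := act 3 n4063
theorem D5327 : act 3 n4063 = n5327 := rfl
theorem F4133 : act 0 n5327 = n4064 := d2_1 D5327 (iv D4064) D4063
def n5328 : Q := act 2 n4064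
theorem D5328 : act 2 n4064 = n5328 := rfl
def n5329 : Q := act 1 n4065
theorem D5329 : act 1 n4065 = n5329 := rfl
def n5330 : Q := act 0 n4066
theorem D5330 : act 0 n4066 = n5330 := rfl
theorem F4134 : act 2 n5330 = n4090 := d1_2 (iv F3105) D5330 (iv D4090)
def n5331 : Q := act 3 n4066
theorem D5331 : act 3 n4066 = n5331 := rfl
theorem F4135 : act 1 n5331 = n4067 := d4_1 D5331 (iv D4067) D4066
def n5332 : Q := act 0 n4068
theorem D5332 : act 0 n4068 = n5332 := rfl
def n5333 : Q := act 3 n4068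
theorem D5333 : act 3 n4068 = n5333 := rfl
theorem F4136 : act 1 n5333 = n4069 := d4_1 D5333 (iv D4069) D4068
def n5334 : Q := act 1 n4070
theorem D5334 : act 1 n4070 = n5334 := rfl
def n5335 : Q := act 3 n4070
theorem D5335 : act 3 n4070 = n5335 := rfl
theorem F4137 : act 0 n5335 = n4071 := d2_1 D5335 (iv D4071) D4070
theorem F4138 : act 2 n5335 = n5200 := d6_2 (iv F3108) D5335 (iv D5200) F3029 D3967 (iv F3031) (iv D3067) D3066
def n5336 : Q := act 2 n4071
theorem D5336 : act 2 n4071 = n5336 := rfl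
theorem F4140 : act 3 n5336 = n5199 := d5_2 D4071 D5336 F4031 D5203 (iv F4037) (iv D4074) (iv F3108) D5335 F4138 (iv D5200) F3029 D3967 (iv F3031) (iv D3067) (iv F2309)
def n5337 : Q := act 1 n4072
theorem D5337 : act 1 n4072 = n5337 := rfl
theorem F4141 : act 3 n5337 = n5329 := d4_2 (iv F3111) D5337 (iv D5329)
def n5338 : Q := act 2 n4073
theorem D5338 : act 2 n4073 = n5338 := rfl
def n5339 : Q := act 3 n4073
theorem D5339 : act 3 n4073 = n5339 := rfl
theorem F4142 : act 0 n5339 = n4273 := d2_1 D5339 F3281 F3127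
theorem F4143 : act 1 n5339 = n4074 := d4_1 D5339 (iv D4074) D4073
def n5340 : Q := act 1 n4075
theorem D5340 : act 1 n4075 = n5340 := rfl
theorem F4144 : act 3 n5340 = n5191 := d4_2 (iv F3114) D5340 (iv D5191)
def n5341 : Q := act 1 n4076
theorem D5341 : act 1 n4076 = n5341 := rfl
theorem F4145 : act 0 n5341 = n4259 := d0_1 D5341 (iv D4259) (iv D3212) (iv D2399) F1293 (iv F1231) (iv F1704) D3069 D4076
def n5342 : Q := act 3 n4076
theorem D5342 : act 3 n4076 = n5342 := rfl
theorem F4146 : act 0 n5342 = n4077 := d2_1 D5342 (iv D4077) D4076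
def n5343 : Q := act 2 n4077
theorem D5343 : act 2 n4077 = n5343 := rfl
def n5344 : Q := act 1 n4078
theorem D5344 : act 1 n4078 = n5344 := rfl
def n5345 : Q := act 0 n4079
theorem D5345 : act 0 n4079 = n5345 := rfl
def n5346 : Q := act 3 n4079
theorem D5346 : act 3 n4079 = n5346 := rfl
theorem F4147 : act 1 n5346 = n4080 := d4_1 D5346 (iv D4080) D4079
def n5347 : Q := act 0 n4081
theorem D5347 : act 0 n4081 = n5347 := rfl
def n5348 : Q := act 3 n4081
theorem D5348 : act 3 n4081 = n5348 := rfl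
theorem F4149 : act 1 n5348 = n4082 := d4_1 D5348 (iv D4082) D4081
def n5349 : Q := act 1 n4083
theorem D5349 : act 1 n4083 = n5349 := rfl
theorem F4150 : act 3 n5349 = n4480 := d4_2 F3121 D5349 (iv D4480)
def n5350 : Q := act 1 n4085
theorem D5350 : act 1 n4085 = n5350 := rfl
theorem F4151 : act 2 n5350 = n4479 := d3_2 D4085 D5350 F3444 (iv F3124) F3123
theorem F4152 : act 3 n5350 = n5344 := d4_2 (iv F3126) D5350 (iv D5344)
def n5351 : Q := act 2 n4086
theorem D5351 : act 2 n4086 = n5351 := rfl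
theorem F4153 : act 0 n5351 = n5338 := d1_1 D5351 (iv D5338) (iv F3127)
def n5352 : Q := act 2 n4087
theorem D5352 : act 2 n4087 = n5352 := rfl
theorem F4154 : act 0 n5352 = n4099 := d1_1 D5352 (iv D4099) (iv F3128)
def n5353 : Q := act 3 n4087
theorem D5353 : act 3 n4087 = n5353 := rfl
theorem F4156 : act 1 n5353 = n4088 := d4_1 D5353 (iv D4088) D4087
def n5354 : Q := act 2 n4088
theorem D5354 : act 2 n4088 = n5354 := rfl
theorem F4157 : act 0 n5354 = n4089 := d1_1 D5354 (iv D4089) (iv F3129)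
def n5356 : Q := act 3 n4091
theorem D5356 : act 3 n4091 = n5356 := rfl
theorem F4158 : act 0 n5356 = n4092 := d2_1 D5356 (iv D4092) D4091
def n5357 : Q := act 2 n4092
theorem D5357 : act 2 n4092 = n5357 := rfl
theorem F4159 : act 1 n5357 = n4710 := d3_1 D5357 (iv D4710) (iv D3578) (iv F2322) (iv F3132)
def n5358 : Q := act 1 n4093
theorem D5358 : act 1 n4093 = n5358 := rfl
theorem F4160 : act 2 n5358 = n4712 := d3_2 D4093 D5358 (iv D4712) (iv D3580) (iv F2323)
def n5359 : Q := act 3 n4093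
theorem D5359 : act 3 n4093 = n5359 := rfl
theorem F4161 : act 0 n5359 = n4094 := d2_1 D5359 (iv D4094) (iv F3133)
def n5360 : Q := act 2 n4094
theorem D5360 : act 2 n4094 = n5360 := rfl
def n5361 : Q := act 3 n4095
theorem D5361 : act 3 n4095 = n5361 := rfl
theorem F4162 : act 0 n5361 = n4711 := d2_1 D5361 (iv D4711) (iv F3135)
def n5362 : Q := act 0 n4096
theorem D5362 : act 0 n4096 = n5362 := rfl
theorem F4163 : act 2 n5362 = n5345 := d1_2 (iv F3136) D5362 (iv D5345)
def n5363 : Q := act 3 n4096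
theorem D5363 : act 3 n4096 = n5363 := rfl
theorem F4164 : act 1 n5363 = n4097 := d4_1 D5363 (iv D4097) D4096
def n5364 : Q := act 1 n4098
theorem D5364 : act 1 n4098 = n5364 := rfl
def n5365 : Q := act 3 n4099
theorem D5365 : act 3 n4099 = n5365 := rfl
theorem F4165 : act 1 n5365 = n4108 := d4_1 D5365 (iv D4108) (iv F3138)
def n5366 : Q := act 2 n4100
theorem D5366 : act 2 n4100 = n5366 := rfl
def n5367 : Q := act 1 n4101
theorem D5367 : act 1 n4101 = n5367 := rfl
def n5368 : Q := act 0 n4102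
theorem D5368 : act 0 n4102 = n5368 := rfl
theorem F4166 : act 2 n5368 = n4104 := d1_2 (iv F3141) D5368 (iv D4104)
def n5369 : Q := act 3 n4102
theorem D5369 : act 3 n4102 = n5369 := rfl
theorem F4167 : act 1 n5369 = n4103 := d4_1 D5369 (iv D4103) D4102
def n5370 : Q := act 1 n4104
theorem D5370 : act 1 n4104 = n5370 := rfl
theorem F4168 : act 3 n5370 = n4344 := d4_2 (iv F3142) D5370 (iv D4344)
def n5374 : Q := act 2 n4106
theorem D5374 : act 2 n4106 = n5374 := rfl
theorem F4170 : act 0 n5374 = n4107 := d1_1 D5374 (iv D4107) (iv F3143)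
def n5375 : Q := act 3 n4107
theorem D5375 : act 3 n4107 = n5375 := rfl
theorem F4171 : act 1 n5375 = n4343 := d4_1 D5375 (iv D4343) (iv F3144)
def n5376 : Q := act 2 n4108
theorem D5376 : act 2 n4108 = n5376 := rfl
theorem F4172 : act 0 n5376 = n4130 := d1_1 D5376 (iv D4130) (iv F3145)
def n5377 : Q := act 1 n4109
theorem D5377 : act 1 n4109 = n5377 := rfl
theorem F4173 : act 2 n5377 = n4110 := d3_2 D4109 D5377 (iv D4110) (iv D3095) (iv F2334)
def n5378 : Q := act 3 n4109
theorem D5378 : act 3 n4109 = n5378 := rfl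
def n5379 : Q := act 0 n4110
theorem D5379 : act 0 n4110 = n5379 := rfl
def n5380 : Q := act 3 n4110
theorem D5380 : act 3 n4110 = n5380 := rfl
theorem F4175 : act 1 n5380 = n4111 := d4_1 D5380 (iv D4111) D4110
def n5381 : Q := act 1 n4112
theorem D5381 : act 1 n4112 = n5381 := rfl
theorem F4176 : act 3 n5381 = n5292 := d4_2 F3150 D5381 (iv D5292)
def n5382 : Q := act 1 n4114
theorem D5382 : act 1 n4114 = n5382 := rfl
theorem F4177 : act 2 n5382 = n5291 := d3_2 D4114 D5382 F4103 (iv F3153) F3152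
theorem F4178 : act 3 n5382 = n5367 := d4_2 (iv F3155) D5382 (iv D5367)
def n5383 : Q := act 0 n4115
theorem D5383 : act 0 n4115 = n5383 := rfl
theorem F4179 : act 1 n5383 = n4121 := d0_2 D4115 D5383 (iv D4121) (iv D3102) (iv D2312) (iv D1696) (iv F1245) D2309 D3098
def n5384 : Q := act 2 n4115
theorem D5384 : act 2 n4115 = n5384 := rfl
def n5385 : Q := act 2 n4116
theorem D5385 : act 2 n4116 = n5385 := rfl
theorem F4180 : act 0 n5385 = n4117 := d1_1 D5385 (iv D4117) D4116
def n5387 : Q := act 2 n4118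
theorem D5387 : act 2 n4118 = n5387 := rfl
def n5388 : Q := act 1 n4119
theorem D5388 : act 1 n4119 = n5388 := rfl
def n5389 : Q := act 3 n4119
theorem D5389 : act 3 n4119 = n5389 := rfl
theorem F4182 : act 0 n5389 = n4120 := d2_1 D5389 (iv D4120) (iv F3160)
theorem F4183 : act 2 n5389 = n4343 := d6_2 D4119 D5389 (iv D4343) (iv D3286) (iv D2452) F1326 D2311 (iv F2337)
def n5390 : Q := act 2 n4120
theorem D5390 : act 2 n4120 = n5390 := rfl
theorem F4184 : act 0 n5390 = n4343 := d1_1 D5390 (iv F4183) F4182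
theorem F4185 : act 3 n5390 = n4342 := d5_2 D4120 D5390 (iv D4342) (iv D3285) F1835 D3100 D4119 D5389 F4183 (iv D4343) (iv D3286) (iv D2452) F1326 D2311 D3101
def n5391 : Q := act 2 n4121
theorem D5391 : act 2 n4121 = n5391 := rfl
theorem F4186 : act 0 n5391 = n4122 := d1_1 D5391 (iv D4122) D4121
def n5392 : Q := act 3 n4121
theorem D5392 : act 3 n4121 = n5392 := rfl
theorem F4187 : act 0 n5392 = n4123 := d2_1 D5392 (iv D4123) D4121
def n5393 : Q := act 3 n4122
theorem D5393 : act 3 n4122 = n5393 := rfl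
def n5394 : Q := act 2 n4123
theorem D5394 : act 2 n4123 = n5394 := rfl
def n5395 : Q := act 1 n4124
theorem D5395 : act 1 n4124 = n5395 := rfl
def n5396 : Q := act 1 n4126
theorem D5396 : act 1 n4126 = n5396 := rfl
theorem F4189 : act 3 n5396 = n4175 := d4_2 (iv F3166) D5396 F3202
def n5397 : Q := act 0 n4128
theorem D5397 : act 0 n4128 = n5397 := rfl
theorem F4191 : act 3 n5397 = n5383 := d2_2 (iv F3170) D5397 (iv D5383)
def n5398 : Q := act 2 n4128
theorem D5398 : act 2 n4128 = n5398 := rfl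
def n5401 : Q := act 1 n4130
theorem D5401 : act 1 n4130 = n5401 := rfl
def n5402 : Q := act 3 n4130
theorem D5402 : act 3 n4130 = n5402 := rfl
theorem F4196 : act 2 n5402 = n5378 := d6_2 D4130 D5402 (iv D5378) (iv D4109) (iv D3094) D3093 D4108 F3145
def n5403 : Q := act 0 n4131
theorem D5403 : act 0 n4131 = n5403 := rfl
theorem F4197 : act 2 n5403 = n4133 := d1_2 (iv F3171) D5403 (iv D4133)
def n5404 : Q := act 3 n4131
theorem D5404 : act 3 n4131 = n5404 := rfl
def n5405 : Q := act 2 n4132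
theorem D5405 : act 2 n4132 = n5405 := rfl
theorem F4200 : act 3 n5405 = n5376 := d5_2 D4132 D5405 (iv D5376) (iv D4108) (iv D3093) D3094 D4109 D5378 (iv F4196) (iv D5402) (iv D4130) (iv D3109) (iv D2317) D2318 D3110
def n5406 : Q := act 1 n4133
theorem D5406 : act 1 n4133 = n5406 := rfl
def n5407 : Q := act 3 n4133
theorem D5407 : act 3 n4133 = n5407 := rfl
theorem F4201 : act 0 n5407 = n4134 := d2_1 D5407 (iv D4134) D4133
def n5408 : Q := act 2 n4134
theorem D5408 : act 2 n4134 = n5408 := rfl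
theorem F4202 : act 1 n5408 = n5255 := d3_1 D5408 (iv D5255) F3063 (iv F2345) (iv F3172)
def n5409 : Q := act 0 n4135
theorem D5409 : act 0 n4135 = n5409 := rfl
def n5410 : Q := act 2 n4135
theorem D5410 : act 2 n4135 = n5410 := rfl
def n5411 : Q := act 3 n4135
theorem D5411 : act 3 n4135 = n5411 := rfl
theorem F4204 : act 1 n5411 = n4136 := d4_1 D5411 (iv D4136) D4135
def n5412 : Q := act 2 n4136
theorem D5412 : act 2 n4136 = n5412 := rfl
theorem F4205 : act 0 n5412 = n4137 := d1_1 D5412 (iv D4137) (iv F3173)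
theorem F4206 : act 3 n5412 = n4161 := d6_1 D5412 (iv D4161) (iv D3132) F1738 F1260 (iv F1729) D3114 (iv F3173)
theorem F4207 : act 1 n4287 = n5412 := d4_3 F4206 F3192 D4287
def n5413 : Q := act 1 n4137
theorem D5413 : act 1 n4137 = n5413 := rfl
def n5414 : Q := act 3 n4137
theorem D5414 : act 3 n4137 = n5414 := rfl
def n5418 : Q := act 1 n4141
theorem D5418 : act 1 n4141 = n5418 := rfl
theorem F4213 : act 2 n5418 = n4155 := d3_2 D4141 D5418 (iv D4155) (iv D3127) (iv F2350)
def n5419 : Q := act 3 n4141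
theorem D5419 : act 3 n4141 = n5419 := rfl
theorem F4214 : act 0 n5419 = n4143 := d2_1 D5419 (iv D4143) (iv F3176)
def n5420 : Q := act 2 n4142
theorem D5420 : act 2 n4142 = n5420 := rfl
def n5421 : Q := act 2 n4143
theorem D5421 : act 2 n4143 = n5421 := rfl
def n5422 : Q := act 1 n4144
theorem D5422 : act 1 n4144 = n5422 := rfl
theorem F4216 : act 2 n5422 = n4145 := d3_2 D4144 D5422 (iv D4145) (iv D3120) (iv F2351)
def n5423 : Q := act 3 n4144
theorem D5423 : act 3 n4144 = n5423 := rfl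
def n5424 : Q := act 0 n4145
theorem D5424 : act 0 n4145 = n5424 := rfl
def n5426 : Q := act 1 n4147
theorem D5426 : act 1 n4147 = n5426 := rfl
theorem F4218 : act 3 n5426 = n4223 := d4_2 (iv F3182) D5426 (iv D4223)
def n5428 : Q := act 3 n4148
theorem D5428 : act 3 n4148 = n5428 := rfl
theorem F4219 : act 0 n5428 = n4150 := d2_1 D5428 (iv D4150) (iv F3183)
def n5429 : Q := act 2 n4149
theorem D5429 : act 2 n4149 = n5429 := rfl
def n5430 : Q := act 2 n4150
theorem D5430 : act 2 n4150 = n5430 := rfl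
def n5431 : Q := act 1 n4151
theorem D5431 : act 1 n4151 = n5431 := rfl
theorem F4221 : act 2 n5431 = n4152 := d3_2 D4151 D5431 (iv D4152) (iv D3125) (iv F2353)
def n5432 : Q := act 3 n4151
theorem D5432 : act 3 n4151 = n5432 := rfl
def n5433 : Q := act 0 n4152
theorem D5433 : act 0 n4152 = n5433 := rfl
def n5434 : Q := act 3 n4152
theorem D5434 : act 3 n4152 = n5434 := rfl
theorem F4222 : act 1 n5434 = n4153 := d4_1 D5434 (iv D4153) D4152
def n5435 : Q := act 1 n4154
theorem D5435 : act 1 n4154 = n5435 := rfl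
theorem F4223 : act 2 n5435 = n5426 := d3_2 D4154 D5435 (iv D5426) (iv D4147) (iv F2355)
theorem F4224 : act 3 n5435 = n5395 := d4_2 (iv F3188) D5435 (iv D5395)
def n5436 : Q := act 0 n4155
theorem D5436 : act 0 n4155 = n5436 := rfl
theorem F4225 : act 1 n5436 = n5290 := d0_2 D4155 D5436 (iv D5290) (iv D4035) F2287 F1686 (iv F1261) (iv F1733) (iv F2356)
def n5437 : Q := act 3 n4155
theorem D5437 : act 3 n4155 = n5437 := rfl
theorem F4226 : act 1 n5437 = n4156 := d4_1 D5437 (iv D4156) D4155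
def n5438 : Q := act 2 n4156
theorem D5438 : act 2 n4156 = n5438 := rfl
theorem F4228 : act 3 n5438 = n4277 := d6_1 D5438 F3286 F2448 (iv D3130) (iv D2331) D2330 D3129 (iv F3189)
theorem F4229 : act 1 n4278 = n5438 := d4_3 F4228 (iv D4277) D4278
def n5439 : Q := act 1 n4157
theorem D5439 : act 1 n4157 = n5439 := rfl
def n5440 : Q := act 1 n4158
theorem D5440 : act 1 n4158 = n5440 := rfl
theorem F4230 : act 2 n5440 = n4164 := d3_2 D4158 D5440 (iv D4164) (iv D3134) (iv F2358)
def n5441 : Q := act 3 n4158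
theorem D5441 : act 3 n4158 = n5441 := rfl
theorem F4232 : act 2 n5441 = n4279 := d5_1 D5441 F3287 (iv D4157) (iv D3128) D3127 D4156 D5438 F4228 F3286 F2448 (iv D3130) (iv D2331) D2330 D3129 D4158
def n5442 : Q := act 0 n4159
theorem D5442 : act 0 n4159 = n5442 := rfl
theorem F4233 : act 1 n5442 = n4281 := d0_2 D4159 D5442 F3288 F2449 F1805 F1737 F1735 D2333 D3131
theorem F4234 : act 3 n4280 = n5442 := d4_0 F4233 (iv D4281) D4280
def n5447 : Q := act 0 n4164
theorem D5447 : act 0 n4164 = n5447 := rfl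
def n5448 : Q := act 1 n4165
theorem D5448 : act 1 n4165 = n5448 := rfl
def n5449 : Q := act 3 n4165
theorem D5449 : act 3 n4165 = n5449 := rfl
theorem F4239 : act 0 n5449 = n4166 := d2_1 D5449 (iv D4166) D4165
def n5450 : Q := act 2 n4166
theorem D5450 : act 2 n4166 = n5450 := rfl
def n5453 : Q := act 1 n4169
theorem D5453 : act 1 n4169 = n5453 := rfl
theorem F4242 : act 2 n5453 = n5298 := d3_2 D4169 D5453 (iv D5298) (iv D4043) (iv F2367)
def n5455 : Q := act 1 n4171
theorem D5455 : act 1 n4171 = n5455 := rfl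
def n5456 : Q := act 3 n4171
theorem D5456 : act 3 n4171 = n5456 := rfl
theorem F4243 : act 0 n5456 = n4172 := d2_1 D5456 (iv D4172) D4171
def n5457 : Q := act 2 n4172
theorem D5457 : act 2 n4172 = n5457 := rfl
def n5458 : Q := act 0 n4173
theorem D5458 : act 0 n4173 = n5458 := rfl
theorem F4244 : act 1 n5458 = n4176 := d0_2 D4173 D5458 (iv D4176) (iv D3145) (iv D2345) (iv D1721) (iv F1269) D2343 D3143
def n5459 : Q := act 2 n4173
theorem D5459 : act 2 n4173 = n5459 := rfl
def n5460 : Q := act 3 n4173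
theorem D5460 : act 3 n4173 = n5460 := rfl
theorem F4245 : act 1 n5460 = n4174 := d4_1 D5460 (iv D4174) D4173
def n5461 : Q := act 2 n4174
theorem D5461 : act 2 n4174 = n5461 := rfl
theorem F4246 : act 0 n5461 = n4175 := d1_1 D5461 (iv D4175) (iv F3201)
def n5462 : Q := act 2 n4176
theorem D5462 : act 2 n4176 = n5462 := rfl
theorem F4247 : act 0 n5462 = n4177 := d1_1 D5462 (iv D4177) D4176
def n5463 : Q := act 3 n4176
theorem D5463 : act 3 n4176 = n5463 := rfl
theorem F4248 : act 0 n5463 = n4178 := d2_1 D5463 (iv D4178) D4176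
theorem F4249 : act 2 n4569 = n5463 := d1_0 F4248 (iv F3205) D4569
def n5464 : Q := act 3 n4177
theorem D5464 : act 3 n4177 = n5464 := rfl
theorem F4250 : act 1 n5464 = n4182 := d4_1 D5464 (iv D4182) (iv F3203)
def n5467 : Q := act 1 n4181
theorem D5467 : act 1 n4181 = n5467 := rfl
theorem F4254 : act 2 n5467 = n4192 := d3_2 D4181 D5467 (iv D4192) (iv D3158) (iv F2377)
def n5468 : Q := act 3 n4181
theorem D5468 : act 3 n4181 = n5468 := rfl
theorem F4255 : act 0 n5468 = n4182 := d2_1 D5468 (iv D4182) (iv F3209)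
def n5469 : Q := act 2 n4182
theorem D5469 : act 2 n4182 = n5469 := rfl
def n5470 : Q := act 0 n4183
theorem D5470 : act 0 n4183 = n5470 := rfl
theorem F4256 : act 2 n5470 = n4199 := d1_2 (iv F3210) D5470 (iv D4199)
def n5471 : Q := act 3 n4183
theorem D5471 : act 3 n4183 = n5471 := rfl
def n5472 : Q := act 2 n4184
theorem D5472 : act 2 n4184 = n5472 := rfl
def n5473 : Q := act 3 n4185
theorem D5473 : act 3 n4185 = n5473 := rfl
theorem F4259 : act 0 n5473 = n4188 := d2_1 D5473 (iv D4188) (iv F3212)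
theorem F4260 : act 1 n5473 = n4568 := d4_1 D5473 (iv D4568) (iv F3213)
def n5475 : Q := act 3 n4186
theorem D5475 : act 3 n4186 = n5475 := rfl
theorem F4261 : act 2 n5475 = n5473 := d6_2 D4186 D5475 (iv D5473) (iv D4185) (iv D3152) D3151 D4184 F3211
def n5476 : Q := act 0 n4187
theorem D5476 : act 0 n4187 = n5476 := rfl
theorem F4262 : act 2 n5476 = n4189 := d1_2 (iv F3214) D5476 (iv D4189)
def n5477 : Q := act 3 n4187
theorem D5477 : act 3 n4187 = n5477 := rfl
theorem F4263 : act 1 n5477 = n4188 := d4_1 D5477 (iv D4188) D4187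
def n5478 : Q := act 2 n4188
theorem D5478 : act 2 n4188 = n5478 := rfl
theorem F4264 : act 0 n5478 = n5475 := d1_1 D5478 F4261 F4259
theorem F4265 : act 3 n5478 = n5472 := d5_2 D4188 D5478 (iv D5472) (iv D4184) (iv D3151) D3152 D4185 D5473 (iv F4261) (iv D5475) (iv D4186) (iv D3153) (iv D2350) D2351 D3154
def n5479 : Q := act 1 n4189
theorem D5479 : act 1 n4189 = n5479 := rfl
def n5480 : Q := act 3 n4189
theorem D5480 : act 3 n4189 = n5480 := rfl
theorem F4266 : act 0 n5480 = n4190 := d2_1 D5480 (iv D4190) D4189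
def n5481 : Q := act 0 n4191
theorem D5481 : act 0 n4191 = n5481 := rfl
theorem F4267 : act 2 n5481 = n4402 := d1_2 (iv F3216) D5481 F3384
theorem F4268 : act 3 n5481 = n5281 := d2_2 (iv F3217) D5481 (iv D5281)
def n5482 : Q := act 0 n4192
theorem D5482 : act 0 n4192 = n5482 := rfl
def n5483 : Q := act 3 n4192
theorem D5483 : act 3 n4192 = n5483 := rfl
theorem F4269 : act 1 n5483 = n4193 := d4_1 D5483 (iv D4193) D4192
def n5484 : Q := act 2 n4193
theorem D5484 : act 2 n4193 = n5484 := rfl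
def n5485 : Q := act 1 n4194
theorem D5485 : act 1 n4194 = n5485 := rfl
def n5486 : Q := act 3 n4194
theorem D5486 : act 3 n4194 = n5486 := rfl
def n5488 : Q := act 3 n4195
theorem D5488 : act 3 n4195 = n5488 := rfl
theorem F4273 : act 2 n5488 = n5486 := d6_2 D4195 D5488 (iv D5486) (iv D4194) (iv D3159) D3158 D4193 F3218
def n5489 : Q := act 0 n4196
theorem D5489 : act 0 n4196 = n5489 := rfl
theorem F4274 : act 2 n5489 = n4198 := d1_2 (iv F3220) D5489 (iv D4198)
theorem F4275 : act 3 n4670 = n5489 := d6_7 F3220 (iv F2531) F2530 (iv D2654) (iv F1986) D3541 D4670 (iv D5489)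
def n5490 : Q := act 3 n4196
theorem D5490 : act 3 n4196 = n5490 := rfl
theorem F4276 : act 0 n5490 = n4670 := d2_1 D5490 F4275 (iv D5489)
theorem F4277 : act 1 n5490 = n4197 := d4_1 D5490 (iv D4197) D4196
theorem F4278 : act 2 n5490 = n4669 := d5_1 D5490 (iv D4669) F2694 D3544 (iv F3385) F3386 (iv F4274) (iv F4275) (iv D4670) (iv D3541) F1986 D2654 (iv F2530) F2531 (iv F3220)
def n5491 : Q := act 2 n4197
theorem D5491 : act 2 n4197 = n5491 := rfl
theorem F4280 : act 3 n5491 = n5484 := d5_2 D4197 D5491 (iv D5484) (iv D4193) (iv D3158) D3159 D4194 D5486 (iv F4273) (iv D5488) (iv D4195) (iv D3160) (iv D2355) D2356 D3161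
def n5492 : Q := act 1 n4198
theorem D5492 : act 1 n4198 = n5492 := rfl
theorem F4281 : act 0 n5492 = n5479 := d0_1 D5492 (iv D5479) (iv D4189) (iv D3155) F1757 (iv F1273) (iv F1760) D3162 D4198
def n5493 : Q := act 1 n4199
theorem D5493 : act 1 n4199 = n5493 := rfl
theorem F4282 : act 0 n5493 = n4205 := d0_1 D5493 (iv D4205) (iv D3169) (iv D2364) F1280 (iv F1274) (iv F1762) D3163 D4199
def n5494 : Q := act 3 n4199
theorem D5494 : act 3 n4199 = n5494 := rfl
theorem F4283 : act 0 n5494 = n4200 := d2_1 D5494 (iv D4200) D4199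
theorem F4284 : act 2 n4548 = n5494 := d1_0 F4283 (iv F3222) D4548
def n5496 : Q := act 3 n4202
theorem D5496 : act 3 n4202 = n5496 := rfl
theorem F4287 : act 0 n5496 = n4555 := d2_1 D5496 (iv D4555) (iv F3225)
theorem F4288 : act 1 n5496 = n4204 := d4_1 D5496 (iv D4204) (iv F3226)
def n5497 : Q := act 1 n4203
theorem D5497 : act 1 n4203 = n5497 := rfl
theorem F4289 : act 2 n5497 = n5485 := d3_2 D4203 D5497 (iv D5485) (iv D4194) (iv F2394)
def n5498 : Q := act 3 n4203
theorem D5498 : act 3 n4203 = n5498 := rfl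
def n5499 : Q := act 2 n4204
theorem D5499 : act 2 n4204 = n5499 := rfl
def n5500 : Q := act 2 n4205
theorem D5500 : act 2 n4205 = n5500 := rfl
theorem F4291 : act 1 n5500 = n4211 := d3_1 D5500 (iv D4211) (iv D3174) (iv F2396) D4205
def n5501 : Q := act 3 n4205
theorem D5501 : act 3 n4205 = n5501 := rfl
theorem F4292 : act 1 n5501 = n4206 := d4_1 D5501 (iv D4206) D4205
def n5502 : Q := act 2 n4206
theorem D5502 : act 2 n4206 = n5502 := rfl
theorem F4293 : act 0 n5502 = n4207 := d1_1 D5502 (iv D4207) (iv F3228)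
def n5503 : Q := act 1 n4207
theorem D5503 : act 1 n4207 = n5503 := rfl
theorem F4294 : act 2 n5503 = n4208 := d3_2 D4207 D5503 (iv D4208) (iv D3171) (iv F2397)
def n5504 : Q := act 3 n4207
theorem D5504 : act 3 n4207 = n5504 := rfl
def n5505 : Q := act 0 n4208
theorem D5505 : act 0 n4208 = n5505 := rfl
def n5508 : Q := act 2 n4210
theorem D5508 : act 2 n4210 = n5508 := rfl
theorem F4297 : act 1 n5508 = n4432 := d3_1 D5508 (iv D4432) F2550 (iv F2401) (iv F3230)
def n5512 : Q := act 3 n4213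
theorem D5512 : act 3 n4213 = n5512 := rfl
theorem F4301 : act 2 n5512 = n5504 := d6_2 D4213 D5512 (iv D5504) (iv D4207) (iv D3170) F1769 D2368 (iv F2403)
def n5513 : Q := act 2 n4214
theorem D5513 : act 2 n4214 = n5513 := rfl
theorem F4303 : act 1 n5513 = n5206 := d3_1 D5513 (iv D5206) F3032 D3970 (iv F3235)
theorem F4304 : act 3 n5513 = n5502 := d5_2 D4214 D5513 (iv D5502) (iv D4206) F2396 D3175 D4213 D5512 F4301 (iv D5504) (iv D4207) (iv D3170) F1769 D2368 D3176
def n5514 : Q := act 2 n4215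
theorem D5514 : act 2 n4215 = n5514 := rfl
theorem F4305 : act 0 n5514 = n5213 := d1_1 D5514 (iv D5213) (iv F3236)
def n5515 : Q := act 2 n4216
theorem D5515 : act 2 n4216 = n5515 := rfl
def n5517 : Q := act 0 n4218
theorem D5517 : act 0 n4218 = n5517 := rfl
def n5518 : Q := act 2 n4218
theorem D5518 : act 2 n4218 = n5518 := rfl
def n5519 : Q := act 3 n4218
theorem D5519 : act 3 n4218 = n5519 := rfl
theorem F4308 : act 1 n5519 = n4219 := d4_1 D5519 (iv D4219) D4218
def n5520 : Q := act 2 n4219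
theorem D5520 : act 2 n4219 = n5520 := rfl
theorem F4310 : act 3 n5520 = n5255 := d6_1 D5520 (iv D5255) (iv D4008) F2270 F1675 (iv F1774) D3180 (iv F3240)
def n5525 : Q := act 0 n4223
theorem D5525 : act 0 n4223 = n5525 := rfl
def n5528 : Q := act 0 n4226
theorem D5528 : act 0 n4226 = n5528 := rfl
def n5529 : Q := act 2 n4226
theorem D5529 : act 2 n4226 = n5529 := rfl
theorem F4316 : act 1 n5529 = n4435 := d3_1 D5529 (iv D4435) (iv D3358) (iv F2410) D4226
def n5530 : Q := act 3 n4226
theorem D5530 : act 3 n4226 = n5530 := rfl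
theorem F4317 : act 1 n5530 = n4227 := d4_1 D5530 (iv D4227) D4226
def n5531 : Q := act 2 n4227
theorem D5531 : act 2 n4227 = n5531 := rfl
theorem F4318 : act 0 n5531 = n4228 := d1_1 D5531 (iv D4228) (iv F3243)
theorem F4319 : act 3 n5531 = n4741 := d6_1 D5531 (iv D4741) (iv D3603) F2015 F1464 (iv F1780) D3187 (iv F3243)
def n5532 : Q := act 3 n4228
theorem D5532 : act 3 n4228 = n5532 := rfl
theorem F4321 : act 1 n5532 = n5304 := d4_1 D5532 (iv D5304) (iv F3244)
theorem F4322 : act 2 n5532 = n4740 := d5_1 D5532 (iv D4740) F2748 F2016 (iv F2410) D4227 D5531 F4319 (iv D4741) (iv D3603) F2015 F1464 (iv F1780) D3187 D4228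
def n5533 : Q := act 2 n4229
theorem D5533 : act 2 n4229 = n5533 := rfl
theorem F4323 : act 0 n5533 = n4230 := d1_1 D5533 (iv D4230) D4229
def n5534 : Q := act 3 n4229
theorem D5534 : act 3 n4229 = n5534 := rfl
theorem F4324 : act 0 n5534 = n4231 := d2_1 D5534 (iv D4231) D4229
def n5535 : Q := act 3 n4230
theorem D5535 : act 3 n4230 = n5535 := rfl
theorem F4325 : act 1 n5535 = n4237 := d4_1 D5535 (iv D4237) (iv F3245)
def n5536 : Q := act 2 n4231
theorem D5536 : act 2 n4231 = n5536 := rfl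
theorem F4326 : act 1 n5536 = n4519 := d3_1 D5536 (iv D4519) F3249 (iv D4232) (iv F3246)
def n5540 : Q := act 1 n4236
theorem D5540 : act 1 n4236 = n5540 := rfl
theorem F4330 : act 2 n5540 = n4238 := d3_2 D4236 D5540 (iv D4238) (iv D3194) (iv F2414)
def n5541 : Q := act 3 n4236
theorem D5541 : act 3 n4236 = n5541 := rfl
theorem F4331 : act 0 n5541 = n4237 := d2_1 D5541 (iv D4237) (iv F3254)
def n5542 : Q := act 2 n4237
theorem D5542 : act 2 n4237 = n5542 := rfl
def n5543 : Q := act 0 n4238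
theorem D5543 : act 0 n4238 = n5543 := rfl
def n5544 : Q := act 3 n4238
theorem D5544 : act 3 n4238 = n5544 := rfl
theorem F4332 : act 1 n5544 = n4239 := d4_1 D5544 (iv D4239) D4238
def n5545 : Q := act 2 n4239
theorem D5545 : act 2 n4239 = n5545 := rfl
theorem F4333 : act 0 n5545 = n4241 := d1_1 D5545 (iv D4241) (iv F3255)
def n5546 : Q := act 1 n4240
theorem D5546 : act 1 n4240 = n5546 := rfl
def n5547 : Q := act 3 n4240
theorem D5547 : act 3 n4240 = n5547 := rfl
theorem F4334 : act 0 n5547 = n4242 := d2_1 D5547 (iv D4242) (iv F3256)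
def n5548 : Q := act 1 n4241
theorem D5548 : act 1 n4241 = n5548 := rfl
theorem F4335 : act 2 n5548 = n4246 := d3_2 D4241 D5548 (iv D4246) (iv D3200) (iv F2417)
def n5549 : Q := act 3 n4241
theorem D5549 : act 3 n4241 = n5549 := rfl
theorem F4336 : act 2 n5549 = n5547 := d6_2 D4241 D5549 (iv D5547) (iv D4240) (iv D3195) D3194 D4239 F3255
def n5550 : Q := act 2 n4242
theorem D5550 : act 2 n4242 = n5550 := rfl
theorem F4338 : act 1 n5550 = n4314 := d3_1 D5550 (iv D4314) F2468 D3257 (iv F3257)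
theorem F4339 : act 3 n5550 = n5545 := d5_2 D4242 D5550 (iv D5545) (iv D4239) (iv D3194) D3195 D4240 D5547 (iv F4336) (iv D5549) (iv D4241) (iv D3196) (iv D2386) D2387 D3197
def n5551 : Q := act 1 n4243
theorem D5551 : act 1 n4243 = n5551 := rfl
def n5555 : Q := act 0 n4246
theorem D5555 : act 0 n4246 = n5555 := rfl
def n5557 : Q := act 2 n4248
theorem D5557 : act 2 n4248 = n5557 := rfl
theorem F4343 : act 0 n5557 = n4465 := d1_1 D5557 (iv D4465) (iv F3264)
theorem F4344 : act 1 n5557 = n4274 := d3_1 D5557 (iv D4274) (iv D3225) (iv F2420) D4248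
def n5558 : Q := act 3 n4248
theorem D5558 : act 3 n4248 = n5558 := rfl
theorem F4345 : act 0 n5558 = n4466 := d2_1 D5558 (iv D4466) (iv F3264)
theorem F4346 : act 1 n5558 = n4249 := d4_1 D5558 (iv D4249) D4248
def n5559 : Q := act 2 n4249
theorem D5559 : act 2 n4249 = n5559 := rfl
def n5560 : Q := act 1 n4250
theorem D5560 : act 1 n4250 = n5560 := rfl
theorem F4348 : act 2 n5560 = n4251 := d3_2 D4250 D5560 (iv D4251) (iv D3203) (iv F2421)
def n5561 : Q := act 3 n4250
theorem D5561 : act 3 n4250 = n5561 := rfl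
def n5565 : Q := act 2 n4253
theorem D5565 : act 2 n4253 = n5565 := rfl
def n5568 : Q := act 2 n4255
theorem D5568 : act 2 n4255 = n5568 := rfl
theorem F4351 : act 1 n5568 = n5565 := d3_1 D5568 (iv D5565) F3267 (iv F2426) (iv F3269)
def n5569 : Q := act 0 n4256
theorem D5569 : act 0 n4256 = n5569 := rfl
theorem F4352 : act 3 n5569 = n4815 := d2_2 (iv F3270) D5569 (iv D4815)
def n5570 : Q := act 2 n4256
theorem D5570 : act 2 n4256 = n5570 := rfl
theorem F4353 : act 1 n5570 = n4258 := d3_1 D5570 (iv D4258) (iv D3211) (iv F2427) D4256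
def n5572 : Q := act 3 n4258
theorem D5572 : act 3 n4258 = n5572 := rfl
def n5573 : Q := act 2 n4259
theorem D5573 : act 2 n4259 = n5573 := rfl
def n5576 : Q := act 1 n4261
theorem D5576 : act 1 n4261 = n5576 := rfl
theorem F4358 : act 2 n5576 = n4262 := d3_2 D4261 D5576 (iv D4262) (iv D3214) (iv F2434)
def n5577 : Q := act 3 n4261
theorem D5577 : act 3 n4261 = n5577 := rfl
def n5578 : Q := act 0 n4262
theorem D5578 : act 0 n4262 = n5578 := rfl
def n5579 : Q := act 1 n4263
theorem D5579 : act 1 n4263 = n5579 := rfl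
def n5580 : Q := act 3 n4263
theorem D5580 : act 3 n4263 = n5580 := rfl
theorem F4359 : act 0 n5580 = n4264 := d2_1 D5580 (iv D4264) D4263
def n5581 : Q := act 2 n4264
theorem D5581 : act 2 n4264 = n5581 := rfl
def n5582 : Q := act 1 n4265
theorem D5582 : act 1 n4265 = n5582 := rfl
def n5583 : Q := act 3 n4265
theorem D5583 : act 3 n4265 = n5583 := rfl
theorem F4360 : act 0 n5583 = n4266 := d2_1 D5583 (iv D4266) D4265
def n5584 : Q := act 2 n4266
theorem D5584 : act 2 n4266 = n5584 := rfl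
theorem F4361 : act 1 n5584 = n5581 := d3_1 D5584 (iv D5581) F3274 (iv F2437) (iv F3275)
def n5585 : Q := act 0 n4267
theorem D5585 : act 0 n4267 = n5585 := rfl
def n5586 : Q := act 2 n4267
theorem D5586 : act 2 n4267 = n5586 := rfl
def n5587 : Q := act 3 n4267
theorem D5587 : act 3 n4267 = n5587 := rfl
theorem F4363 : act 1 n5587 = n4268 := d4_1 D5587 (iv D4268) D4267
def n5588 : Q := act 1 n4269
theorem D5588 : act 1 n4269 = n5588 := rfl
theorem F4364 : act 2 n5588 = n4270 := d3_2 D4269 D5588 (iv D4270) (iv D3221) (iv F2439)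
def n5589 : Q := act 0 n4270
theorem D5589 : act 0 n4270 = n5589 := rfl
theorem F4365 : act 3 n5589 = n5578 := d2_2 (iv F3277) D5589 (iv D5578)
def n5590 : Q := act 3 n4271
theorem D5590 : act 3 n4271 = n5590 := rfl
def n5591 : Q := act 2 n4272
theorem D5591 : act 2 n4272 = n5591 := rfl
theorem F4367 : act 0 n5591 = n4484 := d1_1 D5591 (iv D4484) (iv F3279)
def n5592 : Q := act 2 n4273
theorem D5592 : act 2 n4273 = n5592 := rfl
def n5593 : Q := act 3 n4274
theorem D5593 : act 3 n4274 = n5593 := rfl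
theorem F4369 : act 0 n5593 = n4296 := d2_1 D5593 (iv D4296) (iv F3282)
def n5594 : Q := act 2 n4275
theorem D5594 : act 2 n4275 = n5594 := rfl
theorem F4370 : act 0 n5594 = n4297 := d1_1 D5594 (iv D4297) (iv F3283)
def n5596 : Q := act 3 n4276
theorem D5596 : act 3 n4276 = n5596 := rfl
theorem F4371 : act 0 n5596 = n4278 := d2_1 D5596 (iv D4278) (iv F3285)
theorem F4372 : act 2 n5596 = n5561 := d6_2 D4276 D5596 (iv D5561) (iv D4250) (iv D3202) F1793 D2409 (iv F2447)
def n5597 : Q := act 2 n4278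
theorem D5597 : act 2 n4278 = n5597 := rfl
theorem F4373 : act 0 n5597 = n5561 := d1_1 D5597 (iv F4372) F4371
theorem F4374 : act 3 n5597 = n5559 := d5_2 D4278 D5597 (iv D5559) (iv D4249) F2420 D3226 D4276 D5596 F4372 (iv D5561) (iv D4250) (iv D3202) F1793 D2409 D3227
def n5598 : Q := act 1 n4279
theorem D5598 : act 1 n4279 = n5598 := rfl
theorem F4375 : act 3 n5598 = n5439 := d4_2 (iv F3287) D5598 (iv D5439)
def n5600 : Q := act 2 n4281
theorem D5600 : act 2 n4281 = n5600 := rfl
theorem F4376 : act 0 n5600 = n4282 := d1_1 D5600 (iv D4282) (iv F3288)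
def n5601 : Q := act 3 n4282
theorem D5601 : act 3 n4282 = n5601 := rfl
def n5602 : Q := act 0 n4283
theorem D5602 : act 0 n4283 = n5602 := rfl
def n5604 : Q := act 3 n4283
theorem D5604 : act 3 n4283 = n5604 := rfl
theorem F4378 : act 1 n5604 = n4284 := d4_1 D5604 (iv D4284) D4283
def n5605 : Q := act 2 n4284
theorem D5605 : act 2 n4284 = n5605 := rfl
theorem F4379 : act 0 n5605 = n4285 := d1_1 D5605 (iv D4285) (iv F3289)
def n5606 : Q := act 3 n4285
theorem D5606 : act 3 n4285 = n5606 := rfl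
def n5608 : Q := act 3 n4286
theorem D5608 : act 3 n4286 = n5608 := rfl
def n5609 : Q := act 2 n4287
theorem D5609 : act 2 n4287 = n5609 := rfl
def n5612 : Q := act 2 n4289
theorem D5612 : act 2 n4289 = n5612 := rfl
def n5614 : Q := act 3 n4290
theorem D5614 : act 3 n4290 = n5614 := rfl
def n5616 : Q := act 3 n4291
theorem D5616 : act 3 n4291 = n5616 := rfl
theorem F4388 : act 2 n5616 = n5614 := d6_2 D4291 D5616 (iv D5614) (iv D4290) (iv D3236) D3235 D4289 F3292
def n5617 : Q := act 2 n4292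
theorem D5617 : act 2 n4292 = n5617 := rfl
theorem F4390 : act 1 n5617 = n4439 := d3_1 D5617 (iv D4439) F2553 D3362 (iv F3294)
theorem F4391 : act 3 n5617 = n5612 := d5_2 D4292 D5617 (iv D5612) (iv D4289) (iv D3235) D3236 D4290 D5614 (iv F4388) (iv D5616) (iv D4291) (iv D3237) (iv D2418) D2419 D3238
def n5619 : Q := act 3 n4293
theorem D5619 : act 3 n4293 = n5619 := rfl
theorem F4392 : act 0 n5619 = n4294 := d2_1 D5619 (iv D4294) D4293
def n5620 : Q := act 2 n4294
theorem D5620 : act 2 n4294 = n5620 := rfl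
def n5622 : Q := act 2 n4296
theorem D5622 : act 2 n4296 = n5622 := rfl
def n5623 : Q := act 3 n4297
theorem D5623 : act 3 n4297 = n5623 := rfl
def n5625 : Q := act 3 n4298
theorem D5625 : act 3 n4298 = n5625 := rfl
theorem F4394 : act 0 n5625 = n4299 := d2_1 D5625 (iv D4299) D4298
def n5626 : Q := act 2 n4299
theorem D5626 : act 2 n4299 = n5626 := rfl
def n5627 : Q := act 0 n4300
theorem D5627 : act 0 n4300 = n5627 := rfl
theorem F4395 : act 1 n5627 = n4306 := d0_2 D4300 D5627 (iv D4306) (iv D3251) (iv D2428) (iv D1783) (iv F1308) D2425 D3247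
def n5629 : Q := act 2 n4301
theorem D5629 : act 2 n4301 = n5629 := rfl
theorem F4396 : act 0 n5629 = n4302 := d1_1 D5629 (iv D4302) D4301
def n5631 : Q := act 3 n4302
theorem D5631 : act 3 n4302 = n5631 := rfl
theorem F4399 : act 1 n5631 = n4326 := d4_1 D5631 (iv D4326) (iv F3301)
def n5632 : Q := act 2 n4303
theorem D5632 : act 2 n4303 = n5632 := rfl
def n5633 : Q := act 1 n4304
theorem D5633 : act 1 n4304 = n5633 := rfl
def n5639 : Q := act 3 n4309
theorem D5639 : act 3 n4309 = n5639 := rfl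
theorem F4402 : act 0 n5639 = n4310 := d2_1 D5639 (iv D4310) (iv F3305)
theorem F4403 : act 2 n5639 = n5606 := d6_2 D4309 D5639 (iv D5606) (iv D4285) (iv D3232) F1806 D2429 (iv F2465)
def n5640 : Q := act 2 n4310
theorem D5640 : act 2 n4310 = n5640 := rfl
theorem F4405 : act 3 n5640 = n5605 := d5_2 D4310 D5640 (iv D5605) (iv D4284) F2450 D3252 D4309 D5639 F4403 (iv D5606) (iv D4285) (iv D3232) F1806 D2429 D3253
def n5641 : Q := act 1 n4311
theorem D5641 : act 1 n4311 = n5641 := rfl
def n5642 : Q := act 3 n4311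
theorem D5642 : act 3 n4311 = n5642 := rfl
theorem F4406 : act 0 n5642 = n4313 := d2_1 D5642 (iv D4313) (iv F3307)
def n5643 : Q := act 2 n4312
theorem D5643 : act 2 n4312 = n5643 := rfl
def n5644 : Q := act 2 n4313
theorem D5644 : act 2 n4313 = n5644 := rfl
def n5645 : Q := act 3 n4314
theorem D5645 : act 3 n4314 = n5645 := rfl
theorem F4408 : act 1 n5645 = n5545 := d4_1 D5645 (iv F4339) F4338
def n5646 : Q := act 1 n4315
theorem D5646 : act 1 n4315 = n5646 := rfl
def n5647 : Q := act 3 n4315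
theorem D5647 : act 3 n4315 = n5647 := rfl
theorem F4409 : act 0 n5647 = n4316 := d2_1 D5647 (iv D4316) D4315
def n5648 : Q := act 2 n4316
theorem D5648 : act 2 n4316 = n5648 := rfl
def n5649 : Q := act 0 n4317
theorem D5649 : act 0 n4317 = n5649 := rfl
theorem F4411 : act 3 n5649 = n5627 := d2_2 (iv F3312) D5649 (iv D5627)
def n5651 : Q := act 1 n4318
theorem D5651 : act 1 n4318 = n5651 := rfl
theorem F4412 : act 3 n5651 = n5453 := d4_2 (iv F3314) D5651 (iv D5453)
def n5654 : Q := act 2 n4320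
theorem D5654 : act 2 n4320 = n5654 := rfl
theorem F4417 : act 1 n5654 = n5648 := d3_1 D5654 (iv D5648) F3311 (iv F2474) (iv F3315)
def n5655 : Q := act 1 n4321
theorem D5655 : act 1 n4321 = n5655 := rfl
def n5656 : Q := act 0 n4322
theorem D5656 : act 0 n4322 = n5656 := rfl
theorem F4418 : act 2 n5656 = n4324 := d1_2 (iv F3317) D5656 (iv D4324)
def n5657 : Q := act 3 n4322
theorem D5657 : act 3 n4322 = n5657 := rfl
theorem F4419 : act 1 n5657 = n4323 := d4_1 D5657 (iv D4323) D4322
def n5658 : Q := act 1 n4324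
theorem D5658 : act 1 n4324 = n5658 := rfl
theorem F4420 : act 0 n5658 = n5129 := d0_1 D5658 F3974 F2991 F2211 (iv F1628) F1629 (iv F1826) D3267 D4324
theorem F4421 : act 3 n5127 = n5658 := d2_0 F4420 (iv D5129) D5127
def n5659 : Q := act 3 n4324
theorem D5659 : act 3 n4324 = n5659 := rfl
theorem F4422 : act 0 n5659 = n4325 := d2_1 D5659 (iv D4325) D4324
theorem F4423 : act 1 n5659 = n5127 := d4_1 D5659 F4421 (iv D5658)
def n5660 : Q := act 2 n4325
theorem D5660 : act 2 n4325 = n5660 := rfl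
theorem F4424 : act 1 n5660 = n5626 := d3_1 D5660 (iv D5626) F3299 (iv F2481) (iv F3319)
def n5661 : Q := act 0 n4327
theorem D5661 : act 0 n4327 = n5661 := rfl
def n5662 : Q := act 3 n4327
theorem D5662 : act 3 n4327 = n5662 := rfl
theorem F4426 : act 1 n5662 = n4328 := d4_1 D5662 (iv D4328) D4327
def n5663 : Q := act 1 n4329
theorem D5663 : act 1 n4329 = n5663 := rfl
theorem F4427 : act 2 n5663 = n4363 := d3_2 D4329 D5663 F3348 F2506 F2490
theorem F4428 : act 3 n5663 = n5633 := d4_2 (iv F3325) D5663 (iv D5633)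
def n5664 : Q := act 1 n4330
theorem D5664 : act 1 n4330 = n5664 := rfl
def n5665 : Q := act 3 n4330
theorem D5665 : act 3 n4330 = n5665 := rfl
theorem F4429 : act 0 n5665 = n4331 := d2_1 D5665 (iv D4331) (iv F3326)
def n5666 : Q := act 2 n4331
theorem D5666 : act 2 n4331 = n5666 := rfl
def n5667 : Q := act 1 n4332
theorem D5667 : act 1 n4332 = n5667 := rfl
theorem F4430 : act 2 n5667 = n4333 := d3_2 D4332 D5667 (iv D4333) (iv D3276) (iv F2488)
def n5668 : Q := act 3 n4332
theorem D5668 : act 3 n4332 = n5668 := rfl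
def n5669 : Q := act 0 n4333
theorem D5669 : act 0 n4333 = n5669 := rfl
def n5670 : Q := act 2 n4334
theorem D5670 : act 2 n4334 = n5670 := rfl
theorem F4431 : act 0 n5670 = n4340 := d1_1 D5670 (iv D4340) (iv F3328)
def n5671 : Q := act 3 n4334
theorem D5671 : act 3 n4334 = n5671 := rfl
def n5672 : Q := act 2 n4335
theorem D5672 : act 2 n4335 = n5672 := rfl
theorem F4434 : act 0 n5672 = n4336 := d1_1 D5672 (iv D4336) (iv F3329)
def n5673 : Q := act 1 n4336
theorem D5673 : act 1 n4336 = n5673 := rfl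
theorem F4435 : act 2 n5673 = n4337 := d3_2 D4336 D5673 (iv D4337) (iv D3280) (iv F2491)
def n5674 : Q := act 3 n4336
theorem D5674 : act 3 n4336 = n5674 := rfl
def n5675 : Q := act 0 n4337
theorem D5675 : act 0 n4337 = n5675 := rfl
theorem F4436 : act 3 n5675 = n5314 := d2_2 (iv F3330) D5675 F4122
def n5676 : Q := act 1 n4338
theorem D5676 : act 1 n4338 = n5676 := rfl
def n5677 : Q := act 3 n4338
theorem D5677 : act 3 n4338 = n5677 := rfl
theorem F4437 : act 0 n5677 = n4339 := d2_1 D5677 (iv D4339) D4338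
def n5678 : Q := act 2 n4339
theorem D5678 : act 2 n4339 = n5678 := rfl
theorem F4438 : act 1 n5678 = n5152 := d3_1 D5678 (iv D5152) F3002 (iv F2494) (iv F3332)
def n5679 : Q := act 3 n4340
theorem D5679 : act 3 n4340 = n5679 := rfl
def n5680 : Q := act 2 n4341
theorem D5680 : act 2 n4341 = n5680 := rfl
def n5681 : Q := act 1 n4342
theorem D5681 : act 1 n4342 = n5681 := rfl
def n5684 : Q := act 0 n4345
theorem D5684 : act 0 n4345 = n5684 := rfl
theorem F4440 : act 2 n5684 = n4571 := d1_2 (iv F3336) D5684 (iv D4571)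
def n5685 : Q := act 3 n4345
theorem D5685 : act 3 n4345 = n5685 := rfl
theorem F4441 : act 1 n5685 = n4346 := d4_1 D5685 (iv D4346) D4345
def n5686 : Q := act 1 n4347
theorem D5686 : act 1 n4347 = n5686 := rfl
def n5687 : Q := act 3 n4347
theorem D5687 : act 3 n4347 = n5687 := rfl
theorem F4442 : act 0 n5687 = n4348 := d2_1 D5687 (iv D4348) D4347
def n5690 : Q := act 0 n4350
theorem D5690 : act 0 n4350 = n5690 := rfl
theorem F4444 : act 1 n5690 = n4351 := d0_2 D4350 D5690 (iv D4351) (iv D3292) (iv D2457) (iv D1807) (iv F1330) D2456 D3291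
def n5691 : Q := act 2 n4350
theorem D5691 : act 2 n4350 = n5691 := rfl
def n5692 : Q := act 2 n4351
theorem D5692 : act 2 n4351 = n5692 := rfl
theorem F4445 : act 0 n5692 = n4352 := d1_1 D5692 (iv D4352) D4351
def n5693 : Q := act 3 n4351
theorem D5693 : act 3 n4351 = n5693 := rfl
theorem F4446 : act 0 n5693 = n4353 := d2_1 D5693 (iv D4353) D4351
def n5694 : Q := act 3 n4352
theorem D5694 : act 3 n4352 = n5694 := rfl
def n5695 : Q := act 2 n4353
theorem D5695 : act 2 n4353 = n5695 := rfl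
theorem F4448 : act 1 n5695 = n4714 := d3_1 D5695 (iv D4714) (iv F2737) F2738 (iv F3343)
theorem F4449 : act 3 n5164 = n5695 := d4_0 F4448 F3626 D5164
def n5696 : Q := act 1 n4354
theorem D5696 : act 1 n4354 = n5696 := rfl
theorem F4450 : act 2 n5696 = n4356 := d3_2 D4354 D5696 (iv D4356) (iv D3297) (iv F2500)
def n5699 : Q := act 0 n4356
theorem D5699 : act 0 n4356 = n5699 := rfl
def n5706 : Q := act 0 n4360
theorem D5706 : act 0 n4360 = n5706 := rfl
theorem F4457 : act 2 n5706 = n4362 := d1_2 (iv F3347) D5706 (iv D4362)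
def n5707 : Q := act 3 n4360
theorem D5707 : act 3 n4360 = n5707 := rfl
def n5709 : Q := act 1 n4362
theorem D5709 : act 1 n4362 = n5709 := rfl
theorem F4461 : act 0 n5709 = n4724 := d0_1 D5709 (iv D4724) (iv D3590) (iv D2689) F1460 (iv F1334) (iv F1842) D3301 D4362
def n5710 : Q := act 3 n4362
theorem D5710 : act 3 n4362 = n5710 := rfl
theorem F4462 : act 0 n5710 = n4363 := d2_1 D5710 (iv D4363) D4362
def n5711 : Q := act 0 n4364
theorem D5711 : act 0 n4364 = n5711 := rfl
theorem F4463 : act 2 n5711 = n4603 := d1_2 (iv F3349) D5711 F3535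
theorem F4464 : act 3 n5711 = n5669 := d2_2 (iv F3350) D5711 (iv D5669)
def n5713 : Q := act 3 n4365
theorem D5713 : act 3 n4365 = n5713 := rfl
theorem F4465 : act 0 n5713 = n4366 := d2_1 D5713 (iv D4366) D4365
def n5714 : Q := act 2 n4366
theorem D5714 : act 2 n4366 = n5714 := rfl
theorem F4466 : act 1 n5714 = n5457 := d3_1 D5714 (iv D5457) F3200 (iv F2510) (iv F3352)
def n5715 : Q := act 0 n4367
theorem D5715 : act 0 n4367 = n5715 := rfl
def n5716 : Q := act 2 n4367
theorem D5716 : act 2 n4367 = n5716 := rfl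
theorem F4467 : act 1 n5716 = n4372 := d3_1 D5716 (iv D4372) (iv D3309) (iv F2511) D4367
def n5717 : Q := act 3 n4367
theorem D5717 : act 3 n4367 = n5717 := rfl
theorem F4468 : act 1 n5717 = n4368 := d4_1 D5717 (iv D4368) D4367
def n5718 : Q := act 1 n4369
theorem D5718 : act 1 n4369 = n5718 := rfl
theorem F4469 : act 2 n5718 = n4370 := d3_2 D4369 D5718 (iv D4370) (iv D3308) (iv F2512)
def n5719 : Q := act 0 n4370
theorem D5719 : act 0 n4370 = n5719 := rfl
def n5720 : Q := act 2 n4371
theorem D5720 : act 2 n4371 = n5720 := rfl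
theorem F4471 : act 0 n5720 = n4372 := d1_1 D5720 (iv D4372) D4371
def n5721 : Q := act 3 n4372
theorem D5721 : act 3 n4372 = n5721 := rfl
def n5722 : Q := act 1 n4373
theorem D5722 : act 1 n4373 = n5722 := rfl
def n5723 : Q := act 3 n4373
theorem D5723 : act 3 n4373 = n5723 := rfl
theorem F4472 : act 0 n5723 = n4375 := d2_1 D5723 (iv D4375) (iv F3356)
def n5724 : Q := act 2 n4374
theorem D5724 : act 2 n4374 = n5724 := rfl
theorem F4473 : act 0 n5724 = n4376 := d1_1 D5724 (iv D4376) (iv F3357)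
def n5725 : Q := act 2 n4375
theorem D5725 : act 2 n4375 = n5725 := rfl
def n5726 : Q := act 3 n4376
theorem D5726 : act 3 n4376 = n5726 := rfl
theorem F4474 : act 1 n5726 = n4422 := d4_1 D5726 (iv F3408) F3407
def n5727 : Q := act 0 n4377
theorem D5727 : act 0 n4377 = n5727 := rfl
theorem F4475 : act 2 n5727 = n4391 := d1_2 (iv F3359) D5727 (iv D4391)
def n5732 : Q := act 1 n4380
theorem D5732 : act 1 n4380 = n5732 := rfl
theorem F4481 : act 0 n5732 = n4662 := d0_1 D5732 (iv D4662) (iv D3534) (iv D2647) F1433 (iv F1339) (iv F1847) D3317 D4380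
def n5733 : Q := act 3 n4380
theorem D5733 : act 3 n4380 = n5733 := rfl
def n5734 : Q := act 2 n4381
theorem D5734 : act 2 n4381 = n5734 := rfl
def n5737 : Q := act 3 n4383
theorem D5737 : act 3 n4383 = n5737 := rfl
def n5740 : Q := act 1 n4387
theorem D5740 : act 1 n4387 = n5740 := rfl
theorem F4487 : act 3 n5740 = n5116 := d4_2 F3369 D5740 (iv D5116)
def n5742 : Q := act 2 n4390
theorem D5742 : act 2 n4390 = n5742 := rfl
def n5743 : Q := act 1 n4391
theorem D5743 : act 1 n4391 = n5743 := rfl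
def n5747 : Q := act 0 n4394
theorem D5747 : act 0 n4394 = n5747 := rfl
def n5748 : Q := act 3 n4394
theorem D5748 : act 3 n4394 = n5748 := rfl
theorem F4491 : act 1 n5748 = n4395 := d4_1 D5748 (iv D4395) D4394
def n5751 : Q := act 1 n4398
theorem D5751 : act 1 n4398 = n5751 := rfl
def n5752 : Q := act 3 n4398
theorem D5752 : act 3 n4398 = n5752 := rfl
theorem F4493 : act 0 n5752 = n4399 := d2_1 D5752 (iv D4399) D4398
def n5753 : Q := act 2 n4399
theorem D5753 : act 2 n4399 = n5753 := rfl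
def n5755 : Q := act 2 n4401
theorem D5755 : act 2 n4401 = n5755 := rfl
theorem F4495 : act 0 n5755 = n5742 := d1_1 D5755 (iv D5742) (iv F3383)
def n5756 : Q := act 3 n4401
theorem D5756 : act 3 n4401 = n5756 := rfl
theorem F4496 : act 0 n5756 = n4674 := d2_1 D5756 F3595 (iv F3383)
theorem F4497 : act 1 n5756 = n4402 := d4_1 D5756 (iv D4402) D4401
def n5757 : Q := act 1 n4403
theorem D5757 : act 1 n4403 = n5757 := rfl
theorem F4498 : act 3 n5757 = n5492 := d4_2 (iv F3386) D5757 (iv D5492)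
def n5758 : Q := act 2 n4404
theorem D5758 : act 2 n4404 = n5758 := rfl
def n5759 : Q := act 3 n4405
theorem D5759 : act 3 n4405 = n5759 := rfl
theorem F4500 : act 1 n5759 = n5219 := d4_1 D5759 (iv F4068) F4067
def n5761 : Q := act 3 n4406
theorem D5761 : act 3 n4406 = n5761 := rfl
theorem F4503 : act 0 n5761 = n4407 := d2_1 D5761 (iv D4407) D4406
def n5762 : Q := act 2 n4407
theorem D5762 : act 2 n4407 = n5762 := rfl
def n5764 : Q := act 3 n4408
theorem D5764 : act 3 n4408 = n5764 := rfl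
theorem F4505 : act 0 n5764 = n4409 := d2_1 D5764 (iv D4409) D4408
def n5765 : Q := act 2 n4409
theorem D5765 : act 2 n4409 = n5765 := rfl
theorem F4506 : act 1 n5765 = n5762 := d3_1 D5765 (iv D5762) F3388 (iv F2536) (iv F3390)
def n5766 : Q := act 1 n4410
theorem D5766 : act 1 n4410 = n5766 := rfl
def n5767 : Q := act 3 n4410
theorem D5767 : act 3 n4410 = n5767 := rfl
theorem F4507 : act 0 n5767 = n4411 := d2_1 D5767 (iv D4411) (iv F3391)
def n5768 : Q := act 2 n4411
theorem D5768 : act 2 n4411 = n5768 := rfl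
def n5769 : Q := act 3 n4412
theorem D5769 : act 3 n4412 = n5769 := rfl
theorem F4508 : act 1 n5769 = n4642 := d4_1 D5769 (iv F3579) F3578
def n5772 : Q := act 1 n4415
theorem D5772 : act 1 n4415 = n5772 := rfl
def n5776 : Q := act 2 n4417
theorem D5776 : act 2 n4417 = n5776 := rfl
theorem F4512 : act 0 n5776 = n4418 := d1_1 D5776 (iv D4418) (iv F3395)
def n5777 : Q := act 3 n4418
theorem D5777 : act 3 n4418 = n5777 := rfl
theorem F4513 : act 1 n5777 = n4633 := d4_1 D5777 (iv D4633) (iv F3396)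
def n5778 : Q := act 2 n4419
theorem D5778 : act 2 n4419 = n5778 := rfl
theorem F4514 : act 0 n5778 = n4420 := d1_1 D5778 (iv D4420) D4419
def n5779 : Q := act 3 n4419
theorem D5779 : act 3 n4419 = n5779 := rfl
theorem F4515 : act 0 n5779 = n4421 := d2_1 D5779 (iv D4421) D4419
def n5780 : Q := act 3 n4420
theorem D5780 : act 3 n4420 = n5780 := rfl
theorem F4516 : act 1 n5780 = n4426 := d4_1 D5780 (iv D4426) (iv F3397)
def n5781 : Q := act 2 n4421
theorem D5781 : act 2 n4421 = n5781 := rfl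
def n5783 : Q := act 3 n4423
theorem D5783 : act 3 n4423 = n5783 := rfl
def n5784 : Q := act 1 n4425
theorem D5784 : act 1 n4425 = n5784 := rfl
theorem F4519 : act 3 n5784 = n4629 := d4_2 (iv F3401) D5784 (iv D4629)
def n5785 : Q := act 0 n4427
theorem D5785 : act 0 n4427 = n5785 := rfl
theorem F4520 : act 2 n5785 = n5229 := d1_2 (iv F3403) D5785 (iv D5229)
def n5786 : Q := act 3 n4427
theorem D5786 : act 3 n4427 = n5786 := rfl
theorem F4521 : act 1 n5786 = n4428 := d4_1 D5786 (iv D4428) D4427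
def n5787 : Q := act 2 n4430
theorem D5787 : act 2 n4430 = n5787 := rfl
theorem F4522 : act 1 n5787 = n5514 := d3_1 D5787 (iv D5514) (iv D4215) (iv F2549) D4430
def n5790 : Q := act 3 n4432
theorem D5790 : act 3 n4432 = n5790 := rfl
def n5792 : Q := act 2 n4434
theorem D5792 : act 2 n4434 = n5792 := rfl
theorem F4525 : act 0 n5792 = n4435 := d1_1 D5792 (iv D4435) D4434
def n5793 : Q := act 3 n4435
theorem D5793 : act 3 n4435 = n5793 := rfl
def n5796 : Q := act 2 n4437
theorem D5796 : act 2 n4437 = n5796 := rfl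
theorem F4528 : act 0 n5796 = n4439 := d1_1 D5796 (iv D4439) (iv F3412)
def n5798 : Q := act 3 n4439
theorem D5798 : act 3 n4439 = n5798 := rfl
theorem F4529 : act 1 n5798 = n5612 := d4_1 D5798 (iv F4391) F4390
def n5802 : Q := act 1 n4442
theorem D5802 : act 1 n4442 = n5802 := rfl
theorem F4533 : act 2 n5802 = n4451 := d3_2 D4442 D5802 (iv D4451) (iv D3373) (iv F2557)
def n5803 : Q := act 3 n4442
theorem D5803 : act 3 n4442 = n5803 := rfl
def n5804 : Q := act 1 n4443
theorem D5804 : act 1 n4443 = n5804 := rfl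
def n5805 : Q := act 3 n4443
theorem D5805 : act 3 n4443 = n5805 := rfl
theorem F4535 : act 2 n5805 = n5803 := d6_2 D4443 D5805 (iv D5803) (iv D4442) (iv D3365) D3364 D4441 F3416
def n5811 : Q := act 3 n4448
theorem D5811 : act 3 n4448 = n5811 := rfl
theorem F4543 : act 0 n5811 = n4449 := d2_1 D5811 (iv D4449) D4448
def n5812 : Q := act 2 n4449
theorem D5812 : act 2 n4449 = n5812 := rfl
theorem F4544 : act 1 n5812 = n4949 := d3_1 D5812 (iv D4949) F3423 (iv D4450) (iv F3420)
def n5813 : Q := act 0 n4451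
theorem D5813 : act 0 n4451 = n5813 := rfl
def n5814 : Q := act 0 n4452
theorem D5814 : act 0 n4452 = n5814 := rfl
theorem F4545 : act 2 n5814 = n4463 := d1_2 (iv F3424) D5814 (iv D4463)
def n5815 : Q := act 3 n4452
theorem D5815 : act 3 n4452 = n5815 := rfl
theorem F4546 : act 1 n5815 = n4453 := d4_1 D5815 (iv D4453) D4452
def n5817 : Q := act 3 n4455
theorem D5817 : act 3 n4455 = n5817 := rfl
theorem F4548 : act 1 n5817 = n4458 := d4_1 D5817 (iv D4458) (iv F3429)
def n5818 : Q := act 2 n4456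
theorem D5818 : act 2 n4456 = n5818 := rfl
theorem F4549 : act 0 n5818 = n4951 := d1_1 D5818 (iv D4951) (iv F3430)
def n5819 : Q := act 1 n4457
theorem D5819 : act 1 n4457 = n5819 := rfl
theorem F4550 : act 2 n5819 = n5546 := d3_2 D4457 D5819 (iv D5546) (iv D4240) (iv F2567)
def n5820 : Q := act 3 n4457
theorem D5820 : act 3 n4457 = n5820 := rfl
def n5821 : Q := act 2 n4458
theorem D5821 : act 2 n4458 = n5821 := rfl
def n5822 : Q := act 2 n4459
theorem D5822 : act 2 n4459 = n5822 := rfl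
theorem F4552 : act 1 n5822 = n4485 := d3_1 D5822 (iv D4485) (iv D3400) (iv F2569) D4459
def n5823 : Q := act 3 n4459
theorem D5823 : act 3 n4459 = n5823 := rfl
theorem F4553 : act 1 n5823 = n4460 := d4_1 D5823 (iv D4460) D4459
def n5824 : Q := act 2 n4460
theorem D5824 : act 2 n4460 = n5824 := rfl
theorem F4554 : act 0 n5824 = n4461 := d1_1 D5824 (iv D4461) (iv F3433)
def n5825 : Q := act 1 n4461
theorem D5825 : act 1 n4461 = n5825 := rfl
theorem F4555 : act 2 n5825 = n4462 := d3_2 D4461 D5825 (iv D4462) (iv D3382) (iv F2570)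
def n5826 : Q := act 3 n4461
theorem D5826 : act 3 n4461 = n5826 := rfl
def n5829 : Q := act 3 n4463
theorem D5829 : act 3 n4463 = n5829 := rfl
theorem F4557 : act 0 n5829 = n4464 := d2_1 D5829 (iv D4464) D4463
def n5830 : Q := act 2 n4464
theorem D5830 : act 2 n4464 = n5830 := rfl
theorem F4558 : act 1 n5830 = n4522 := d3_1 D5830 (iv D4522) F2604 (iv F2574) (iv F3435)
def n5831 : Q := act 3 n4465
theorem D5831 : act 3 n4465 = n5831 := rfl
theorem F4559 : act 1 n5831 = n4501 := d4_1 D5831 (iv D4501) (iv F3436)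
def n5832 : Q := act 2 n4466
theorem D5832 : act 2 n4466 = n5832 := rfl
def n5833 : Q := act 0 n4468
theorem D5833 : act 0 n4468 = n5833 := rfl
theorem F4560 : act 2 n5833 = n4470 := d1_2 (iv F3439) D5833 (iv D4470)
def n5834 : Q := act 3 n4468
theorem D5834 : act 3 n4468 = n5834 := rfl
theorem F4561 : act 1 n5834 = n4469 := d4_1 D5834 (iv D4469) D4468
def n5835 : Q := act 1 n4470
theorem D5835 : act 1 n4470 = n5835 := rfl
def n5836 : Q := act 0 n4471
theorem D5836 : act 0 n4471 = n5836 := rfl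
theorem F4562 : act 1 n5836 = n4477 := d0_2 D4471 D5836 (iv D4477) (iv D3393) (iv D2533) (iv D1862) (iv F1370) D2529 D3389
def n5838 : Q := act 3 n4471
theorem D5838 : act 3 n4471 = n5838 := rfl
theorem F4564 : act 1 n5838 = n4472 := d4_1 D5838 (iv D4472) D4471
def n5839 : Q := act 2 n4472
theorem D5839 : act 2 n4472 = n5839 := rfl
def n5840 : Q := act 3 n4473
theorem D5840 : act 3 n4473 = n5840 := rfl
def n5844 : Q := act 2 n4475
theorem D5844 : act 2 n4475 = n5844 := rfl
theorem F4567 : act 0 n5844 = n4476 := d1_1 D5844 (iv D4476) (iv F3441)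
def n5845 : Q := act 3 n4476
theorem D5845 : act 3 n4476 = n5845 := rfl
theorem F4568 : act 1 n5845 = n5840 := d4_1 D5845 (iv D5840) (iv F3442)
def n5846 : Q := act 2 n4477
theorem D5846 : act 2 n4477 = n5846 := rfl
theorem F4569 : act 0 n5846 = n4478 := d1_1 D5846 (iv D4478) D4477
def n5847 : Q := act 3 n4477
theorem D5847 : act 3 n4477 = n5847 := rfl
theorem F4570 : act 0 n5847 = n4479 := d2_1 D5847 (iv D4479) D4477
def n5848 : Q := act 3 n4478
theorem D5848 : act 3 n4478 = n5848 := rfl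
theorem F4571 : act 1 n5848 = n4482 := d4_1 D5848 (iv D4482) (iv F3443)
def n5849 : Q := act 0 n4480
theorem D5849 : act 0 n4480 = n5849 := rfl
theorem F4572 : act 2 n5849 = n4481 := d1_2 (iv F3445) D5849 (iv D4481)
def n5850 : Q := act 1 n4481
theorem D5850 : act 1 n4481 = n5850 := rfl
theorem F4573 : act 3 n5850 = n5835 := d4_2 (iv F3446) D5850 (iv D5835)
def n5851 : Q := act 2 n4482
theorem D5851 : act 2 n4482 = n5851 := rfl
def n5852 : Q := act 3 n4483
theorem D5852 : act 3 n4483 = n5852 := rfl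
theorem F4574 : act 0 n5852 = n4819 := d2_1 D5852 (iv D4819) (iv F3447)
def n5853 : Q := act 3 n4484
theorem D5853 : act 3 n4484 = n5853 := rfl
theorem F4575 : act 1 n5853 = n4818 := d4_1 D5853 (iv D4818) (iv F3448)
def n5857 : Q := act 3 n4487
theorem D5857 : act 3 n4487 = n5857 := rfl
theorem F4579 : act 2 n5857 = n5826 := d6_2 D4487 D5857 (iv D5826) (iv D4461) (iv D3381) F1887 D2540 (iv F2585)
def n5858 : Q := act 0 n4488
theorem D5858 : act 0 n4488 = n5858 := rfl
theorem F4580 : act 2 n5858 = n4490 := d1_2 (iv F3453) D5858 (iv D4490)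
def n5859 : Q := act 3 n4488
theorem D5859 : act 3 n4488 = n5859 := rfl
theorem F4581 : act 1 n5859 = n4489 := d4_1 D5859 (iv D4489) D4488
def n5860 : Q := act 2 n4489
theorem D5860 : act 2 n4489 = n5860 := rfl
theorem F4583 : act 3 n5860 = n5824 := d5_2 D4489 D5860 (iv D5824) (iv D4460) F2569 D3401 D4487 D5857 F4579 (iv D5826) (iv D4461) (iv D3381) F1887 D2540 D3402
def n5862 : Q := act 0 n4491
theorem D5862 : act 0 n4491 = n5862 := rfl
theorem F4584 : act 1 n5862 = n4497 := d0_2 D4491 D5862 (iv D4497) (iv D3408) (iv D2546) (iv D1871) (iv F1376) D2542 D3404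
def n5864 : Q := act 3 n4491
theorem D5864 : act 3 n4491 = n5864 := rfl
theorem F4585 : act 1 n5864 = n4492 := d4_1 D5864 (iv D4492) D4491
def n5865 : Q := act 2 n4492
theorem D5865 : act 2 n4492 = n5865 := rfl
theorem F4586 : act 0 n5865 = n4493 := d1_1 D5865 (iv D4493) (iv F3454)
def n5866 : Q := act 3 n4493
theorem D5866 : act 3 n4493 = n5866 := rfl
def n5867 : Q := act 0 n4494
theorem D5867 : act 0 n4494 = n5867 := rfl
def n5869 : Q := act 3 n4494
theorem D5869 : act 3 n4494 = n5869 := rfl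
theorem F4588 : act 1 n5869 = n4495 := d4_1 D5869 (iv D4495) D4494
def n5871 : Q := act 3 n4496
theorem D5871 : act 3 n4496 = n5871 := rfl
theorem F4590 : act 1 n5871 = n5866 := d4_1 D5871 (iv D5866) (iv F3456)
def n5872 : Q := act 2 n4497
theorem D5872 : act 2 n4497 = n5872 := rfl
theorem F4591 : act 0 n5872 = n4498 := d1_1 D5872 (iv D4498) D4497
def n5873 : Q := act 3 n4498
theorem D5873 : act 3 n4498 = n5873 := rfl
theorem F4592 : act 1 n5873 = n4500 := d4_1 D5873 (iv D4500) (iv F3457)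
def n5874 : Q := act 1 n4499
theorem D5874 : act 1 n4499 = n5874 := rfl
def n5876 : Q := act 2 n4501
theorem D5876 : act 2 n4501 = n5876 := rfl
theorem F4595 : act 0 n5876 = n4524 := d1_1 D5876 (iv D4524) (iv F3460)
def n5877 : Q := act 1 n4502
theorem D5877 : act 1 n4502 = n5877 := rfl
theorem F4596 : act 2 n5877 = n4503 := d3_2 D4502 D5877 (iv D4503) (iv D3413) (iv F2593)
def n5878 : Q := act 3 n4502
theorem D5878 : act 3 n4502 = n5878 := rfl
def n5879 : Q := act 0 n4503
theorem D5879 : act 0 n4503 = n5879 := rfl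
def n5880 : Q := act 3 n4503
theorem D5880 : act 3 n4503 = n5880 := rfl
theorem F4598 : act 1 n5880 = n4504 := d4_1 D5880 (iv D4504) D4503
def n5881 : Q := act 3 n4506
theorem D5881 : act 3 n4506 = n5881 := rfl
def n5882 : Q := act 1 n4507
theorem D5882 : act 1 n4507 = n5882 := rfl
theorem F4600 : act 2 n5882 = n5029 := d3_2 D4507 D5882 (iv D5029) (iv D3831) (iv F2599)
def n5883 : Q := act 3 n4507
theorem D5883 : act 3 n4507 = n5883 := rfl
theorem F4601 : act 0 n5883 = n4508 := d2_1 D5883 (iv D4508) (iv F3468)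
theorem F4602 : act 2 n5883 = n5840 := d6_2 D4507 D5883 (iv D5840) (iv D4473) (iv D3390) F1892 D2554 (iv F2598)
def n5884 : Q := act 2 n4508
theorem D5884 : act 2 n4508 = n5884 := rfl
theorem F4603 : act 0 n5884 = n5840 := d1_1 D5884 (iv F4602) F4601
theorem F4604 : act 3 n5884 = n5839 := d5_2 D4508 D5884 (iv D5839) (iv D4472) F2576 D3416 D4507 D5883 F4602 (iv D5840) (iv D4473) (iv D3390) F1892 D2554 D3417
def n5885 : Q := act 2 n4509
theorem D5885 : act 2 n4509 = n5885 := rfl
theorem F4605 : act 0 n5885 = n4510 := d1_1 D5885 (iv D4510) D4509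
def n5886 : Q := act 3 n4510
theorem D5886 : act 3 n4510 = n5886 := rfl
def n5887 : Q := act 2 n4511
theorem D5887 : act 2 n4511 = n5887 := rfl
def n5888 : Q := act 1 n4512
theorem D5888 : act 1 n4512 = n5888 := rfl
def n5891 : Q := act 2 n4515
theorem D5891 : act 2 n4515 = n5891 := rfl
def n5892 : Q := act 1 n4516
theorem D5892 : act 1 n4516 = n5892 := rfl
theorem F4609 : act 3 n5892 = n5536 := d4_2 F3478 D5892 F4326
def n5893 : Q := act 0 n4517
theorem D5893 : act 0 n4517 = n5893 := rfl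
theorem F4610 : act 2 n5893 = n4523 := d1_2 (iv F3475) D5893 (iv D4523)
def n5897 : Q := act 2 n4521
theorem D5897 : act 2 n4521 = n5897 := rfl
def n5898 : Q := act 3 n4522
theorem D5898 : act 3 n4522 = n5898 := rfl
def n5900 : Q := act 1 n4524
theorem D5900 : act 1 n4524 = n5900 := rfl
theorem F4615 : act 2 n5900 = n4540 := d3_2 D4524 D5900 (iv D4540) (iv D3439) (iv F2605)
def n5901 : Q := act 3 n4524
theorem D5901 : act 3 n4524 = n5901 := rfl
theorem F4616 : act 2 n5901 = n5878 := d6_2 D4524 D5901 (iv D5878) (iv D4502) (iv D3412) D3411 D4501 F3460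
def n5902 : Q := act 0 n4525
theorem D5902 : act 0 n4525 = n5902 := rfl
theorem F4617 : act 2 n5902 = n4527 := d1_2 (iv F3480) D5902 (iv D4527)
def n5903 : Q := act 3 n4525
theorem D5903 : act 3 n4525 = n5903 := rfl
theorem F4618 : act 1 n5903 = n4526 := d4_1 D5903 (iv D4526) D4525
def n5904 : Q := act 2 n4526
theorem D5904 : act 2 n4526 = n5904 := rfl
theorem F4620 : act 3 n5904 = n5876 := d5_2 D4526 D5904 (iv D5876) (iv D4501) (iv D3411) D3412 D4502 D5878 (iv F4616) (iv D5901) (iv D4524) (iv D3428) (iv D2563) D2564 D3429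
def n5905 : Q := act 1 n4527
theorem D5905 : act 1 n4527 = n5905 := rfl
def n5909 : Q := act 2 n4531
theorem D5909 : act 2 n4531 = n5909 := rfl
theorem F4623 : act 0 n5909 = n4532 := d1_1 D5909 (iv D4532) D4531
def n5910 : Q := act 3 n4532
theorem D5910 : act 3 n4532 = n5910 := rfl
def n5911 : Q := act 1 n4533
theorem D5911 : act 1 n4533 = n5911 := rfl
def n5912 : Q := act 3 n4533
theorem D5912 : act 3 n4533 = n5912 := rfl
theorem F4624 : act 0 n5912 = n4535 := d2_1 D5912 (iv D4535) (iv F3484)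
def n5913 : Q := act 2 n4534
theorem D5913 : act 2 n4534 = n5913 := rfl
def n5914 : Q := act 2 n4535
theorem D5914 : act 2 n4535 = n5914 := rfl
def n5915 : Q := act 1 n4536
theorem D5915 : act 1 n4536 = n5915 := rfl
theorem F4626 : act 2 n5915 = n4537 := d3_2 D4536 D5915 (iv D4537) (iv D3437) (iv F2609)
def n5916 : Q := act 3 n4536
theorem D5916 : act 3 n4536 = n5916 := rfl
def n5917 : Q := act 0 n4537
theorem D5917 : act 0 n4537 = n5917 := rfl
def n5918 : Q := act 3 n4537
theorem D5918 : act 3 n4537 = n5918 := rfl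
theorem F4627 : act 1 n5918 = n4538 := d4_1 D5918 (iv D4538) D4537
def n5919 : Q := act 1 n4539
theorem D5919 : act 1 n4539 = n5919 := rfl
theorem F4628 : act 2 n5919 = n4557 := d3_2 D4539 D5919 F3501 F2620 (iv F2611)
theorem F4629 : act 3 n5919 = n5888 := d4_2 (iv F3490) D5919 (iv D5888)
def n5920 : Q := act 0 n4540
theorem D5920 : act 0 n4540 = n5920 := rfl
def n5921 : Q := act 1 n4541
theorem D5921 : act 1 n4541 = n5921 := rfl
def n5922 : Q := act 3 n4541
theorem D5922 : act 3 n4541 = n5922 := rfl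
def n5923 : Q := act 2 n4542
theorem D5923 : act 2 n4542 = n5923 := rfl
def n5927 : Q := act 2 n4544
theorem D5927 : act 2 n4544 = n5927 := rfl
theorem F4633 : act 0 n5927 = n4545 := d1_1 D5927 (iv D4545) (iv F3493)
def n5928 : Q := act 3 n4545
theorem D5928 : act 3 n4545 = n5928 := rfl
theorem F4634 : act 1 n5928 = n4957 := d4_1 D5928 F3838 (iv F3494)
def n5931 : Q := act 1 n4548
theorem D5931 : act 1 n4548 = n5931 := rfl
theorem F4637 : act 3 n5931 = n5905 := d4_2 (iv F3496) D5931 (iv D5905)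
def n5936 : Q := act 3 n4551
theorem D5936 : act 3 n4551 = n5936 := rfl
theorem F4641 : act 1 n5936 = n4552 := d4_1 D5936 (iv D4552) D4551
def n5937 : Q := act 2 n4552
theorem D5937 : act 2 n4552 = n5937 := rfl
def n5938 : Q := act 1 n4553
theorem D5938 : act 1 n4553 = n5938 := rfl
def n5939 : Q := act 3 n4553
theorem D5939 : act 3 n4553 = n5939 := rfl
theorem F4643 : act 2 n5939 = n5496 := d6_2 D4553 D5939 (iv D5496) (iv D4202) F2393 D3448 D4552 F3499
def n5940 : Q := act 0 n4554
theorem D5940 : act 0 n4554 = n5940 := rfl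
theorem F4644 : act 2 n5940 = n4556 := d1_2 (iv F3500) D5940 (iv D4556)
def n5941 : Q := act 3 n4554
theorem D5941 : act 3 n4554 = n5941 := rfl
theorem F4645 : act 1 n5941 = n4555 := d4_1 D5941 (iv D4555) D4554
def n5942 : Q := act 2 n4555
theorem D5942 : act 2 n4555 = n5942 := rfl
theorem F4646 : act 0 n5942 = n5939 := d1_1 D5942 F4643 F4287
theorem F4647 : act 3 n5942 = n5937 := d5_2 D4555 D5942 (iv D5937) (iv D4552) (iv D3448) (iv F2393) D4202 D5496 (iv F4643) (iv D5939) (iv D4553) (iv D3449) (iv D2581) D2582 D3450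
def n5943 : Q := act 1 n4556
theorem D5943 : act 1 n4556 = n5943 := rfl
def n5944 : Q := act 3 n4556
theorem D5944 : act 3 n4556 = n5944 := rfl
theorem F4648 : act 0 n5944 = n4557 := d2_1 D5944 (iv D4557) D4556
def n5945 : Q := act 0 n4558
theorem D5945 : act 0 n4558 = n5945 := rfl
theorem F4649 : act 2 n5945 = n4616 := d1_2 (iv F3502) D5945 F3546
theorem F4650 : act 3 n5945 = n4962 := d2_2 (iv F3503) D5945 (iv D4962)
def n5948 : Q := act 2 n4560
theorem D5948 : act 2 n4560 = n5948 := rfl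
theorem F4652 : act 0 n5948 = n4562 := d1_1 D5948 (iv D4562) (iv F3504)
def n5949 : Q := act 1 n4561
theorem D5949 : act 1 n4561 = n5949 := rfl
def n5950 : Q := act 3 n4561
theorem D5950 : act 3 n4561 = n5950 := rfl
theorem F4653 : act 0 n5950 = n4564 := d2_1 D5950 (iv D4564) (iv F3505)
def n5951 : Q := act 1 n4562
theorem D5951 : act 1 n4562 = n5951 := rfl
theorem F4654 : act 2 n5951 = n4610 := d3_2 D4562 D5951 (iv D4610) (iv D3493) (iv F2625)
def n5952 : Q := act 3 n4562
theorem D5952 : act 3 n4562 = n5952 := rfl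
theorem F4655 : act 2 n5952 = n5950 := d6_2 D4562 D5952 (iv D5950) (iv D4561) (iv D3455) D3454 D4560 F3504
def n5953 : Q := act 0 n4563
theorem D5953 : act 0 n4563 = n5953 := rfl
theorem F4656 : act 2 n5953 = n4565 := d1_2 (iv F3506) D5953 (iv D4565)
def n5954 : Q := act 3 n4563
theorem D5954 : act 3 n4563 = n5954 := rfl
theorem F4657 : act 1 n5954 = n4564 := d4_1 D5954 (iv D4564) D4563
def n5955 : Q := act 2 n4564
theorem D5955 : act 2 n4564 = n5955 := rfl
theorem F4659 : act 3 n5955 = n5948 := d5_2 D4564 D5955 (iv D5948) (iv D4560) (iv D3454) D3455 D4561 D5950 (iv F4655) (iv D5952) (iv D4562) (iv D3456) (iv D2586) D2587 D3457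
def n5956 : Q := act 1 n4565
theorem D5956 : act 1 n4565 = n5956 := rfl
theorem F4660 : act 0 n5956 = n5943 := d0_1 D5956 (iv D5943) (iv D4556) (iv D3451) F1938 (iv F1399) (iv F1941) D3458 D4565
def n5957 : Q := act 1 n4567
theorem D5957 : act 1 n4567 = n5957 := rfl
def n5961 : Q := act 3 n4569
theorem D5961 : act 3 n4569 = n5961 := rfl
theorem F4663 : act 0 n5961 = n4570 := d2_1 D5961 (iv D4570) D4569
def n5962 : Q := act 2 n4570
theorem D5962 : act 2 n4570 = n5962 := rfl
theorem F4664 : act 1 n5962 = n4636 := d3_1 D5962 (iv D4636) F2675 (iv F2629) (iv F3508)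
def n5964 : Q := act 3 n4571
theorem D5964 : act 3 n4571 = n5964 := rfl
theorem F4665 : act 0 n5964 = n4572 := d2_1 D5964 (iv D4572) D4571
def n5965 : Q := act 2 n4572
theorem D5965 : act 2 n4572 = n5965 := rfl
theorem F4666 : act 1 n5965 = n5923 := d3_1 D5965 (iv D5923) F3492 (iv F2630) (iv F3509)
def n5966 : Q := act 0 n4573
theorem D5966 : act 0 n4573 = n5966 := rfl
def n5967 : Q := act 2 n4573
theorem D5967 : act 2 n4573 = n5967 := rfl
theorem F4667 : act 1 n5967 = n4578 := d3_1 D5967 (iv D4578) (iv D3469) (iv F2631) D4573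
def n5968 : Q := act 3 n4573
theorem D5968 : act 3 n4573 = n5968 := rfl
theorem F4668 : act 1 n5968 = n4574 := d4_1 D5968 (iv D4574) D4573
def n5969 : Q := act 2 n4574
theorem D5969 : act 2 n4574 = n5969 := rfl
def n5971 : Q := act 3 n4575
theorem D5971 : act 3 n4575 = n5971 := rfl
def n5972 : Q := act 0 n4576
theorem D5972 : act 0 n4576 = n5972 := rfl
theorem F4671 : act 3 n5972 = n5920 := d2_2 (iv F3511) D5972 (iv D5920)
def n5973 : Q := act 2 n4577
theorem D5973 : act 2 n4577 = n5973 := rfl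
theorem F4672 : act 0 n5973 = n4578 := d1_1 D5973 (iv D4578) D4577
def n5977 : Q := act 1 n4580
theorem D5977 : act 1 n4580 = n5977 := rfl
def n5978 : Q := act 3 n4580
theorem D5978 : act 3 n4580 = n5978 := rfl
theorem F4675 : act 0 n5978 = n4581 := d2_1 D5978 (iv D4581) (iv F3514)
theorem F4676 : act 2 n5978 = n5971 := d6_2 D4580 D5978 (iv D5971) (iv D4575) (iv D3467) F1946 D2598 (iv F2635)
def n5979 : Q := act 2 n4581
theorem D5979 : act 2 n4581 = n5979 := rfl
theorem F4678 : act 1 n5979 = n4718 := d3_1 D5979 (iv D4718) F2733 D3585 (iv F3515)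
theorem F4679 : act 3 n5979 = n5969 := d5_2 D4581 D5979 (iv D5969) (iv D4574) F2631 D3470 D4580 D5978 F4676 (iv D5971) (iv D4575) (iv D3467) F1946 D2598 D3471
def n5980 : Q := act 1 n4582
theorem D5980 : act 1 n4582 = n5980 := rfl
def n5981 : Q := act 3 n4582
theorem D5981 : act 3 n4582 = n5981 := rfl
theorem F4680 : act 0 n5981 = n4584 := d2_1 D5981 (iv D4584) (iv F3516)
def n5982 : Q := act 2 n4583
theorem D5982 : act 2 n4583 = n5982 := rfl
def n5983 : Q := act 2 n4584
theorem D5983 : act 2 n4584 = n5983 := rfl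
def n5984 : Q := act 3 n4585
theorem D5984 : act 3 n4585 = n5984 := rfl
theorem F4682 : act 1 n5984 = n4632 := d4_1 D5984 F3562 (iv F3519)
def n5987 : Q := act 2 n4587
theorem D5987 : act 2 n4587 = n5987 := rfl
theorem F4684 : act 1 n5987 = n4625 := d3_1 D5987 (iv D4625) F2671 (iv F2644) (iv F3521)
def n5988 : Q := act 0 n4588
theorem D5988 : act 0 n4588 = n5988 := rfl
theorem F4686 : act 3 n5988 = n5690 := d2_2 (iv F3522) D5988 (iv D5690)
def n5989 : Q := act 2 n4588
theorem D5989 : act 2 n4588 = n5989 := rfl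
def n5990 : Q := act 0 n4589
theorem D5990 : act 0 n4589 = n5990 := rfl
theorem F4687 : act 2 n5990 = n4605 := d1_2 (iv F3523) D5990 (iv D4605)
def n5991 : Q := act 3 n4589
theorem D5991 : act 3 n4589 = n5991 := rfl
theorem F4688 : act 1 n5991 = n4590 := d4_1 D5991 (iv D4590) D4589
def n5992 : Q := act 2 n4590
theorem D5992 : act 2 n4590 = n5992 := rfl
theorem F4690 : act 3 n5992 = n4628 := d6_1 D5992 (iv D4628) (iv D3509) (iv D2627) F1420 D2604 D3480 (iv F3524)
def n5993 : Q := act 1 n4591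
theorem D5993 : act 1 n4591 = n5993 := rfl
def n5994 : Q := act 3 n4591
theorem D5994 : act 3 n4591 = n5994 := rfl
theorem F4692 : act 2 n5994 = n4627 := d5_1 D5994 (iv D4627) (iv D3508) F1969 D3479 D4590 D5992 F4690 (iv D4628) (iv D3509) (iv D2627) F1420 D2604 D3480 D4591
def n5995 : Q := act 1 n4592
theorem D5995 : act 1 n4592 = n5995 := rfl
theorem F4693 : act 2 n5995 = n5732 := d3_2 (iv F3525) D5995 (iv D5732) F3361 (iv F2659)
def n6000 : Q := act 3 n4595
theorem D6000 : act 3 n4595 = n6000 := rfl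
theorem F4696 : act 1 n6000 = n4596 := d4_1 D6000 (iv D4596) D4595
def n6004 : Q := act 3 n4599
theorem D6004 : act 3 n4599 = n6004 := rfl
def n6005 : Q := act 2 n4600
theorem D6005 : act 2 n4600 = n6005 := rfl
def n6008 : Q := act 3 n4602
theorem D6008 : act 3 n4602 = n6008 := rfl
theorem F4700 : act 1 n6008 = n4603 := d4_1 D6008 (iv D4603) D4602
def n6011 : Q := act 3 n4605
theorem D6011 : act 3 n4605 = n6011 := rfl
theorem F4702 : act 0 n6011 = n4606 := d2_1 D6011 (iv D4606) D4605
def n6012 : Q := act 2 n4606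
theorem D6012 : act 2 n4606 = n6012 := rfl
def n6014 : Q := act 0 n4608
theorem D6014 : act 0 n4608 = n6014 := rfl
def n6015 : Q := act 3 n4608
theorem D6015 : act 3 n4608 = n6015 := rfl
def n6017 : Q := act 3 n4610
theorem D6017 : act 3 n4610 = n6017 := rfl
theorem F4704 : act 1 n6017 = n4611 := d4_1 D6017 (iv D4611) D4610
def n6018 : Q := act 1 n4612
theorem D6018 : act 1 n4612 = n6018 := rfl
def n6019 : Q := act 3 n4612
theorem D6019 : act 3 n4612 = n6019 := rfl
theorem F4705 : act 0 n6019 = n4613 := d2_1 D6019 (iv D4613) D4612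
def n6020 : Q := act 2 n4613
theorem D6020 : act 2 n4613 = n6020 := rfl
def n6023 : Q := act 3 n4615
theorem D6023 : act 3 n4615 = n6023 := rfl
theorem F4708 : act 0 n6023 = n6008 := d2_1 D6023 (iv D6008) (iv F3545)
theorem F4709 : act 1 n6023 = n4616 := d4_1 D6023 (iv D4616) D4615
def n6024 : Q := act 1 n4617
theorem D6024 : act 1 n4617 = n6024 := rfl
theorem F4710 : act 3 n6024 = n5956 := d4_2 (iv F3548) D6024 (iv D5956)
def n6026 : Q := act 1 n4621
theorem D6026 : act 1 n4621 = n6026 := rfl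
def n6027 : Q := act 3 n4621
theorem D6027 : act 3 n4621 = n6027 := rfl
theorem F4712 : act 0 n6027 = n4622 := d2_1 D6027 (iv D4622) D4621
def n6028 : Q := act 2 n4622
theorem D6028 : act 2 n4622 = n6028 := rfl
def n6029 : Q := act 1 n4623
theorem D6029 : act 1 n4623 = n6029 := rfl
theorem F4714 : act 2 n6029 = n4828 := d3_2 D4623 D6029 (iv D4828) (iv D3673) (iv F2667)
def n6030 : Q := act 3 n4623
theorem D6030 : act 3 n4623 = n6030 := rfl
theorem F4715 : act 0 n6030 = n4624 := d2_1 D6030 (iv D4624) (iv F3554)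
def n6031 : Q := act 2 n4624
theorem D6031 : act 2 n4624 = n6031 := rfl
def n6032 : Q := act 3 n4625
theorem D6032 : act 3 n4625 = n6032 := rfl
theorem F4716 : act 0 n6032 = n4827 := d2_1 D6032 (iv D4827) (iv F3556)
def n6033 : Q := act 0 n4626
theorem D6033 : act 0 n4626 = n6033 := rfl
theorem F4717 : act 2 n6033 = n6014 := d1_2 (iv F3557) D6033 (iv D6014)
def n6034 : Q := act 3 n4626
theorem D6034 : act 3 n4626 = n6034 := rfl
theorem F4718 : act 1 n6034 = n4627 := d4_1 D6034 (iv D4627) D4626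
def n6035 : Q := act 1 n4628
theorem D6035 : act 1 n4628 = n6035 := rfl
def n6037 : Q := act 2 n4629
theorem D6037 : act 2 n4629 = n6037 := rfl
def n6038 : Q := act 3 n4630
theorem D6038 : act 3 n4630 = n6038 := rfl
theorem F4720 : act 0 n6038 = n4631 := d2_1 D6038 (iv D4631) D4630
theorem F4721 : act 1 n6038 = n5779 := d4_1 D6038 (iv D5779) (iv F3559)
def n6039 : Q := act 2 n4631
theorem D6039 : act 2 n4631 = n6039 := rfl
def n6040 : Q := act 2 n4634
theorem D6040 : act 2 n4634 = n6040 := rfl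
theorem F4722 : act 0 n6040 = n5787 := d1_1 D6040 (iv D5787) (iv F3565)
def n6043 : Q := act 3 n4636
theorem D6043 : act 3 n4636 = n6043 := rfl
def n6046 : Q := act 2 n4638
theorem D6046 : act 2 n4638 = n6046 := rfl
def n6047 : Q := act 2 n4639
theorem D6047 : act 2 n4639 = n6047 := rfl
theorem F4728 : act 0 n6047 = n4640 := d1_1 D6047 (iv D4640) D4639
def n6048 : Q := act 3 n4639
theorem D6048 : act 3 n4639 = n6048 := rfl
theorem F4729 : act 0 n6048 = n4641 := d2_1 D6048 (iv D4641) D4639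
def n6049 : Q := act 3 n4640
theorem D6049 : act 3 n4640 = n6049 := rfl
theorem F4731 : act 1 n6049 = n4646 := d4_1 D6049 (iv D4646) (iv F3569)
def n6050 : Q := act 2 n4641
theorem D6050 : act 2 n4641 = n6050 := rfl
def n6052 : Q := act 3 n4644
theorem D6052 : act 3 n4644 = n6052 := rfl
theorem F4733 : act 0 n6052 = n4646 := d2_1 D6052 (iv D4646) (iv F3572)
def n6053 : Q := act 2 n4645
theorem D6053 : act 2 n4645 = n6053 := rfl
theorem F4734 : act 0 n6053 = n4647 := d1_1 D6053 (iv D4647) (iv F3573)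
def n6054 : Q := act 2 n4646
theorem D6054 : act 2 n4646 = n6054 := rfl
def n6055 : Q := act 1 n4647
theorem D6055 : act 1 n4647 = n6055 := rfl
theorem F4735 : act 2 n6055 = n4648 := d3_2 D4647 D6055 (iv D4648) (iv D3524) (iv F2679)
def n6057 : Q := act 0 n4648
theorem D6057 : act 0 n4648 = n6057 := rfl
def n6058 : Q := act 3 n4648
theorem D6058 : act 3 n4648 = n6058 := rfl
theorem F4736 : act 1 n6058 = n4649 := d4_1 D6058 (iv D4649) D4648
def n6059 : Q := act 0 n4651
theorem D6059 : act 0 n4651 = n6059 := rfl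
def n6060 : Q := act 3 n4651
theorem D6060 : act 3 n4651 = n6060 := rfl
theorem F4737 : act 1 n6060 = n4652 := d4_1 D6060 (iv D4652) D4651
def n6061 : Q := act 2 n4652
theorem D6061 : act 2 n4652 = n6061 := rfl
theorem F4739 : act 3 n6061 = n4944 := d6_1 D6061 (iv D4944) (iv D3764) F2114 (iv D2642) D2641 D3528 (iv F3580)
theorem F4740 : act 1 n5047 = n6061 := d4_3 F4739 F3826 D5047
def n6064 : Q := act 2 n4654
theorem D6064 : act 2 n4654 = n6064 := rfl
theorem F4744 : act 1 n6064 = n4656 := d3_1 D6064 (iv D4656) (iv D3530) (iv F2685) D4654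
def n6065 : Q := act 2 n4655
theorem D6065 : act 2 n4655 = n6065 := rfl
theorem F4745 : act 0 n6065 = n4656 := d1_1 D6065 (iv D4656) D4655
def n6066 : Q := act 3 n4656
theorem D6066 : act 3 n4656 = n6066 := rfl
def n6067 : Q := act 1 n4657
theorem D6067 : act 1 n4657 = n6067 := rfl
def n6068 : Q := act 3 n4657
theorem D6068 : act 3 n4657 = n6068 := rfl
def n6069 : Q := act 2 n4658
theorem D6069 : act 2 n4658 = n6069 := rfl
def n6073 : Q := act 2 n4662
theorem D6073 : act 2 n4662 = n6073 := rfl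
theorem F4749 : act 0 n6073 = n5995 := d1_1 D6073 F4693 F4481
theorem F4750 : act 1 n6073 = n4686 := d3_1 D6073 (iv D4686) (iv D3557) (iv F2689) D4662
def n6074 : Q := act 3 n4662
theorem D6074 : act 3 n4662 = n6074 := rfl
theorem F4751 : act 1 n6074 = n4663 := d4_1 D6074 (iv D4663) D4662
def n6075 : Q := act 1 n4664
theorem D6075 : act 1 n4664 = n6075 := rfl
theorem F4752 : act 2 n6075 = n4665 := d3_2 D4664 D6075 (iv D4665) (iv D3536) (iv F2690)
def n6080 : Q := act 0 n4668
theorem D6080 : act 0 n4668 = n6080 := rfl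
def n6081 : Q := act 2 n4668
theorem D6081 : act 2 n4668 = n6081 := rfl
theorem F4755 : act 1 n6081 = n4672 := d3_1 D6081 (iv D4672) (iv D3543) (iv F2694) D4668
def n6082 : Q := act 3 n4668
theorem D6082 : act 3 n4668 = n6082 := rfl
theorem F4756 : act 1 n6082 = n4669 := d4_1 D6082 (iv D4669) D4668
def n6083 : Q := act 1 n4670
theorem D6083 : act 1 n4670 = n6083 := rfl
theorem F4757 : act 2 n6083 = n4671 := d3_2 D4670 D6083 (iv D4671) (iv D3542) (iv F2695)
def n6085 : Q := act 3 n4672
theorem D6085 : act 3 n4672 = n6085 := rfl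
def n6086 : Q := act 2 n4673
theorem D6086 : act 2 n4673 = n6086 := rfl
theorem F4759 : act 0 n6086 = n5120 := d1_1 D6086 (iv D5120) (iv F3593)
def n6087 : Q := act 2 n4674
theorem D6087 : act 2 n4674 = n6087 := rfl
def n6088 : Q := act 2 n4675
theorem D6088 : act 2 n4675 = n6088 := rfl
theorem F4761 : act 0 n6088 = n5101 := d1_1 D6088 (iv D5101) (iv F3596)
def n6090 : Q := act 2 n4676
theorem D6090 : act 2 n4676 = n6090 := rfl
def n6091 : Q := act 1 n4677
theorem D6091 : act 1 n4677 = n6091 := rfl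
theorem F4765 : act 2 n6091 = n4678 := d3_2 D4677 D6091 (iv D4678) (iv D3548) (iv F2701)
def n6092 : Q := act 3 n4677
theorem D6092 : act 3 n4677 = n6092 := rfl
def n6095 : Q := act 3 n4679
theorem D6095 : act 3 n4679 = n6095 := rfl
theorem F4766 : act 0 n6095 = n4680 := d2_1 D6095 (iv D4680) D4679
def n6103 : Q := act 3 n4685
theorem D6103 : act 3 n4685 = n6103 := rfl
theorem F4771 : act 0 n6103 = n6085 := d2_1 D6103 (iv D6085) (iv F3602)
def n6104 : Q := act 3 n4686
theorem D6104 : act 3 n4686 = n6104 := rfl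
theorem F4772 : act 0 n6104 = n4693 := d2_1 D6104 (iv D4693) (iv F3603)
def n6105 : Q := act 2 n4687
theorem D6105 : act 2 n4687 = n6105 := rfl
theorem F4773 : act 0 n6105 = n4694 := d1_1 D6105 (iv D4694) (iv F3604)
def n6106 : Q := act 2 n4688
theorem D6106 : act 2 n4688 = n6106 := rfl
theorem F4774 : act 1 n6106 = n4700 := d3_1 D6106 (iv D4700) (iv D3570) (iv F2713) D4688
def n6112 : Q := act 2 n4693
theorem D6112 : act 2 n4693 = n6112 := rfl
def n6113 : Q := act 1 n4694
theorem D6113 : act 1 n4694 = n6113 := rfl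
theorem F4778 : act 2 n6113 = n4695 := d3_2 D4694 D6113 (iv D4695) (iv D3566) (iv F2718)
def n6114 : Q := act 3 n4694
theorem D6114 : act 3 n4694 = n6114 := rfl
def n6115 : Q := act 0 n4695
theorem D6115 : act 0 n4695 = n6115 := rfl
theorem F4779 : act 3 n6115 = n5354 := d2_2 (iv F3610) D6115 F4157
def n6116 : Q := act 1 n4696
theorem D6116 : act 1 n4696 = n6116 := rfl
def n6117 : Q := act 3 n4696
theorem D6117 : act 3 n4696 = n6117 := rfl
def n6118 : Q := act 2 n4697
theorem D6118 : act 2 n4697 = n6118 := rfl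
def n6119 : Q := act 0 n4698
theorem D6119 : act 0 n4698 = n6119 := rfl
theorem F4781 : act 1 n6119 = n4699 := d0_2 D4698 D6119 (iv D4699) (iv D3570) (iv D2673) (iv D1972) (iv F1448) D2672 D3569
theorem F4782 : act 3 n6119 = n5165 := d2_2 (iv F3613) D6119 (iv D5165)
def n6120 : Q := act 2 n4698
theorem D6120 : act 2 n4698 = n6120 := rfl
def n6121 : Q := act 2 n4699
theorem D6121 : act 2 n4699 = n6121 := rfl
theorem F4783 : act 0 n6121 = n4700 := d1_1 D6121 (iv D4700) D4699
def n6126 : Q := act 3 n4702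
theorem D6126 : act 3 n4702 = n6126 := rfl
theorem F4787 : act 2 n6126 = n4906 := d6_2 D4702 D6126 (iv D4906) (iv D3737) F2093 F1994 D2674 (iv F2722)
def n6127 : Q := act 2 n4703
theorem D6127 : act 2 n4703 = n6127 := rfl
theorem F4789 : act 3 n6127 = n4905 := d5_2 D4703 D6127 (iv D4905) F2848 F2713 D3571 D4702 D6126 F4787 (iv D4906) (iv D3737) F2093 F1994 D2674 D3572
def n6128 : Q := act 1 n4704
theorem D6128 : act 1 n4704 = n6128 := rfl
def n6129 : Q := act 0 n4705
theorem D6129 : act 0 n4705 = n6129 := rfl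
theorem F4790 : act 2 n6129 = n4707 := d1_2 (iv F3618) D6129 (iv D4707)
def n6132 : Q := act 3 n4707
theorem D6132 : act 3 n4707 = n6132 := rfl
theorem F4792 : act 0 n6132 = n4708 := d2_1 D6132 (iv D4708) D4707
def n6133 : Q := act 2 n4708
theorem D6133 : act 2 n4708 = n6133 := rfl
theorem F4793 : act 1 n6133 = n6118 := d3_1 D6133 (iv D6118) F3612 (iv F2727) (iv F3620)
def n6134 : Q := act 2 n4709
theorem D6134 : act 2 n4709 = n6134 := rfl
theorem F4794 : act 0 n6134 = n4710 := d1_1 D6134 (iv D4710) D4709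
def n6135 : Q := act 3 n4710
theorem D6135 : act 3 n4710 = n6135 := rfl
def n6136 : Q := act 2 n4711
theorem D6136 : act 2 n4711 = n6136 := rfl
theorem F4795 : act 3 n6136 = n5360 := d6_1 D6136 (iv D5360) (iv D4094) (iv D3083) D3084 D4095 D5361 F4162
def n6137 : Q := act 0 n4712
theorem D6137 : act 0 n4712 = n6137 := rfl
def n6138 : Q := act 3 n4712
theorem D6138 : act 3 n4712 = n6138 := rfl
theorem F4796 : act 1 n6138 = n4713 := d4_1 D6138 (iv D4713) D4712
def n6139 : Q := act 1 n4715
theorem D6139 : act 1 n4715 = n6139 := rfl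
def n6140 : Q := act 3 n4715
theorem D6140 : act 3 n4715 = n6140 := rfl
theorem F4797 : act 0 n6140 = n4717 := d2_1 D6140 (iv D4717) (iv F3627)
def n6141 : Q := act 2 n4716
theorem D6141 : act 2 n4716 = n6141 := rfl
theorem F4798 : act 0 n6141 = n4718 := d1_1 D6141 (iv D4718) (iv F3628)
def n6142 : Q := act 2 n4717
theorem D6142 : act 2 n4717 = n6142 := rfl
def n6143 : Q := act 3 n4718
theorem D6143 : act 3 n4718 = n6143 := rfl
theorem F4799 : act 1 n6143 = n5969 := d4_1 D6143 (iv F4679) F4678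
def n6146 : Q := act 1 n4721
theorem D6146 : act 1 n4721 = n6146 := rfl
def n6147 : Q := act 3 n4721
theorem D6147 : act 3 n4721 = n6147 := rfl
theorem F4802 : act 0 n6147 = n4722 := d2_1 D6147 (iv D4722) D4721
theorem F4803 : act 2 n6147 = n5954 := d6_2 (iv F3633) D6147 (iv D5954) F3506 (iv F2658) F2657 F2652 D3590
def n6148 : Q := act 2 n4722
theorem D6148 : act 2 n4722 = n6148 := rfl
theorem F4804 : act 0 n6148 = n5954 := d1_1 D6148 (iv F4803) F4802
theorem F4805 : act 3 n6148 = n5953 := d5_2 D4722 D6148 F4656 (iv F3548) F3547 F3536 (iv F3633) D6147 F4803 (iv D5954) F3506 (iv F2658) F2657 F2652 (iv F2739)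
def n6149 : Q := act 1 n4723
theorem D6149 : act 1 n4723 = n6149 := rfl
theorem F4806 : act 3 n6149 = n6128 := d4_2 (iv F3636) D6149 (iv D6128)
def n6150 : Q := act 2 n4724
theorem D6150 : act 2 n4724 = n6150 := rfl
def n6166 : Q := act 1 n4736
theorem D6166 : act 1 n4736 = n6166 := rfl
def n6170 : Q := act 2 n4738
theorem D6170 : act 2 n4738 = n6170 := rfl
theorem F4821 : act 1 n6170 = n4840 := d3_1 D6170 (iv D4840) F2809 D3685 (iv F3645)
def n6171 : Q := act 0 n4739
theorem D6171 : act 0 n4739 = n6171 := rfl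
def n6172 : Q := act 2 n4739
theorem D6172 : act 2 n4739 = n6172 := rfl
theorem F4823 : act 1 n6172 = n4743 := d3_1 D6172 (iv D4743) (iv D3604) (iv F2748) D4739
def n6173 : Q := act 3 n4739
theorem D6173 : act 3 n4739 = n6173 := rfl
theorem F4824 : act 1 n6173 = n4740 := d4_1 D6173 (iv D4740) D4739
def n6174 : Q := act 2 n4742
theorem D6174 : act 2 n4742 = n6174 := rfl
theorem F4825 : act 0 n6174 = n4743 := d1_1 D6174 (iv D4743) D4742
def n6175 : Q := act 3 n4743
theorem D6175 : act 3 n4743 = n6175 := rfl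
def n6176 : Q := act 1 n4744
theorem D6176 : act 1 n4744 = n6176 := rfl
def n6177 : Q := act 3 n4744
theorem D6177 : act 3 n4744 = n6177 := rfl
theorem F4826 : act 0 n6177 = n4745 := d2_1 D6177 (iv D4745) D4744
def n6178 : Q := act 2 n4745
theorem D6178 : act 2 n4745 = n6178 := rfl
def n6180 : Q := act 0 n4747
theorem D6180 : act 0 n4747 = n6180 := rfl
theorem F4827 : act 2 n6180 = n4758 := d1_2 (iv F3652) D6180 (iv D4758)
def n6184 : Q := act 1 n4751
theorem D6184 : act 1 n4751 = n6184 := rfl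
def n6185 : Q := act 3 n4751
theorem D6185 : act 3 n4751 = n6185 := rfl
theorem F4830 : act 0 n6185 = n4752 := d2_1 D6185 (iv D4752) D4751
def n6186 : Q := act 2 n4752
theorem D6186 : act 2 n4752 = n6186 := rfl
def n6188 : Q := act 3 n4754
theorem D6188 : act 3 n4754 = n6188 := rfl
theorem F4832 : act 1 n6188 = n5531 := d4_1 D6188 F4319 (iv F3659)
def n6189 : Q := act 2 n4755
theorem D6189 : act 2 n4755 = n6189 := rfl
def n6190 : Q := act 3 n4755
theorem D6190 : act 3 n4755 = n6190 := rfl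
theorem F4834 : act 0 n6190 = n4763 := d2_1 D6190 (iv D4763) (iv F3660)
theorem F4835 : act 1 n6190 = n4756 := d4_1 D6190 (iv D4756) D4755
def n6191 : Q := act 2 n4756
theorem D6191 : act 2 n4756 = n6191 := rfl
def n6192 : Q := act 3 n4757
theorem D6192 : act 3 n4757 = n6192 := rfl
theorem F4837 : act 1 n6192 = n4881 := d4_1 D6192 (iv F3772) F3771
def n6193 : Q := act 1 n4758
theorem D6193 : act 1 n4758 = n6193 := rfl
theorem F4838 : act 0 n6193 = n4889 := d0_1 D6193 F3774 F2835 F2084 (iv F1527) F1528 (iv F2026) D3616 D4758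
def n6195 : Q := act 2 n4759
theorem D6195 : act 2 n4759 = n6195 := rfl
def n6196 : Q := act 1 n4760
theorem D6196 : act 1 n4760 = n6196 := rfl
def n6197 : Q := act 3 n4760
theorem D6197 : act 3 n4760 = n6197 := rfl
theorem F4842 : act 0 n6197 = n4761 := d2_1 D6197 (iv D4761) D4760
def n6198 : Q := act 2 n4761
theorem D6198 : act 2 n4761 = n6198 := rfl
theorem F4843 : act 1 n6198 = n6195 := d3_1 D6198 (iv D6195) F3662 (iv F2760) (iv F3664)
def n6203 : Q := act 3 n4765
theorem D6203 : act 3 n4765 = n6203 := rfl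
theorem F4846 : act 1 n6203 = n4766 := d4_1 D6203 (iv D4766) D4765
def n6208 : Q := act 2 n4769
theorem D6208 : act 2 n4769 = n6208 := rfl
def n6209 : Q := act 3 n4770
theorem D6209 : act 3 n4770 = n6209 := rfl
theorem F4850 : act 1 n6209 = n4848 := d4_1 D6209 (iv D4848) (iv F3671)
def n6215 : Q := act 3 n4774
theorem D6215 : act 3 n4774 = n6215 := rfl
theorem F4855 : act 0 n6215 = n4775 := d2_1 D6215 (iv D4775) D4774
theorem F4856 : act 2 n6215 = n5873 := d6_2 (iv F3676) D6215 (iv D5873) (iv D4498) (iv F2780) F2779 F2044 D3632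
def n6216 : Q := act 2 n4775
theorem D6216 : act 2 n4775 = n6216 := rfl
theorem F4857 : act 0 n6216 = n5873 := d1_1 D6216 (iv F4856) F4855
theorem F4858 : act 3 n6216 = n5872 := d5_2 D4775 D6216 (iv D5872) (iv F3691) F3690 F2781 (iv F3676) D6215 F4856 (iv D5873) (iv D4498) (iv F2780) F2779 F2044 (iv F2772)
def n6219 : Q := act 2 n4777
theorem D6219 : act 2 n4777 = n6219 := rfl
theorem F4860 : act 0 n6219 = n4778 := d1_1 D6219 (iv D4778) D4777
def n6220 : Q := act 3 n4777
theorem D6220 : act 3 n4777 = n6220 := rfl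
theorem F4862 : act 1 n6220 = n4788 := d4_1 D6220 (iv D4788) (iv F3678)
def n6221 : Q := act 3 n4778
theorem D6221 : act 3 n4778 = n6221 := rfl
theorem F4863 : act 1 n6221 = n4827 := d4_1 D6221 (iv D4827) (iv F3679)
def n6227 : Q := act 2 n4784
theorem D6227 : act 2 n4784 = n6227 := rfl
def n6228 : Q := act 1 n4785
theorem D6228 : act 1 n4785 = n6228 := rfl
def n6229 : Q := act 3 n4785
theorem D6229 : act 3 n4785 = n6229 := rfl
theorem F4867 : act 0 n6229 = n4786 := d2_1 D6229 (iv D4786) (iv F3684)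
theorem F4868 : act 2 n6229 = n4786 := d6_2 D4785 D6229 (iv D4786) (iv D3638) (iv D2726) F1479 D2726 (iv F2774)
def n6230 : Q := act 1 n4787
theorem D6230 : act 1 n4787 = n6230 := rfl
def n6231 : Q := act 3 n4787
theorem D6231 : act 3 n4787 = n6231 := rfl
theorem F4870 : act 2 n6231 = n5859 := d6_2 D4787 D6231 (iv D5859) F3453 (iv F2589) F2778 (iv D3641) D3639
def n6232 : Q := act 2 n4789
theorem D6232 : act 2 n4789 = n6232 := rfl
theorem F4872 : act 3 n6232 = n5858 := d5_2 D4789 D6232 F4580 (iv F3458) F3688 (iv D4788) D4787 D6231 F4870 (iv D5859) F3453 (iv F2589) F2778 (iv D3641) D3640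
def n6233 : Q := act 1 n4790
theorem D6233 : act 1 n4790 = n6233 := rfl
theorem F4873 : act 0 n6233 = n5864 := d0_1 D6233 F4585 F3454 F2586 F1904 (iv F1908) (iv F2042) D3642 D4790
def n6235 : Q := act 2 n4791
theorem D6235 : act 2 n4791 = n6235 := rfl
def n6236 : Q := act 1 n4792
theorem D6236 : act 1 n4792 = n6236 := rfl
def n6237 : Q := act 3 n4792
theorem D6237 : act 3 n4792 = n6237 := rfl
theorem F4877 : act 2 n6237 = n4818 := d6_2 D4792 D6237 (iv D4818) (iv D3664) (iv D2746) D2745 D3663 F2792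
def n6238 : Q := act 2 n4793
theorem D6238 : act 2 n4793 = n6238 := rfl
theorem F4878 : act 0 n6238 = n6237 := d1_1 D6238 F4877 F3711
theorem F4879 : act 3 n6238 = n4817 := d5_2 D4793 D6238 (iv D4817) (iv D3663) (iv D2745) D2746 D3664 D4818 (iv F4877) (iv D6237) (iv D4792) (iv D3644) (iv D2731) D2732 D3645
def n6243 : Q := act 3 n4796
theorem D6243 : act 3 n4796 = n6243 := rfl
theorem F4881 : act 1 n6243 = n4797 := d4_1 D6243 (iv D4797) D4796
def n6244 : Q := act 1 n4798
theorem D6244 : act 1 n4798 = n6244 := rfl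
def n6245 : Q := act 3 n4798
theorem D6245 : act 3 n4798 = n6245 := rfl
theorem F4882 : act 0 n6245 = n4799 := d2_1 D6245 (iv D4799) D4798
def n6246 : Q := act 2 n4799
theorem D6246 : act 2 n4799 = n6246 := rfl
def n6254 : Q := act 1 n4805
theorem D6254 : act 1 n4805 = n6254 := rfl
def n6255 : Q := act 3 n4805
theorem D6255 : act 3 n4805 = n6255 := rfl
theorem F4888 : act 0 n6255 = n4806 := d2_1 D6255 (iv D4806) (iv F3701)
theorem F4889 : act 2 n6255 = n4848 := d6_2 D4805 D6255 (iv D4848) (iv D3693) (iv D2768) F1510 D2738 (iv F2785)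
def n6256 : Q := act 2 n4806
theorem D6256 : act 2 n4806 = n6256 := rfl
theorem F4890 : act 0 n6256 = n4848 := d1_1 D6256 (iv F4889) F4888
def n6261 : Q := act 1 n4810
theorem D6261 : act 1 n4810 = n6261 := rfl
def n6262 : Q := act 3 n4810
theorem D6262 : act 3 n4810 = n6262 := rfl
theorem F4894 : act 0 n6262 = n4811 := d2_1 D6262 (iv D4811) (iv F3703)
theorem F4895 : act 2 n6262 = n5871 := d6_2 D4810 D6262 (iv D5871) (iv D4496) (iv D3407) F1905 D2740 (iv F2786)
def n6263 : Q := act 2 n4811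
theorem D6263 : act 2 n4811 = n6263 := rfl
theorem F4896 : act 0 n6263 = n5871 := d1_1 D6263 (iv F4895) F4894
def n6266 : Q := act 2 n4814
theorem D6266 : act 2 n4814 = n6266 := rfl
def n6270 : Q := act 1 n4817
theorem D6270 : act 1 n4817 = n6270 := rfl
def n6271 : Q := act 2 n4819
theorem D6271 : act 2 n4819 = n6271 := rfl
theorem F4901 : act 3 n6271 = n5851 := d6_1 D6271 (iv D5851) (iv D4482) (iv D3397) D3398 D4483 D5852 F4574
def n6272 : Q := act 1 n4820
theorem D6272 : act 1 n4820 = n6272 := rfl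
def n6273 : Q := act 0 n4821
theorem D6273 : act 0 n4821 = n6273 := rfl
theorem F4902 : act 2 n6273 = n4823 := d1_2 (iv F3714) D6273 (iv D4823)
def n6274 : Q := act 3 n4821
theorem D6274 : act 3 n4821 = n6274 := rfl
theorem F4903 : act 1 n6274 = n4822 := d4_1 D6274 (iv D4822) D4821
def n6276 : Q := act 3 n4823
theorem D6276 : act 3 n4823 = n6276 := rfl
theorem F4904 : act 0 n6276 = n4824 := d2_1 D6276 (iv D4824) D4823
def n6277 : Q := act 2 n4824
theorem D6277 : act 2 n4824 = n6277 := rfl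
theorem F4905 : act 1 n6277 = n6216 := d3_1 D6277 (iv D6216) F3677 (iv F2798) (iv F3716)
def n6280 : Q := act 2 n4827
theorem D6280 : act 2 n4827 = n6280 := rfl
theorem F4907 : act 3 n6280 = n6031 := d6_1 D6280 (iv D6031) (iv D4624) (iv D3506) D3507 D4625 D6032 F4716
def n6281 : Q := act 0 n4828
theorem D6281 : act 0 n4828 = n6281 := rfl
def n6282 : Q := act 3 n4828
theorem D6282 : act 3 n4828 = n6282 := rfl
theorem F4908 : act 1 n6282 = n4829 := d4_1 D6282 (iv D4829) D4828
def n6283 : Q := act 1 n4830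
theorem D6283 : act 1 n4830 = n6283 := rfl
def n6288 : Q := act 1 n4834
theorem D6288 : act 1 n4834 = n6288 := rfl
theorem F4913 : act 2 n6288 = n4835 := d3_2 D4834 D6288 (iv D4835) (iv D3678) (iv F2804)
def n6290 : Q := act 0 n4835
theorem D6290 : act 0 n4835 = n6290 := rfl
def n6292 : Q := act 3 n4836
theorem D6292 : act 3 n4836 = n6292 := rfl
theorem F4914 : act 0 n6292 = n4837 := d2_1 D6292 (iv D4837) D4836
def n6293 : Q := act 2 n4837
theorem D6293 : act 2 n4837 = n6293 := rfl
def n6296 : Q := act 2 n4839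
theorem D6296 : act 2 n4839 = n6296 := rfl
def n6297 : Q := act 3 n4840
theorem D6297 : act 3 n4840 = n6297 := rfl
def n6298 : Q := act 1 n4841
theorem D6298 : act 1 n4841 = n6298 := rfl
theorem F4920 : act 0 n6298 = n6173 := d0_1 D6298 F4824 F3646 F2749 (iv F2022) F2023 (iv F2066) D3686 D4841
theorem F4921 : act 3 n6171 = n6298 := d2_0 F4920 (iv D6173) D6171
def n6299 : Q := act 3 n4841
theorem D6299 : act 3 n4841 = n6299 := rfl
theorem F4922 : act 0 n6299 = n4842 := d2_1 D6299 (iv D4842) D4841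
theorem F4923 : act 1 n6299 = n6171 := d4_1 D6299 F4921 (iv D6298)
def n6300 : Q := act 2 n4842
theorem D6300 : act 2 n4842 = n6300 := rfl
def n6301 : Q := act 1 n4843
theorem D6301 : act 1 n4843 = n6301 := rfl
def n6302 : Q := act 3 n4843
theorem D6302 : act 3 n4843 = n6302 := rfl
theorem F4924 : act 0 n6302 = n4844 := d2_1 D6302 (iv D4844) D4843
def n6303 : Q := act 2 n4844
theorem D6303 : act 2 n4844 = n6303 := rfl
theorem F4925 : act 1 n6303 = n6300 := d3_1 D6303 (iv D6300) F3732 (iv F2814) (iv F3734)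
def n6309 : Q := act 0 n4850
theorem D6309 : act 0 n4850 = n6309 := rfl
theorem F4927 : act 2 n6309 = n4896 := d1_2 (iv F3738) D6309 (iv D4896)
def n6310 : Q := act 3 n4850
theorem D6310 : act 3 n4850 = n6310 := rfl
theorem F4928 : act 1 n6310 = n4851 := d4_1 D6310 (iv D4851) D4850
def n6311 : Q := act 1 n4852
theorem D6311 : act 1 n4852 = n6311 := rfl
theorem F4929 : act 3 n6311 = n6075 := d4_2 F3741 D6311 (iv D6075)
def n6312 : Q := act 1 n4854
theorem D6312 : act 1 n4854 = n6312 := rfl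
theorem F4930 : act 2 n6312 = n6074 := d3_2 D4854 D6312 F4751 (iv F3744) F3743
theorem F4931 : act 3 n6312 = n6272 := d4_2 (iv F3746) D6312 (iv D6272)
def n6314 : Q := act 2 n4855
theorem D6314 : act 2 n4855 = n6314 := rfl
def n6315 : Q := act 2 n4856
theorem D6315 : act 2 n4856 = n6315 := rfl
def n6316 : Q := act 3 n4856
theorem D6316 : act 3 n4856 = n6316 := rfl
theorem F4934 : act 0 n6316 = n4858 := d2_1 D6316 (iv D4858) D4856
def n6322 : Q := act 0 n4863
theorem D6322 : act 0 n4863 = n6322 := rfl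
theorem F4938 : act 2 n6322 = n4879 := d1_2 (iv F3754) D6322 (iv D4879)
def n6323 : Q := act 3 n4863
theorem D6323 : act 3 n4863 = n6323 := rfl
theorem F4939 : act 1 n6323 = n4864 := d4_1 D6323 (iv D4864) D4863
def n6324 : Q := act 2 n4864
theorem D6324 : act 2 n4864 = n6324 := rfl
def n6326 : Q := act 3 n4865
theorem D6326 : act 3 n4865 = n6326 := rfl
def n6328 : Q := act 3 n4866
theorem D6328 : act 3 n4866 = n6328 := rfl
theorem F4944 : act 2 n6328 = n6326 := d6_2 D4866 D6328 (iv D6326) (iv D4865) (iv D3705) D3704 D4864 F3755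
def n6329 : Q := act 0 n4867
theorem D6329 : act 0 n4867 = n6329 := rfl
theorem F4945 : act 2 n6329 = n4869 := d1_2 (iv F3757) D6329 (iv D4869)
theorem F4946 : act 3 n5016 = n6329 := d6_7 F3757 (iv F2859) F2858 (iv D2867) (iv F2148) D3820 D5016 (iv D6329)
def n6330 : Q := act 3 n4867
theorem D6330 : act 3 n4867 = n6330 := rfl
theorem F4947 : act 0 n6330 = n5016 := d2_1 D6330 F4946 (iv D6329)
theorem F4948 : act 1 n6330 = n4868 := d4_1 D6330 (iv D4868) D4867
theorem F4949 : act 2 n6330 = n5015 := d5_1 D6330 (iv D5015) F2909 D3823 (iv F3803) F3804 (iv F4945) (iv F4946) (iv D5016) (iv D3820) F2148 D2867 (iv F2858) F2859 (iv F3757)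
def n6331 : Q := act 2 n4868
theorem D6331 : act 2 n4868 = n6331 := rfl
theorem F4951 : act 3 n6331 = n6324 := d5_2 D4868 D6331 (iv D6324) (iv D4864) (iv D3704) D3705 D4865 D6326 (iv F4944) (iv D6328) (iv D4866) (iv D3706) (iv D2777) D2778 D3707
def n6345 : Q := act 0 n4878
theorem D6345 : act 0 n4878 = n6345 := rfl
theorem F4962 : act 2 n6345 = n4919 := d1_2 (iv F3762) D6345 F3802
theorem F4963 : act 3 n6345 = n6290 := d2_2 (iv F3763) D6345 (iv D6290)
def n6346 : Q := act 3 n4879
theorem D6346 : act 3 n4879 = n6346 := rfl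
theorem F4964 : act 0 n6346 = n4880 := d2_1 D6346 (iv D4880) D4879
def n6347 : Q := act 2 n4880
theorem D6347 : act 2 n4880 = n6347 := rfl
def n6348 : Q := act 0 n4882
theorem D6348 : act 0 n4882 = n6348 := rfl
def n6349 : Q := act 3 n4882
theorem D6349 : act 3 n4882 = n6349 := rfl
theorem F4966 : act 1 n6349 = n4883 := d4_1 D6349 (iv D4883) D4882
def n6354 : Q := act 2 n4889
theorem D6354 : act 2 n4889 = n6354 := rfl
def n6356 : Q := act 3 n4890
theorem D6356 : act 3 n4890 = n6356 := rfl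
def n6359 : Q := act 3 n4893
theorem D6359 : act 3 n4893 = n6359 := rfl
def n6360 : Q := act 1 n4894
theorem D6360 : act 1 n4894 = n6360 := rfl
theorem F4975 : act 2 n6360 = n6184 := d3_2 D4894 D6360 (iv D6184) F3655 (iv F2842)
def n6361 : Q := act 3 n4894
theorem D6361 : act 3 n4894 = n6361 := rfl
theorem F4976 : act 0 n6361 = n4895 := d2_1 D6361 (iv D4895) (iv F3778)
theorem F4977 : act 2 n6361 = n6043 := d6_2 D4894 D6361 (iv D6043) (iv D4636) (iv D3515) F1972 D2795 (iv F2841)
def n6362 : Q := act 2 n4895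
theorem D6362 : act 2 n4895 = n6362 := rfl
theorem F4978 : act 0 n6362 = n6043 := d1_1 D6362 (iv F4977) F4976
def n6364 : Q := act 0 n4897
theorem D6364 : act 0 n4897 = n6364 := rfl
theorem F4981 : act 1 n6364 = n4968 := d0_2 D4897 D6364 (iv D4968) (iv D3784) (iv D2839) (iv D2107) (iv F1531) D2797 D3731
def n6365 : Q := act 2 n4897
theorem D6365 : act 2 n4897 = n6365 := rfl
theorem F4982 : act 1 n6365 = n4901 := d3_1 D6365 (iv D4901) (iv D3733) (iv F2844) D4897
def n6369 : Q := act 2 n4900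
theorem D6369 : act 2 n4900 = n6369 := rfl
def n6370 : Q := act 3 n4901
theorem D6370 : act 3 n4901 = n6370 := rfl
def n6371 : Q := act 2 n4902
theorem D6371 : act 2 n4902 = n6371 := rfl
theorem F4986 : act 0 n6371 = n6106 := d1_1 D6371 (iv D6106) (iv F3783)
def n6372 : Q := act 1 n4903
theorem D6372 : act 1 n4903 = n6372 := rfl
def n6373 : Q := act 3 n4903
theorem D6373 : act 3 n4903 = n6373 := rfl
theorem F4987 : act 0 n6373 = n4904 := d2_1 D6373 (iv D4904) (iv F3785)
def n6374 : Q := act 2 n4904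
theorem D6374 : act 2 n4904 = n6374 := rfl
theorem F4990 : act 1 n6374 = n6354 := d3_1 D6374 (iv D6354) F3774 (iv F3752) (iv F3786)
def n6375 : Q := act 1 n4905
theorem D6375 : act 1 n4905 = n6375 := rfl
def n6376 : Q := act 0 n4907
theorem D6376 : act 0 n4907 = n6376 := rfl
theorem F4992 : act 1 n6376 = n6316 := d0_2 D4907 D6376 F4934 F3748 F2820 F2072 (iv F1539) D2802 D3738
def n6377 : Q := act 2 n4907
theorem D6377 : act 2 n4907 = n6377 := rfl
theorem F4994 : act 1 n6377 = n6105 := d3_1 D6377 (iv D6105) F3605 (iv F2850) D4907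
def n6383 : Q := act 1 n4911
theorem D6383 : act 1 n4911 = n6383 := rfl
theorem F5001 : act 3 n6383 = n5718 := d4_2 F3793 D6383 (iv D5718)
def n6384 : Q := act 1 n4913
theorem D6384 : act 1 n4913 = n6384 := rfl
theorem F5002 : act 2 n6384 = n5717 := d3_2 D4913 D6384 F4468 (iv F3796) F3795
def n6387 : Q := act 3 n4915
theorem D6387 : act 3 n4915 = n6387 := rfl
def n6388 : Q := act 2 n4916
theorem D6388 : act 2 n4916 = n6388 := rfl
def n6389 : Q := act 1 n4917
theorem D6389 : act 1 n4917 = n6389 := rfl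
theorem F5005 : act 3 n6389 = n6384 := d4_2 (iv F3801) D6389 (iv D6384)
def n6391 : Q := act 3 n4918
theorem D6391 : act 3 n4918 = n6391 := rfl
theorem F5006 : act 0 n6391 = n5020 := d2_1 D6391 F3889 F3814
theorem F5007 : act 1 n6391 = n4919 := d4_1 D6391 (iv D4919) D4918
def n6396 : Q := act 1 n4923
theorem D6396 : act 1 n4923 = n6396 := rfl
def n6397 : Q := act 0 n4924
theorem D6397 : act 0 n4924 = n6397 := rfl
def n6398 : Q := act 3 n4924
theorem D6398 : act 3 n4924 = n6398 := rfl
theorem F5011 : act 1 n6398 = n4925 := d4_1 D6398 (iv D4925) D4924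
def n6402 : Q := act 1 n4930
theorem D6402 : act 1 n4930 = n6402 := rfl
theorem F5014 : act 3 n6402 = n6396 := d4_2 (iv F3813) D6402 (iv D6396)
def n6405 : Q := act 0 n4933
theorem D6405 : act 0 n4933 = n6405 := rfl
theorem F5017 : act 1 n6405 = n6080 := d0_2 D4933 D6405 (iv D6080) (iv D4668) (iv D3540) (iv D2651) (iv F1985) (iv F2109) (iv F2864)
theorem F5018 : act 2 n6405 = n6397 := d1_2 (iv F3817) D6405 (iv D6397)
def n6408 : Q := act 2 n4937
theorem D6408 : act 2 n4937 = n6408 := rfl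
theorem F5021 : act 0 n6408 = n6064 := d1_1 D6408 (iv D6064) (iv F3820)
def n6409 : Q := act 1 n4938
theorem D6409 : act 1 n4938 = n6409 := rfl
theorem F5022 : act 3 n6409 = n5812 := d4_2 F3832 D6409 F4544
def n6410 : Q := act 0 n4939
theorem D6410 : act 0 n4939 = n6410 := rfl
theorem F5023 : act 2 n6410 = n4941 := d1_2 (iv F3823) D6410 (iv D4941)
theorem F5024 : act 3 n6118 = n6410 := d6_7 F3823 F2867 F2170 (iv F1998) (iv F2720) D4697 D6118 (iv D6410)
def n6411 : Q := act 3 n4939
theorem D6411 : act 3 n4939 = n6411 := rfl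
theorem F5025 : act 0 n6411 = n6118 := d2_1 D6411 F5024 (iv D6410)
theorem F5026 : act 1 n6411 = n4940 := d4_1 D6411 (iv D4940) D4939
theorem F5027 : act 2 n6411 = n6117 := d5_1 D6411 (iv D6117) F3611 F2721 (iv F2939) (iv F3824) (iv F5023) (iv F5024) (iv D6118) (iv D4697) F2720 F1998 (iv F2170) (iv F2867) (iv F3823)
def n6412 : Q := act 1 n4941
theorem D6412 : act 1 n4941 = n6412 := rfl
theorem F5028 : act 3 n6412 = n5048 := d4_2 (iv F3824) D6412 (iv D5048)
def n6413 : Q := act 0 n4942
theorem D6413 : act 0 n4942 = n6413 := rfl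
def n6414 : Q := act 2 n4942
theorem D6414 : act 2 n4942 = n6414 := rfl
theorem F5029 : act 1 n6414 = n6053 := d3_1 D6414 (iv D6053) F3574 (iv F2868) D4942
def n6415 : Q := act 3 n4942
theorem D6415 : act 3 n4942 = n6415 := rfl
theorem F5030 : act 1 n6415 = n4943 := d4_1 D6415 (iv D4943) D4942
def n6416 : Q := act 2 n4945
theorem D6416 : act 2 n4945 = n6416 := rfl
def n6417 : Q := act 1 n4946
theorem D6417 : act 1 n4946 = n6417 := rfl
theorem F5032 : act 2 n6417 = n4947 := d3_2 D4946 D6417 (iv D4947) (iv D3767) (iv F2872)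
def n6418 : Q := act 3 n4946
theorem D6418 : act 3 n4946 = n6418 := rfl
theorem F5033 : act 0 n6418 = n4961 := d2_1 D6418 (iv D4961) (iv F3828)
def n6419 : Q := act 0 n4947
theorem D6419 : act 0 n4947 = n6419 := rfl
def n6420 : Q := act 3 n4947
theorem D6420 : act 3 n4947 = n6420 := rfl
theorem F5034 : act 1 n6420 = n4948 := d4_1 D6420 (iv D4948) D4947
def n6421 : Q := act 0 n4950
theorem D6421 : act 0 n4950 = n6421 := rfl
theorem F5035 : act 1 n6421 = n4954 := d0_2 D4950 D6421 (iv D4954) (iv D3774) (iv D2830) (iv D2099) (iv F1559) D2827 D3770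
theorem F5036 : act 3 n6421 = n5813 := d2_2 (iv F3833) D6421 (iv D5813)
def n6422 : Q := act 2 n4950
theorem D6422 : act 2 n4950 = n6422 := rfl
def n6423 : Q := act 3 n4951
theorem D6423 : act 3 n4951 = n6423 := rfl
def n6424 : Q := act 1 n4952
theorem D6424 : act 1 n4952 = n6424 := rfl
def n6425 : Q := act 3 n4952
theorem D6425 : act 3 n4952 = n6425 := rfl
theorem F5037 : act 0 n6425 = n4953 := d2_1 D6425 (iv D4953) (iv F3834)
theorem F5038 : act 2 n6425 = n5047 := d6_2 D4952 D6425 (iv D5047) (iv D3849) (iv D2890) F1595 D2829 (iv F2876)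
def n6427 : Q := act 2 n4954
theorem D6427 : act 2 n4954 = n6427 := rfl
theorem F5041 : act 0 n6427 = n4955 := d1_1 D6427 (iv D4955) D4954
def n6428 : Q := act 3 n4954
theorem D6428 : act 3 n4954 = n6428 := rfl
theorem F5042 : act 0 n6428 = n4956 := d2_1 D6428 (iv D4956) D4954
theorem F5043 : act 1 n6428 = n5813 := d4_1 D6428 (iv F5036) F5035
def n6429 : Q := act 3 n4955
theorem D6429 : act 3 n4955 = n6429 := rfl
theorem F5044 : act 1 n6429 = n4964 := d4_1 D6429 (iv D4964) (iv F3835)
def n6430 : Q := act 2 n4956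
theorem D6430 : act 2 n4956 = n6430 := rfl
def n6431 : Q := act 1 n4959
theorem D6431 : act 1 n4959 = n6431 := rfl
theorem F5045 : act 2 n6431 = n5938 := d3_2 D4959 D6431 (iv D5938) (iv D4553) (iv F2879)
def n6432 : Q := act 3 n4959
theorem D6432 : act 3 n4959 = n6432 := rfl
theorem F5046 : act 2 n6432 = n6418 := d6_2 D4959 D6432 (iv D6418) (iv D4946) (iv D3766) D3765 D4945 F3827
def n6433 : Q := act 0 n4960
theorem D6433 : act 0 n4960 = n6433 := rfl
theorem F5047 : act 2 n6433 = n4962 := d1_2 (iv F3842) D6433 (iv D4962)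
theorem F5048 : act 3 n6020 = n6433 := d6_7 F3842 (iv F3503) F3502 (iv D3497) (iv F2655) D4613 D6020 (iv D6433)
def n6434 : Q := act 3 n4960
theorem D6434 : act 3 n4960 = n6434 := rfl
theorem F5049 : act 0 n6434 = n6020 := d2_1 D6434 F5048 (iv D6433)
theorem F5050 : act 1 n6434 = n4961 := d4_1 D6434 (iv D4961) D4960
theorem F5051 : act 2 n6434 = n6019 := d5_1 D6434 (iv D6019) F3541 D4616 (iv F4649) F4650 (iv F5047) (iv F5048) (iv D6020) (iv D4613) F2655 D3497 (iv F3502) F3503 (iv F3842)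
def n6435 : Q := act 2 n4961
theorem D6435 : act 2 n4961 = n6435 := rfl
theorem F5053 : act 3 n6435 = n6416 := d5_2 D4961 D6435 (iv D6416) (iv D4945) (iv D3765) D3766 D4946 D6418 (iv F5046) (iv D6432) (iv D4959) (iv D3777) (iv D2832) D2833 D3778
def n6436 : Q := act 1 n4962
theorem D6436 : act 1 n4962 = n6436 := rfl
def n6437 : Q := act 1 n4963
theorem D6437 : act 1 n4963 = n6437 := rfl
def n6438 : Q := act 3 n4963
theorem D6438 : act 3 n4963 = n6438 := rfl
theorem F5054 : act 0 n6438 = n4964 := d2_1 D6438 (iv D4964) (iv F3843)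
def n6439 : Q := act 2 n4964
theorem D6439 : act 2 n4964 = n6439 := rfl
def n6445 : Q := act 2 n4968
theorem D6445 : act 2 n4968 = n6445 := rfl
theorem F5059 : act 0 n6445 = n4969 := d1_1 D6445 (iv D4969) D4968
def n6446 : Q := act 3 n4968
theorem D6446 : act 3 n4968 = n6446 := rfl
def n6447 : Q := act 3 n4969
theorem D6447 : act 3 n4969 = n6447 := rfl
def n6448 : Q := act 2 n4970
theorem D6448 : act 2 n4970 = n6448 := rfl
def n6449 : Q := act 0 n4972
theorem D6449 : act 0 n4972 = n6449 := rfl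
theorem F5062 : act 2 n6449 = n4974 := d1_2 (iv F3849) D6449 (iv D4974)
def n6450 : Q := act 3 n4972
theorem D6450 : act 3 n4972 = n6450 := rfl
def n6462 : Q := act 2 n4983
theorem D6462 : act 2 n4983 = n6462 := rfl
def n6464 : Q := act 3 n4984
theorem D6464 : act 3 n4984 = n6464 := rfl
theorem F5072 : act 0 n6464 = n4986 := d2_1 D6464 (iv D4986) (iv F3860)
def n6465 : Q := act 1 n4985
theorem D6465 : act 1 n4985 = n6465 := rfl
theorem F5073 : act 2 n6465 = n4990 := d3_2 D4985 D6465 (iv D4990) (iv D3799) (iv F2890)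
def n6466 : Q := act 3 n4985
theorem D6466 : act 3 n4985 = n6466 := rfl
theorem F5074 : act 2 n6466 = n6464 := d6_2 D4985 D6466 (iv D6464) (iv D4984) (iv D3794) D3793 D4983 F3859
def n6467 : Q := act 2 n4986
theorem D6467 : act 2 n4986 = n6467 := rfl
theorem F5075 : act 0 n6467 = n6466 := d1_1 D6467 F5074 F5072
theorem F5076 : act 1 n6467 = n5041 := d3_1 D6467 (iv D5041) F2928 D3841 (iv F3861)
theorem F5077 : act 3 n6467 = n6462 := d5_2 D4986 D6467 (iv D6462) (iv D4983) (iv D3793) D3794 D4984 D6464 (iv F5074) (iv D6466) (iv D4985) (iv D3795) (iv D2846) D2847 D3796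
def n6469 : Q := act 3 n4987
theorem D6469 : act 3 n4987 = n6469 := rfl
theorem F5078 : act 0 n6469 = n4988 := d2_1 D6469 (iv D4988) D4987
def n6470 : Q := act 2 n4988
theorem D6470 : act 2 n4988 = n6470 := rfl
def n6473 : Q := act 3 n4990
theorem D6473 : act 3 n4990 = n6473 := rfl
theorem F5080 : act 1 n6473 = n4991 := d4_1 D6473 (iv D4991) D4990
def n6475 : Q := act 2 n4993
theorem D6475 : act 2 n4993 = n6475 := rfl
theorem F5083 : act 0 n6475 = n4994 := d1_1 D6475 (iv D4994) (iv F3870)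
def n6476 : Q := act 1 n4994
theorem D6476 : act 1 n4994 = n6476 := rfl
theorem F5084 : act 2 n6476 = n4995 := d3_2 D4994 D6476 (iv D4995) (iv D3802) (iv F2894)
def n6477 : Q := act 3 n4994
theorem D6477 : act 3 n4994 = n6477 := rfl
def n6478 : Q := act 0 n4995
theorem D6478 : act 0 n4995 = n6478 := rfl
def n6479 : Q := act 1 n4996
theorem D6479 : act 1 n4996 = n6479 := rfl
def n6480 : Q := act 3 n4996
theorem D6480 : act 3 n4996 = n6480 := rfl
def n6481 : Q := act 2 n4997
theorem D6481 : act 2 n4997 = n6481 := rfl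
def n6484 : Q := act 2 n4999
theorem D6484 : act 2 n4999 = n6484 := rfl
theorem F5087 : act 1 n6484 = n6481 := d3_1 D6484 (iv D6481) F3872 (iv F2899) (iv F3874)
def n6485 : Q := act 0 n5000
theorem D6485 : act 0 n5000 = n6485 := rfl
def n6487 : Q := act 3 n5000
theorem D6487 : act 3 n5000 = n6487 := rfl
theorem F5089 : act 1 n6487 = n5001 := d4_1 D6487 (iv D5001) D5000
theorem F5090 : act 2 n6402 = n6487 := d3_0 F5089 F3876 F3811 D4930 D6402
def n6488 : Q := act 1 n5002
theorem D6488 : act 1 n5002 = n6488 := rfl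
theorem F5091 : act 2 n6488 = n5003 := d3_2 D5002 D6488 (iv D5003) (iv D3809) (iv F2901)
def n6489 : Q := act 0 n5003
theorem D6489 : act 0 n5003 = n6489 := rfl
theorem F5093 : act 3 n6489 = n6478 := d2_2 (iv F3879) D6489 (iv D6478)
def n6491 : Q := act 2 n5005
theorem D6491 : act 2 n5005 = n6491 := rfl
def n6494 : Q := act 2 n5007
theorem D6494 : act 2 n5007 = n6494 := rfl
def n6496 : Q := act 3 n5008
theorem D6496 : act 3 n5008 = n6496 := rfl
def n6506 : Q := act 3 n5014
theorem D6506 : act 3 n5014 = n6506 := rfl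
theorem F5101 : act 1 n6506 = n5015 := d4_1 D6506 (iv D5015) D5014
def n6511 : Q := act 2 n5020
theorem D6511 : act 2 n5020 = n6511 := rfl
theorem F5106 : act 1 n6511 = n6491 := d3_1 D6511 (iv D6491) F3880 (iv F2915) D5020
def n6513 : Q := act 3 n5021
theorem D6513 : act 3 n5021 = n6513 := rfl
theorem F5109 : act 2 n6513 = n6477 := d6_2 D5021 D6513 (iv D6477) (iv D4994) (iv D3801) F2141 D2870 (iv F2917)
def n6514 : Q := act 2 n5022
theorem D6514 : act 2 n5022 = n6514 := rfl
theorem F5111 : act 1 n6514 = n5832 := d3_1 D6514 (iv D5832) F3437 D4467 (iv F3891)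
theorem F5112 : act 3 n6514 = n6475 := d5_2 D5022 D6514 (iv D6475) (iv D4993) F2893 D3825 D5021 D6513 F5109 (iv D6477) (iv D4994) (iv D3801) F2141 D2870 D3826
def n6515 : Q := act 2 n5023
theorem D6515 : act 2 n5023 = n6515 := rfl
def n6516 : Q := act 2 n5024
theorem D6516 : act 2 n5024 = n6516 := rfl
theorem F5114 : act 0 n6516 = n5025 := d1_1 D6516 (iv D5025) (iv F3894)
def n6517 : Q := act 3 n5025
theorem D6517 : act 3 n5025 = n6517 := rfl
def n6520 : Q := act 3 n5026
theorem D6520 : act 3 n5026 = n6520 := rfl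
theorem F5116 : act 1 n6520 = n5027 := d4_1 D6520 (iv D5027) D5026
def n6521 : Q := act 2 n5027
theorem D6521 : act 2 n5027 = n6521 := rfl
theorem F5117 : act 0 n6521 = n5028 := d1_1 D6521 (iv D5028) (iv F3896)
theorem F5118 : act 3 n6521 = n5156 := d6_1 D6521 (iv D5156) (iv D3932) F2221 F1636 (iv F2156) D3830 (iv F3896)
def n6522 : Q := act 3 n5028
theorem D6522 : act 3 n5028 = n6522 := rfl
theorem F5119 : act 0 n6522 = n5156 := d2_1 D6522 (iv F5118) F5117
theorem F5120 : act 1 n6522 = n6517 := d4_1 D6522 (iv D6517) (iv F3897)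
def n6523 : Q := act 0 n5029
theorem D6523 : act 0 n5029 = n6523 := rfl
def n6524 : Q := act 3 n5029
theorem D6524 : act 3 n5029 = n6524 := rfl
theorem F5122 : act 1 n6524 = n5030 := d4_1 D6524 (iv D5030) D5029
def n6525 : Q := act 2 n5030
theorem D6525 : act 2 n5030 = n6525 := rfl
def n6527 : Q := act 3 n5031
theorem D6527 : act 3 n5031 = n6527 := rfl
theorem F5125 : act 2 n6527 = n5881 := d6_2 D5031 D6527 (iv D5881) (iv D4506) (iv F2597) D3831 D5030 F3898
def n6528 : Q := act 2 n5032
theorem D6528 : act 2 n5032 = n6528 := rfl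
theorem F5127 : act 1 n6528 = n6448 := d3_1 D6528 (iv D6448) F3847 D4971 (iv F3899)
theorem F5128 : act 3 n6528 = n6525 := d5_2 D5032 D6528 (iv D6525) (iv D5030) (iv D3831) F2597 D4506 D5881 (iv F5125) (iv D6527) (iv D5031) (iv D3832) (iv D2878) D2879 D3833
def n6530 : Q := act 3 n5033
theorem D6530 : act 3 n5033 = n6530 := rfl
theorem F5129 : act 0 n6530 = n5034 := d2_1 D6530 (iv D5034) D5033
def n6531 : Q := act 2 n5034
theorem D6531 : act 2 n5034 = n6531 := rfl
def n6537 : Q := act 2 n5039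
theorem D6537 : act 2 n5039 = n6537 := rfl
theorem F5133 : act 0 n6537 = n5041 := d1_1 D6537 (iv D5041) (iv F3904)
def n6539 : Q := act 3 n5041
theorem D6539 : act 3 n5041 = n6539 := rfl
theorem F5134 : act 1 n6539 = n6462 := d4_1 D6539 (iv F5077) F5076
def n6541 : Q := act 3 n5042
theorem D6541 : act 3 n5042 = n6541 := rfl
theorem F5137 : act 0 n6541 = n5043 := d2_1 D6541 (iv D5043) D5042
def n6542 : Q := act 2 n5043
theorem D6542 : act 2 n5043 = n6542 := rfl
theorem F5139 : act 1 n6542 = n5148 := d3_1 D6542 (iv D5148) F2999 (iv F2933) (iv F3908)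
def n6543 : Q := act 3 n5044
theorem D6543 : act 3 n5044 = n6543 := rfl
theorem F5140 : act 0 n6543 = n5162 := d2_1 D6543 (iv D5162) (iv F3909)
theorem F5141 : act 1 n6543 = n6423 := d4_1 D6543 (iv D6423) (iv F3910)
def n6544 : Q := act 2 n5045
theorem D6544 : act 2 n5045 = n6544 := rfl
def n6546 : Q := act 0 n5048
theorem D6546 : act 0 n5048 = n6546 := rfl
def n6552 : Q := act 1 n5052
theorem D6552 : act 1 n5052 = n6552 := rfl
def n6553 : Q := act 3 n5052
theorem D6553 : act 3 n5052 = n6553 := rfl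
theorem F5148 : act 2 n6553 = n5053 := d6_2 D5052 D6553 (iv D5053) (iv D3853) (iv D2893) F1597 D2893 (iv F2940)
def n6554 : Q := act 1 n5054
theorem D6554 : act 1 n5054 = n6554 := rfl
def n6555 : Q := act 3 n5054
theorem D6555 : act 3 n5054 = n6555 := rfl
theorem F5149 : act 0 n6555 = n5056 := d2_1 D6555 (iv D5056) (iv F3918)
def n6556 : Q := act 2 n5055
theorem D6556 : act 2 n5055 = n6556 := rfl
def n6557 : Q := act 2 n5056
theorem D6557 : act 2 n5056 = n6557 := rfl
def n6558 : Q := act 3 n5057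
theorem D6558 : act 3 n5057 = n6558 := rfl
theorem F5151 : act 1 n6558 = n5134 := d4_1 D6558 (iv F3983) F3982
def n6559 : Q := act 1 n5058
theorem D6559 : act 1 n5058 = n6559 := rfl
def n6560 : Q := act 3 n5058
theorem D6560 : act 3 n5058 = n6560 := rfl
theorem F5152 : act 0 n6560 = n5059 := d2_1 D6560 (iv D5059) D5058
def n6561 : Q := act 2 n5059
theorem D6561 : act 2 n5059 = n6561 := rfl
def n6564 : Q := act 0 n5061
theorem D6564 : act 0 n5061 = n6564 := rfl
theorem F5155 : act 2 n6564 = n5069 := d1_2 (iv F3924) D6564 (iv D5069)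
def n6565 : Q := act 3 n5061
theorem D6565 : act 3 n5061 = n6565 := rfl
theorem F5156 : act 1 n6565 = n5062 := d4_1 D6565 (iv D5062) D5061
def n6566 : Q := act 2 n5062
theorem D6566 : act 2 n5062 = n6566 := rfl
def n6567 : Q := act 1 n5063
theorem D6567 : act 1 n5063 = n6567 := rfl
theorem F5158 : act 2 n6567 = n5072 := d3_2 D5063 D6567 (iv D5072) (iv D3870) (iv F2949)
def n6568 : Q := act 3 n5063
theorem D6568 : act 3 n5063 = n6568 := rfl
theorem F5159 : act 0 n6568 = n5066 := d2_1 D6568 (iv D5066) (iv F3926)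
def n6569 : Q := act 1 n5064
theorem D6569 : act 1 n5064 = n6569 := rfl
def n6570 : Q := act 3 n5064
theorem D6570 : act 3 n5064 = n6570 := rfl
theorem F5160 : act 2 n6570 = n6568 := d6_2 D5064 D6570 (iv D6568) (iv D5063) (iv D3862) D3861 D5062 F3925
def n6571 : Q := act 0 n5065
theorem D6571 : act 0 n5065 = n6571 := rfl
theorem F5161 : act 2 n6571 = n5067 := d1_2 (iv F3927) D6571 (iv D5067)
def n6572 : Q := act 3 n5065
theorem D6572 : act 3 n5065 = n6572 := rfl
theorem F5162 : act 1 n6572 = n5066 := d4_1 D6572 (iv D5066) D5065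
def n6573 : Q := act 2 n5066
theorem D6573 : act 2 n5066 = n6573 := rfl
theorem F5164 : act 3 n6573 = n6566 := d5_2 D5066 D6573 (iv D6566) (iv D5062) (iv D3861) D3862 D5063 D6568 (iv F5160) (iv D6570) (iv D5064) (iv D3863) (iv D2899) D2900 D3864
def n6574 : Q := act 2 n5068
theorem D6574 : act 2 n5068 = n6574 := rfl
theorem F5165 : act 1 n6574 = n6561 := d3_1 D6574 (iv D6561) F3922 (iv F2951) (iv F3928)
def n6575 : Q := act 1 n5069
theorem D6575 : act 1 n5069 = n6575 := rfl
theorem F5166 : act 0 n6575 = n5077 := d0_1 D6575 (iv D5077) (iv D3873) (iv D2907) F1611 (iv F1605) (iv F2179) D3868 D5069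
def n6576 : Q := act 3 n5069
theorem D6576 : act 3 n5069 = n6576 := rfl
theorem F5167 : act 0 n6576 = n5070 := d2_1 D6576 (iv D5070) D5069
def n6577 : Q := act 2 n5070
theorem D6577 : act 2 n5070 = n6577 := rfl
def n6578 : Q := act 0 n5072
theorem D6578 : act 0 n5072 = n6578 := rfl
def n6579 : Q := act 3 n5072
theorem D6579 : act 3 n5072 = n6579 := rfl
theorem F5168 : act 1 n6579 = n5073 := d4_1 D6579 (iv D5073) D5072
def n6580 : Q := act 0 n5074
theorem D6580 : act 0 n5074 = n6580 := rfl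
theorem F5169 : act 2 n6580 = n5081 := d1_2 (iv F3932) D6580 (iv D5081)
def n6581 : Q := act 3 n5074
theorem D6581 : act 3 n5074 = n6581 := rfl
theorem F5170 : act 1 n6581 = n5075 := d4_1 D6581 (iv D5075) D5074
def n6582 : Q := act 2 n5077
theorem D6582 : act 2 n5077 = n6582 := rfl
theorem F5171 : act 1 n6582 = n5101 := d3_1 D6582 (iv D5101) (iv D3892) (iv F2958) D5077
def n6587 : Q := act 0 n5080
theorem D6587 : act 0 n5080 = n6587 := rfl
theorem F5175 : act 3 n6587 = n5141 := d2_2 (iv F3938) D6587 (iv D5141)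
def n6588 : Q := act 1 n5081
theorem D6588 : act 1 n5081 = n6588 := rfl
def n6589 : Q := act 3 n5081
theorem D6589 : act 3 n5081 = n6589 := rfl
theorem F5176 : act 0 n6589 = n5082 := d2_1 D6589 (iv D5082) D5081
def n6590 : Q := act 2 n5082
theorem D6590 : act 2 n5082 = n6590 := rfl
theorem F5177 : act 1 n6590 = n5140 := d3_1 D6590 (iv D5140) F2996 (iv F2963) (iv F3939)
def n6595 : Q := act 0 n5088
theorem D6595 : act 0 n5088 = n6595 := rfl
theorem F5181 : act 1 n6595 = n5094 := d0_2 D5088 D6595 (iv D5094) (iv D3886) (iv D2917) (iv D2167) (iv F1614) D2913 D3882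
def n6596 : Q := act 2 n5088
theorem D6596 : act 2 n5088 = n6596 := rfl
theorem F5182 : act 1 n6596 = n5124 := d3_1 D6596 (iv D5124) (iv D3909) (iv F2966) D5088
def n6599 : Q := act 3 n5090
theorem D6599 : act 3 n5090 = n6599 := rfl
def n6604 : Q := act 3 n5093
theorem D6604 : act 3 n5093 = n6604 := rfl
theorem F5188 : act 1 n6604 = n6599 := d4_1 D6604 (iv D6599) (iv F3946)
def n6605 : Q := act 2 n5094
theorem D6605 : act 2 n5094 = n6605 := rfl
def n6616 : Q := act 0 n5104
theorem D6616 : act 0 n5104 = n6616 := rfl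
theorem F5198 : act 2 n6616 = n5106 := d1_2 (iv F3955) D6616 (iv D5106)
def n6617 : Q := act 3 n5104
theorem D6617 : act 3 n5104 = n6617 := rfl
def n6623 : Q := act 2 n5108
theorem D6623 : act 2 n5108 = n6623 := rfl
theorem F5204 : act 0 n6623 = n5109 := d1_1 D6623 (iv D5109) (iv F3956)
def n6624 : Q := act 3 n5109
theorem D6624 : act 3 n5109 = n6624 := rfl
def n6633 : Q := act 0 n5116
theorem D6633 : act 0 n5116 = n6633 := rfl
theorem F5211 : act 2 n6633 = n5117 := d1_2 (iv F3961) D6633 (iv D5117)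
def n6637 : Q := act 3 n5120
theorem D6637 : act 3 n5120 = n6637 := rfl
def n6640 : Q := act 3 n5124
theorem D6640 : act 3 n5124 = n6640 := rfl
def n6642 : Q := act 3 n5125
theorem D6642 : act 3 n5125 = n6642 := rfl
theorem F5219 : act 0 n6642 = n5126 := d2_1 D6642 (iv D5126) (iv F3972)
theorem F5220 : act 2 n6642 = n6599 := d6_2 D5125 D6642 (iv D6599) (iv D5090) (iv D3883) F2187 D2938 (iv F2989)
def n6643 : Q := act 2 n5126
theorem D6643 : act 2 n5126 = n6643 := rfl
theorem F5221 : act 0 n6643 = n6599 := d1_1 D6643 (iv F5220) F5219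
def n6644 : Q := act 2 n5127
theorem D6644 : act 2 n5127 = n6644 := rfl
theorem F5223 : act 0 n6644 = n5128 := d1_1 D6644 (iv D5128) D5127
def n6645 : Q := act 3 n5128
theorem D6645 : act 3 n5128 = n6645 := rfl
def n6646 : Q := act 2 n5129
theorem D6646 : act 2 n5129 = n6646 := rfl
def n6647 : Q := act 1 n5130
theorem D6647 : act 1 n5130 = n6647 := rfl
theorem F5225 : act 3 n6647 = n6542 := d4_2 F3990 D6647 F5139
def n6648 : Q := act 1 n5132
theorem D6648 : act 1 n5132 = n6648 := rfl
theorem F5226 : act 0 n6648 = n5138 := d0_1 D6648 (iv D5138) (iv D3919) (iv D2944) F1633 (iv F1631) (iv F2212) D3915 D5132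
def n6649 : Q := act 3 n5132
theorem D6649 : act 3 n5132 = n6649 := rfl
theorem F5227 : act 0 n6649 = n5133 := d2_1 D6649 (iv D5133) D5132
def n6650 : Q := act 2 n5133
theorem D6650 : act 2 n5133 = n6650 := rfl
def n6652 : Q := act 3 n5135
theorem D6652 : act 3 n5135 = n6652 := rfl
theorem F5229 : act 1 n6652 = n5136 := d4_1 D6652 (iv D5136) D5135
def n6654 : Q := act 3 n5138
theorem D6654 : act 3 n5138 = n6654 := rfl
theorem F5231 : act 1 n6654 = n5139 := d4_1 D6654 (iv D5139) D5138
def n6656 : Q := act 3 n5140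
theorem D6656 : act 3 n5140 = n6656 := rfl
def n6657 : Q := act 1 n5141
theorem D6657 : act 1 n5141 = n6657 := rfl
def n6665 : Q := act 3 n5146
theorem D6665 : act 3 n5146 = n6665 := rfl
theorem F5236 : act 1 n6665 = n5147 := d4_1 D6665 (iv D5147) D5146
def n6666 : Q := act 0 n5149
theorem D6666 : act 0 n5149 = n6666 := rfl
theorem F5237 : act 1 n6666 = n5317 := d0_2 D5149 D6666 F4123 F3098 F2302 F1710 (iv F1637) (iv F2218) (iv F3000)
theorem F5238 : act 3 n5316 = n6666 := d4_0 F5237 (iv D5317) D5316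
def n6667 : Q := act 3 n5149
theorem D6667 : act 3 n5149 = n6667 := rfl
theorem F5239 : act 0 n6667 = n5316 := d2_1 D6667 F5238 (iv D6666)
theorem F5240 : act 1 n6667 = n5150 := d4_1 D6667 (iv D5150) D5149
def n6668 : Q := act 2 n5150
theorem D6668 : act 2 n5150 = n6668 := rfl
theorem F5241 : act 0 n6668 = n5152 := d1_1 D6668 (iv D5152) (iv F3991)
def n6669 : Q := act 1 n5151
theorem D6669 : act 1 n5151 = n6669 := rfl
def n6670 : Q := act 3 n5151
theorem D6670 : act 3 n5151 = n6670 := rfl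
theorem F5242 : act 0 n6670 = n5153 := d2_1 D6670 (iv D5153) (iv F3992)
def n6671 : Q := act 3 n5152
theorem D6671 : act 3 n5152 = n6671 := rfl
theorem F5243 : act 2 n6671 = n6670 := d6_2 D5152 D6671 (iv D6670) (iv D5151) (iv D3928) D3927 D5150 F3991
def n6672 : Q := act 2 n5153
theorem D6672 : act 2 n5153 = n6672 := rfl
theorem F5244 : act 0 n6672 = n6671 := d1_1 D6672 F5243 F5242
theorem F5245 : act 1 n6672 = n6577 := d3_1 D6672 (iv D6577) F3929 D5071 (iv F3993)
theorem F5246 : act 3 n6672 = n6668 := d5_2 D5153 D6672 (iv D6668) (iv D5150) (iv D3927) D3928 D5151 D6670 (iv F5243) (iv D6671) (iv D5152) (iv D3929) (iv D2951) D2952 D3930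
def n6678 : Q := act 2 n5159
theorem D6678 : act 2 n5159 = n6678 := rfl
theorem F5251 : act 1 n6678 = n5670 := d3_1 D6678 (iv D5670) (iv D4334) (iv F3006) D5159
def n6679 : Q := act 2 n5160
theorem D6679 : act 2 n5160 = n6679 := rfl
theorem F5252 : act 0 n6679 = n5161 := d1_1 D6679 (iv D5161) (iv F3999)
def n6680 : Q := act 3 n5161
theorem D6680 : act 3 n5161 = n6680 := rfl
theorem F5253 : act 1 n6680 = n6521 := d4_1 D6680 F5118 (iv F4001)
def n6681 : Q := act 2 n5162
theorem D6681 : act 2 n5162 = n6681 := rfl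
def n6682 : Q := act 1 n5163
theorem D6682 : act 1 n5163 = n6682 := rfl
theorem F5254 : act 2 n6682 = n5164 := d3_2 D5163 D6682 (iv D5164) (iv D3938) (iv F3009)
def n6683 : Q := act 3 n5163
theorem D6683 : act 3 n5163 = n6683 := rfl
def n6684 : Q := act 0 n5164
theorem D6684 : act 0 n5164 = n6684 := rfl
def n6690 : Q := act 0 n5169
theorem D6690 : act 0 n5169 = n6690 := rfl
def n6691 : Q := act 2 n5169
theorem D6691 : act 2 n5169 = n6691 := rfl
theorem F5259 : act 1 n6691 = n5173 := d3_1 D6691 (iv D5173) (iv D3945) (iv F3014) D5169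
def n6692 : Q := act 3 n5169
theorem D6692 : act 3 n5169 = n6692 := rfl
theorem F5260 : act 1 n6692 = n5170 := d4_1 D6692 (iv D5170) D5169
def n6693 : Q := act 2 n5170
theorem D6693 : act 2 n5170 = n6693 := rfl
theorem F5262 : act 3 n6693 = n5318 := d6_1 D6693 (iv D5318) (iv D4058) F2301 F1695 (iv F2232) D3944 (iv F4005)
theorem F5263 : act 1 n5361 = n6693 := d4_3 F5262 F4124 D5361
def n6695 : Q := act 2 n5172
theorem D6695 : act 2 n5172 = n6695 := rfl
theorem F5266 : act 0 n6695 = n5173 := d1_1 D6695 (iv D5173) D5172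
def n6696 : Q := act 3 n5173
theorem D6696 : act 3 n5173 = n6696 := rfl
def n6698 : Q := act 3 n5174
theorem D6698 : act 3 n5174 = n6698 := rfl
theorem F5267 : act 0 n6698 = n5176 := d2_1 D6698 (iv D5176) (iv F4007)
def n6699 : Q := act 2 n5175
theorem D6699 : act 2 n5175 = n6699 := rfl
theorem F5268 : act 0 n6699 = n5177 := d1_1 D6699 (iv D5177) (iv F4008)
def n6700 : Q := act 2 n5176
theorem D6700 : act 2 n5176 = n6700 := rfl
def n6701 : Q := act 3 n5177
theorem D6701 : act 3 n5177 = n6701 := rfl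
theorem F5269 : act 1 n6701 = n5231 := d4_1 D6701 (iv F4061) F4060
def n6707 : Q := act 1 n5181
theorem D6707 : act 1 n5181 = n6707 := rfl
theorem F5276 : act 0 n6707 = n5326 := d0_1 D6707 (iv D5326) (iv D4063) (iv D3060) F1697 (iv F1648) (iv F2236) D3953 D5181
def n6708 : Q := act 3 n5181
theorem D6708 : act 3 n5181 = n6708 := rfl
theorem F5277 : act 0 n6708 = n5182 := d2_1 D6708 (iv D5182) D5181
def n6709 : Q := act 2 n5182
theorem D6709 : act 2 n5182 = n6709 := rfl
def n6710 : Q := act 1 n5183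
theorem D6710 : act 1 n5183 = n6710 := rfl
def n6711 : Q := act 0 n5184
theorem D6711 : act 0 n5184 = n6711 := rfl
theorem F5278 : act 2 n6711 = n5207 := d1_2 (iv F4015) D6711 (iv D5207)
def n6712 : Q := act 3 n5184
theorem D6712 : act 3 n5184 = n6712 := rfl
theorem F5279 : act 1 n6712 = n5185 := d4_1 D6712 (iv D5185) D5184
def n6713 : Q := act 0 n5186
theorem D6713 : act 0 n5186 = n6713 := rfl
theorem F5280 : act 2 n6713 = n5332 := d1_2 (iv F4017) D6713 (iv D5332)
def n6714 : Q := act 3 n5186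
theorem D6714 : act 3 n5186 = n6714 := rfl
theorem F5281 : act 1 n6714 = n5187 := d4_1 D6714 (iv D5187) D5186
def n6715 : Q := act 1 n5188
theorem D6715 : act 1 n5188 = n6715 := rfl
theorem F5282 : act 3 n6715 = n5588 := d4_2 F4020 D6715 (iv D5588)
def n6716 : Q := act 1 n5190
theorem D6716 : act 1 n5190 = n6716 := rfl
theorem F5283 : act 2 n6716 = n5587 := d3_2 D5190 D6716 F4363 (iv F4023) F4022
theorem F5284 : act 3 n6716 = n6710 := d4_2 (iv F4025) D6716 (iv D6710)
def n6717 : Q := act 2 n5191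
theorem D6717 : act 2 n5191 = n6717 := rfl
def n6722 : Q := act 0 n5195
theorem D6722 : act 0 n5195 = n6722 := rfl
def n6726 : Q := act 1 n5199
theorem D6726 : act 1 n5199 = n6726 := rfl
def n6727 : Q := act 1 n5201
theorem D6727 : act 1 n5201 = n6727 := rfl
def n6728 : Q := act 2 n5202
theorem D6728 : act 2 n5202 = n6728 := rfl
theorem F5291 : act 0 n6728 = n6717 := d1_1 D6728 (iv D6717) (iv F4035)
def n6729 : Q := act 3 n5202
theorem D6729 : act 3 n5202 = n6729 := rfl
theorem F5292 : act 0 n6729 = n5340 := d2_1 D6729 F4144 (iv F4035)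
theorem F5293 : act 1 n6729 = n5203 := d4_1 D6729 (iv D5203) D5202
def n6730 : Q := act 2 n5204
theorem D6730 : act 2 n5204 = n6730 := rfl
theorem F5294 : act 0 n6730 = n5217 := d1_1 D6730 (iv D5217) (iv F4038)
def n6732 : Q := act 2 n5205
theorem D6732 : act 2 n5205 = n6732 := rfl
def n6733 : Q := act 3 n5206
theorem D6733 : act 3 n5206 = n6733 := rfl
theorem F5298 : act 1 n6733 = n5502 := d4_1 D6733 (iv F4304) F4303
def n6734 : Q := act 1 n5207
theorem D6734 : act 1 n5207 = n6734 := rfl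
theorem F5299 : act 0 n6734 = n5519 := d0_1 D6734 F4308 F3240 F2406 (iv F1776) F1777 (iv F2246) D3971 D5207
theorem F5300 : act 3 n5517 = n6734 := d2_0 F5299 (iv D5519) D5517
def n6735 : Q := act 3 n5207
theorem D6735 : act 3 n5207 = n6735 := rfl
theorem F5301 : act 0 n6735 = n5208 := d2_1 D6735 (iv D5208) D5207
def n6736 : Q := act 2 n5208
theorem D6736 : act 2 n5208 = n6736 := rfl
def n6740 : Q := act 1 n5211
theorem D6740 : act 1 n5211 = n6740 := rfl
def n6741 : Q := act 3 n5211
theorem D6741 : act 3 n5211 = n6741 := rfl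
theorem F5305 : act 0 n6741 = n5212 := d2_1 D6741 (iv D5212) (iv F4043)
def n6742 : Q := act 2 n5212
theorem D6742 : act 2 n5212 = n6742 := rfl
def n6743 : Q := act 3 n5213
theorem D6743 : act 3 n5213 = n6743 := rfl
theorem F5306 : act 1 n6743 = n5303 := d4_1 D6743 (iv F4120) F4119
def n6744 : Q := act 0 n5214
theorem D6744 : act 0 n5214 = n6744 := rfl
theorem F5307 : act 2 n6744 = n6722 := d1_2 (iv F4045) D6744 (iv D6722)
def n6747 : Q := act 3 n5217
theorem D6747 : act 3 n5217 = n6747 := rfl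
def n6748 : Q := act 2 n5218
theorem D6748 : act 2 n5218 = n6748 := rfl
def n6753 : Q := act 2 n5223
theorem D6753 : act 2 n5223 = n6753 := rfl
theorem F5313 : act 1 n6753 = n5241 := d3_1 D6753 (iv D5241) (iv D3998) (iv F3044) D5223
def n6756 : Q := act 3 n5225
theorem D6756 : act 3 n5225 = n6756 := rfl
def n6761 : Q := act 3 n5228
theorem D6761 : act 3 n5228 = n6761 := rfl
theorem F5318 : act 1 n6761 = n6756 := d4_1 D6761 (iv D6756) (iv F4053)
def n6762 : Q := act 3 n5229
theorem D6762 : act 3 n5229 = n6762 := rfl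
theorem F5319 : act 0 n6762 = n5230 := d2_1 D6762 (iv D5230) D5229
def n6763 : Q := act 2 n5230
theorem D6763 : act 2 n5230 = n6763 := rfl
def n6772 : Q := act 3 n5241
theorem D6772 : act 3 n5241 = n6772 := rfl
theorem F5327 : act 0 n6772 = n5769 := d2_1 D6772 (iv D5769) (iv F4069)
def n6773 : Q := act 1 n5242
theorem D6773 : act 1 n5242 = n6773 := rfl
theorem F5328 : act 2 n6773 = n5766 := d3_2 D5242 D6773 (iv D5766) (iv D4410) (iv F3058)
def n6774 : Q := act 3 n5242
theorem D6774 : act 3 n5242 = n6774 := rfl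
theorem F5330 : act 2 n6774 = n6756 := d6_2 D5242 D6774 (iv D6756) (iv D5225) (iv D3986) F2254 D3010 (iv F3057)
def n6780 : Q := act 1 n5249
theorem D6780 : act 1 n5249 = n6780 := rfl
theorem F5335 : act 2 n6780 = n5401 := d3_2 D5249 D6780 (iv D5401) (iv D4130) (iv F3061)
def n6797 : Q := act 0 n5262
theorem D6797 : act 0 n5262 = n6797 := rfl
def n6798 : Q := act 3 n5262
theorem D6798 : act 3 n5262 = n6798 := rfl
theorem F5347 : act 1 n6798 = n5263 := d4_1 D6798 (iv D5263) D5262
def n6802 : Q := act 1 n5267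
theorem D6802 : act 1 n5267 = n6802 := rfl
def n6803 : Q := act 3 n5267
theorem D6803 : act 3 n5267 = n6803 := rfl
theorem F5353 : act 2 n6803 = n5936 := d6_2 (iv F4089) D6803 (iv D5936) F3498 (iv F3207) F3206 F2376 D4018
def n6813 : Q := act 0 n5275
theorem D6813 : act 0 n5275 = n6813 := rfl
theorem F5362 : act 2 n6813 = n5290 := d1_2 (iv F4094) D6813 (iv D5290)
def n6814 : Q := act 3 n5275
theorem D6814 : act 3 n5275 = n6814 := rfl
theorem F5363 : act 1 n6814 = n5276 := d4_1 D6814 (iv D5276) D5275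
def n6815 : Q := act 2 n5276
theorem D6815 : act 2 n5276 = n6815 := rfl
def n6816 : Q := act 3 n5277
theorem D6816 : act 3 n5277 = n6816 := rfl
def n6818 : Q := act 3 n5278
theorem D6818 : act 3 n5278 = n6818 := rfl
theorem F5367 : act 2 n6818 = n6816 := d6_2 D5278 D6818 (iv D6816) (iv D5277) (iv D4025) D4024 D5276 F4095
def n6819 : Q := act 0 n5279
theorem D6819 : act 0 n5279 = n6819 := rfl
theorem F5368 : act 2 n6819 = n5281 := d1_2 (iv F4097) D6819 (iv D5281)
theorem F5369 : act 3 n5753 = n6819 := d6_7 F4097 (iv F3217) F3216 (iv D3331) (iv F2528) D4399 D5753 (iv D6819)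
def n6820 : Q := act 3 n5279
theorem D6820 : act 3 n5279 = n6820 := rfl
theorem F5371 : act 1 n6820 = n5280 := d4_1 D6820 (iv D5280) D5279
theorem F5372 : act 2 n6820 = n5752 := d5_1 D6820 (iv D5752) F3379 D4402 (iv F4267) F4268 (iv F5368) (iv F5369) (iv D5753) (iv D4399) F2528 D3331 (iv F3216) F3217 (iv F4097)
def n6821 : Q := act 2 n5280
theorem D6821 : act 2 n5280 = n6821 := rfl
theorem F5374 : act 3 n6821 = n6815 := d5_2 D5280 D6821 (iv D6815) (iv D5276) (iv D4024) D4025 D5277 D6816 (iv F5367) (iv D6818) (iv D5278) (iv D4026) (iv D3029) D3030 D4027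
def n6822 : Q := act 1 n5281
theorem D6822 : act 1 n5281 = n6822 := rfl
def n6826 : Q := act 1 n5284
theorem D6826 : act 1 n5284 = n6826 := rfl
def n6827 : Q := act 3 n5284
theorem D6827 : act 3 n5284 = n6827 := rfl
theorem F5377 : act 0 n6827 = n5287 := d2_1 D6827 (iv D5287) (iv F4099)
def n6829 : Q := act 3 n5285
theorem D6829 : act 3 n5285 = n6829 := rfl
theorem F5379 : act 2 n6829 = n6827 := d6_2 D5285 D6829 (iv D6827) (iv D5284) (iv D4030) D4029 D5283 F4098
def n6830 : Q := act 0 n5286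
theorem D6830 : act 0 n5286 = n6830 := rfl
theorem F5380 : act 2 n6830 = n5288 := d1_2 (iv F4100) D6830 (iv D5288)
def n6831 : Q := act 3 n5286
theorem D6831 : act 3 n5286 = n6831 := rfl
theorem F5381 : act 1 n6831 = n5287 := d4_1 D6831 (iv D5287) D5286
def n6832 : Q := act 2 n5287
theorem D6832 : act 2 n5287 = n6832 := rfl
theorem F5382 : act 0 n6832 = n6829 := d1_1 D6832 F5379 F5377
def n6833 : Q := act 1 n5288
theorem D6833 : act 1 n5288 = n6833 := rfl
theorem F5384 : act 0 n6833 = n6822 := d0_1 D6833 (iv D6822) (iv D5281) (iv D4028) F2282 (iv F1685) (iv F2285) D4033 D5288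
def n6834 : Q := act 3 n5288
theorem D6834 : act 3 n5288 = n6834 := rfl
theorem F5385 : act 0 n6834 = n5289 := d2_1 D6834 (iv D5289) D5288
theorem F5386 : act 2 n5480 = n6834 := d1_0 F5385 (iv F4102) (iv F4266)
def n6835 : Q := act 3 n5290
theorem D6835 : act 3 n5290 = n6835 := rfl
theorem F5387 : act 0 n6835 = n5291 := d2_1 D6835 (iv D5291) D5290
def n6836 : Q := act 0 n5292
theorem D6836 : act 0 n5292 = n6836 := rfl
theorem F5388 : act 2 n6836 = n5296 := d1_2 (iv F4104) D6836 (iv D5296)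
def n6838 : Q := act 1 n5294
theorem D6838 : act 1 n5294 = n6838 := rfl
theorem F5390 : act 2 n6838 = n6826 := d3_2 D5294 D6838 (iv D6826) (iv D5284) (iv F3083)
def n6841 : Q := act 1 n5296
theorem D6841 : act 1 n5296 = n6841 := rfl
def n6842 : Q := act 3 n5296
theorem D6842 : act 3 n5296 = n6842 := rfl
theorem F5392 : act 0 n6842 = n5297 := d2_1 D6842 (iv D5297) D5296
def n6843 : Q := act 2 n5297
theorem D6843 : act 2 n5297 = n6843 := rfl
theorem F5393 : act 1 n6843 = n5450 := d3_1 D6843 (iv D5450) F3196 (iv F3085) (iv F4107)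
def n6844 : Q := act 0 n5298
theorem D6844 : act 0 n5298 = n6844 := rfl
theorem F5394 : act 3 n6844 = n5447 := d2_2 (iv F4108) D6844 (iv D5447)
def n6847 : Q := act 2 n5300
theorem D6847 : act 2 n5300 = n6847 := rfl
theorem F5396 : act 0 n6847 = n5301 := d1_1 D6847 (iv D5301) D5300
def n6848 : Q := act 3 n5300
theorem D6848 : act 3 n5300 = n6848 := rfl
theorem F5397 : act 0 n6848 = n5302 := d2_1 D6848 (iv D5302) D5300
theorem F5398 : act 1 n6848 = n5534 := d4_1 D6848 (iv D5534) (iv F4109)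
def n6849 : Q := act 3 n5301
theorem D6849 : act 3 n5301 = n6849 := rfl
theorem F5399 : act 1 n6849 = n5307 := d4_1 D6849 (iv D5307) (iv F4110)
def n6850 : Q := act 2 n5302
theorem D6850 : act 2 n5302 = n6850 := rfl
def n6851 : Q := act 1 n5305
theorem D6851 : act 1 n5305 = n6851 := rfl
theorem F5400 : act 2 n6851 = n5312 := d3_2 D5305 D6851 (iv D5312) (iv D4053) (iv F3089)
def n6852 : Q := act 3 n5305
theorem D6852 : act 3 n5305 = n6852 := rfl
theorem F5401 : act 0 n6852 = n5307 := d2_1 D6852 (iv D5307) (iv F4113)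
def n6853 : Q := act 2 n5306
theorem D6853 : act 2 n5306 = n6853 := rfl
theorem F5402 : act 0 n6853 = n5308 := d1_1 D6853 (iv D5308) (iv F4114)
def n6854 : Q := act 2 n5307
theorem D6854 : act 2 n5307 = n6854 := rfl
def n6855 : Q := act 1 n5308
theorem D6855 : act 1 n5308 = n6855 := rfl
theorem F5403 : act 2 n6855 = n5309 := d3_2 D5308 D6855 (iv D5309) (iv D4051) (iv F3090)
def n6856 : Q := act 3 n5308
theorem D6856 : act 3 n5308 = n6856 := rfl
def n6857 : Q := act 0 n5309
theorem D6857 : act 0 n5309 = n6857 := rfl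
def n6858 : Q := act 3 n5309
theorem D6858 : act 3 n5309 = n6858 := rfl
theorem F5404 : act 1 n6858 = n5310 := d4_1 D6858 (iv D5310) D5309
theorem F5405 : act 2 n6173 = n6858 := d3_0 F5404 F4117 (iv F4321) F4322 (iv F4824)
def n6859 : Q := act 0 n5312
theorem D6859 : act 0 n5312 = n6859 := rfl
def n6860 : Q := act 3 n5312
theorem D6860 : act 3 n5312 = n6860 := rfl
theorem F5406 : act 1 n6860 = n5313 := d4_1 D6860 (iv D5313) D5312
def n6861 : Q := act 2 n5313
theorem D6861 : act 2 n5313 = n6861 := rfl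
theorem F5407 : act 0 n6861 = n5315 := d1_1 D6861 (iv D5315) (iv F4121)
theorem F5408 : act 3 n6861 = n5673 := d6_1 D6861 F4435 F3330 (iv D4056) (iv D3053) D3052 D4055 (iv F4121)
theorem F5409 : act 1 n5674 = n6861 := d4_3 F5408 (iv D5673) D5674
def n6862 : Q := act 1 n5314
theorem D6862 : act 1 n5314 = n6862 := rfl
def n6863 : Q := act 1 n5315
theorem D6863 : act 1 n5315 = n6863 := rfl
theorem F5410 : act 2 n6863 = n5324 := d3_2 D5315 D6863 (iv D5324) (iv D4062) (iv F3095)
def n6864 : Q := act 3 n5315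
theorem D6864 : act 3 n5315 = n6864 := rfl
theorem F5412 : act 2 n6864 = n5675 := d5_1 D6864 F4436 (iv D5314) (iv D4054) D4053 D5313 D6861 F5408 F4435 F3330 (iv D4056) (iv D3053) D3052 D4055 D5315
def n6865 : Q := act 2 n5316
theorem D6865 : act 2 n5316 = n6865 := rfl
theorem F5413 : act 1 n6865 = n5320 := d3_1 D6865 (iv D5320) (iv D4059) (iv F3097) D5316
def n6866 : Q := act 2 n5319
theorem D6866 : act 2 n5319 = n6866 := rfl
theorem F5414 : act 0 n6866 = n5320 := d1_1 D6866 (iv D5320) D5319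
def n6867 : Q := act 3 n5320
theorem D6867 : act 3 n5320 = n6867 := rfl
def n6868 : Q := act 1 n5321
theorem D6868 : act 1 n5321 = n6868 := rfl
def n6869 : Q := act 3 n5321
theorem D6869 : act 3 n5321 = n6869 := rfl
def n6870 : Q := act 2 n5322
theorem D6870 : act 2 n5322 = n6870 := rfl
def n6871 : Q := act 1 n5323
theorem D6871 : act 1 n5323 = n6871 := rfl
theorem F5416 : act 3 n6871 = n5364 := d4_2 (iv F4130) D6871 (iv D5364)
def n6873 : Q := act 3 n5324
theorem D6873 : act 3 n5324 = n6873 := rfl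
theorem F5417 : act 1 n6873 = n5325 := d4_1 D6873 (iv D5325) D5324
def n6874 : Q := act 2 n5326
theorem D6874 : act 2 n5326 = n6874 := rfl
theorem F5418 : act 1 n6874 = n5352 := d3_1 D6874 (iv D5352) (iv D4087) (iv F3102) D5326
def n6875 : Q := act 3 n5326
theorem D6875 : act 3 n5326 = n6875 := rfl
theorem F5419 : act 1 n6875 = n5327 := d4_1 D6875 (iv D5327) D5326
def n6876 : Q := act 2 n5327
theorem D6876 : act 2 n5327 = n6876 := rfl
theorem F5421 : act 3 n6876 = n6113 := d6_1 D6876 F4778 F3610 (iv D4089) (iv D3077) (iv F2306) D4064 (iv F4133)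
theorem F5422 : act 1 n6114 = n6876 := d4_3 F5421 (iv D6113) D6114
def n6877 : Q := act 1 n5328
theorem D6877 : act 1 n5328 = n6877 := rfl
theorem F5423 : act 2 n6877 = n5329 := d3_2 D5328 D6877 (iv D5329) (iv D4065) (iv F3103)
def n6878 : Q := act 3 n5328
theorem D6878 : act 3 n5328 = n6878 := rfl
theorem F5425 : act 2 n6878 = n6115 := d5_1 D6878 F4779 (iv D5354) (iv D4088) (iv F3102) D5327 D6876 F5421 F4778 F3610 (iv D4089) (iv D3077) (iv F2306) D4064 D5328
def n6879 : Q := act 0 n5329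
theorem D6879 : act 0 n5329 = n6879 := rfl
def n6880 : Q := act 1 n5330
theorem D6880 : act 1 n5330 = n6880 := rfl
def n6881 : Q := act 3 n5330
theorem D6881 : act 3 n5330 = n6881 := rfl
theorem F5426 : act 0 n6881 = n5331 := d2_1 D6881 (iv D5331) D5330
def n6882 : Q := act 2 n5331
theorem D6882 : act 2 n5331 = n6882 := rfl
def n6884 : Q := act 3 n5332
theorem D6884 : act 3 n5332 = n6884 := rfl
theorem F5427 : act 0 n6884 = n5333 := d2_1 D6884 (iv D5333) D5332
def n6885 : Q := act 2 n5333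
theorem D6885 : act 2 n5333 = n6885 := rfl
theorem F5428 : act 1 n6885 = n6882 := d3_1 D6885 (iv D6882) F4135 (iv F3107) (iv F4136)
def n6886 : Q := act 0 n5334
theorem D6886 : act 0 n5334 = n6886 := rfl
def n6887 : Q := act 2 n5334
theorem D6887 : act 2 n5334 = n6887 := rfl
theorem F5429 : act 1 n6887 = n5338 := d3_1 D6887 (iv D5338) (iv D4073) (iv F3108) D5334
def n6888 : Q := act 3 n5334
theorem D6888 : act 3 n5334 = n6888 := rfl
theorem F5430 : act 1 n6888 = n5335 := d4_1 D6888 (iv D5335) D5334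
theorem F5431 : act 2 n6727 = n6888 := d3_0 F5430 F4138 F4032 D5201 D6727
def n6889 : Q := act 1 n5336
theorem D6889 : act 1 n5336 = n6889 := rfl
theorem F5432 : act 2 n6889 = n5337 := d3_2 D5336 D6889 (iv D5337) (iv D4072) (iv F3109)
theorem F5433 : act 3 n6889 = n6726 := d4_2 (iv F4140) D6889 (iv D6726)
def n6890 : Q := act 0 n5337
theorem D6890 : act 0 n5337 = n6890 := rfl
theorem F5434 : act 3 n6890 = n6879 := d2_2 (iv F4141) D6890 (iv D6879)
def n6891 : Q := act 3 n5338
theorem D6891 : act 3 n5338 = n6891 := rfl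
def n6892 : Q := act 2 n5339
theorem D6892 : act 2 n5339 = n6892 := rfl
theorem F5435 : act 0 n6892 = n5592 := d1_1 D6892 (iv D5592) (iv F4142)
def n6893 : Q := act 2 n5340
theorem D6893 : act 2 n5340 = n6893 := rfl
theorem F5436 : act 1 n6893 = n5591 := d3_1 D6893 (iv D5591) F3280 (iv F3113) D5340
def n6894 : Q := act 2 n5341
theorem D6894 : act 2 n5341 = n6894 := rfl
theorem F5437 : act 0 n6894 = n5573 := d1_1 D6894 (iv D5573) (iv F4145)
def n6896 : Q := act 2 n5342
theorem D6896 : act 2 n5342 = n6896 := rfl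
def n6897 : Q := act 1 n5343
theorem D6897 : act 1 n5343 = n6897 := rfl
theorem F5441 : act 2 n6897 = n5344 := d3_2 D5343 D6897 (iv D5344) (iv D4078) (iv F3115)
def n6898 : Q := act 3 n5343
theorem D6898 : act 3 n5343 = n6898 := rfl
def n6899 : Q := act 0 n5344
theorem D6899 : act 0 n5344 = n6899 := rfl
def n6900 : Q := act 1 n5345
theorem D6900 : act 1 n5345 = n6900 := rfl
def n6901 : Q := act 3 n5345
theorem D6901 : act 3 n5345 = n6901 := rfl
theorem F5442 : act 0 n6901 = n5346 := d2_1 D6901 (iv D5346) D5345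
def n6902 : Q := act 2 n5346
theorem D6902 : act 2 n5346 = n6902 := rfl
def n6903 : Q := act 1 n5347
theorem D6903 : act 1 n5347 = n6903 := rfl
def n6904 : Q := act 3 n5347
theorem D6904 : act 3 n5347 = n6904 := rfl
theorem F5443 : act 0 n6904 = n5348 := d2_1 D6904 (iv D5348) D5347
def n6905 : Q := act 2 n5348
theorem D6905 : act 2 n5348 = n6905 := rfl
theorem F5444 : act 1 n6905 = n6902 := d3_1 D6905 (iv D6902) F4147 (iv F3119) (iv F4149)
def n6906 : Q := act 0 n5349
theorem D6906 : act 0 n5349 = n6906 := rfl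
theorem F5445 : act 3 n6906 = n5849 := d2_2 (iv F4150) D6906 (iv D5849)
def n6907 : Q := act 2 n5349
theorem D6907 : act 2 n5349 = n6907 := rfl
theorem F5446 : act 1 n6907 = n5351 := d3_1 D6907 (iv D5351) (iv D4086) (iv F3120) D5349
def n6908 : Q := act 0 n5350
theorem D6908 : act 0 n5350 = n6908 := rfl
theorem F5447 : act 2 n6908 = n5847 := d1_2 (iv F4151) D6908 F4570
theorem F5448 : act 3 n6908 = n6899 := d2_2 (iv F4152) D6908 (iv D6899)
def n6909 : Q := act 3 n5351
theorem D6909 : act 3 n5351 = n6909 := rfl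
theorem F5449 : act 0 n6909 = n6891 := d2_1 D6909 (iv D6891) (iv F4153)
def n6910 : Q := act 3 n5352
theorem D6910 : act 3 n5352 = n6910 := rfl
theorem F5450 : act 0 n6910 = n5365 := d2_1 D6910 (iv D5365) (iv F4154)
def n6911 : Q := act 2 n5353
theorem D6911 : act 2 n5353 = n6911 := rfl
def n6912 : Q := act 1 n5354
theorem D6912 : act 1 n5354 = n6912 := rfl
def n6917 : Q := act 3 n5357
theorem D6917 : act 3 n5357 = n6917 := rfl
def n6918 : Q := act 0 n5358
theorem D6918 : act 0 n5358 = n6918 := rfl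
theorem F5459 : act 2 n6918 = n6137 := d1_2 (iv F4160) D6918 (iv D6137)
def n6919 : Q := act 3 n5358
theorem D6919 : act 3 n5358 = n6919 := rfl
theorem F5460 : act 1 n6919 = n5359 := d4_1 D6919 (iv D5359) D5358
def n6920 : Q := act 2 n5359
theorem D6920 : act 2 n5359 = n6920 := rfl
theorem F5461 : act 0 n6920 = n5360 := d1_1 D6920 (iv D5360) (iv F4161)
def n6921 : Q := act 1 n5360
theorem D6921 : act 1 n5360 = n6921 := rfl
theorem F5462 : act 2 n6921 = n5364 := d3_2 D5360 D6921 (iv D5364) (iv D4098) (iv F3134)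
def n6922 : Q := act 2 n5361
theorem D6922 : act 2 n5361 = n6922 := rfl
theorem F5464 : act 3 n6922 = n6920 := d5_2 D5361 D6922 (iv D6920) (iv D5359) (iv D4093) (iv F2324) D3579 D4711 D6136 F4795 (iv D5360) (iv D4094) (iv D3083) D3084 D4095
def n6923 : Q := act 1 n5362
theorem D6923 : act 1 n5362 = n6923 := rfl
def n6924 : Q := act 3 n5362
theorem D6924 : act 3 n5362 = n6924 := rfl
theorem F5465 : act 0 n6924 = n5363 := d2_1 D6924 (iv D5363) D5362
def n6925 : Q := act 2 n5363
theorem D6925 : act 2 n5363 = n6925 := rfl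
def n6927 : Q := act 2 n5365
theorem D6927 : act 2 n5365 = n6927 := rfl
def n6928 : Q := act 1 n5366
theorem D6928 : act 1 n5366 = n6928 := rfl
theorem F5466 : act 2 n6928 = n5367 := d3_2 D5366 D6928 (iv D5367) (iv D4101) (iv F3139)
def n6929 : Q := act 3 n5366
theorem D6929 : act 3 n5366 = n6929 := rfl
def n6930 : Q := act 0 n5367
theorem D6930 : act 0 n5367 = n6930 := rfl
def n6931 : Q := act 1 n5368
theorem D6931 : act 1 n5368 = n6931 := rfl
def n6932 : Q := act 3 n5368
theorem D6932 : act 3 n5368 = n6932 := rfl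
theorem F5467 : act 0 n6932 = n5369 := d2_1 D6932 (iv D5369) D5368
def n6933 : Q := act 2 n5369
theorem D6933 : act 2 n5369 = n6933 := rfl
def n6940 : Q := act 1 n5374
theorem D6940 : act 1 n5374 = n6940 := rfl
def n6941 : Q := act 3 n5374
theorem D6941 : act 3 n5374 = n6941 := rfl
theorem F5474 : act 2 n6941 = n6917 := d6_2 D5374 D6941 (iv D6917) (iv D5357) (iv D4092) F2320 D3092 (iv F3143)
def n6942 : Q := act 2 n5375
theorem D6942 : act 2 n5375 = n6942 := rfl
def n6943 : Q := act 1 n5376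
theorem D6943 : act 1 n5376 = n6943 := rfl
def n6944 : Q := act 0 n5377
theorem D6944 : act 0 n5377 = n6944 := rfl
theorem F5477 : act 2 n6944 = n5379 := d1_2 (iv F4173) D6944 (iv D5379)
def n6945 : Q := act 3 n5377
theorem D6945 : act 3 n5377 = n6945 := rfl
theorem F5478 : act 1 n6945 = n5378 := d4_1 D6945 (iv D5378) D5377
def n6946 : Q := act 1 n5379
theorem D6946 : act 1 n5379 = n6946 := rfl
def n6947 : Q := act 3 n5379
theorem D6947 : act 3 n5379 = n6947 := rfl
theorem F5479 : act 0 n6947 = n5380 := d2_1 D6947 (iv D5380) D5379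
def n6948 : Q := act 2 n5380
theorem D6948 : act 2 n5380 = n6948 := rfl
theorem F5480 : act 1 n6948 = n6933 := d3_1 D6948 (iv D6933) F4167 (iv F3148) (iv F4175)
def n6949 : Q := act 0 n5381
theorem D6949 : act 0 n5381 = n6949 := rfl
theorem F5481 : act 3 n6949 = n6836 := d2_2 (iv F4176) D6949 (iv D6836)
def n6950 : Q := act 2 n5381
theorem D6950 : act 2 n5381 = n6950 := rfl
theorem F5482 : act 1 n6950 = n5384 := d3_1 D6950 (iv D5384) (iv D4115) (iv F3149) D5381
def n6951 : Q := act 0 n5382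
theorem D6951 : act 0 n5382 = n6951 := rfl
theorem F5483 : act 2 n6951 = n6835 := d1_2 (iv F4177) D6951 F5387
theorem F5484 : act 3 n6951 = n6930 := d2_2 (iv F4178) D6951 (iv D6930)
def n6954 : Q := act 1 n5385
theorem D6954 : act 1 n5385 = n6954 := rfl
theorem F5486 : act 2 n6954 = n5396 := d3_2 D5385 D6954 (iv D5396) (iv D4126) (iv F3156)
def n6959 : Q := act 0 n5388
theorem D6959 : act 0 n5388 = n6959 := rfl
def n6960 : Q := act 3 n5388
theorem D6960 : act 3 n5388 = n6960 := rfl
theorem F5490 : act 1 n6960 = n5389 := d4_1 D6960 (iv D5389) D5388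
def n6961 : Q := act 1 n5390
theorem D6961 : act 1 n5390 = n6961 := rfl
theorem F5491 : act 2 n6961 = n5434 := d3_2 D5390 D6961 F4222 F3186 F3164
theorem F5492 : act 3 n6961 = n5681 := d4_2 (iv F4185) D6961 (iv D5681)
def n6963 : Q := act 3 n5391
theorem D6963 : act 3 n5391 = n6963 := rfl
theorem F5493 : act 0 n6963 = n5393 := d2_1 D6963 (iv D5393) (iv F4186)
def n6964 : Q := act 2 n5392
theorem D6964 : act 2 n5392 = n6964 := rfl
theorem F5494 : act 0 n6964 = n5394 := d1_1 D6964 (iv D5394) (iv F4187)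
def n6965 : Q := act 2 n5393
theorem D6965 : act 2 n5393 = n6965 := rfl
def n6966 : Q := act 1 n5394
theorem D6966 : act 1 n5394 = n6966 := rfl
theorem F5495 : act 2 n6966 = n5395 := d3_2 D5394 D6966 (iv D5395) (iv D4124) (iv F3162)
def n6967 : Q := act 3 n5394
theorem D6967 : act 3 n5394 = n6967 := rfl
def n6968 : Q := act 0 n5395
theorem D6968 : act 0 n5395 = n6968 := rfl
def n6969 : Q := act 0 n5396
theorem D6969 : act 0 n5396 = n6969 := rfl
theorem F5496 : act 3 n6969 = n5461 := d2_2 (iv F4189) D6969 F4246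
def n6974 : Q := act 0 n5401
theorem D6974 : act 0 n5401 = n6974 := rfl
def n6975 : Q := act 3 n5401
theorem D6975 : act 3 n5401 = n6975 := rfl
theorem F5501 : act 1 n6975 = n5402 := d4_1 D6975 (iv D5402) D5401
def n6976 : Q := act 1 n5403
theorem D6976 : act 1 n5403 = n6976 := rfl
def n6977 : Q := act 3 n5403
theorem D6977 : act 3 n5403 = n6977 := rfl
def n6978 : Q := act 2 n5404
theorem D6978 : act 2 n5404 = n6978 := rfl
def n6979 : Q := act 1 n5405
theorem D6979 : act 1 n5405 = n6979 := rfl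
theorem F5503 : act 3 n6979 = n6943 := d4_2 (iv F4200) D6979 (iv D6943)
def n6980 : Q := act 0 n5406
theorem D6980 : act 0 n5406 = n6980 := rfl
def n6981 : Q := act 2 n5406
theorem D6981 : act 2 n5406 = n6981 := rfl
def n6983 : Q := act 2 n5407
theorem D6983 : act 2 n5407 = n6983 := rfl
def n6984 : Q := act 3 n5408
theorem D6984 : act 3 n5408 = n6984 := rfl
theorem F5507 : act 1 n6984 = n5520 := d4_1 D6984 F4310 (iv F4202)
def n6985 : Q := act 2 n5409
theorem D6985 : act 2 n5409 = n6985 := rfl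
theorem F5508 : act 0 n6985 = n5410 := d1_1 D6985 (iv D5410) D5409
def n6986 : Q := act 3 n5409
theorem D6986 : act 3 n5409 = n6986 := rfl
def n6987 : Q := act 3 n5410
theorem D6987 : act 3 n5410 = n6987 := rfl
def n6988 : Q := act 2 n5411
theorem D6988 : act 2 n5411 = n6988 := rfl
theorem F5511 : act 1 n6988 = n5609 := d3_1 D6988 (iv D5609) F4207 (iv D5412) (iv F4204)
def n6990 : Q := act 3 n5413
theorem D6990 : act 3 n5413 = n6990 := rfl
theorem F5513 : act 1 n6990 = n5414 := d4_1 D6990 (iv D5414) D5413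
def n6995 : Q := act 0 n5418
theorem D6995 : act 0 n5418 = n6995 := rfl
theorem F5517 : act 2 n6995 = n5436 := d1_2 (iv F4213) D6995 (iv D5436)
def n6996 : Q := act 3 n5418
theorem D6996 : act 3 n5418 = n6996 := rfl
theorem F5518 : act 1 n6996 = n5419 := d4_1 D6996 (iv D5419) D5418
def n6997 : Q := act 2 n5419
theorem D6997 : act 2 n5419 = n6997 := rfl
def n6999 : Q := act 3 n5420
theorem D6999 : act 3 n5420 = n6999 := rfl
def n7001 : Q := act 3 n5421
theorem D7001 : act 3 n5421 = n7001 := rfl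
theorem F5522 : act 2 n7001 = n6999 := d6_2 D5421 D7001 (iv D6999) (iv D5420) (iv D4142) D4141 D5419 F4214
def n7003 : Q := act 3 n5422
theorem D7003 : act 3 n5422 = n7003 := rfl
theorem F5524 : act 1 n7003 = n5423 := d4_1 D7003 (iv D5423) D5422
def n7004 : Q := act 2 n5423
theorem D7004 : act 2 n5423 = n7004 := rfl
theorem F5526 : act 3 n7004 = n6997 := d5_2 D5423 D7004 (iv D6997) (iv D5419) (iv D4141) D4142 D5420 D6999 (iv F5522) (iv D7001) (iv D5421) (iv D4143) (iv D3118) D3119 D4144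
def n7005 : Q := act 1 n5424
theorem D7005 : act 1 n5424 = n7005 := rfl
def n7007 : Q := act 0 n5426
theorem D7007 : act 0 n5426 = n7007 := rfl
theorem F5528 : act 3 n7007 = n5525 := d2_2 (iv F4218) D7007 (iv D5525)
def n7010 : Q := act 2 n5428
theorem D7010 : act 2 n5428 = n7010 := rfl
theorem F5530 : act 0 n7010 = n5430 := d1_1 D7010 (iv D5430) (iv F4219)
def n7012 : Q := act 3 n5429
theorem D7012 : act 3 n5429 = n7012 := rfl
def n7014 : Q := act 3 n5430
theorem D7014 : act 3 n5430 = n7014 := rfl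
theorem F5532 : act 2 n7014 = n7012 := d6_2 D5430 D7014 (iv D7012) (iv D5429) (iv D4149) D4148 D5428 F4219
def n7015 : Q := act 0 n5431
theorem D7015 : act 0 n5431 = n7015 := rfl
theorem F5533 : act 2 n7015 = n5433 := d1_2 (iv F4221) D7015 (iv D5433)
def n7016 : Q := act 3 n5431
theorem D7016 : act 3 n5431 = n7016 := rfl
theorem F5534 : act 1 n7016 = n5432 := d4_1 D7016 (iv D5432) D5431
def n7017 : Q := act 2 n5432
theorem D7017 : act 2 n5432 = n7017 := rfl
theorem F5536 : act 3 n7017 = n7010 := d5_2 D5432 D7017 (iv D7010) (iv D5428) (iv D4148) D4149 D5429 D7012 (iv F5532) (iv D7014) (iv D5430) (iv D4150) (iv D3123) D3124 D4151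
def n7018 : Q := act 1 n5433
theorem D7018 : act 1 n5433 = n7018 := rfl
theorem F5537 : act 0 n7018 = n7005 := d0_1 D7018 (iv D7005) (iv D5424) (iv D4145) F2352 (iv F1732) (iv F2354) D4152 D5433
def n7019 : Q := act 3 n5433
theorem D7019 : act 3 n5433 = n7019 := rfl
theorem F5538 : act 0 n7019 = n5434 := d2_1 D7019 (iv D5434) D5433
def n7020 : Q := act 0 n5435
theorem D7020 : act 0 n5435 = n7020 := rfl
theorem F5539 : act 2 n7020 = n7007 := d1_2 (iv F4223) D7020 (iv D7007)
theorem F5540 : act 3 n7020 = n6968 := d2_2 (iv F4224) D7020 (iv D6968)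
def n7021 : Q := act 3 n5436
theorem D7021 : act 3 n5436 = n7021 := rfl
theorem F5541 : act 0 n7021 = n5437 := d2_1 D7021 (iv D5437) D5436
theorem F5542 : act 1 n7021 = n6835 := d4_1 D7021 (iv D6835) (iv F4225)
def n7022 : Q := act 2 n5437
theorem D7022 : act 2 n5437 = n7022 := rfl
theorem F5543 : act 1 n7022 = n5597 := d3_1 D7022 (iv D5597) F4229 (iv D5438) (iv F4226)
def n7023 : Q := act 0 n5439
theorem D7023 : act 0 n5439 = n7023 := rfl
def n7024 : Q := act 0 n5440
theorem D7024 : act 0 n5440 = n7024 := rfl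
theorem F5544 : act 2 n7024 = n5447 := d1_2 (iv F4230) D7024 (iv D5447)
def n7025 : Q := act 3 n5440
theorem D7025 : act 3 n5440 = n7025 := rfl
theorem F5545 : act 1 n7025 = n5441 := d4_1 D7025 (iv D5441) D5440
def n7026 : Q := act 2 n5442
theorem D7026 : act 2 n5442 = n7026 := rfl
def n7032 : Q := act 1 n5447
theorem D7032 : act 1 n5447 = n7032 := rfl
def n7034 : Q := act 3 n5448
theorem D7034 : act 3 n5448 = n7034 := rfl
theorem F5552 : act 1 n7034 = n5449 := d4_1 D7034 (iv D5449) D5448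
def n7035 : Q := act 2 n5449
theorem D7035 : act 2 n5449 = n7035 := rfl
theorem F5553 : act 0 n7035 = n5450 := d1_1 D7035 (iv D5450) (iv F4239)
theorem F5554 : act 3 n7035 = n5609 := d6_1 D7035 (iv D5609) (iv D4287) (iv D3234) F1810 (iv F2364) D4166 (iv F4239)
def n7036 : Q := act 3 n5450
theorem D7036 : act 3 n5450 = n7036 := rfl
theorem F5556 : act 2 n7036 = n5608 := d5_1 D7036 (iv D5608) (iv D4286) F2453 (iv F3195) D5449 D7035 F5554 (iv D5609) (iv D4287) (iv D3234) F1810 (iv F2364) D4166 D5450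
def n7039 : Q := act 0 n5453
theorem D7039 : act 0 n5453 = n7039 := rfl
theorem F5558 : act 2 n7039 = n6844 := d1_2 (iv F4242) D7039 (iv D6844)
def n7041 : Q := act 0 n5455
theorem D7041 : act 0 n5455 = n7041 := rfl
theorem F5559 : act 1 n7041 = n5715 := d0_2 D5455 D7041 (iv D5715) (iv D4367) (iv D3306) (iv D2466) (iv F1748) D3141 D4171
def n7042 : Q := act 2 n5455
theorem D7042 : act 2 n5455 = n7042 := rfl
theorem F5560 : act 1 n7042 = n5459 := d3_1 D7042 (iv D5459) (iv D4173) (iv F3199) D5455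
def n7043 : Q := act 3 n5455
theorem D7043 : act 3 n5455 = n7043 := rfl
theorem F5561 : act 1 n7043 = n5456 := d4_1 D7043 (iv D5456) D5455
def n7044 : Q := act 2 n5456
theorem D7044 : act 2 n5456 = n7044 := rfl
theorem F5562 : act 0 n7044 = n5457 := d1_1 D7044 (iv D5457) (iv F4243)
theorem F5563 : act 3 n7044 = n6954 := d6_1 D7044 F5486 F4189 (iv D4175) (iv D3144) (iv F2369) D4172 (iv F4243)
def n7045 : Q := act 3 n5457
theorem D7045 : act 3 n5457 = n7045 := rfl
theorem F5566 : act 2 n7045 = n6969 := d5_1 D7045 F5496 (iv D5461) (iv D4174) (iv F3199) D5456 D7044 F5563 F5486 F4189 (iv D4175) (iv D3144) (iv F2369) D4172 D5457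
def n7046 : Q := act 2 n5458
theorem D7046 : act 2 n5458 = n7046 := rfl
theorem F5567 : act 0 n7046 = n5459 := d1_1 D7046 (iv D5459) D5458
def n7047 : Q := act 3 n5458
theorem D7047 : act 3 n5458 = n7047 := rfl
theorem F5568 : act 0 n7047 = n5460 := d2_1 D7047 (iv D5460) D5458
theorem F5569 : act 1 n7047 = n5463 := d4_1 D7047 (iv D5463) (iv F4244)
def n7049 : Q := act 2 n5460
theorem D7049 : act 2 n5460 = n7049 := rfl
def n7050 : Q := act 1 n5461
theorem D7050 : act 1 n5461 = n7050 := rfl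
def n7051 : Q := act 1 n5462
theorem D7051 : act 1 n5462 = n7051 := rfl
def n7052 : Q := act 3 n5462
theorem D7052 : act 3 n5462 = n7052 := rfl
def n7053 : Q := act 2 n5464
theorem D7053 : act 2 n5464 = n7053 := rfl
def n7056 : Q := act 0 n5467
theorem D7056 : act 0 n5467 = n7056 := rfl
theorem F5573 : act 2 n7056 = n5482 := d1_2 (iv F4254) D7056 (iv D5482)
def n7057 : Q := act 3 n5467
theorem D7057 : act 3 n5467 = n7057 := rfl
theorem F5574 : act 1 n7057 = n5468 := d4_1 D7057 (iv D5468) D5467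
def n7058 : Q := act 2 n5468
theorem D7058 : act 2 n5468 = n7058 := rfl
theorem F5575 : act 0 n7058 = n5469 := d1_1 D7058 (iv D5469) (iv F4255)
theorem F5576 : act 3 n7058 = n5499 := d6_1 D7058 (iv D5499) (iv D4204) (iv D3168) F1768 D3150 D4182 (iv F4255)
def n7059 : Q := act 1 n5469
theorem D7059 : act 1 n5469 = n7059 := rfl
def n7060 : Q := act 3 n5469
theorem D7060 : act 3 n5469 = n7060 := rfl
theorem F5577 : act 0 n7060 = n5499 := d2_1 D7060 (iv F5576) F5575
theorem F5578 : act 2 n7060 = n5498 := d5_1 D7060 (iv D5498) (iv D4203) F2395 D4181 D5468 D7058 F5576 (iv D5499) (iv D4204) (iv D3168) F1768 D3150 D4182 D5469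
def n7061 : Q := act 1 n5470
theorem D7061 : act 1 n5470 = n7061 := rfl
def n7062 : Q := act 3 n5470
theorem D7062 : act 3 n5470 = n7062 := rfl
theorem F5579 : act 0 n7062 = n5471 := d2_1 D7062 (iv D5471) D5470
theorem F5580 : act 2 n7062 = n5903 := d6_2 (iv F4256) D7062 (iv D5903) F3480 (iv F2616) F3222 (iv D4200) D4199
def n7063 : Q := act 2 n5471
theorem D7063 : act 2 n5471 = n7063 := rfl
theorem F5581 : act 0 n7063 = n5903 := d1_1 D7063 (iv F5580) F5579
def n7067 : Q := act 1 n5476
theorem D7067 : act 1 n5476 = n7067 := rfl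
def n7068 : Q := act 3 n5476
theorem D7068 : act 3 n5476 = n7068 := rfl
theorem F5584 : act 0 n7068 = n5477 := d2_1 D7068 (iv D5477) D5476
theorem F5585 : act 2 n7068 = n6831 := d6_2 (iv F4262) D7068 (iv D6831) F4100 D5289 (iv F4102) (iv D4190) D4189
def n7069 : Q := act 2 n5477
theorem D7069 : act 2 n5477 = n7069 := rfl
theorem F5587 : act 3 n7069 = n6830 := d5_2 D5477 D7069 F5380 D6834 (iv F5386) (iv D5480) (iv F4262) D7068 F5585 (iv D6831) F4100 D5289 (iv F4102) (iv D4190) (iv F3214)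
def n7070 : Q := act 1 n5478
theorem D7070 : act 1 n5478 = n7070 := rfl
def n7072 : Q := act 3 n5479
theorem D7072 : act 3 n5479 = n7072 := rfl
theorem F5589 : act 0 n7072 = n5757 := d2_1 D7072 F4498 F4281
theorem F5590 : act 1 n7072 = n5480 := d4_1 D7072 (iv D5480) D5479
def n7073 : Q := act 1 n5481
theorem D7073 : act 1 n5481 = n7073 := rfl
theorem F5591 : act 3 n7073 = n6822 := d4_2 (iv F4268) D7073 (iv D6822)
def n7074 : Q := act 1 n5482
theorem D7074 : act 1 n5482 = n7074 := rfl
theorem F5592 : act 0 n7074 = n5743 := d0_1 D7074 (iv D5743) (iv D4391) (iv D3324) F1851 (iv F1758) (iv F2385) D4192 D5482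
def n7075 : Q := act 3 n5482
theorem D7075 : act 3 n5482 = n7075 := rfl
theorem F5593 : act 0 n7075 = n5483 := d2_1 D7075 (iv D5483) D5482
def n7076 : Q := act 2 n5483
theorem D7076 : act 2 n5483 = n7076 := rfl
def n7077 : Q := act 1 n5484
theorem D7077 : act 1 n5484 = n7077 := rfl
def n7078 : Q := act 0 n5485
theorem D7078 : act 0 n5485 = n7078 := rfl
def n7082 : Q := act 1 n5489
theorem D7082 : act 1 n5489 = n7082 := rfl
theorem F5597 : act 3 n7082 = n6083 := d4_2 F4275 D7082 (iv D6083)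
def n7083 : Q := act 1 n5491
theorem D7083 : act 1 n5491 = n7083 := rfl
theorem F5598 : act 2 n7083 = n6082 := d3_2 D5491 D7083 F4756 (iv F4278) F4277
theorem F5599 : act 3 n7083 = n7077 := d4_2 (iv F4280) D7083 (iv D7077)
def n7084 : Q := act 2 n5492
theorem D7084 : act 2 n5492 = n7084 := rfl
def n7085 : Q := act 2 n5493
theorem D7085 : act 2 n5493 = n7085 := rfl
theorem F5601 : act 0 n7085 = n5500 := d1_1 D7085 (iv D5500) (iv F4282)
def n7086 : Q := act 3 n5493
theorem D7086 : act 3 n5493 = n7086 := rfl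
theorem F5602 : act 0 n7086 = n5501 := d2_1 D7086 (iv D5501) (iv F4282)
theorem F5603 : act 1 n7086 = n5494 := d4_1 D7086 (iv D5494) D5493
def n7088 : Q := act 0 n5497
theorem D7088 : act 0 n5497 = n7088 := rfl
theorem F5606 : act 2 n7088 = n7078 := d1_2 (iv F4289) D7088 (iv D7078)
def n7089 : Q := act 3 n5497
theorem D7089 : act 3 n5497 = n7089 := rfl
theorem F5607 : act 1 n7089 = n5498 := d4_1 D7089 (iv D5498) D5497
def n7090 : Q := act 1 n5499
theorem D7090 : act 1 n5499 = n7090 := rfl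
def n7091 : Q := act 3 n5500
theorem D7091 : act 3 n5500 = n7091 := rfl
def n7092 : Q := act 2 n5501
theorem D7092 : act 2 n5501 = n7092 := rfl
def n7093 : Q := act 0 n5503
theorem D7093 : act 0 n5503 = n7093 := rfl
theorem F5609 : act 2 n7093 = n5505 := d1_2 (iv F4294) D7093 (iv D5505)
def n7106 : Q := act 3 n5514
theorem D7106 : act 3 n5514 = n7106 := rfl
def n7108 : Q := act 3 n5515
theorem D7108 : act 3 n5515 = n7108 := rfl
theorem F5622 : act 2 n7108 = n5790 := d6_2 D5515 D7108 (iv D5790) (iv D4432) (iv D3356) F1873 D3178 (iv F3238)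
def n7110 : Q := act 2 n5517
theorem D7110 : act 2 n5517 = n7110 := rfl
theorem F5625 : act 0 n7110 = n5518 := d1_1 D7110 (iv D5518) D5517
def n7111 : Q := act 3 n5518
theorem D7111 : act 3 n5518 = n7111 := rfl
def n7112 : Q := act 2 n5519
theorem D7112 : act 2 n5519 = n7112 := rfl
def n7118 : Q := act 1 n5525
theorem D7118 : act 1 n5525 = n7118 := rfl
def n7122 : Q := act 2 n5528
theorem D7122 : act 2 n5528 = n7122 := rfl
theorem F5634 : act 0 n7122 = n5529 := d1_1 D7122 (iv D5529) D5528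
def n7123 : Q := act 3 n5528
theorem D7123 : act 3 n5528 = n7123 := rfl
theorem F5635 : act 0 n7123 = n5530 := d2_1 D7123 (iv D5530) D5528
def n7124 : Q := act 3 n5529
theorem D7124 : act 3 n5529 = n7124 := rfl
theorem F5636 : act 1 n7124 = n5793 := d4_1 D7124 (iv D5793) (iv F4316)
def n7125 : Q := act 2 n5530
theorem D7125 : act 2 n5530 = n7125 := rfl
def n7127 : Q := act 3 n5533
theorem D7127 : act 3 n5533 = n7127 := rfl
theorem F5637 : act 0 n7127 = n5535 := d2_1 D7127 (iv D5535) (iv F4323)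
def n7128 : Q := act 2 n5534
theorem D7128 : act 2 n5534 = n7128 := rfl
theorem F5638 : act 0 n7128 = n5536 := d1_1 D7128 (iv D5536) (iv F4324)
def n7129 : Q := act 2 n5535
theorem D7129 : act 2 n5535 = n7129 := rfl
def n7135 : Q := act 0 n5540
theorem D7135 : act 0 n5540 = n7135 := rfl
theorem F5643 : act 2 n7135 = n5543 := d1_2 (iv F4330) D7135 (iv D5543)
def n7136 : Q := act 3 n5540
theorem D7136 : act 3 n5540 = n7136 := rfl
theorem F5644 : act 1 n7136 = n5541 := d4_1 D7136 (iv D5541) D5540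
def n7137 : Q := act 2 n5541
theorem D7137 : act 2 n5541 = n7137 := rfl
theorem F5645 : act 0 n7137 = n5542 := d1_1 D7137 (iv D5542) (iv F4331)
theorem F5646 : act 3 n7137 = n5821 := d6_1 D7137 (iv D5821) (iv D4458) (iv D3379) F1886 D3193 D4237 (iv F4331)
def n7138 : Q := act 1 n5542
theorem D7138 : act 1 n5542 = n7138 := rfl
def n7139 : Q := act 3 n5542
theorem D7139 : act 3 n5542 = n7139 := rfl
theorem F5648 : act 2 n7139 = n5820 := d5_1 D7139 (iv D5820) (iv D4457) F2568 D4236 D5541 D7137 F5646 (iv D5821) (iv D4458) (iv D3379) F1886 D3193 D4237 D5542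
def n7140 : Q := act 1 n5543
theorem D7140 : act 1 n5543 = n7140 := rfl
theorem F5649 : act 0 n7140 = n5551 := d0_1 D7140 (iv D5551) (iv D4243) (iv D3198) F1792 (iv F1786) (iv F2415) D4238 D5543
def n7142 : Q := act 2 n5544
theorem D7142 : act 2 n5544 = n7142 := rfl
def n7143 : Q := act 0 n5546
theorem D7143 : act 0 n5546 = n7143 := rfl
def n7144 : Q := act 3 n5546
theorem D7144 : act 3 n5546 = n7144 := rfl
theorem F5651 : act 1 n7144 = n5547 := d4_1 D7144 (iv D5547) D5546
def n7145 : Q := act 0 n5548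
theorem D7145 : act 0 n5548 = n7145 := rfl
theorem F5652 : act 2 n7145 = n5555 := d1_2 (iv F4335) D7145 (iv D5555)
def n7147 : Q := act 2 n5551
theorem D7147 : act 2 n5551 = n7147 := rfl
theorem F5654 : act 1 n7147 = n5573 := d3_1 D7147 (iv D5573) (iv D4259) (iv F3258) D5551
def n7156 : Q := act 3 n5557
theorem D7156 : act 3 n5557 = n7156 := rfl
theorem F5661 : act 0 n7156 = n5831 := d2_1 D7156 (iv D5831) (iv F4343)
theorem F5662 : act 1 n7156 = n5593 := d4_1 D7156 (iv D5593) (iv F4344)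
def n7157 : Q := act 2 n5558
theorem D7157 : act 2 n5558 = n7157 := rfl
theorem F5663 : act 0 n7157 = n5832 := d1_1 D7157 (iv D5832) (iv F4345)
def n7158 : Q := act 1 n5559
theorem D7158 : act 1 n5559 = n7158 := rfl
theorem F5664 : act 3 n7158 = n7022 := d4_2 F4374 D7158 F5543
def n7159 : Q := act 0 n5560
theorem D7159 : act 0 n5560 = n7159 := rfl
theorem F5666 : act 3 n6266 = n7159 := d6_7 F4348 (iv F3272) F3271 (iv D3660) D3659 D4814 D6266 (iv D7159)
def n7160 : Q := act 3 n5560
theorem D7160 : act 3 n5560 = n7160 := rfl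
theorem F5667 : act 0 n7160 = n6266 := d2_1 D7160 F5666 (iv D7159)
theorem F5668 : act 1 n7160 = n5561 := d4_1 D7160 (iv D5561) D5560
def n7166 : Q := act 3 n5565
theorem D7166 : act 3 n5565 = n7166 := rfl
def n7171 : Q := act 3 n5568
theorem D7171 : act 3 n5568 = n7171 := rfl
theorem F5679 : act 1 n7171 = n7166 := d4_1 D7171 (iv D7166) (iv F4351)
def n7172 : Q := act 2 n5569
theorem D7172 : act 2 n5569 = n7172 := rfl
theorem F5681 : act 3 n7172 = n6246 := d6_1 D7172 (iv D6246) (iv D4799) F2784 (iv F2050) (iv F2790) (iv F3270) D5569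
def n7173 : Q := act 3 n5570
theorem D7173 : act 3 n5570 = n7173 := rfl
theorem F5683 : act 1 n7173 = n5572 := d4_1 D7173 (iv D5572) (iv F4353)
theorem F5684 : act 2 n7173 = n6245 := d5_1 D7173 (iv D6245) F3695 (iv F2791) (iv F3708) (iv F4352) D7172 F5681 (iv D6246) (iv D4799) F2784 (iv F2050) (iv F2790) (iv F3270) D5570
def n7175 : Q := act 2 n5572
theorem D7175 : act 2 n5572 = n7175 := rfl
def n7180 : Q := act 0 n5576
theorem D7180 : act 0 n5576 = n7180 := rfl
theorem F5688 : act 2 n7180 = n5578 := d1_2 (iv F4358) D7180 (iv D5578)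
def n7181 : Q := act 3 n5576
theorem D7181 : act 3 n5576 = n7181 := rfl
theorem F5689 : act 1 n7181 = n5577 := d4_1 D7181 (iv D5577) D5576
def n7183 : Q := act 1 n5578
theorem D7183 : act 1 n5578 = n7183 := rfl
def n7184 : Q := act 0 n5579
theorem D7184 : act 0 n5579 = n7184 := rfl
theorem F5692 : act 1 n7184 = n5585 := d0_2 D5579 D7184 (iv D5585) (iv D4267) (iv D3219) (iv D2403) (iv F1798) D3215 D4263
def n7187 : Q := act 2 n5580
theorem D7187 : act 2 n5580 = n7187 := rfl
theorem F5694 : act 0 n7187 = n5581 := d1_1 D7187 (iv D5581) (iv F4359)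
def n7188 : Q := act 3 n5581
theorem D7188 : act 3 n5581 = n7188 := rfl
def n7189 : Q := act 0 n5582
theorem D7189 : act 0 n5582 = n7189 := rfl
def n7192 : Q := act 2 n5583
theorem D7192 : act 2 n5583 = n7192 := rfl
theorem F5696 : act 0 n7192 = n5584 := d1_1 D7192 (iv D5584) (iv F4360)
def n7193 : Q := act 3 n5584
theorem D7193 : act 3 n5584 = n7193 := rfl
def n7195 : Q := act 3 n5585
theorem D7195 : act 3 n5585 = n7195 := rfl
theorem F5699 : act 0 n7195 = n5587 := d2_1 D7195 (iv D5587) D5585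
def n7196 : Q := act 3 n5586
theorem D7196 : act 3 n5586 = n7196 := rfl
def n7197 : Q := act 0 n5588
theorem D7197 : act 0 n5588 = n7197 := rfl
theorem F5701 : act 2 n7197 = n5589 := d1_2 (iv F4364) D7197 (iv D5589)
def n7199 : Q := act 2 n5590
theorem D7199 : act 2 n5590 = n7199 := rfl
def n7200 : Q := act 3 n5591
theorem D7200 : act 3 n5591 = n7200 := rfl
theorem F5704 : act 0 n7200 = n5853 := d2_1 D7200 (iv D5853) (iv F4367)
def n7201 : Q := act 3 n5592
theorem D7201 : act 3 n5592 = n7201 := rfl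
def n7202 : Q := act 2 n5593
theorem D7202 : act 2 n5593 = n7202 := rfl
theorem F5706 : act 0 n7202 = n5622 := d1_1 D7202 (iv D5622) (iv F4369)
def n7204 : Q := act 3 n5594
theorem D7204 : act 3 n5594 = n7204 := rfl
theorem F5708 : act 0 n7204 = n5623 := d2_1 D7204 (iv D5623) (iv F4370)
def n7207 : Q := act 0 n5598
theorem D7207 : act 0 n5598 = n7207 := rfl
theorem F5710 : act 1 n7207 = n5602 := d0_2 D5598 D7207 (iv D5602) (iv D4283) (iv D3231) (iv D2413) (iv F1804) D3228 D4279
theorem F5711 : act 3 n7207 = n7023 := d2_2 (iv F4375) D7207 (iv D7023)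
def n7208 : Q := act 2 n5598
theorem D7208 : act 2 n5598 = n7208 := rfl
def n7210 : Q := act 1 n5600
theorem D7210 : act 1 n5600 = n7210 := rfl
def n7211 : Q := act 3 n5600
theorem D7211 : act 3 n5600 = n7211 := rfl
theorem F5713 : act 2 n7211 = n7166 := d6_2 D5600 D7211 (iv D7166) (iv D5565) (iv D4253) F2423 D3230 (iv F3288)
def n7214 : Q := act 3 n5602
theorem D7214 : act 3 n5602 = n7214 := rfl
theorem F5717 : act 0 n7214 = n5604 := d2_1 D7214 (iv D5604) D5602
theorem F5718 : act 1 n7214 = n7023 := d4_1 D7214 (iv F5711) F5710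
def n7216 : Q := act 2 n5604
theorem D7216 : act 2 n5604 = n7216 := rfl
def n7217 : Q := act 1 n5605
theorem D7217 : act 1 n5605 = n7217 := rfl
def n7229 : Q := act 2 n5619
theorem D7229 : act 2 n5619 = n7229 := rfl
theorem F5730 : act 0 n7229 = n5620 := d1_1 D7229 (iv D5620) (iv F4392)
def n7230 : Q := act 3 n5620
theorem D7230 : act 3 n5620 = n7230 := rfl
def n7232 : Q := act 1 n5622
theorem D7232 : act 1 n5622 = n7232 := rfl
def n7233 : Q := act 3 n5622
theorem D7233 : act 3 n5622 = n7233 := rfl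
theorem F5732 : act 2 n7233 = n7204 := d6_2 D5622 D7233 (iv D7204) (iv D5594) (iv D4275) D4274 D5593 F4369
def n7234 : Q := act 2 n5623
theorem D7234 : act 2 n5623 = n7234 := rfl
theorem F5733 : act 0 n7234 = n7233 := d1_1 D7234 F5732 F5708
def n7238 : Q := act 2 n5625
theorem D7238 : act 2 n5625 = n7238 := rfl
theorem F5738 : act 0 n7238 = n5626 := d1_1 D7238 (iv D5626) (iv F4394)
theorem F5739 : act 3 n7238 = n5648 := d6_1 D7238 (iv D5648) (iv D4316) F2470 F1819 (iv F2463) D4299 (iv F4394)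
def n7239 : Q := act 3 n5626
theorem D7239 : act 3 n5626 = n7239 := rfl
theorem F5740 : act 0 n7239 = n5648 := d2_1 D7239 (iv F5739) F5738
theorem F5741 : act 2 n7239 = n5647 := d5_1 D7239 (iv D5647) F3310 F2471 (iv F3298) D5625 D7238 F5739 (iv D5648) (iv D4316) F2470 F1819 (iv F2463) D4299 D5626
def n7242 : Q := act 1 n5629
theorem D7242 : act 1 n5629 = n7242 := rfl
theorem F5743 : act 2 n7242 = n5641 := d3_2 D5629 D7242 (iv D5641) (iv D4311) (iv F3300)
def n7243 : Q := act 3 n5629
theorem D7243 : act 3 n5629 = n7243 := rfl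
theorem F5744 : act 0 n7243 = n5631 := d2_1 D7243 (iv D5631) (iv F4396)
def n7246 : Q := act 1 n5632
theorem D7246 : act 1 n5632 = n7246 := rfl
theorem F5746 : act 2 n7246 = n5633 := d3_2 D5632 D7246 (iv D5633) (iv D4304) (iv F3302)
def n7247 : Q := act 3 n5632
theorem D7247 : act 3 n5632 = n7247 := rfl
def n7248 : Q := act 0 n5633
theorem D7248 : act 0 n5633 = n7248 := rfl
def n7257 : Q := act 1 n5640
theorem D7257 : act 1 n5640 = n7257 := rfl
theorem F5751 : act 2 n7257 = n5662 := d3_2 D5640 D7257 F4426 F3323 (iv F3306)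
theorem F5752 : act 3 n7257 = n7217 := d4_2 (iv F4405) D7257 (iv D7217)
def n7258 : Q := act 0 n5641
theorem D7258 : act 0 n5641 = n7258 := rfl
theorem F5753 : act 1 n7258 = n6969 := d0_2 D5641 D7258 (iv D6969) (iv D5396) F3165 F2341 (iv F1820) (iv F2467) (iv F3307)
theorem F5754 : act 3 n7050 = n7258 := d4_0 F5753 F5496 D7050
def n7259 : Q := act 3 n5641
theorem D7259 : act 3 n5641 = n7259 := rfl
theorem F5755 : act 0 n7259 = n7050 := d2_1 D7259 F5754 (iv D7258)
theorem F5756 : act 1 n7259 = n5642 := d4_1 D7259 (iv D5642) D5641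
def n7260 : Q := act 2 n5642
theorem D7260 : act 2 n5642 = n7260 := rfl
def n7261 : Q := act 1 n5643
theorem D7261 : act 1 n5643 = n7261 := rfl
def n7262 : Q := act 3 n5643
theorem D7262 : act 3 n5643 = n7262 := rfl
def n7263 : Q := act 1 n5644
theorem D7263 : act 1 n5644 = n7263 := rfl
theorem F5759 : act 2 n7263 = n5651 := d3_2 D5644 D7263 (iv D5651) (iv D4318) (iv F3309)
def n7264 : Q := act 3 n5644
theorem D7264 : act 3 n5644 = n7264 := rfl
theorem F5760 : act 2 n7264 = n7262 := d6_2 D5644 D7264 (iv D7262) (iv D5643) (iv D4312) D4311 D5642 F4406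
def n7265 : Q := act 2 n5645
theorem D7265 : act 2 n5645 = n7265 := rfl
theorem F5762 : act 1 n7265 = n7142 := d3_1 D7265 (iv D7142) F4332 D5545 (iv F4408)
theorem F5763 : act 3 n7265 = n7260 := d5_2 D5645 D7265 (iv D7260) (iv D5642) (iv D4311) D4312 D5643 D7262 (iv F5760) (iv D7264) (iv D5644) (iv D4313) (iv D3255) D3256 D4314
def n7268 : Q := act 3 n5646
theorem D7268 : act 3 n5646 = n7268 := rfl
theorem F5765 : act 1 n7268 = n5647 := d4_1 D7268 (iv D5647) D5646
def n7271 : Q := act 0 n5651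
theorem D7271 : act 0 n5651 = n7271 := rfl
theorem F5767 : act 3 n7271 = n7039 := d2_2 (iv F4412) D7271 (iv D7039)
def n7275 : Q := act 0 n5655
theorem D7275 : act 0 n5655 = n7275 := rfl
def n7276 : Q := act 1 n5656
theorem D7276 : act 1 n5656 = n7276 := rfl
def n7277 : Q := act 3 n5656
theorem D7277 : act 3 n5656 = n7277 := rfl
theorem F5773 : act 0 n7277 = n5657 := d2_1 D7277 (iv D5657) D5656
def n7278 : Q := act 2 n5657
theorem D7278 : act 2 n5657 = n7278 := rfl
def n7279 : Q := act 2 n5658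
theorem D7279 : act 2 n5658 = n7279 := rfl
theorem F5774 : act 0 n7279 = n6646 := d1_1 D7279 (iv D6646) (iv F4420)
def n7280 : Q := act 2 n5659
theorem D7280 : act 2 n5659 = n7280 := rfl
theorem F5775 : act 0 n7280 = n5660 := d1_1 D7280 (iv D5660) (iv F4422)
def n7281 : Q := act 3 n5660
theorem D7281 : act 3 n5660 = n7281 := rfl
theorem F5776 : act 1 n7281 = n7239 := d4_1 D7281 (iv D7239) (iv F4424)
def n7282 : Q := act 1 n5661
theorem D7282 : act 1 n5661 = n7282 := rfl
def n7283 : Q := act 3 n5661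
theorem D7283 : act 3 n5661 = n7283 := rfl
theorem F5777 : act 0 n7283 = n5662 := d2_1 D7283 (iv D5662) D5661
def n7284 : Q := act 0 n5663
theorem D7284 : act 0 n5663 = n7284 := rfl
theorem F5778 : act 2 n7284 = n5710 := d1_2 (iv F4427) D7284 F4462
theorem F5779 : act 3 n7284 = n7248 := d2_2 (iv F4428) D7284 (iv D7248)
def n7285 : Q := act 0 n5664
theorem D7285 : act 0 n5664 = n7285 := rfl
def n7286 : Q := act 3 n5664
theorem D7286 : act 3 n5664 = n7286 := rfl
def n7288 : Q := act 1 n5666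
theorem D7288 : act 1 n5666 = n7288 := rfl
def n7289 : Q := act 3 n5666
theorem D7289 : act 3 n5666 = n7289 := rfl
theorem F5783 : act 2 n7289 = n6640 := d6_2 D5666 D7289 (iv D6640) (iv D5124) (iv F2988) D4330 D5665 F4429
def n7290 : Q := act 0 n5667
theorem D7290 : act 0 n5667 = n7290 := rfl
theorem F5784 : act 2 n7290 = n5669 := d1_2 (iv F4430) D7290 (iv D5669)
theorem F5785 : act 3 n6005 = n7290 := d6_7 F4430 (iv F3350) F3349 (iv D3488) (iv F2650) D4600 D6005 (iv D7290)
def n7291 : Q := act 3 n5667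
theorem D7291 : act 3 n5667 = n7291 := rfl
theorem F5787 : act 1 n7291 = n5668 := d4_1 D7291 (iv D5668) D5667
theorem F5788 : act 2 n7291 = n6004 := d5_1 D7291 (iv D6004) F3531 D4603 (iv F4463) F4464 (iv F5784) (iv F5785) (iv D6005) (iv D4600) F2650 D3488 (iv F3349) F3350 (iv F4430)
def n7293 : Q := act 1 n5669
theorem D7293 : act 1 n5669 = n7293 := rfl
theorem F5791 : act 0 n7293 = n7282 := d0_1 D7293 (iv D7282) (iv D5661) (iv D4327) F2486 (iv F1833) (iv F2489) D4333 D5669
def n7294 : Q := act 3 n5670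
theorem D7294 : act 3 n5670 = n7294 := rfl
theorem F5792 : act 0 n7294 = n5679 := d2_1 D7294 (iv D5679) (iv F4431)
def n7295 : Q := act 2 n5671
theorem D7295 : act 2 n5671 = n7295 := rfl
def n7297 : Q := act 3 n5672
theorem D7297 : act 3 n5672 = n7297 := rfl
theorem F5794 : act 0 n7297 = n5674 := d2_1 D7297 (iv D5674) (iv F4434)
theorem F5795 : act 2 n7297 = n6680 := d6_2 D5672 D7297 (iv D6680) (iv D5161) (iv D3935) F2224 D3279 (iv F3329)
def n7298 : Q := act 2 n5674
theorem D7298 : act 2 n5674 = n7298 := rfl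
theorem F5796 : act 0 n7298 = n6680 := d1_1 D7298 (iv F5795) F5794
theorem F5797 : act 3 n7298 = n6679 := d5_2 D5674 D7298 (iv D6679) (iv D5160) F3006 D4335 D5672 D7297 F5795 (iv D6680) (iv D5161) (iv D3935) F2224 D3279 D4336
def n7299 : Q := act 1 n5675
theorem D7299 : act 1 n5675 = n7299 := rfl
theorem F5798 : act 3 n7299 = n6862 := d4_2 (iv F4436) D7299 (iv D6862)
def n7300 : Q := act 0 n5676
theorem D7300 : act 0 n5676 = n7300 := rfl
def n7302 : Q := act 3 n5676
theorem D7302 : act 3 n5676 = n7302 := rfl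
theorem F5800 : act 1 n7302 = n5677 := d4_1 D7302 (iv D5677) D5676
def n7303 : Q := act 2 n5677
theorem D7303 : act 2 n5677 = n7303 := rfl
theorem F5801 : act 0 n7303 = n5678 := d1_1 D7303 (iv D5678) (iv F4437)
theorem F5802 : act 3 n7303 = n6933 := d6_1 D7303 (iv D6933) (iv D5369) F3141 F2330 (iv F2493) D4339 (iv F4437)
def n7304 : Q := act 3 n5678
theorem D7304 : act 3 n5678 = n7304 := rfl
theorem F5803 : act 0 n7304 = n6933 := d2_1 D7304 (iv F5802) F5801
theorem F5804 : act 1 n7304 = n6671 := d4_1 D7304 (iv D6671) (iv F4438)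
theorem F5805 : act 2 n7304 = n6932 := d5_1 D7304 (iv D6932) F4166 F3142 (iv F3331) D5677 D7303 F5802 (iv D6933) (iv D5369) F3141 F2330 (iv F2493) D4339 D5678
def n7305 : Q := act 2 n5679
theorem D7305 : act 2 n5679 = n7305 := rfl
def n7306 : Q := act 1 n5680
theorem D7306 : act 1 n5680 = n7306 := rfl
theorem F5806 : act 2 n7306 = n5681 := d3_2 D5680 D7306 (iv D5681) (iv D4342) (iv F3334)
def n7307 : Q := act 3 n5680
theorem D7307 : act 3 n5680 = n7307 := rfl
def n7308 : Q := act 0 n5681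
theorem D7308 : act 0 n5681 = n7308 := rfl
def n7311 : Q := act 1 n5684
theorem D7311 : act 1 n5684 = n7311 := rfl
def n7312 : Q := act 3 n5684
theorem D7312 : act 3 n5684 = n7312 := rfl
theorem F5808 : act 0 n7312 = n5685 := d2_1 D7312 (iv D5685) D5684
def n7313 : Q := act 2 n5685
theorem D7313 : act 2 n5685 = n7313 := rfl
theorem F5809 : act 1 n7313 = n7278 := d3_1 D7313 (iv D7278) F4419 (iv F3337) (iv F4441)
def n7314 : Q := act 0 n5686
theorem D7314 : act 0 n5686 = n7314 := rfl
def n7315 : Q := act 2 n5686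
theorem D7315 : act 2 n5686 = n7315 := rfl
theorem F5810 : act 1 n7315 = n5691 := d3_1 D7315 (iv D5691) (iv D4350) (iv F3338) D5686
def n7316 : Q := act 3 n5686
theorem D7316 : act 3 n5686 = n7316 := rfl
theorem F5811 : act 1 n7316 = n5687 := d4_1 D7316 (iv D5687) D5686
def n7317 : Q := act 2 n5687
theorem D7317 : act 2 n5687 = n7317 := rfl
theorem F5813 : act 3 n7317 = n5987 := d6_1 D7317 (iv D5987) (iv D4587) F2642 F1949 (iv F2498) D4348 (iv F4442)
theorem F5814 : act 1 n6032 = n7317 := d4_3 F5813 F4684 D6032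
def n7321 : Q := act 2 n5690
theorem D7321 : act 2 n5690 = n7321 := rfl
theorem F5819 : act 0 n7321 = n5691 := d1_1 D7321 (iv D5691) D5690
def n7322 : Q := act 3 n5691
theorem D7322 : act 3 n5691 = n7322 := rfl
def n7323 : Q := act 1 n5692
theorem D7323 : act 1 n5692 = n7323 := rfl
def n7324 : Q := act 3 n5692
theorem D7324 : act 3 n5692 = n7324 := rfl
def n7325 : Q := act 2 n5693
theorem D7325 : act 2 n5693 = n7325 := rfl
theorem F5821 : act 0 n7325 = n5695 := d1_1 D7325 (iv D5695) (iv F4446)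
theorem F5822 : act 3 n6684 = n7325 := d2_0 F5821 (iv F4449) D6684
def n7326 : Q := act 2 n5694
theorem D7326 : act 2 n5694 = n7326 := rfl
def n7327 : Q := act 0 n5696
theorem D7327 : act 0 n5696 = n7327 := rfl
theorem F5823 : act 2 n7327 = n5699 := d1_2 (iv F4450) D7327 (iv D5699)
def n7330 : Q := act 1 n5699
theorem D7330 : act 1 n5699 = n7330 := rfl
def n7338 : Q := act 1 n5706
theorem D7338 : act 1 n5706 = n7338 := rfl
def n7339 : Q := act 3 n5706
theorem D7339 : act 3 n5706 = n7339 := rfl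
def n7340 : Q := act 2 n5707
theorem D7340 : act 2 n5707 = n7340 := rfl
def n7342 : Q := act 2 n5709
theorem D7342 : act 2 n5709 = n7342 := rfl
theorem F5831 : act 0 n7342 = n6150 := d1_1 D7342 (iv D6150) (iv F4461)
def n7343 : Q := act 3 n5709
theorem D7343 : act 3 n5709 = n7343 := rfl
theorem F5833 : act 1 n7343 = n5710 := d4_1 D7343 (iv D5710) D5709
def n7344 : Q := act 1 n5711
theorem D7344 : act 1 n5711 = n7344 := rfl
theorem F5834 : act 3 n7344 = n7293 := d4_2 (iv F4464) D7344 (iv D7293)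
def n7348 : Q := act 2 n5713
theorem D7348 : act 2 n5713 = n7348 := rfl
theorem F5837 : act 0 n7348 = n5714 := d1_1 D7348 (iv D5714) (iv F4465)
theorem F5838 : act 3 n7348 = n6561 := d6_1 D7348 (iv D6561) (iv D5059) F2945 F2174 (iv F2509) D4366 (iv F4465)
def n7349 : Q := act 3 n5714
theorem D7349 : act 3 n5714 = n7349 := rfl
theorem F5839 : act 0 n7349 = n6561 := d2_1 D7349 (iv F5838) F5837
theorem F5840 : act 1 n7349 = n7045 := d4_1 D7349 (iv D7045) (iv F4466)
def n7350 : Q := act 2 n5715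
theorem D7350 : act 2 n5715 = n7350 := rfl
theorem F5842 : act 0 n7350 = n5716 := d1_1 D7350 (iv D5716) D5715
def n7351 : Q := act 3 n5715
theorem D7351 : act 3 n5715 = n7351 := rfl
theorem F5843 : act 0 n7351 = n5717 := d2_1 D7351 (iv D5717) D5715
def n7352 : Q := act 3 n5716
theorem D7352 : act 3 n5716 = n7352 := rfl
theorem F5844 : act 1 n7352 = n5721 := d4_1 D7352 (iv D5721) (iv F4467)
def n7353 : Q := act 0 n5718
theorem D7353 : act 0 n5718 = n7353 := rfl
theorem F5845 : act 2 n7353 = n5719 := d1_2 (iv F4469) D7353 (iv D5719)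
def n7354 : Q := act 1 n5719
theorem D7354 : act 1 n5719 = n7354 := rfl
def n7355 : Q := act 1 n5720
theorem D7355 : act 1 n5720 = n7355 := rfl
theorem F5847 : act 2 n7355 = n5722 := d3_2 D5720 D7355 (iv D5722) (iv D4373) (iv F3355)
def n7356 : Q := act 3 n5720
theorem D7356 : act 3 n5720 = n7356 := rfl
theorem F5848 : act 0 n7356 = n5721 := d2_1 D7356 (iv D5721) (iv F4471)
def n7358 : Q := act 0 n5722
theorem D7358 : act 0 n5722 = n7358 := rfl
def n7361 : Q := act 1 n5724
theorem D7361 : act 1 n5724 = n7361 := rfl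
def n7362 : Q := act 3 n5724
theorem D7362 : act 3 n5724 = n7362 := rfl
theorem F5851 : act 0 n7362 = n5726 := d2_1 D7362 (iv D5726) (iv F4473)
def n7364 : Q := act 3 n5725
theorem D7364 : act 3 n5725 = n7364 := rfl
theorem F5853 : act 2 n7364 = n7362 := d6_2 D5725 D7364 (iv D7362) (iv D5724) (iv D4374) D4373 D5723 F4472
def n7365 : Q := act 2 n5726
theorem D7365 : act 2 n5726 = n7365 := rfl
theorem F5854 : act 0 n7365 = n7364 := d1_1 D7365 F5853 F5851
theorem F5855 : act 1 n7365 = n5781 := d3_1 D7365 (iv D5781) F3398 D4422 (iv F4474)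
def n7366 : Q := act 1 n5727
theorem D7366 : act 1 n5727 = n7366 := rfl
def n7372 : Q := act 3 n5732
theorem D7372 : act 3 n5732 = n7372 := rfl
theorem F5860 : act 0 n7372 = n6074 := d2_1 D7372 (iv D6074) (iv F4481)
theorem F5861 : act 1 n7372 = n5733 := d4_1 D7372 (iv D5733) D5732
def n7373 : Q := act 2 n5733
theorem D7373 : act 2 n5733 = n7373 := rfl
def n7375 : Q := act 3 n5734
theorem D7375 : act 3 n5734 = n7375 := rfl
def n7379 : Q := act 2 n5737
theorem D7379 : act 2 n5737 = n7379 := rfl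
def n7383 : Q := act 0 n5740
theorem D7383 : act 0 n5740 = n7383 := rfl
theorem F5867 : act 3 n7383 = n6633 := d2_2 (iv F4487) D7383 (iv D6633)
def n7384 : Q := act 2 n5740
theorem D7384 : act 2 n5740 = n7384 := rfl
theorem F5868 : act 1 n7384 = n5742 := d3_1 D7384 (iv D5742) (iv D4390) (iv F3368) D5740
def n7387 : Q := act 2 n5743
theorem D7387 : act 2 n5743 = n7387 := rfl
def n7393 : Q := act 1 n5747
theorem D7393 : act 1 n5747 = n7393 := rfl
def n7394 : Q := act 3 n5747
theorem D7394 : act 3 n5747 = n7394 := rfl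
theorem F5874 : act 0 n7394 = n5748 := d2_1 D7394 (iv D5748) D5747
def n7395 : Q := act 2 n5748
theorem D7395 : act 2 n5748 = n7395 := rfl
def n7399 : Q := act 0 n5751
theorem D7399 : act 0 n5751 = n7399 := rfl
def n7400 : Q := act 2 n5751
theorem D7400 : act 2 n5751 = n7400 := rfl
theorem F5877 : act 1 n7400 = n5755 := d3_1 D7400 (iv D5755) (iv D4401) (iv F3379) D5751
def n7401 : Q := act 3 n5751
theorem D7401 : act 3 n5751 = n7401 := rfl
theorem F5878 : act 1 n7401 = n5752 := d4_1 D7401 (iv D5752) D5751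
def n7405 : Q := act 2 n5756
theorem D7405 : act 2 n5756 = n7405 := rfl
theorem F5882 : act 0 n7405 = n6087 := d1_1 D7405 (iv D6087) (iv F4496)
def n7406 : Q := act 2 n5757
theorem D7406 : act 2 n5757 = n7406 := rfl
theorem F5883 : act 1 n7406 = n6086 := d3_1 D7406 (iv D6086) F3594 (iv F3385) D5757
def n7408 : Q := act 3 n5758
theorem D7408 : act 3 n5758 = n7408 := rfl
theorem F5885 : act 2 n7408 = n7375 := d6_2 D5758 D7408 (iv D7375) (iv D5734) (iv D4381) F2522 D3334 (iv F3387)
def n7409 : Q := act 2 n5759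
theorem D7409 : act 2 n5759 = n7409 := rfl
theorem F5887 : act 1 n7409 = n6748 := d3_1 D7409 (iv D6748) F4048 D5219 (iv F4500)
theorem F5888 : act 3 n7409 = n7373 := d5_2 D5759 D7409 (iv D7373) (iv D5733) F3361 D4404 D5758 D7408 F5885 (iv D7375) (iv D5734) (iv D4381) F2522 D3334 D4405
def n7411 : Q := act 2 n5761
theorem D7411 : act 2 n5761 = n7411 := rfl
theorem F5890 : act 0 n7411 = n5762 := d1_1 D7411 (iv D5762) (iv F4503)
def n7412 : Q := act 3 n5762
theorem D7412 : act 3 n5762 = n7412 := rfl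
def n7416 : Q := act 2 n5764
theorem D7416 : act 2 n5764 = n7416 := rfl
theorem F5893 : act 0 n7416 = n5765 := d1_1 D7416 (iv D5765) (iv F4505)
def n7417 : Q := act 3 n5765
theorem D7417 : act 3 n5765 = n7417 := rfl
theorem F5894 : act 1 n7417 = n7412 := d4_1 D7417 (iv D7412) (iv F4506)
def n7419 : Q := act 3 n5766
theorem D7419 : act 3 n5766 = n7419 := rfl
theorem F5895 : act 1 n7419 = n5767 := d4_1 D7419 (iv D5767) D5766
def n7420 : Q := act 2 n5767
theorem D7420 : act 2 n5767 = n7420 := rfl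
theorem F5896 : act 0 n7420 = n5768 := d1_1 D7420 (iv D5768) (iv F4507)
def n7421 : Q := act 1 n5768
theorem D7421 : act 1 n5768 = n7421 := rfl
theorem F5897 : act 2 n7421 = n5772 := d3_2 D5768 D7421 (iv D5772) (iv D4415) (iv F3392)
def n7422 : Q := act 3 n5768
theorem D7422 : act 3 n5768 = n7422 := rfl
theorem F5898 : act 2 n7422 = n6772 := d6_2 D5768 D7422 (iv D6772) (iv D5241) (iv F3056) D4410 D5767 F4507
def n7423 : Q := act 2 n5769
theorem D7423 : act 2 n5769 = n7423 := rfl
theorem F5899 : act 0 n7423 = n7422 := d1_1 D7423 F5898 F5327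
theorem F5900 : act 1 n7423 = n6050 := d3_1 D7423 (iv D6050) F3570 D4642 (iv F4508)
theorem F5901 : act 3 n7423 = n7420 := d5_2 D5769 D7423 (iv D7420) (iv D5767) (iv D4410) F3056 D5241 D6772 (iv F5898) (iv D7422) (iv D5768) (iv D4411) (iv D3342) D3343 D4412
def n7433 : Q := act 3 n5776
theorem D7433 : act 3 n5776 = n7433 := rfl
theorem F5906 : act 2 n7433 = n7417 := d6_2 D5776 D7433 (iv D7417) (iv D5765) (iv D4409) F2535 D3347 (iv F3395)
def n7434 : Q := act 2 n5777
theorem D7434 : act 2 n5777 = n7434 := rfl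
theorem F5908 : act 1 n7434 = n6293 := d3_1 D7434 (iv D6293) F3728 (iv F3564) (iv F4513)
theorem F5909 : act 3 n7434 = n7416 := d5_2 D5777 D7434 (iv D7416) (iv D5764) F3389 D4417 D5776 D7433 F5906 (iv D7417) (iv D5765) (iv D4409) F2535 D3347 D4418
def n7435 : Q := act 1 n5778
theorem D7435 : act 1 n5778 = n7435 := rfl
theorem F5910 : act 0 n7435 = n6858 := d0_1 D7435 F5404 F4116 F3092 F3020 (iv F2261) (iv F2546) (iv F3397) (iv F4514)
theorem F5911 : act 2 n7435 = n6298 := d3_2 D5778 D7435 (iv D6298) F3731 F3559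
theorem F5912 : act 3 n6857 = n7435 := d2_0 F5910 (iv D6858) D6857
def n7436 : Q := act 3 n5778
theorem D7436 : act 3 n5778 = n7436 := rfl
theorem F5913 : act 0 n7436 = n5780 := d2_1 D7436 (iv D5780) (iv F4514)
theorem F5914 : act 1 n7436 = n6857 := d4_1 D7436 F5912 (iv D7435)
def n7437 : Q := act 2 n5779
theorem D7437 : act 2 n5779 = n7437 := rfl
theorem F5915 : act 0 n7437 = n5781 := d1_1 D7437 (iv D5781) (iv F4515)
def n7442 : Q := act 2 n5783
theorem D7442 : act 2 n5783 = n7442 := rfl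
def n7445 : Q := act 1 n5785
theorem D7445 : act 1 n5785 = n7445 := rfl
theorem F5920 : act 0 n7445 = n6058 := d0_1 D7445 F4736 F3575 F2681 F2519 (iv F1872) (iv F2547) D4427 D5785
theorem F5921 : act 3 n6057 = n7445 := d2_0 F5920 (iv D6058) D6057
def n7446 : Q := act 3 n5785
theorem D7446 : act 3 n5785 = n7446 := rfl
theorem F5922 : act 0 n7446 = n5786 := d2_1 D7446 (iv D5786) D5785
theorem F5923 : act 1 n7446 = n6057 := d4_1 D7446 F5921 (iv D7445)
def n7453 : Q := act 1 n5792
theorem D7453 : act 1 n5792 = n7453 := rfl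
def n7454 : Q := act 3 n5792
theorem D7454 : act 3 n5792 = n7454 := rfl
theorem F5927 : act 0 n7454 = n5793 := d2_1 D7454 (iv D5793) (iv F4525)
def n7455 : Q := act 2 n5793
theorem D7455 : act 2 n5793 = n7455 := rfl
def n7459 : Q := act 1 n5796
theorem D7459 : act 1 n5796 = n7459 := rfl
theorem F5931 : act 2 n7459 = n6166 := d3_2 D5796 D7459 (iv D6166) (iv D4736) (iv F3413)
def n7468 : Q := act 0 n5802
theorem D7468 : act 0 n5802 = n7468 := rfl
theorem F5939 : act 2 n7468 = n5813 := d1_2 (iv F4533) D7468 (iv D5813)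
def n7469 : Q := act 3 n5802
theorem D7469 : act 3 n5802 = n7469 := rfl
theorem F5940 : act 1 n7469 = n5803 := d4_1 D7469 (iv D5803) D5802
def n7471 : Q := act 3 n5804
theorem D7471 : act 3 n5804 = n7471 := rfl
theorem F5941 : act 1 n7471 = n5805 := d4_1 D7471 (iv D5805) D5804
def n7478 : Q := act 2 n5811
theorem D7478 : act 2 n5811 = n7478 := rfl
theorem F5947 : act 0 n7478 = n5812 := d1_1 D7478 (iv D5812) (iv F4543)
def n7479 : Q := act 1 n5814
theorem D7479 : act 1 n5814 = n7479 := rfl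
def n7480 : Q := act 3 n5814
theorem D7480 : act 3 n5814 = n7480 := rfl
theorem F5948 : act 0 n7480 = n5815 := d2_1 D7480 (iv D5815) D5814
def n7481 : Q := act 2 n5815
theorem D7481 : act 2 n5815 = n7481 := rfl
theorem F5949 : act 1 n7481 = n6422 := d3_1 D7481 (iv D6422) (iv D4950) (iv F3426) (iv F4546)
def n7484 : Q := act 2 n5817
theorem D7484 : act 2 n5817 = n7484 := rfl
def n7485 : Q := act 3 n5818
theorem D7485 : act 3 n5818 = n7485 := rfl
theorem F5952 : act 0 n7485 = n6423 := d2_1 D7485 (iv D6423) (iv F4549)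
def n7487 : Q := act 3 n5819
theorem D7487 : act 3 n5819 = n7487 := rfl
theorem F5954 : act 1 n7487 = n5820 := d4_1 D7487 (iv D5820) D5819
def n7488 : Q := act 1 n5821
theorem D7488 : act 1 n5821 = n7488 := rfl
def n7491 : Q := act 1 n5824
theorem D7491 : act 1 n5824 = n7491 := rfl
def n7498 : Q := act 2 n5829
theorem D7498 : act 2 n5829 = n7498 := rfl
theorem F5960 : act 0 n7498 = n5830 := d1_1 D7498 (iv D5830) (iv F4557)
def n7499 : Q := act 3 n5830
theorem D7499 : act 3 n5830 = n7499 := rfl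
theorem F5961 : act 1 n7499 = n5898 := d4_1 D7499 (iv D5898) (iv F4558)
def n7501 : Q := act 3 n5832
theorem D7501 : act 3 n5832 = n7501 := rfl
theorem F5962 : act 1 n7501 = n6475 := d4_1 D7501 (iv F5112) F5111
def n7503 : Q := act 3 n5833
theorem D7503 : act 3 n5833 = n7503 := rfl
theorem F5963 : act 0 n7503 = n5834 := d2_1 D7503 (iv D5834) D5833
def n7504 : Q := act 2 n5834
theorem D7504 : act 2 n5834 = n7504 := rfl
def n7508 : Q := act 3 n5836
theorem D7508 : act 3 n5836 = n7508 := rfl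
theorem F5966 : act 0 n7508 = n5838 := d2_1 D7508 (iv D5838) D5836
theorem F5967 : act 1 n7508 = n5847 := d4_1 D7508 (iv D5847) (iv F4562)
def n7510 : Q := act 2 n5838
theorem D7510 : act 2 n5838 = n7510 := rfl
def n7511 : Q := act 1 n5839
theorem D7511 : act 1 n5839 = n7511 := rfl
def n7516 : Q := act 1 n5844
theorem D7516 : act 1 n5844 = n7516 := rfl
def n7517 : Q := act 3 n5844
theorem D7517 : act 3 n5844 = n7517 := rfl
theorem F5971 : act 0 n7517 = n5845 := d2_1 D7517 (iv D5845) (iv F4567)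
theorem F5972 : act 2 n7517 = n7171 := d6_2 D5844 D7517 (iv D7171) (iv D5568) (iv D4255) F2425 D3392 (iv F3441)
def n7518 : Q := act 2 n5845
theorem D7518 : act 2 n5845 = n7518 := rfl
theorem F5973 : act 0 n7518 = n7171 := d1_1 D7518 (iv F5972) F5971
def n7519 : Q := act 1 n5846
theorem D7519 : act 1 n5846 = n7519 := rfl
def n7520 : Q := act 3 n5846
theorem D7520 : act 3 n5846 = n7520 := rfl
theorem F5975 : act 0 n7520 = n5848 := d2_1 D7520 (iv D5848) (iv F4569)
def n7521 : Q := act 2 n5848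
theorem D7521 : act 2 n5848 = n7521 := rfl
def n7522 : Q := act 1 n5849
theorem D7522 : act 1 n5849 = n7522 := rfl
def n7524 : Q := act 2 n5850
theorem D7524 : act 2 n5850 = n7524 := rfl
def n7525 : Q := act 1 n5851
theorem D7525 : act 1 n5851 = n7525 := rfl
def n7527 : Q := act 2 n5853
theorem D7527 : act 2 n5853 = n7527 := rfl
theorem F5980 : act 3 n7527 = n7199 := d6_1 D7527 (iv D7199) (iv D5590) (iv D4271) D4272 D5591 D7200 F5704
def n7533 : Q := act 1 n5858
theorem D7533 : act 1 n5858 = n7533 := rfl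
def n7534 : Q := act 1 n5860
theorem D7534 : act 1 n5860 = n7534 := rfl
theorem F5985 : act 3 n7534 = n7491 := d4_2 (iv F4583) D7534 (iv D7491)
def n7537 : Q := act 2 n5862
theorem D7537 : act 2 n5862 = n7537 := rfl
def n7539 : Q := act 2 n5864
theorem D7539 : act 2 n5864 = n7539 := rfl
def n7540 : Q := act 1 n5865
theorem D7540 : act 1 n5865 = n7540 := rfl
def n7541 : Q := act 3 n5865
theorem D7541 : act 3 n5865 = n7541 := rfl
theorem F5988 : act 0 n7541 = n5866 := d2_1 D7541 (iv D5866) (iv F4586)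
theorem F5989 : act 2 n7541 = n5898 := d6_2 D5865 D7541 (iv D5898) (iv D4522) (iv D3426) F1919 D3405 (iv F3454)
def n7542 : Q := act 2 n5866
theorem D7542 : act 2 n5866 = n7542 := rfl
theorem F5990 : act 0 n7542 = n5898 := d1_1 D7542 (iv F5989) F5988
theorem F5991 : act 3 n7542 = n5897 := d5_2 D5866 D7542 (iv D5897) (iv D4521) F2603 D4492 D5865 D7541 F5989 (iv D5898) (iv D4522) (iv D3426) F1919 D3405 D4493
def n7544 : Q := act 3 n5867
theorem D7544 : act 3 n5867 = n7544 := rfl
theorem F5993 : act 0 n7544 = n5869 := d2_1 D7544 (iv D5869) D5867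
def n7548 : Q := act 1 n5872
theorem D7548 : act 1 n5872 = n7548 := rfl
theorem F5995 : act 3 n7548 = n6277 := d4_2 F4858 D7548 F4905
def n7549 : Q := act 0 n5874
theorem D7549 : act 0 n5874 = n7549 := rfl
theorem F5996 : act 1 n7549 = n7544 := d0_2 D5874 D7549 F5993 F4588 F3455 F2588 (iv F1909) D3409 D4499
def n7550 : Q := act 2 n5874
theorem D7550 : act 2 n5874 = n7550 := rfl
def n7552 : Q := act 1 n5876
theorem D7552 : act 1 n5876 = n7552 := rfl
def n7554 : Q := act 3 n5877
theorem D7554 : act 3 n5877 = n7554 := rfl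
theorem F5999 : act 1 n7554 = n5878 := d4_1 D7554 (iv D5878) D5877
def n7555 : Q := act 1 n5879
theorem D7555 : act 1 n5879 = n7555 := rfl
theorem F6000 : act 0 n7555 = n6520 := d0_1 D7555 F5116 F3896 F2921 (iv F2158) F2159 (iv F2594) D4503 D5879
def n7557 : Q := act 2 n5880
theorem D7557 : act 2 n5880 = n7557 := rfl
theorem F6004 : act 1 n7557 = n7504 := d3_1 D7557 (iv D7504) F4561 (iv F3463) (iv F4598)
def n7558 : Q := act 0 n5882
theorem D7558 : act 0 n5882 = n7558 := rfl
theorem F6005 : act 2 n7558 = n6523 := d1_2 (iv F4600) D7558 (iv D6523)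
def n7559 : Q := act 3 n5882
theorem D7559 : act 3 n5882 = n7559 := rfl
theorem F6006 : act 1 n7559 = n5883 := d4_1 D7559 (iv D5883) D5882
def n7560 : Q := act 1 n5884
theorem D7560 : act 1 n5884 = n7560 := rfl
theorem F6007 : act 2 n7560 = n5918 := d3_2 D5884 D7560 F4627 F3488 F3472
theorem F6008 : act 3 n7560 = n7511 := d4_2 (iv F4604) D7560 (iv D7511)
def n7561 : Q := act 1 n5885
theorem D7561 : act 1 n5885 = n7561 := rfl
def n7562 : Q := act 3 n5885
theorem D7562 : act 3 n5885 = n7562 := rfl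
theorem F6009 : act 0 n7562 = n5886 := d2_1 D7562 (iv D5886) (iv F4605)
def n7563 : Q := act 2 n5886
theorem D7563 : act 2 n5886 = n7563 := rfl
def n7564 : Q := act 1 n5887
theorem D7564 : act 1 n5887 = n7564 := rfl
theorem F6010 : act 2 n7564 = n5888 := d3_2 D5887 D7564 (iv D5888) (iv D4512) (iv F3470)
def n7565 : Q := act 3 n5887
theorem D7565 : act 3 n5887 = n7565 := rfl
def n7566 : Q := act 0 n5888
theorem D7566 : act 0 n5888 = n7566 := rfl
def n7570 : Q := act 1 n5891
theorem D7570 : act 1 n5891 = n7570 := rfl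
theorem F6015 : act 2 n7570 = n5892 := d3_2 D5891 D7570 (iv D5892) (iv D4516) (iv F3473)
def n7571 : Q := act 3 n5891
theorem D7571 : act 3 n5891 = n7571 := rfl
def n7572 : Q := act 0 n5892
theorem D7572 : act 0 n5892 = n7572 := rfl
theorem F6016 : act 3 n7572 = n7128 := d2_2 (iv F4609) D7572 F5638
def n7578 : Q := act 1 n5897
theorem D7578 : act 1 n5897 = n7578 := rfl
def n7581 : Q := act 0 n5900
theorem D7581 : act 0 n5900 = n7581 := rfl
theorem F6020 : act 2 n7581 = n5920 := d1_2 (iv F4615) D7581 (iv D5920)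
def n7582 : Q := act 3 n5900
theorem D7582 : act 3 n5900 = n7582 := rfl
theorem F6021 : act 1 n7582 = n5901 := d4_1 D7582 (iv D5901) D5900
def n7584 : Q := act 1 n5904
theorem D7584 : act 1 n5904 = n7584 := rfl
theorem F6022 : act 3 n7584 = n7552 := d4_2 (iv F4620) D7584 (iv D7552)
def n7585 : Q := act 0 n5905
theorem D7585 : act 0 n5905 = n7585 := rfl
def n7591 : Q := act 1 n5909
theorem D7591 : act 1 n5909 = n7591 := rfl
theorem F6029 : act 2 n7591 = n5911 := d3_2 D5909 D7591 (iv D5911) (iv D4533) (iv F3482)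
def n7592 : Q := act 3 n5909
theorem D7592 : act 3 n5909 = n7592 := rfl
def n7593 : Q := act 2 n5910
theorem D7593 : act 2 n5910 = n7593 := rfl
def n7594 : Q := act 0 n5911
theorem D7594 : act 0 n5911 = n7594 := rfl
def n7595 : Q := act 3 n5911
theorem D7595 : act 3 n5911 = n7595 := rfl
theorem F6031 : act 1 n7595 = n5912 := d4_1 D7595 (iv D5912) D5911
def n7596 : Q := act 2 n5912
theorem D7596 : act 2 n5912 = n7596 := rfl
def n7598 : Q := act 3 n5913
theorem D7598 : act 3 n5913 = n7598 := rfl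
def n7600 : Q := act 3 n5914
theorem D7600 : act 3 n5914 = n7600 := rfl
theorem F6035 : act 2 n7600 = n7598 := d6_2 D5914 D7600 (iv D7598) (iv D5913) (iv D4534) D4533 D5912 F4624
def n7602 : Q := act 3 n5915
theorem D7602 : act 3 n5915 = n7602 := rfl
theorem F6037 : act 1 n7602 = n5916 := d4_1 D7602 (iv D5916) D5915
def n7603 : Q := act 2 n5916
theorem D7603 : act 2 n5916 = n7603 := rfl
theorem F6039 : act 3 n7603 = n7596 := d5_2 D5916 D7603 (iv D7596) (iv D5912) (iv D4533) D4534 D5913 D7598 (iv F6035) (iv D7600) (iv D5914) (iv D4535) (iv D3435) D3436 D4536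
def n7604 : Q := act 1 n5917
theorem D7604 : act 1 n5917 = n7604 := rfl
theorem F6040 : act 0 n7604 = n6436 := d0_1 D7604 (iv D6436) (iv D4962) (iv D3779) F2125 (iv F1927) (iv F2610) D4537 D5917
def n7606 : Q := act 0 n5919
theorem D7606 : act 0 n5919 = n7606 := rfl
theorem F6042 : act 2 n7606 = n5944 := d1_2 (iv F4628) D7606 F4648
theorem F6043 : act 3 n7606 = n7566 := d2_2 (iv F4629) D7606 (iv D7566)
def n7607 : Q := act 1 n5920
theorem D7607 : act 1 n5920 = n7607 := rfl
def n7608 : Q := act 0 n5921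
theorem D7608 : act 0 n5921 = n7608 := rfl
theorem F6044 : act 1 n7608 = n5966 := d0_2 D5921 D7608 (iv D5966) (iv D4573) (iv D3466) (iv D2595) (iv F1929) D3440 D4541
def n7610 : Q := act 3 n5921
theorem D7610 : act 3 n5921 = n7610 := rfl
theorem F6046 : act 1 n7610 = n5922 := d4_1 D7610 (iv D5922) D5921
def n7611 : Q := act 2 n5922
theorem D7611 : act 2 n5922 = n7611 := rfl
def n7612 : Q := act 3 n5923
theorem D7612 : act 3 n5923 = n7612 := rfl
def n7616 : Q := act 1 n5927
theorem D7616 : act 1 n5927 = n7616 := rfl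
def n7617 : Q := act 3 n5927
theorem D7617 : act 3 n5927 = n7617 := rfl
theorem F6050 : act 2 n7617 = n7612 := d6_2 D5927 D7617 (iv D7612) (iv D5923) (iv D4542) F2613 D3443 (iv F3493)
def n7618 : Q := act 2 n5928
theorem D7618 : act 2 n5928 = n7618 := rfl
theorem F6052 : act 1 n7618 = n6430 := d3_1 D7618 (iv D6430) F3836 D4957 (iv F4634)
theorem F6053 : act 3 n7618 = n7611 := d5_2 D5928 D7618 (iv D7611) (iv D5922) F3491 D4544 D5927 D7617 F6050 (iv D7612) (iv D5923) (iv D4542) F2613 D3443 D4545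
def n7622 : Q := act 0 n5931
theorem D7622 : act 0 n5931 = n7622 := rfl
theorem F6059 : act 3 n7622 = n7585 := d2_2 (iv F4637) D7622 (iv D7585)
def n7623 : Q := act 2 n5931
theorem D7623 : act 2 n5931 = n7623 := rfl
def n7630 : Q := act 1 n5937
theorem D7630 : act 1 n5937 = n7630 := rfl
def n7632 : Q := act 3 n5938
theorem D7632 : act 3 n5938 = n7632 := rfl
theorem F6066 : act 1 n7632 = n5939 := d4_1 D7632 (iv D5939) D5938
theorem F6067 : act 2 n7090 = n7632 := d3_0 F6066 F4643 F4288 D5499 D7090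
def n7633 : Q := act 1 n5940
theorem D7633 : act 1 n5940 = n7633 := rfl
def n7634 : Q := act 3 n5940
theorem D7634 : act 3 n5940 = n7634 := rfl
def n7635 : Q := act 2 n5941
theorem D7635 : act 2 n5941 = n7635 := rfl
def n7636 : Q := act 1 n5942
theorem D7636 : act 1 n5942 = n7636 := rfl
theorem F6069 : act 3 n7636 = n7630 := d4_2 (iv F4647) D7636 (iv D7630)
def n7638 : Q := act 3 n5943
theorem D7638 : act 3 n5943 = n7638 := rfl
theorem F6070 : act 0 n7638 = n6024 := d2_1 D7638 F4710 F4660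
theorem F6071 : act 1 n7638 = n5944 := d4_1 D7638 (iv D5944) D5943
def n7639 : Q := act 1 n5945
theorem D7639 : act 1 n5945 = n7639 := rfl
theorem F6072 : act 3 n7639 = n6436 := d4_2 (iv F4650) D7639 (iv D6436)
def n7643 : Q := act 1 n5948
theorem D7643 : act 1 n5948 = n7643 := rfl
def n7645 : Q := act 3 n5949
theorem D7645 : act 3 n5949 = n7645 := rfl
theorem F6075 : act 1 n7645 = n5950 := d4_1 D7645 (iv D5950) D5949
def n7648 : Q := act 1 n5953
theorem D7648 : act 1 n5953 = n7648 := rfl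
def n7649 : Q := act 1 n5955
theorem D7649 : act 1 n5955 = n7649 := rfl
theorem F6078 : act 3 n7649 = n7643 := d4_2 (iv F4659) D7649 (iv D7643)
def n7651 : Q := act 0 n5957
theorem D7651 : act 0 n5957 = n7651 := rfl
def n7657 : Q := act 2 n5961
theorem D7657 : act 2 n5961 = n7657 := rfl
theorem F6084 : act 0 n7657 = n5962 := d1_1 D7657 (iv D5962) (iv F4663)
theorem F6085 : act 3 n7657 = n7053 := d6_1 D7657 (iv D7053) (iv D5464) (iv D4177) D4178 (iv F3205) D4570 (iv F4663)
def n7658 : Q := act 3 n5962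
theorem D7658 : act 3 n5962 = n7658 := rfl
theorem F6086 : act 0 n7658 = n7053 := d2_1 D7658 (iv F6085) F6084
theorem F6087 : act 1 n7658 = n6043 := d4_1 D7658 (iv D6043) (iv F4664)
theorem F6088 : act 2 n7658 = n7052 := d5_1 D7658 (iv D7052) (iv D5462) D5463 (iv F4249) D5961 D7657 F6085 (iv D7053) (iv D5464) (iv D4177) D4178 (iv F3205) D4570 D5962
def n7662 : Q := act 2 n5964
theorem D7662 : act 2 n5964 = n7662 := rfl
theorem F6090 : act 0 n7662 = n5965 := d1_1 D7662 (iv D5965) (iv F4665)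
def n7663 : Q := act 3 n5965
theorem D7663 : act 3 n5965 = n7663 := rfl
def n7664 : Q := act 2 n5966
theorem D7664 : act 2 n5966 = n7664 := rfl
theorem F6092 : act 0 n7664 = n5967 := d1_1 D7664 (iv D5967) D5966
def n7667 : Q := act 2 n5968
theorem D7667 : act 2 n5968 = n7667 := rfl
def n7670 : Q := act 1 n5972
theorem D7670 : act 1 n5972 = n7670 := rfl
theorem F6097 : act 3 n7670 = n7607 := d4_2 (iv F4671) D7670 (iv D7607)
def n7671 : Q := act 1 n5973
theorem D7671 : act 1 n5973 = n7671 := rfl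
theorem F6098 : act 2 n7671 = n5980 := d3_2 D5973 D7671 (iv D5980) (iv D4582) (iv F3512)
def n7677 : Q := act 0 n5977
theorem D7677 : act 0 n5977 = n7677 := rfl
def n7678 : Q := act 3 n5977
theorem D7678 : act 3 n5977 = n7678 := rfl
theorem F6102 : act 1 n7678 = n5978 := d4_1 D7678 (iv D5978) D5977
def n7679 : Q := act 0 n5980
theorem D7679 : act 0 n5980 = n7679 := rfl
def n7680 : Q := act 3 n5980
theorem D7680 : act 3 n5980 = n7680 := rfl
theorem F6103 : act 1 n7680 = n5981 := d4_1 D7680 (iv D5981) D5980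
def n7681 : Q := act 2 n5981
theorem D7681 : act 2 n5981 = n7681 := rfl
def n7683 : Q := act 3 n5982
theorem D7683 : act 3 n5982 = n7683 := rfl
def n7684 : Q := act 1 n5983
theorem D7684 : act 1 n5983 = n7684 := rfl
theorem F6106 : act 2 n7684 = n5993 := d3_2 D5983 D7684 (iv D5993) (iv D4591) (iv F3518)
def n7685 : Q := act 3 n5983
theorem D7685 : act 3 n5983 = n7685 := rfl
theorem F6107 : act 2 n7685 = n7683 := d6_2 D5983 D7685 (iv D7683) (iv D5982) (iv D4583) D4582 D5981 F4680
def n7686 : Q := act 2 n5984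
theorem D7686 : act 2 n5984 = n7686 := rfl
theorem F6109 : act 1 n7686 = n6039 := d3_1 D7686 (iv D6039) F3560 D4632 (iv F4682)
theorem F6110 : act 3 n7686 = n7681 := d5_2 D5984 D7686 (iv D7681) (iv D5981) (iv D4582) D4583 D5982 D7683 (iv F6107) (iv D7685) (iv D5983) (iv D4584) (iv D3473) D3474 D4585
def n7691 : Q := act 3 n5989
theorem D7691 : act 3 n5989 = n7691 := rfl
def n7692 : Q := act 1 n5990
theorem D7692 : act 1 n5990 = n7692 := rfl
def n7693 : Q := act 3 n5990
theorem D7693 : act 3 n5990 = n7693 := rfl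
theorem F6117 : act 0 n7693 = n5991 := d2_1 D7693 (iv D5991) D5990
def n7694 : Q := act 2 n5991
theorem D7694 : act 2 n5991 = n7694 := rfl
def n7695 : Q := act 1 n5992
theorem D7695 : act 1 n5992 = n7695 := rfl
theorem F6118 : act 3 n7695 = n6035 := d4_2 (iv F4690) D7695 (iv D6035)
def n7696 : Q := act 0 n5993
theorem D7696 : act 0 n5993 = n7696 := rfl
def n7697 : Q := act 3 n5993
theorem D7697 : act 3 n5993 = n7697 := rfl
theorem F6119 : act 1 n7697 = n5994 := d4_1 D7697 (iv D5994) D5993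
def n7698 : Q := act 3 n5995
theorem D7698 : act 3 n5995 = n7698 := rfl
def n7715 : Q := act 2 n6008
theorem D7715 : act 2 n6008 = n7715 := rfl
def n7719 : Q := act 2 n6011
theorem D7719 : act 2 n6011 = n7719 := rfl
theorem F6135 : act 0 n7719 = n6012 := d1_1 D7719 (iv D6012) (iv F4702)
def n7721 : Q := act 3 n6012
theorem D7721 : act 3 n6012 = n7721 := rfl
def n7723 : Q := act 1 n6014
theorem D7723 : act 1 n6014 = n7723 := rfl
def n7724 : Q := act 3 n6014
theorem D7724 : act 3 n6014 = n7724 := rfl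
def n7725 : Q := act 2 n6015
theorem D7725 : act 2 n6015 = n7725 := rfl
def n7729 : Q := act 0 n6018
theorem D7729 : act 0 n6018 = n7729 := rfl
def n7730 : Q := act 2 n6018
theorem D7730 : act 2 n6018 = n7730 := rfl
def n7731 : Q := act 3 n6018
theorem D7731 : act 3 n6018 = n7731 := rfl
theorem F6141 : act 1 n7731 = n6019 := d4_1 D7731 (iv D6019) D6018
def n7732 : Q := act 1 n6020
theorem D7732 : act 1 n6020 = n7732 := rfl
def n7735 : Q := act 2 n6023
theorem D7735 : act 2 n6023 = n7735 := rfl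
theorem F6145 : act 0 n7735 = n7715 := d1_1 D7735 (iv D7715) (iv F4708)
def n7739 : Q := act 2 n6026
theorem D7739 : act 2 n6026 = n7739 := rfl
theorem F6150 : act 1 n7739 = n6037 := d3_1 D7739 (iv D6037) (iv D4629) (iv F3552) D6026
def n7741 : Q := act 2 n6027
theorem D7741 : act 2 n6027 = n7741 := rfl
theorem F6153 : act 0 n7741 = n6028 := d1_1 D7741 (iv D6028) (iv F4712)
theorem F6154 : act 3 n7741 = n7442 := d6_1 D7741 (iv D7442) (iv D5783) F3400 F2545 (iv F2664) D4622 (iv F4712)
def n7743 : Q := act 0 n6029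
theorem D7743 : act 0 n6029 = n7743 := rfl
theorem F6158 : act 2 n7743 = n6281 := d1_2 (iv F4714) D7743 (iv D6281)
def n7744 : Q := act 3 n6029
theorem D7744 : act 3 n6029 = n7744 := rfl
theorem F6159 : act 1 n7744 = n6030 := d4_1 D7744 (iv D6030) D6029
def n7745 : Q := act 2 n6030
theorem D7745 : act 2 n6030 = n7745 := rfl
theorem F6160 : act 0 n7745 = n6031 := d1_1 D7745 (iv D6031) (iv F4715)
def n7746 : Q := act 1 n6031
theorem D7746 : act 1 n6031 = n7746 := rfl
theorem F6161 : act 2 n7746 = n6035 := d3_2 D6031 D7746 (iv D6035) (iv D4628) (iv F3555)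
def n7747 : Q := act 2 n6032
theorem D7747 : act 2 n6032 = n7747 := rfl
theorem F6163 : act 3 n7747 = n7745 := d5_2 D6032 D7747 (iv D7745) (iv D6030) (iv D4623) (iv F2668) D3672 D4827 D6280 F4907 (iv D6031) (iv D4624) (iv D3506) D3507 D4625
def n7748 : Q := act 1 n6033
theorem D7748 : act 1 n6033 = n7748 := rfl
def n7750 : Q := act 2 n6034
theorem D7750 : act 2 n6034 = n7750 := rfl
def n7754 : Q := act 2 n6038
theorem D7754 : act 2 n6038 = n7754 := rfl
def n7755 : Q := act 3 n6039
theorem D7755 : act 3 n6039 = n7755 := rfl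
theorem F6167 : act 1 n7755 = n7681 := d4_1 D7755 (iv F6110) F6109
def n7763 : Q := act 1 n6047
theorem D7763 : act 1 n6047 = n7763 := rfl
theorem F6174 : act 2 n7763 = n6554 := d3_2 D6047 D7763 (iv D6554) (iv D5054) (iv F3568)
def n7764 : Q := act 3 n6047
theorem D7764 : act 3 n6047 = n7764 := rfl
theorem F6175 : act 0 n7764 = n6049 := d2_1 D7764 (iv D6049) (iv F4728)
def n7765 : Q := act 2 n6048
theorem D7765 : act 2 n6048 = n7765 := rfl
theorem F6176 : act 0 n7765 = n6050 := d1_1 D7765 (iv D6050) (iv F4729)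
def n7766 : Q := act 2 n6049
theorem D7766 : act 2 n6049 = n7766 := rfl
def n7767 : Q := act 3 n6050
theorem D7767 : act 3 n6050 = n7767 := rfl
def n7771 : Q := act 3 n6053
theorem D7771 : act 3 n6053 = n7771 := rfl
def n7772 : Q := act 1 n6054
theorem D7772 : act 1 n6054 = n7772 := rfl
def n7773 : Q := act 3 n6054
theorem D7773 : act 3 n6054 = n7773 := rfl
theorem F6182 : act 2 n7773 = n7771 := d6_2 D6054 D7773 (iv D7771) (iv D6053) (iv D4645) D4644 D6052 F4733
def n7774 : Q := act 0 n6055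
theorem D7774 : act 0 n6055 = n7774 := rfl
theorem F6183 : act 2 n7774 = n6057 := d1_2 (iv F4735) D7774 (iv D6057)
def n7777 : Q := act 2 n6058
theorem D7777 : act 2 n6058 = n7777 := rfl
theorem F6187 : act 1 n7777 = n6553 := d3_1 D7777 F5148 F3917 (iv F3576) (iv F4736)
theorem F6188 : act 3 n6552 = n7777 := d4_0 F6187 (iv D6553) D6552
def n7778 : Q := act 1 n6059
theorem D7778 : act 1 n6059 = n7778 := rfl
theorem F6189 : act 0 n7778 = n6067 := d0_1 D7778 (iv D6067) (iv D4657) (iv D3531) F1982 (iv F1978) (iv F2682) D4651 D6059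
def n7779 : Q := act 3 n6059
theorem D7779 : act 3 n6059 = n7779 := rfl
theorem F6190 : act 0 n7779 = n6060 := d2_1 D7779 (iv D6060) D6059
def n7780 : Q := act 2 n6060
theorem D7780 : act 2 n6060 = n7780 := rfl
theorem F6191 : act 1 n7780 = n6425 := d3_1 D7780 F5038 F4740 (iv D6061) (iv F4737)
theorem F6192 : act 3 n6424 = n7780 := d4_0 F6191 (iv D6425) D6424
def n7784 : Q := act 1 n6065
theorem D7784 : act 1 n6065 = n7784 := rfl
theorem F6196 : act 2 n7784 = n7361 := d3_2 D6065 D7784 (iv D7361) (iv D5724) (iv F3581)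
def n7785 : Q := act 3 n6065
theorem D7785 : act 3 n6065 = n7785 := rfl
theorem F6197 : act 0 n7785 = n6066 := d2_1 D7785 (iv D6066) (iv F4745)
def n7787 : Q := act 2 n6067
theorem D7787 : act 2 n6067 = n7787 := rfl
theorem F6198 : act 1 n7787 = n6088 := d3_1 D7787 (iv D6088) (iv D4675) (iv F3583) D6067
def n7788 : Q := act 3 n6067
theorem D7788 : act 3 n6067 = n7788 := rfl
theorem F6199 : act 1 n7788 = n6068 := d4_1 D7788 (iv D6068) D6067
def n7789 : Q := act 2 n6068
theorem D7789 : act 2 n6068 = n7789 := rfl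
def n7791 : Q := act 3 n6069
theorem D7791 : act 3 n6069 = n7791 := rfl
def n7796 : Q := act 3 n6073
theorem D7796 : act 3 n6073 = n7796 := rfl
theorem F6205 : act 0 n7796 = n7698 := d2_1 D7796 (iv D7698) (iv F4749)
theorem F6206 : act 1 n7796 = n6104 := d4_1 D7796 (iv D6104) (iv F4750)
def n7804 : Q := act 2 n6080
theorem D7804 : act 2 n6080 = n7804 := rfl
def n7805 : Q := act 3 n6080
theorem D7805 : act 3 n6080 = n7805 := rfl
theorem F6212 : act 0 n7805 = n6082 := d2_1 D7805 (iv D6082) D6080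
def n7806 : Q := act 3 n6081
theorem D7806 : act 3 n6081 = n7806 := rfl
theorem F6213 : act 1 n7806 = n6085 := d4_1 D7806 (iv D6085) (iv F4755)
def n7809 : Q := act 2 n6085
theorem D7809 : act 2 n6085 = n7809 := rfl
def n7810 : Q := act 3 n6086
theorem D7810 : act 3 n6086 = n7810 := rfl
theorem F6216 : act 0 n7810 = n6637 := d2_1 D7810 (iv D6637) (iv F4759)
def n7811 : Q := act 3 n6087
theorem D7811 : act 3 n6087 = n7811 := rfl
def n7815 : Q := act 3 n6090
theorem D7815 : act 3 n6090 = n7815 := rfl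
theorem F6221 : act 2 n7815 = n7791 := d6_2 D6090 D7815 (iv D7791) (iv D6069) (iv D4658) F2687 D3547 (iv F3597)
def n7817 : Q := act 3 n6091
theorem D7817 : act 3 n6091 = n7817 := rfl
theorem F6223 : act 1 n7817 = n6092 := d4_1 D7817 (iv D6092) D6091
def n7818 : Q := act 2 n6092
theorem D7818 : act 2 n6092 = n7818 := rfl
theorem F6225 : act 3 n7818 = n7789 := d5_2 D6092 D7818 (iv D7789) (iv D6068) F3583 D4676 D6090 D7815 F6221 (iv D7791) (iv D6069) (iv D4658) F2687 D3547 D4677
def n7833 : Q := act 2 n6103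
theorem D7833 : act 2 n6103 = n7833 := rfl
def n7834 : Q := act 2 n6104
theorem D7834 : act 2 n6104 = n7834 := rfl
def n7835 : Q := act 3 n6105
theorem D7835 : act 3 n6105 = n7835 := rfl
def n7836 : Q := act 3 n6106
theorem D7836 : act 3 n6106 = n7836 := rfl
def n7843 : Q := act 1 n6112
theorem D7843 : act 1 n6112 = n7843 := rfl
theorem F6245 : act 2 n7843 = n6128 := d3_2 D6112 D7843 (iv D6128) (iv D4704) (iv F3609)
def n7844 : Q := act 3 n6112
theorem D7844 : act 3 n6112 = n7844 := rfl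
theorem F6246 : act 2 n7844 = n7835 := d6_2 D6112 D7844 (iv D7835) (iv D6105) (iv D4687) D4686 D6104 F4772
def n7845 : Q := act 2 n6114
theorem D7845 : act 2 n6114 = n7845 := rfl
theorem F6248 : act 3 n7845 = n7834 := d5_2 D6114 D7845 (iv D7834) (iv D6104) (iv D4686) D4687 D6105 D7835 (iv F6246) (iv D7844) (iv D6112) (iv D4693) (iv D3564) D3565 D4694
def n7846 : Q := act 1 n6115
theorem D7846 : act 1 n6115 = n7846 := rfl
theorem F6249 : act 3 n7846 = n6912 := d4_2 (iv F4779) D7846 (iv D6912)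
def n7847 : Q := act 0 n6116
theorem D7847 : act 0 n6116 = n7847 := rfl
def n7848 : Q := act 2 n6116
theorem D7848 : act 2 n6116 = n7848 := rfl
theorem F6250 : act 1 n7848 = n6120 := d3_1 D7848 (iv D6120) (iv D4698) (iv F3611) D6116
def n7849 : Q := act 3 n6116
theorem D7849 : act 3 n6116 = n7849 := rfl
theorem F6251 : act 1 n7849 = n6117 := d4_1 D7849 (iv D6117) D6116
theorem F6252 : act 2 n6420 = n7849 := d3_0 F6251 (iv F5027) F5026 (iv F3830) (iv F5034)
def n7850 : Q := act 2 n6119
theorem D7850 : act 2 n6119 = n7850 := rfl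
theorem F6253 : act 0 n7850 = n6120 := d1_1 D7850 (iv D6120) D6119
def n7851 : Q := act 3 n6120
theorem D7851 : act 3 n6120 = n7851 := rfl
def n7852 : Q := act 1 n6121
theorem D7852 : act 1 n6121 = n7852 := rfl
def n7860 : Q := act 1 n6127
theorem D7860 : act 1 n6127 = n7860 := rfl
theorem F6259 : act 2 n7860 = n6138 := d3_2 D6127 D7860 F4796 F3624 (iv F3616)
theorem F6260 : act 3 n7860 = n6375 := d4_2 (iv F4789) D7860 (iv D6375)
def n7862 : Q := act 1 n6129
theorem D7862 : act 1 n6129 = n7862 := rfl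
def n7866 : Q := act 2 n6132
theorem D7866 : act 2 n6132 = n7866 := rfl
theorem F6262 : act 0 n7866 = n6133 := d1_1 D7866 (iv D6133) (iv F4792)
def n7867 : Q := act 3 n6133
theorem D7867 : act 3 n6133 = n7867 := rfl
theorem F6263 : act 1 n7867 = n6410 := d4_1 D7867 (iv F5024) (iv F4793)
def n7868 : Q := act 1 n6134
theorem D7868 : act 1 n6134 = n7868 := rfl
theorem F6264 : act 2 n7868 = n6139 := d3_2 D6134 D7868 (iv D6139) (iv D4715) (iv F3621)
def n7869 : Q := act 3 n6134
theorem D7869 : act 3 n6134 = n7869 := rfl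
def n7870 : Q := act 2 n6135
theorem D7870 : act 2 n6135 = n7870 := rfl
def n7872 : Q := act 1 n6137
theorem D7872 : act 1 n6137 = n7872 := rfl
theorem F6267 : act 0 n7872 = n7678 := d0_1 D7872 F6102 F4675 F3515 F2734 F2008 (iv F2731) D4712 D6137
theorem F6268 : act 3 n7677 = n7872 := d2_0 F6267 (iv D7678) D7677
def n7873 : Q := act 3 n6137
theorem D7873 : act 3 n6137 = n7873 := rfl
theorem F6269 : act 0 n7873 = n6138 := d2_1 D7873 (iv D6138) D6137
theorem F6270 : act 1 n7873 = n7677 := d4_1 D7873 F6268 (iv D7872)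
def n7875 : Q := act 3 n6139
theorem D7875 : act 3 n6139 = n7875 := rfl
theorem F6271 : act 1 n7875 = n6140 := d4_1 D7875 (iv D6140) D6139
def n7876 : Q := act 2 n6140
theorem D7876 : act 2 n6140 = n7876 := rfl
def n7877 : Q := act 1 n6141
theorem D7877 : act 1 n6141 = n7877 := rfl
theorem F6273 : act 2 n7877 = n6880 := d3_2 D6141 D7877 (iv D6880) F4134 (iv F3629)
def n7878 : Q := act 3 n6141
theorem D7878 : act 3 n6141 = n7878 := rfl
theorem F6274 : act 0 n7878 = n6143 := d2_1 D7878 (iv D6143) (iv F4798)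
def n7880 : Q := act 3 n6142
theorem D7880 : act 3 n6142 = n7880 := rfl
theorem F6276 : act 2 n7880 = n7878 := d6_2 D6142 D7880 (iv D7878) (iv D6141) (iv D4716) D4715 D6140 F4797
def n7881 : Q := act 2 n6143
theorem D7881 : act 2 n6143 = n7881 := rfl
theorem F6278 : act 1 n7881 = n7667 := d3_1 D7881 (iv D7667) F4668 D5969 (iv F4799)
theorem F6279 : act 3 n7881 = n7876 := d5_2 D6143 D7881 (iv D7876) (iv D6140) (iv D4715) D4716 D6141 D7878 (iv F6276) (iv D7880) (iv D6142) (iv D4717) (iv D3583) D3584 D4718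
def n7885 : Q := act 0 n6146
theorem D7885 : act 0 n6146 = n7885 := rfl
def n7886 : Q := act 2 n6146
theorem D7886 : act 2 n6146 = n7886 := rfl
theorem F6282 : act 1 n7886 = n6150 := d3_1 D7886 (iv D6150) (iv D4724) (iv F3633) D6146
def n7887 : Q := act 3 n6146
theorem D7887 : act 3 n6146 = n7887 := rfl
theorem F6283 : act 1 n7887 = n6147 := d4_1 D7887 (iv D6147) D6146
theorem F6284 : act 2 n7649 = n7887 := d3_0 F6283 F4803 F4657 D5955 D7649
def n7888 : Q := act 1 n6148
theorem D7888 : act 1 n6148 = n7888 := rfl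
theorem F6285 : act 2 n7888 = n6149 := d3_2 D6148 D7888 (iv D6149) (iv D4723) (iv F3634)
theorem F6286 : act 3 n7888 = n7648 := d4_2 (iv F4805) D7888 (iv D7648)
def n7890 : Q := act 3 n6150
theorem D7890 : act 3 n6150 = n7890 := rfl
def n7911 : Q := act 0 n6166
theorem D7911 : act 0 n6166 = n7911 := rfl
def n7915 : Q := act 2 n6171
theorem D7915 : act 2 n6171 = n7915 := rfl
theorem F6310 : act 0 n7915 = n6172 := d1_1 D7915 (iv D6172) D6171
def n7916 : Q := act 3 n6172
theorem D7916 : act 3 n6172 = n7916 := rfl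
theorem F6311 : act 1 n7916 = n6175 := d4_1 D7916 (iv D6175) (iv F4823)
def n7918 : Q := act 3 n6174
theorem D7918 : act 3 n6174 = n7918 := rfl
theorem F6313 : act 0 n7918 = n6175 := d2_1 D7918 (iv D6175) (iv F4825)
def n7919 : Q := act 2 n6175
theorem D7919 : act 2 n6175 = n7919 := rfl
def n7920 : Q := act 2 n6176
theorem D7920 : act 2 n6176 = n7920 := rfl
theorem F6314 : act 1 n7920 = n6189 := d3_1 D7920 (iv D6189) (iv D4755) (iv F3649) D6176
def n7921 : Q := act 3 n6176
theorem D7921 : act 3 n6176 = n7921 := rfl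
theorem F6315 : act 1 n7921 = n6177 := d4_1 D7921 (iv D6177) D6176
def n7922 : Q := act 2 n6177
theorem D7922 : act 2 n6177 = n7922 := rfl
def n7924 : Q := act 3 n6178
theorem D7924 : act 3 n6178 = n7924 := rfl
def n7926 : Q := act 1 n6180
theorem D7926 : act 1 n6180 = n7926 := rfl
def n7932 : Q := act 0 n6184
theorem D7932 : act 0 n6184 = n7932 := rfl
def n7933 : Q := act 3 n6184
theorem D7933 : act 3 n6184 = n7933 := rfl
theorem F6321 : act 1 n7933 = n6185 := d4_1 D7933 (iv D6185) D6184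
def n7934 : Q := act 2 n6185
theorem D7934 : act 2 n6185 = n7934 := rfl
theorem F6322 : act 0 n7934 = n6186 := d1_1 D7934 (iv D6186) (iv F4830)
def n7936 : Q := act 3 n6186
theorem D7936 : act 3 n6186 = n7936 := rfl
theorem F6324 : act 2 n7936 = n6359 := d6_2 D6186 D7936 (iv D6359) (iv D4893) (iv F2840) (iv F3655) D6185 F4830
def n7938 : Q := act 2 n6188
theorem D7938 : act 2 n6188 = n7938 := rfl
theorem F6327 : act 1 n7938 = n7125 := d3_1 D7938 (iv D7125) F4317 D5531 (iv F4832)
theorem F6328 : act 3 n7938 = n7934 := d5_2 D6188 D7938 (iv D7934) (iv D6185) F3655 F2840 D4893 D6359 (iv F6324) (iv D7936) (iv D6186) (iv D4752) F2754 D3612 D4754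
def n7942 : Q := act 3 n6191
theorem D7942 : act 3 n6191 = n7942 := rfl
theorem F6332 : act 2 n7942 = n7924 := d6_2 D6191 D7942 (iv D7924) (iv D6178) (iv D4745) F2751 D3614 (iv F3661)
def n7943 : Q := act 2 n6192
theorem D7943 : act 2 n6192 = n7943 := rfl
theorem F6334 : act 1 n7943 = n6347 := d3_1 D7943 (iv D6347) F3765 D4881 (iv F4837)
theorem F6335 : act 3 n7943 = n7922 := d5_2 D6192 D7943 (iv D7922) (iv D6177) F3649 D4756 D6191 D7942 F6332 (iv D7924) (iv D6178) (iv D4745) F2751 D3614 D4757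
def n7944 : Q := act 2 n6193
theorem D7944 : act 2 n6193 = n7944 := rfl
theorem F6336 : act 0 n7944 = n6354 := d1_1 D7944 (iv D6354) (iv F4838)
def n7946 : Q := act 3 n6195
theorem D7946 : act 3 n6195 = n7946 := rfl
def n7947 : Q := act 0 n6196
theorem D7947 : act 0 n6196 = n7947 := rfl
def n7949 : Q := act 3 n6196
theorem D7949 : act 3 n6196 = n7949 := rfl
theorem F6339 : act 1 n7949 = n6197 := d4_1 D7949 (iv D6197) D6196
def n7958 : Q := act 2 n6203
theorem D7958 : act 2 n6203 = n7958 := rfl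
def n7965 : Q := act 1 n6208
theorem D7965 : act 1 n6208 = n7965 := rfl
def n7967 : Q := act 2 n6209
theorem D7967 : act 2 n6209 = n7967 := rfl
def n7976 : Q := act 1 n6219
theorem D7976 : act 1 n6219 = n7976 := rfl
theorem F6361 : act 2 n7976 = n6230 := d3_2 D6219 D7976 (iv D6230) (iv D4787) (iv F3678)
def n7977 : Q := act 3 n6219
theorem D7977 : act 3 n6219 = n7977 := rfl
theorem F6362 : act 0 n7977 = n6221 := d2_1 D7977 (iv D6221) (iv F4860)
def n7978 : Q := act 2 n6220
theorem D7978 : act 2 n6220 = n7978 := rfl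
theorem F6364 : act 1 n7978 = n7550 := d3_1 D7978 (iv D7550) (iv D5874) F3688 (iv F4862)
def n7979 : Q := act 2 n6221
theorem D7979 : act 2 n6221 = n7979 := rfl
def n7987 : Q := act 1 n6227
theorem D7987 : act 1 n6227 = n7987 := rfl
theorem F6368 : act 2 n7987 = n6228 := d3_2 D6227 D7987 (iv D6228) (iv D4785) (iv F3683)
def n7990 : Q := act 3 n6228
theorem D7990 : act 3 n6228 = n7990 := rfl
theorem F6369 : act 1 n7990 = n6229 := d4_1 D7990 (iv D6229) D6228
theorem F6370 : act 2 n6282 = n7990 := d3_0 F6369 F4868 F3685 (iv F3720) (iv F4908)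
def n7992 : Q := act 3 n6230
theorem D7992 : act 3 n6230 = n7992 := rfl
theorem F6371 : act 1 n7992 = n6231 := d4_1 D7992 (iv D6231) D6230
theorem F6372 : act 2 n7534 = n7992 := d3_0 F6371 F4870 F4581 D5860 D7534
def n7993 : Q := act 1 n6232
theorem D7993 : act 1 n6232 = n7993 := rfl
theorem F6373 : act 2 n7993 = n6236 := d3_2 D6232 D7993 (iv D6236) (iv D4792) (iv F3689)
theorem F6374 : act 3 n7993 = n7533 := d4_2 (iv F4872) D7993 (iv D7533)
def n7994 : Q := act 2 n6233
theorem D7994 : act 2 n6233 = n7994 := rfl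
theorem F6375 : act 0 n7994 = n7539 := d1_1 D7994 (iv D7539) (iv F4873)
theorem F6376 : act 1 n7994 = n6235 := d3_1 D7994 (iv D6235) (iv D4791) (iv F3690) D6233
def n7996 : Q := act 3 n6235
theorem D7996 : act 3 n6235 = n7996 := rfl
def n7998 : Q := act 3 n6236
theorem D7998 : act 3 n6236 = n7998 := rfl
theorem F6378 : act 1 n7998 = n6237 := d4_1 D7998 (iv D6237) D6236
def n7999 : Q := act 1 n6238
theorem D7999 : act 1 n6238 = n7999 := rfl
theorem F6379 : act 3 n7999 = n6270 := d4_2 (iv F4879) D7999 (iv D6270)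
def n8007 : Q := act 2 n6243
theorem D8007 : act 2 n6243 = n8007 := rfl
theorem F6386 : act 1 n8007 = n7958 := d3_1 D8007 (iv D7958) F4846 (iv F3694) (iv F4881)
def n8010 : Q := act 3 n6244
theorem D8010 : act 3 n6244 = n8010 := rfl
theorem F6388 : act 1 n8010 = n6245 := d4_1 D8010 (iv D6245) D6244
def n8022 : Q := act 3 n6254
theorem D8022 : act 3 n6254 = n8022 := rfl
theorem F6396 : act 1 n8022 = n6255 := d4_1 D8022 (iv D6255) D6254
def n8023 : Q := act 1 n6256
theorem D8023 : act 1 n6256 = n8023 := rfl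
def n8030 : Q := act 0 n6261
theorem D8030 : act 0 n6261 = n8030 := rfl
def n8031 : Q := act 3 n6261
theorem D8031 : act 3 n6261 = n8031 := rfl
theorem F6401 : act 1 n8031 = n6262 := d4_1 D8031 (iv D6262) D6261
def n8032 : Q := act 1 n6263
theorem D8032 : act 1 n6263 = n8032 := rfl
theorem F6402 : act 2 n8032 = n8023 := d3_2 D6263 D8032 (iv D8023) (iv D6256) (iv F3704)
def n8035 : Q := act 1 n6266
theorem D8035 : act 1 n6266 = n8035 := rfl
theorem F6407 : act 2 n8035 = n6270 := d3_2 D6266 D8035 (iv D6270) (iv D4817) (iv F3707)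
def n8040 : Q := act 1 n6271
theorem D8040 : act 1 n6271 = n8040 := rfl
theorem F6410 : act 2 n8040 = n7999 := d3_2 D6271 D8040 (iv D7999) (iv D6238) (iv F3712)
theorem F6411 : act 3 n8040 = n7525 := d4_2 (iv F4901) D8040 (iv D7525)
def n8041 : Q := act 0 n6272
theorem D8041 : act 0 n6272 = n8041 := rfl
def n8043 : Q := act 3 n6273
theorem D8043 : act 3 n6273 = n8043 := rfl
theorem F6412 : act 0 n8043 = n6274 := d2_1 D8043 (iv D6274) D6273
def n8044 : Q := act 2 n6274
theorem D8044 : act 2 n6274 = n8044 := rfl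
def n8046 : Q := act 2 n6276
theorem D8046 : act 2 n6276 = n8046 := rfl
theorem F6413 : act 0 n8046 = n6277 := d1_1 D8046 (iv D6277) (iv F4904)
def n8050 : Q := act 1 n6280
theorem D8050 : act 1 n6280 = n8050 := rfl
theorem F6416 : act 3 n8050 = n7746 := d4_2 (iv F4907) D8050 (iv D7746)
def n8051 : Q := act 1 n6281
theorem D8051 : act 1 n6281 = n8051 := rfl
def n8061 : Q := act 0 n6288
theorem D8061 : act 0 n6288 = n8061 := rfl
theorem F6426 : act 2 n8061 = n6290 := d1_2 (iv F4913) D8061 (iv D6290)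
theorem F6427 : act 3 n6388 = n8061 := d6_7 F4913 (iv F3763) F3762 (iv D3747) (iv F2855) D4916 D6388 (iv D8061)
def n8062 : Q := act 3 n6288
theorem D8062 : act 3 n6288 = n8062 := rfl
theorem F6428 : act 0 n8062 = n6388 := d2_1 D8062 F6427 (iv D8061)
theorem F6430 : act 2 n8062 = n6387 := d5_1 D8062 (iv D6387) F3798 D4919 (iv F4962) F4963 (iv F6426) (iv F6427) (iv D6388) (iv D4916) F2855 D3747 (iv F3762) F3763 (iv F4913)
def n8064 : Q := act 1 n6290
theorem D8064 : act 1 n6290 = n8064 := rfl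
theorem F6433 : act 0 n8064 = n8051 := d0_1 D8064 (iv D8051) (iv D6281) (iv D4828) F2802 (iv F2063) (iv F2805) D4835 D6290
def n8066 : Q := act 2 n6292
theorem D8066 : act 2 n6292 = n8066 := rfl
def n8067 : Q := act 3 n6293
theorem D8067 : act 3 n6293 = n8067 := rfl
theorem F6436 : act 1 n8067 = n7416 := d4_1 D8067 (iv F5909) F5908
def n8071 : Q := act 3 n6296
theorem D8071 : act 3 n6296 = n8071 := rfl
theorem F6440 : act 2 n8071 = n8067 := d6_2 D6296 D8071 (iv D8067) (iv D6293) (iv D4837) F2807 D3684 (iv F3730)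
def n8072 : Q := act 2 n6297
theorem D8072 : act 2 n6297 = n8072 := rfl
theorem F6443 : act 3 n8072 = n8066 := d5_2 D6297 D8072 (iv D8066) (iv D6292) F3727 D4839 D6296 D8071 F6440 (iv D8067) (iv D6293) (iv D4837) F2807 D3684 D4840
def n8073 : Q := act 2 n6299
theorem D8073 : act 2 n6299 = n8073 := rfl
theorem F6444 : act 0 n8073 = n6300 := d1_1 D8073 (iv D6300) (iv F4922)
def n8074 : Q := act 3 n6300
theorem D8074 : act 3 n6300 = n8074 := rfl
def n8077 : Q := act 3 n6301
theorem D8077 : act 3 n6301 = n8077 := rfl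
theorem F6446 : act 1 n8077 = n6302 := d4_1 D8077 (iv D6302) D6301
def n8078 : Q := act 2 n6302
theorem D8078 : act 2 n6302 = n8078 := rfl
theorem F6447 : act 0 n8078 = n6303 := d1_1 D8078 (iv D6303) (iv F4924)
theorem F6448 : act 3 n8078 = n7958 := d6_1 D8078 (iv D7958) (iv D6203) F3668 F2765 (iv F2813) D4844 (iv F4924)
def n8079 : Q := act 3 n6303
theorem D8079 : act 3 n6303 = n8079 := rfl
theorem F6449 : act 0 n8079 = n7958 := d2_1 D8079 (iv F6448) F6447
theorem F6450 : act 1 n8079 = n8074 := d4_1 D8079 (iv D8074) (iv F4925)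
def n8086 : Q := act 1 n6309
theorem D8086 : act 1 n6309 = n8086 := rfl
def n8087 : Q := act 3 n6309
theorem D8087 : act 3 n6309 = n8087 := rfl
theorem F6454 : act 0 n8087 = n6310 := d2_1 D8087 (iv D6310) D6309
def n8088 : Q := act 2 n6310
theorem D8088 : act 2 n6310 = n8088 := rfl
theorem F6455 : act 1 n8088 = n8044 := d3_1 D8088 (iv D8044) F4903 (iv F3739) (iv F4928)
def n8089 : Q := act 0 n6311
theorem D8089 : act 0 n6311 = n8089 := rfl
def n8090 : Q := act 2 n6311
theorem D8090 : act 2 n6311 = n8090 := rfl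
theorem F6457 : act 1 n8090 = n6314 := d3_1 D8090 (iv D6314) (iv D4855) (iv F3740) D6311
def n8091 : Q := act 0 n6312
theorem D8091 : act 0 n6312 = n8091 := rfl
theorem F6458 : act 2 n8091 = n7372 := d1_2 (iv F4930) D8091 F5860
theorem F6459 : act 3 n8091 = n8041 := d2_2 (iv F4931) D8091 (iv D8041)
def n8103 : Q := act 1 n6322
theorem D8103 : act 1 n6322 = n8103 := rfl
theorem F6469 : act 0 n8103 = n6383 := d0_1 D8103 (iv D6383) (iv D4911) (iv D3741) F2097 (iv F2074) (iv F2822) D4863 D6322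
theorem F6471 : act 3 n7353 = n8103 := d2_0 F6469 F5001 D7353
def n8104 : Q := act 3 n6322
theorem D8104 : act 3 n6322 = n8104 := rfl
theorem F6472 : act 0 n8104 = n6323 := d2_1 D8104 (iv D6323) D6322
theorem F6473 : act 1 n8104 = n7353 := d4_1 D8104 F6471 (iv D8103)
def n8105 : Q := act 2 n6323
theorem D8105 : act 2 n6323 = n8105 := rfl
def n8106 : Q := act 1 n6324
theorem D8106 : act 1 n6324 = n8106 := rfl
def n8112 : Q := act 1 n6331
theorem D8112 : act 1 n6331 = n8112 := rfl
theorem F6479 : act 2 n8112 = n6506 := d3_2 D6331 D8112 F5101 (iv F4949) F4948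
theorem F6480 : act 3 n8112 = n8106 := d4_2 (iv F4951) D8112 (iv D8106)
def n8128 : Q := act 1 n6345
theorem D8128 : act 1 n6345 = n8128 := rfl
theorem F6489 : act 3 n8128 = n8064 := d4_2 (iv F4963) D8128 (iv D8064)
def n8129 : Q := act 2 n6346
theorem D8129 : act 2 n6346 = n8129 := rfl
def n8130 : Q := act 3 n6347
theorem D8130 : act 3 n6347 = n8130 := rfl
theorem F6492 : act 1 n8130 = n7922 := d4_1 D8130 (iv F6335) F6334
def n8131 : Q := act 1 n6348
theorem D8131 : act 1 n6348 = n8131 := rfl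
theorem F6493 : act 0 n8131 = n7949 := d0_1 D8131 F6339 F4842 F3664 (iv F2761) F2762 (iv F2833) D4882 D6348
theorem F6494 : act 3 n7947 = n8131 := d2_0 F6493 (iv D7949) D7947
def n8132 : Q := act 3 n6348
theorem D8132 : act 3 n6348 = n8132 := rfl
theorem F6495 : act 0 n8132 = n6349 := d2_1 D8132 (iv D6349) D6348
theorem F6496 : act 1 n8132 = n7947 := d4_1 D8132 F6494 (iv D8131)
def n8146 : Q := act 0 n6360
theorem D8146 : act 0 n6360 = n8146 := rfl
theorem F6508 : act 2 n8146 = n7932 := d1_2 (iv F4975) D8146 (iv D7932)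
def n8147 : Q := act 3 n6360
theorem D8147 : act 3 n6360 = n8147 := rfl
theorem F6509 : act 1 n8147 = n6361 := d4_1 D8147 (iv D6361) D6360
def n8151 : Q := act 3 n6364
theorem D8151 : act 3 n6364 = n8151 := rfl
theorem F6513 : act 1 n8151 = n6446 := d4_1 D8151 (iv D6446) (iv F4981)
def n8152 : Q := act 3 n6365
theorem D8152 : act 3 n6365 = n8152 := rfl
theorem F6514 : act 1 n8152 = n6370 := d4_1 D8152 (iv D6370) (iv F4982)
def n8154 : Q := act 1 n6369
theorem D8154 : act 1 n6369 = n8154 := rfl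
theorem F6515 : act 2 n8154 = n6375 := d3_2 D6369 D8154 (iv D6375) (iv D4905) (iv F3781)
def n8156 : Q := act 2 n6370
theorem D8156 : act 2 n6370 = n8156 := rfl
def n8157 : Q := act 1 n6371
theorem D8157 : act 1 n6371 = n8157 := rfl
theorem F6517 : act 2 n8157 = n6372 := d3_2 D6371 D8157 (iv D6372) (iv D4903) (iv F3784)
def n8158 : Q := act 3 n6371
theorem D8158 : act 3 n6371 = n8158 := rfl
theorem F6518 : act 0 n8158 = n7836 := d2_1 D8158 (iv D7836) (iv F4986)
def n8159 : Q := act 0 n6372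
theorem D8159 : act 0 n6372 = n8159 := rfl
def n8160 : Q := act 3 n6372
theorem D8160 : act 3 n6372 = n8160 := rfl
theorem F6519 : act 1 n8160 = n6373 := d4_1 D8160 (iv D6373) D6372
def n8161 : Q := act 0 n6375
theorem D8161 : act 0 n6375 = n8161 := rfl
def n8162 : Q := act 2 n6376
theorem D8162 : act 2 n6376 = n8162 := rfl
theorem F6520 : act 0 n8162 = n6377 := d1_1 D8162 (iv D6377) D6376
def n8174 : Q := act 1 n6388
theorem D8174 : act 1 n6388 = n8174 := rfl
theorem F6531 : act 2 n8174 = n6389 := d3_2 D6388 D8174 (iv D6389) (iv D4917) (iv F3799)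
def n8177 : Q := act 2 n6391
theorem D8177 : act 2 n6391 = n8177 := rfl
theorem F6533 : act 0 n8177 = n6511 := d1_1 D8177 (iv D6511) (iv F5006)
def n8184 : Q := act 0 n6396
theorem D8184 : act 0 n6396 = n8184 := rfl
def n8185 : Q := act 1 n6397
theorem D8185 : act 1 n6397 = n8185 := rfl
def n8186 : Q := act 3 n6397
theorem D8186 : act 3 n6397 = n8186 := rfl
theorem F6540 : act 0 n8186 = n6398 := d2_1 D8186 (iv D6398) D6397
def n8187 : Q := act 2 n6398
theorem D8187 : act 2 n6398 = n8187 := rfl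
def n8193 : Q := act 0 n6402
theorem D8193 : act 0 n6402 = n8193 := rfl
theorem F6544 : act 3 n8193 = n8184 := d2_2 (iv F5014) D8193 (iv D8184)
def n8199 : Q := act 1 n6408
theorem D8199 : act 1 n6408 = n8199 := rfl
theorem F6549 : act 2 n8199 = n6409 := d3_2 D6408 D8199 (iv D6409) (iv D4938) (iv F3821)
def n8201 : Q := act 0 n6409
theorem D8201 : act 0 n6409 = n8201 := rfl
theorem F6551 : act 3 n8201 = n7478 := d2_2 (iv F5022) D8201 F5947
def n8202 : Q := act 0 n6412
theorem D8202 : act 0 n6412 = n8202 := rfl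
theorem F6552 : act 1 n8202 = n6413 := d0_2 D6412 D8202 (iv D6413) (iv D4942) (iv D3763) (iv D2822) (iv F2112) D3762 D4941
theorem F6553 : act 3 n8202 = n6546 := d2_2 (iv F5028) D8202 (iv D6546)
def n8203 : Q := act 2 n6412
theorem D8203 : act 2 n6412 = n8203 := rfl
def n8205 : Q := act 3 n6413
theorem D8205 : act 3 n6413 = n8205 := rfl
theorem F6555 : act 0 n8205 = n6415 := d2_1 D8205 (iv D6415) D6413
theorem F6556 : act 1 n8205 = n6546 := d4_1 D8205 (iv F6553) F6552
def n8208 : Q := act 1 n6416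
theorem D8208 : act 1 n6416 = n8208 := rfl
def n8209 : Q := act 0 n6417
theorem D8209 : act 0 n6417 = n8209 := rfl
theorem F6558 : act 2 n8209 = n6419 := d1_2 (iv F5032) D8209 (iv D6419)
def n8210 : Q := act 3 n6417
theorem D8210 : act 3 n6417 = n8210 := rfl
theorem F6559 : act 1 n8210 = n6418 := d4_1 D8210 (iv D6418) D6417
def n8211 : Q := act 1 n6419
theorem D8211 : act 1 n6419 = n8211 := rfl
def n8212 : Q := act 3 n6419
theorem D8212 : act 3 n6419 = n8212 := rfl
theorem F6560 : act 0 n8212 = n6420 := d2_1 D8212 (iv D6420) D6419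
def n8215 : Q := act 2 n6423
theorem D8215 : act 2 n6423 = n8215 := rfl
theorem F6562 : act 3 n8215 = n7484 := d6_1 D8215 (iv D7484) (iv D5817) (iv D4455) D4456 D5818 D7485 F5952
def n8218 : Q := act 3 n6427
theorem D8218 : act 3 n6427 = n8218 := rfl
theorem F6563 : act 0 n8218 = n6429 := d2_1 D8218 (iv D6429) (iv F5041)
def n8219 : Q := act 2 n6428
theorem D8219 : act 2 n6428 = n8219 := rfl
theorem F6564 : act 0 n8219 = n6430 := d1_1 D8219 (iv D6430) (iv F5042)
def n8220 : Q := act 2 n6429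
theorem D8220 : act 2 n6429 = n8220 := rfl
def n8221 : Q := act 3 n6430
theorem D8221 : act 3 n6430 = n8221 := rfl
theorem F6565 : act 1 n8221 = n7611 := d4_1 D8221 (iv F6053) F6052
def n8222 : Q := act 0 n6431
theorem D8222 : act 0 n6431 = n8222 := rfl
def n8223 : Q := act 3 n6431
theorem D8223 : act 3 n6431 = n8223 := rfl
theorem F6567 : act 1 n8223 = n6432 := d4_1 D8223 (iv D6432) D6431
def n8224 : Q := act 1 n6433
theorem D8224 : act 1 n6433 = n8224 := rfl
theorem F6568 : act 3 n8224 = n7732 := d4_2 F5048 D8224 (iv D7732)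
def n8225 : Q := act 1 n6435
theorem D8225 : act 1 n6435 = n8225 := rfl
theorem F6570 : act 3 n8225 = n8208 := d4_2 (iv F5053) D8225 (iv D8208)
def n8226 : Q := act 2 n6436
theorem D8226 : act 2 n6436 = n8226 := rfl
def n8228 : Q := act 3 n6437
theorem D8228 : act 3 n6437 = n8228 := rfl
theorem F6571 : act 1 n8228 = n6438 := d4_1 D8228 (iv D6438) D6437
def n8229 : Q := act 2 n6438
theorem D8229 : act 2 n6438 = n8229 := rfl
theorem F6572 : act 0 n8229 = n6439 := d1_1 D8229 (iv D6439) (iv F5054)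
theorem F6573 : act 3 n8229 = n7593 := d6_1 D8229 (iv D7593) (iv D5910) (iv D4532) F2608 D3781 D4964 (iv F5054)
def n8230 : Q := act 1 n6439
theorem D8230 : act 1 n6439 = n8230 := rfl
def n8231 : Q := act 3 n6439
theorem D8231 : act 3 n6439 = n8231 := rfl
theorem F6574 : act 0 n8231 = n7593 := d2_1 D8231 (iv F6573) F6572
theorem F6575 : act 2 n8231 = n7592 := d5_1 D8231 (iv D7592) (iv D5909) F3483 D4963 D6438 D8229 F6573 (iv D7593) (iv D5910) (iv D4532) F2608 D3781 D4964 D6439
def n8239 : Q := act 3 n6445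
theorem D8239 : act 3 n6445 = n8239 := rfl
theorem F6581 : act 0 n8239 = n6447 := d2_1 D8239 (iv D6447) (iv F5059)
def n8240 : Q := act 2 n6446
theorem D8240 : act 2 n6446 = n8240 := rfl
def n8241 : Q := act 2 n6447
theorem D8241 : act 2 n6447 = n8241 := rfl
def n8242 : Q := act 3 n6448
theorem D8242 : act 3 n6448 = n8242 := rfl
theorem F6583 : act 1 n8242 = n6525 := d4_1 D8242 (iv F5128) F5127
def n8243 : Q := act 1 n6449
theorem D8243 : act 1 n6449 = n8243 := rfl
def n8244 : Q := act 3 n6449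
theorem D8244 : act 3 n6449 = n8244 := rfl
def n8245 : Q := act 2 n6450
theorem D8245 : act 2 n6450 = n8245 := rfl
def n8265 : Q := act 3 n6465
theorem D8265 : act 3 n6465 = n8265 := rfl
theorem F6602 : act 1 n8265 = n6466 := d4_1 D8265 (iv D6466) D6465
def n8268 : Q := act 2 n6469
theorem D8268 : act 2 n6469 = n8268 := rfl
def n8270 : Q := act 3 n6470
theorem D8270 : act 3 n6470 = n8270 := rfl
def n8274 : Q := act 2 n6473
theorem D8274 : act 2 n6473 = n8274 := rfl
theorem F6609 : act 1 n8274 = n6531 := d3_1 D8274 (iv D6531) F3901 (iv F3867) (iv F5080)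
def n8276 : Q := act 0 n6476
theorem D8276 : act 0 n6476 = n8276 := rfl
theorem F6611 : act 2 n8276 = n6478 := d1_2 (iv F5084) D8276 (iv D6478)
def n8279 : Q := act 0 n6479
theorem D8279 : act 0 n6479 = n8279 := rfl
theorem F6613 : act 1 n8279 = n6485 := d0_2 D6479 D8279 (iv D6485) (iv D5000) (iv D3807) (iv D2856) (iv F2143) D3803 D4996
def n8281 : Q := act 3 n6479
theorem D8281 : act 3 n6479 = n8281 := rfl
theorem F6615 : act 1 n8281 = n6480 := d4_1 D8281 (iv D6480) D6479
def n8282 : Q := act 2 n6480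
theorem D8282 : act 2 n6480 = n8282 := rfl
def n8283 : Q := act 3 n6481
theorem D8283 : act 3 n6481 = n8283 := rfl
def n8288 : Q := act 3 n6484
theorem D8288 : act 3 n6484 = n8288 := rfl
theorem F6620 : act 1 n8288 = n8283 := d4_1 D8288 (iv D8283) (iv F5087)
def n8290 : Q := act 3 n6485
theorem D8290 : act 3 n6485 = n8290 := rfl
theorem F6622 : act 0 n8290 = n6487 := d2_1 D8290 (iv D6487) D6485
theorem F6623 : act 2 n8193 = n8290 := d1_0 F6622 (iv F5090) D8193
def n8292 : Q := act 0 n6488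
theorem D8292 : act 0 n6488 = n8292 := rfl
theorem F6625 : act 2 n8292 = n6489 := d1_2 (iv F5091) D8292 (iv D6489)
def n8299 : Q := act 3 n6494
theorem D8299 : act 3 n6494 = n8299 := rfl
theorem F6629 : act 2 n8299 = n8270 := d6_2 D6494 D8299 (iv D8270) (iv D6470) (iv D4988) F2891 D3813 (iv F3881)
def n8302 : Q := act 2 n6496
theorem D8302 : act 2 n6496 = n8302 := rfl
theorem F6633 : act 3 n8302 = n8268 := d5_2 D6496 D8302 (iv D8268) (iv D6469) F3862 D5007 D6494 D8299 F6629 (iv D8270) (iv D6470) (iv D4988) F2891 D3813 D5008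
def n8324 : Q := act 3 n6515
theorem D8324 : act 3 n6515 = n8324 := rfl
def n8325 : Q := act 1 n6516
theorem D8325 : act 1 n6516 = n8325 := rfl
theorem F6651 : act 2 n8325 = n7561 := d3_2 D6516 D8325 (iv D7561) (iv D5885) (iv F3895)
def n8326 : Q := act 3 n6516
theorem D8326 : act 3 n6516 = n8326 := rfl
theorem F6653 : act 2 n8326 = n8283 := d6_2 D6516 D8326 (iv D8283) (iv D6481) (iv D4997) F2896 D3828 (iv F3894)
def n8327 : Q := act 2 n6517
theorem D8327 : act 2 n6517 = n8327 := rfl
theorem F6655 : act 3 n8327 = n8282 := d5_2 D6517 D8327 (iv D8282) (iv D6480) F3871 D5024 D6516 D8326 F6653 (iv D8283) (iv D6481) (iv D4997) F2896 D3828 D5025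
def n8332 : Q := act 3 n6523
theorem D8332 : act 3 n6523 = n8332 := rfl
theorem F6661 : act 0 n8332 = n6524 := d2_1 D8332 (iv D6524) D6523
def n8333 : Q := act 2 n6524
theorem D8333 : act 2 n6524 = n8333 := rfl
def n8338 : Q := act 2 n6530
theorem D8338 : act 2 n6530 = n8338 := rfl
theorem F6666 : act 0 n8338 = n6531 := d1_1 D8338 (iv D6531) (iv F5129)
def n8347 : Q := act 1 n6537
theorem D8347 : act 1 n6537 = n8347 := rfl
theorem F6675 : act 2 n8347 = n6669 := d3_2 D6537 D8347 (iv D6669) (iv D5151) (iv F3905)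
def n8350 : Q := act 2 n6539
theorem D8350 : act 2 n6539 = n8350 := rfl
def n8352 : Q := act 2 n6541
theorem D8352 : act 2 n6541 = n8352 := rfl
theorem F6683 : act 0 n8352 = n6542 := d1_1 D8352 (iv D6542) (iv F5137)
def n8353 : Q := act 2 n6543
theorem D8353 : act 2 n6543 = n8353 := rfl
def n8355 : Q := act 3 n6544
theorem D8355 : act 3 n6544 = n8355 := rfl
def n8365 : Q := act 0 n6552
theorem D8365 : act 0 n6552 = n8365 := rfl
def n8368 : Q := act 2 n6555
theorem D8368 : act 2 n6555 = n8368 := rfl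
theorem F6693 : act 0 n8368 = n6557 := d1_1 D8368 (iv D6557) (iv F5149)
def n8370 : Q := act 3 n6556
theorem D8370 : act 3 n6556 = n8370 := rfl
def n8371 : Q := act 1 n6557
theorem D8371 : act 1 n6557 = n8371 := rfl
theorem F6695 : act 2 n8371 = n6569 := d3_2 D6557 D8371 (iv D6569) (iv D5064) (iv F3920)
def n8372 : Q := act 3 n6557
theorem D8372 : act 3 n6557 = n8372 := rfl
theorem F6696 : act 2 n8372 = n8370 := d6_2 D6557 D8372 (iv D8370) (iv D6556) (iv D5055) D5054 D6555 F5149
def n8373 : Q := act 2 n6558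
theorem D8373 : act 2 n6558 = n8373 := rfl
theorem F6698 : act 1 n8373 = n6650 := d3_1 D8373 (iv D6650) F3977 D5134 (iv F5151)
theorem F6699 : act 3 n8373 = n8368 := d5_2 D6558 D8373 (iv D8368) (iv D6555) (iv D5054) D5055 D6556 D8370 (iv F6696) (iv D8372) (iv D6557) (iv D5056) (iv D3855) D3856 D5057
def n8374 : Q := act 0 n6559
theorem D8374 : act 0 n6559 = n8374 := rfl
theorem F6700 : act 1 n8374 = n7243 := d0_2 D6559 D8374 F5744 F4399 F3320 F2994 F2944 D3858 D5058
theorem F6701 : act 3 n7242 = n8374 := d4_0 F6700 (iv D7243) D7242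
def n8376 : Q := act 3 n6559
theorem D8376 : act 3 n6559 = n8376 := rfl
theorem F6703 : act 0 n8376 = n7242 := d2_1 D8376 F6701 (iv D8374)
theorem F6704 : act 1 n8376 = n6560 := d4_1 D8376 (iv D6560) D6559
def n8379 : Q := act 1 n6564
theorem D8379 : act 1 n6564 = n8379 := rfl
def n8380 : Q := act 3 n6564
theorem D8380 : act 3 n6564 = n8380 := rfl
theorem F6707 : act 0 n8380 = n6565 := d2_1 D8380 (iv D6565) D6564
def n8381 : Q := act 2 n6565
theorem D8381 : act 2 n6565 = n8381 := rfl
def n8382 : Q := act 1 n6566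
theorem D8382 : act 1 n6566 = n8382 := rfl
def n8383 : Q := act 0 n6567
theorem D8383 : act 0 n6567 = n8383 := rfl
theorem F6708 : act 2 n8383 = n6578 := d1_2 (iv F5158) D8383 (iv D6578)
def n8384 : Q := act 3 n6567
theorem D8384 : act 3 n6567 = n8384 := rfl
theorem F6709 : act 1 n8384 = n6568 := d4_1 D8384 (iv D6568) D6567
def n8386 : Q := act 3 n6569
theorem D8386 : act 3 n6569 = n8386 := rfl
theorem F6710 : act 1 n8386 = n6570 := d4_1 D8386 (iv D6570) D6569
def n8387 : Q := act 1 n6571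
theorem D8387 : act 1 n6571 = n8387 := rfl
def n8388 : Q := act 3 n6571
theorem D8388 : act 3 n6571 = n8388 := rfl
theorem F6711 : act 0 n8388 = n6572 := d2_1 D8388 (iv D6572) D6571
def n8389 : Q := act 2 n6572
theorem D8389 : act 2 n6572 = n8389 := rfl
def n8390 : Q := act 1 n6573
theorem D8390 : act 1 n6573 = n8390 := rfl
theorem F6712 : act 3 n8390 = n8382 := d4_2 (iv F5164) D8390 (iv D8382)
def n8391 : Q := act 3 n6574
theorem D8391 : act 3 n6574 = n8391 := rfl
theorem F6713 : act 1 n8391 = n7348 := d4_1 D8391 F5838 (iv F5165)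
def n8392 : Q := act 2 n6575
theorem D8392 : act 2 n6575 = n8392 := rfl
theorem F6714 : act 0 n8392 = n6582 := d1_1 D8392 (iv D6582) (iv F5166)
def n8394 : Q := act 2 n6576
theorem D8394 : act 2 n6576 = n8394 := rfl
theorem F6717 : act 0 n8394 = n6577 := d1_1 D8394 (iv D6577) (iv F5167)
def n8395 : Q := act 3 n6577
theorem D8395 : act 3 n6577 = n8395 := rfl
theorem F6718 : act 1 n8395 = n6668 := d4_1 D8395 (iv F5246) F5245
def n8398 : Q := act 2 n6579
theorem D8398 : act 2 n6579 = n8398 := rfl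
def n8400 : Q := act 3 n6580
theorem D8400 : act 3 n6580 = n8400 := rfl
theorem F6723 : act 0 n8400 = n6581 := d2_1 D8400 (iv D6581) D6580
def n8401 : Q := act 2 n6581
theorem D8401 : act 2 n6581 = n8401 := rfl
theorem F6724 : act 1 n8401 = n8398 := d3_1 D8401 (iv D8398) F5168 (iv F3933) (iv F5170)
def n8407 : Q := act 1 n6587
theorem D8407 : act 1 n6587 = n8407 := rfl
theorem F6728 : act 3 n8407 = n6657 := d4_2 (iv F5175) D8407 (iv D6657)
def n8408 : Q := act 0 n6588
theorem D8408 : act 0 n6588 = n8408 := rfl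
def n8410 : Q := act 3 n6588
theorem D8410 : act 3 n6588 = n8410 := rfl
theorem F6729 : act 1 n8410 = n6589 := d4_1 D8410 (iv D6589) D6588
def n8411 : Q := act 2 n6589
theorem D8411 : act 2 n6589 = n8411 := rfl
def n8412 : Q := act 3 n6590
theorem D8412 : act 3 n6590 = n8412 := rfl
theorem F6731 : act 1 n8412 = n6656 := d4_1 D8412 (iv D6656) (iv F5177)
def n8419 : Q := act 2 n6595
theorem D8419 : act 2 n6595 = n8419 := rfl
theorem F6739 : act 0 n8419 = n6596 := d1_1 D8419 (iv D6596) D6595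
def n8430 : Q := act 1 n6605
theorem D8430 : act 1 n6605 = n8430 := rfl
def n8431 : Q := act 3 n6605
theorem D8431 : act 3 n6605 = n8431 := rfl
theorem F6749 : act 2 n8431 = n7817 := d6_2 D6605 D8431 (iv D7817) F4765 (iv F3601) F3949 (iv D5096) D5094
def n8445 : Q := act 3 n6616
theorem D8445 : act 3 n6616 = n8445 := rfl
def n8446 : Q := act 2 n6617
theorem D8446 : act 2 n6617 = n8446 := rfl
def n8454 : Q := act 1 n6623
theorem D8454 : act 1 n6623 = n8454 := rfl
def n8455 : Q := act 3 n6623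
theorem D8455 : act 3 n6623 = n8455 := rfl
theorem F6767 : act 0 n8455 = n6624 := d2_1 D8455 (iv D6624) (iv F5204)
theorem F6768 : act 2 n8455 = n6656 := d6_2 D6623 D8455 (iv D6656) (iv D5140) (iv D3920) F2214 D3897 (iv F3956)
def n8456 : Q := act 2 n6624
theorem D8456 : act 2 n6624 = n8456 := rfl
theorem F6769 : act 0 n8456 = n6656 := d1_1 D8456 (iv F6768) F6767
def n8471 : Q := act 2 n6637
theorem D8471 : act 2 n6637 = n8471 := rfl
theorem F6780 : act 3 n8471 = n7809 := d6_1 D8471 (iv D7809) (iv D6085) (iv D4672) D4673 D6086 D7810 F6216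
def n8477 : Q := act 1 n6643
theorem D8477 : act 1 n6643 = n8477 := rfl
theorem F6788 : act 2 n8477 = n6665 := d3_2 D6643 D8477 F5236 F3988 F3976
def n8479 : Q := act 3 n6644
theorem D8479 : act 3 n6644 = n8479 := rfl
theorem F6790 : act 0 n8479 = n6645 := d2_1 D8479 (iv D6645) (iv F5223)
def n8480 : Q := act 2 n6645
theorem D8480 : act 2 n6645 = n8480 := rfl
def n8481 : Q := act 1 n6646
theorem D8481 : act 1 n6646 = n8481 := rfl
theorem F6791 : act 2 n8481 = n6647 := d3_2 D6646 D8481 (iv D6647) (iv D5130) (iv F3974)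
theorem F6792 : act 0 n7571 = n8481 := d6_8 F6791 F5225 (iv D6542) (iv D5043) F2931 D4515 D5891 D7571
def n8483 : Q := act 0 n6647
theorem D8483 : act 0 n6647 = n8483 := rfl
theorem F6795 : act 2 n8483 = n7571 := d1_2 F6791 D8483 F6792
theorem F6796 : act 3 n8483 = n8352 := d2_2 (iv F5225) D8483 F6683
def n8485 : Q := act 3 n6648
theorem D8485 : act 3 n6648 = n8485 := rfl
theorem F6798 : act 0 n8485 = n6654 := d2_1 D8485 (iv D6654) (iv F5226)
theorem F6799 : act 1 n8485 = n6649 := d4_1 D8485 (iv D6649) D6648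
def n8486 : Q := act 2 n6649
theorem D8486 : act 2 n6649 = n8486 := rfl
def n8487 : Q := act 3 n6650
theorem D8487 : act 3 n6650 = n8487 := rfl
theorem F6801 : act 1 n8487 = n8368 := d4_1 D8487 (iv F6699) F6698
def n8494 : Q := act 0 n6657
theorem D8494 : act 0 n6657 = n8494 := rfl
def n8508 : Q := act 2 n6667
theorem D8508 : act 2 n6667 = n8508 := rfl
theorem F6817 : act 0 n8508 = n6865 := d1_1 D8508 (iv D6865) (iv F5239)
def n8510 : Q := act 3 n6669
theorem D8510 : act 3 n6669 = n8510 := rfl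
theorem F6818 : act 1 n8510 = n6670 := d4_1 D8510 (iv D6670) D6669
def n8517 : Q := act 3 n6678
theorem D8517 : act 3 n6678 = n8517 := rfl
theorem F6825 : act 1 n8517 = n7294 := d4_1 D8517 (iv D7294) (iv F5251)
def n8518 : Q := act 1 n6679
theorem D8518 : act 1 n6679 = n8518 := rfl
theorem F6826 : act 2 n8518 = n8387 := d3_2 D6679 D8518 (iv D8387) F5161 (iv F4000)
def n8520 : Q := act 3 n6681
theorem D8520 : act 3 n6681 = n8520 := rfl
theorem F6828 : act 2 n8520 = n8355 := d6_2 D6681 D8520 (iv D8355) (iv D6544) (iv D5045) D5044 D6543 F5140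
def n8521 : Q := act 0 n6682
theorem D8521 : act 0 n6682 = n8521 := rfl
theorem F6829 : act 2 n8521 = n6684 := d1_2 (iv F5254) D8521 (iv D6684)
theorem F6830 : act 3 n7326 = n8521 := d6_7 F5254 F4449 (iv D5695) (iv D4353) D4352 D5694 D7326 (iv D8521)
def n8522 : Q := act 3 n6682
theorem D8522 : act 3 n6682 = n8522 := rfl
theorem F6832 : act 1 n8522 = n6683 := d4_1 D8522 (iv D6683) D6682
theorem F6833 : act 2 n8522 = n7324 := d5_1 D8522 (iv D7324) (iv D5692) D5693 D7325 (iv F5822) (iv F6829) (iv F6830) (iv D7326) (iv D5694) (iv D4352) D4353 D5695 (iv F4449) (iv F5254)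
def n8523 : Q := act 2 n6683
theorem D8523 : act 2 n6683 = n8523 := rfl
theorem F6835 : act 3 n8523 = n8353 := d5_2 D6683 D8523 (iv D8353) (iv D6543) (iv D5044) D5045 D6544 D8355 (iv F6828) (iv D8520) (iv D6681) (iv D5162) (iv D3936) D3937 D5163
def n8533 : Q := act 2 n6690
theorem D8533 : act 2 n6690 = n8533 := rfl
theorem F6846 : act 0 n8533 = n6691 := d1_1 D8533 (iv D6691) D6690
def n8534 : Q := act 3 n6690
theorem D8534 : act 3 n6690 = n8534 := rfl
theorem F6847 : act 0 n8534 = n6692 := d2_1 D8534 (iv D6692) D6690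
def n8536 : Q := act 2 n6692
theorem D8536 : act 2 n6692 = n8536 := rfl
theorem F6850 : act 1 n8536 = n6922 := d3_1 D8536 (iv D6922) F5263 (iv D6693) (iv F5260)
def n8538 : Q := act 3 n6695
theorem D8538 : act 3 n6695 = n8538 := rfl
theorem F6852 : act 0 n8538 = n6696 := d2_1 D8538 (iv D6696) (iv F5266)
def n8539 : Q := act 2 n6696
theorem D8539 : act 2 n6696 = n8539 := rfl
def n8544 : Q := act 3 n6699
theorem D8544 : act 3 n6699 = n8544 := rfl
theorem F6855 : act 0 n8544 = n6701 := d2_1 D8544 (iv D6701) (iv F5268)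
def n8546 : Q := act 3 n6700
theorem D8546 : act 3 n6700 = n8546 := rfl
theorem F6857 : act 2 n8546 = n8544 := d6_2 D6700 D8546 (iv D8544) (iv D6699) (iv D5175) D5174 D6698 F5267
def n8547 : Q := act 2 n6701
theorem D8547 : act 2 n6701 = n8547 := rfl
theorem F6858 : act 0 n8547 = n8546 := d1_1 D8547 F6857 F6855
theorem F6859 : act 1 n8547 = n6763 := d3_1 D8547 (iv D6763) F4054 D5231 (iv F5269)
def n8554 : Q := act 2 n6707
theorem D8554 : act 2 n6707 = n8554 := rfl
theorem F6864 : act 0 n8554 = n6874 := d1_1 D8554 (iv D6874) (iv F5276)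
theorem F6865 : act 1 n8554 = n6730 := d3_1 D8554 (iv D6730) (iv D5204) (iv F4012) D6707
def n8555 : Q := act 3 n6707
theorem D8555 : act 3 n6707 = n8555 := rfl
theorem F6866 : act 0 n8555 = n6875 := d2_1 D8555 (iv D6875) (iv F5276)
theorem F6867 : act 1 n8555 = n6708 := d4_1 D8555 (iv D6708) D6707
def n8556 : Q := act 2 n6708
theorem D8556 : act 2 n6708 = n8556 := rfl
def n8557 : Q := act 1 n6709
theorem D8557 : act 1 n6709 = n8557 := rfl
theorem F6869 : act 2 n8557 = n6710 := d3_2 D6709 D8557 (iv D6710) (iv D5183) (iv F4013)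
def n8558 : Q := act 3 n6709
theorem D8558 : act 3 n6709 = n8558 := rfl
def n8559 : Q := act 0 n6710
theorem D8559 : act 0 n6710 = n8559 := rfl
def n8560 : Q := act 1 n6711
theorem D8560 : act 1 n6711 = n8560 := rfl
def n8562 : Q := act 2 n6712
theorem D8562 : act 2 n6712 = n8562 := rfl
def n8564 : Q := act 3 n6713
theorem D8564 : act 3 n6713 = n8564 := rfl
def n8565 : Q := act 2 n6714
theorem D8565 : act 2 n6714 = n8565 := rfl
theorem F6872 : act 1 n8565 = n8562 := d3_1 D8565 (iv D8562) F5279 (iv F4018) (iv F5281)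
def n8566 : Q := act 0 n6715
theorem D8566 : act 0 n6715 = n8566 := rfl
theorem F6873 : act 3 n8566 = n7197 := d2_2 (iv F5282) D8566 (iv D7197)
def n8567 : Q := act 2 n6715
theorem D8567 : act 2 n6715 = n8567 := rfl
theorem F6874 : act 1 n8567 = n6717 := d3_1 D8567 (iv D6717) (iv D5191) (iv F4019) D6715
def n8568 : Q := act 0 n6716
theorem D8568 : act 0 n6716 = n8568 := rfl
theorem F6875 : act 2 n8568 = n7195 := d1_2 (iv F5283) D8568 F5699
theorem F6876 : act 3 n8568 = n8559 := d2_2 (iv F5284) D8568 (iv D8559)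
def n8569 : Q := act 3 n6717
theorem D8569 : act 3 n6717 = n8569 := rfl
def n8576 : Q := act 1 n6722
theorem D8576 : act 1 n6722 = n8576 := rfl
def n8582 : Q := act 0 n6726
theorem D8582 : act 0 n6726 = n8582 := rfl
def n8583 : Q := act 2 n6726
theorem D8583 : act 2 n6726 = n8583 := rfl
theorem F6885 : act 1 n8583 = n6728 := d3_1 D8583 (iv D6728) (iv D5202) (iv F4031) D6726
def n8585 : Q := act 3 n6728
theorem D8585 : act 3 n6728 = n8585 := rfl
theorem F6887 : act 0 n8585 = n8569 := d2_1 D8585 (iv D8569) (iv F5291)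
def n8586 : Q := act 2 n6729
theorem D8586 : act 2 n6729 = n8586 := rfl
theorem F6888 : act 0 n8586 = n6893 := d1_1 D8586 (iv D6893) (iv F5292)
theorem F6889 : act 1 n8586 = n6892 := d3_1 D8586 (iv D6892) F4143 F4037 (iv F5293)
def n8590 : Q := act 3 n6732
theorem D8590 : act 3 n6732 = n8590 := rfl
theorem F6893 : act 2 n8590 = n8558 := d6_2 D6732 D8590 (iv D8558) (iv D6709) (iv D5182) F3023 D3969 (iv F4039)
def n8591 : Q := act 2 n6733
theorem D8591 : act 2 n6733 = n8591 := rfl
theorem F6895 : act 1 n8591 = n7092 := d3_1 D8591 (iv D7092) F4292 D5502 (iv F5298)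
theorem F6896 : act 3 n8591 = n8556 := d5_2 D6733 D8591 (iv D8556) (iv D6708) F4012 D5205 D6732 D8590 F6893 (iv D8558) (iv D6709) (iv D5182) F3023 D3969 D5206
def n8592 : Q := act 2 n6734
theorem D8592 : act 2 n6734 = n8592 := rfl
theorem F6897 : act 0 n8592 = n7112 := d1_1 D8592 (iv D7112) (iv F5299)
def n8593 : Q := act 2 n6735
theorem D8593 : act 2 n6735 = n8593 := rfl
theorem F6898 : act 0 n8593 = n6736 := d1_1 D8593 (iv D6736) (iv F5301)
def n8594 : Q := act 3 n6736
theorem D8594 : act 3 n6736 = n8594 := rfl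
def n8600 : Q := act 0 n6740
theorem D8600 : act 0 n6740 = n8600 := rfl
def n8601 : Q := act 3 n6740
theorem D8601 : act 3 n6740 = n8601 := rfl
theorem F6903 : act 1 n8601 = n6741 := d4_1 D8601 (iv D6741) D6740
def n8602 : Q := act 2 n6741
theorem D8602 : act 2 n6741 = n8602 := rfl
def n8604 : Q := act 3 n6742
theorem D8604 : act 3 n6742 = n8604 := rfl
theorem F6906 : act 2 n8604 = n7106 := d6_2 D6742 D8604 (iv D7106) (iv D5514) (iv F3237) D5211 D6741 F5305
def n8605 : Q := act 2 n6743
theorem D8605 : act 2 n6743 = n8605 := rfl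
theorem F6908 : act 1 n8605 = n6850 := d3_1 D8605 (iv D6850) F4111 D5303 (iv F5306)
theorem F6909 : act 3 n8605 = n8602 := d5_2 D6743 D8605 (iv D8602) (iv D6741) (iv D5211) F3237 D5514 D7106 (iv F6906) (iv D8604) (iv D6742) (iv D5212) (iv D3977) D3978 D5213
def n8606 : Q := act 1 n6744
theorem D8606 : act 1 n6744 = n8606 := rfl
def n8610 : Q := act 2 n6747
theorem D8610 : act 2 n6747 = n8610 := rfl
def n8611 : Q := act 3 n6748
theorem D8611 : act 3 n6748 = n8611 := rfl
theorem F6911 : act 1 n8611 = n7373 := d4_1 D8611 (iv F5888) F5887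
def n8619 : Q := act 3 n6753
theorem D8619 : act 3 n6753 = n8619 := rfl
theorem F6917 : act 1 n8619 = n6772 := d4_1 D8619 (iv D6772) (iv F5313)
def n8628 : Q := act 2 n6761
theorem D8628 : act 2 n6761 = n8628 := rfl
def n8629 : Q := act 2 n6762
theorem D8629 : act 2 n6762 = n8629 := rfl
theorem F6924 : act 0 n8629 = n6763 := d1_1 D8629 (iv D6763) (iv F5319)
def n8643 : Q := act 3 n6773
theorem D8643 : act 3 n6773 = n8643 := rfl
theorem F6938 : act 1 n8643 = n6774 := d4_1 D8643 (iv D6774) D6773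
def n8651 : Q := act 0 n6780
theorem D8651 : act 0 n6780 = n8651 := rfl
theorem F6943 : act 2 n8651 = n6974 := d1_2 (iv F5335) D8651 (iv D6974)
def n8676 : Q := act 1 n6797
theorem D8676 : act 1 n6797 = n8676 := rfl
theorem F6964 : act 0 n8676 = n7118 := d0_1 D8676 (iv D7118) (iv D5525) (iv D4223) F2409 (iv F2273) (iv F3066) D5262 D6797
def n8677 : Q := act 3 n6797
theorem D8677 : act 3 n6797 = n8677 := rfl
theorem F6965 : act 0 n8677 = n6798 := d2_1 D8677 (iv D6798) D6797
def n8682 : Q := act 0 n6802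
theorem D8682 : act 0 n6802 = n8682 := rfl
theorem F6971 : act 1 n8682 = n8682 := d0_2 D6802 D8682 (iv D8682) (iv D6802) (iv D5267) (iv D4016) F2276 D4016 D5267
def n8684 : Q := act 3 n6802
theorem D8684 : act 3 n6802 = n8684 := rfl
theorem F6973 : act 1 n8684 = n6803 := d4_1 D8684 (iv D6803) D6802
theorem F6974 : act 2 n7630 = n8684 := d3_0 F6973 F5353 F4641 D5937 D7630
def n8695 : Q := act 1 n6813
theorem D8695 : act 1 n6813 = n8695 := rfl
theorem F6983 : act 0 n8695 = n7061 := d0_1 D8695 (iv D7061) (iv D5470) (iv D4183) F2378 (iv F2280) (iv F3073) D5275 D6813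
def n8696 : Q := act 3 n6813
theorem D8696 : act 3 n6813 = n8696 := rfl
def n8697 : Q := act 2 n6814
theorem D8697 : act 2 n6814 = n8697 := rfl
def n8698 : Q := act 1 n6815
theorem D8698 : act 1 n6815 = n8698 := rfl
def n8702 : Q := act 1 n6821
theorem D8702 : act 1 n6821 = n8702 := rfl
theorem F6988 : act 2 n8702 = n7401 := d3_2 D6821 D8702 F5878 (iv F5372) F5371
theorem F6989 : act 3 n8702 = n8698 := d4_2 (iv F5374) D8702 (iv D8698)
def n8709 : Q := act 3 n6826
theorem D8709 : act 3 n6826 = n8709 := rfl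
theorem F6992 : act 1 n8709 = n6827 := d4_1 D8709 (iv D6827) D6826
def n8712 : Q := act 1 n6830
theorem D8712 : act 1 n6830 = n8712 := rfl
def n8713 : Q := act 1 n6832
theorem D8713 : act 1 n6832 = n8713 := rfl
def n8715 : Q := act 3 n6833
theorem D8715 : act 3 n6833 = n8715 := rfl
theorem F6998 : act 1 n8715 = n6834 := d4_1 D8715 (iv D6834) D6833
def n8718 : Q := act 0 n6838
theorem D8718 : act 0 n6838 = n8718 := rfl
def n8721 : Q := act 0 n6841
theorem D8721 : act 0 n6841 = n8721 := rfl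
def n8723 : Q := act 3 n6841
theorem D8723 : act 3 n6841 = n8723 := rfl
theorem F7002 : act 1 n8723 = n6842 := d4_1 D8723 (iv D6842) D6841
def n8724 : Q := act 2 n6842
theorem D8724 : act 2 n6842 = n8724 := rfl
theorem F7003 : act 0 n8724 = n6843 := d1_1 D8724 (iv D6843) (iv F5392)
def n8730 : Q := act 3 n6847
theorem D8730 : act 3 n6847 = n8730 := rfl
theorem F7008 : act 0 n8730 = n6849 := d2_1 D8730 (iv D6849) (iv F5396)
def n8731 : Q := act 2 n6848
theorem D8731 : act 2 n6848 = n8731 := rfl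
def n8732 : Q := act 2 n6849
theorem D8732 : act 2 n6849 = n8732 := rfl
def n8733 : Q := act 3 n6850
theorem D8733 : act 3 n6850 = n8733 := rfl
theorem F7010 : act 1 n8733 = n8602 := d4_1 D8733 (iv F6909) F6908
def n8734 : Q := act 0 n6851
theorem D8734 : act 0 n6851 = n8734 := rfl
theorem F7011 : act 2 n8734 = n6859 := d1_2 (iv F5400) D8734 (iv D6859)
def n8735 : Q := act 3 n6851
theorem D8735 : act 3 n6851 = n8735 := rfl
theorem F7012 : act 1 n8735 = n6852 := d4_1 D8735 (iv D6852) D6851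
def n8736 : Q := act 2 n6852
theorem D8736 : act 2 n6852 = n8736 := rfl
def n8737 : Q := act 1 n6853
theorem D8737 : act 1 n6853 = n8737 := rfl
theorem F7014 : act 2 n8737 = n6862 := d3_2 D6853 D8737 (iv D6862) (iv D5314) (iv F4115)
def n8738 : Q := act 3 n6853
theorem D8738 : act 3 n6853 = n8738 := rfl
theorem F7015 : act 0 n8738 = n6856 := d2_1 D8738 (iv D6856) (iv F5402)
def n8739 : Q := act 1 n6854
theorem D8739 : act 1 n6854 = n8739 := rfl
def n8740 : Q := act 3 n6854
theorem D8740 : act 3 n6854 = n8740 := rfl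
theorem F7016 : act 2 n8740 = n8738 := d6_2 D6854 D8740 (iv D8738) (iv D6853) (iv D5306) D5305 D6852 F5401
def n8741 : Q := act 0 n6855
theorem D8741 : act 0 n6855 = n8741 := rfl
theorem F7017 : act 2 n8741 = n6857 := d1_2 (iv F5403) D8741 (iv D6857)
def n8742 : Q := act 3 n6855
theorem D8742 : act 3 n6855 = n8742 := rfl
theorem F7018 : act 1 n8742 = n6856 := d4_1 D8742 (iv D6856) D6855
def n8743 : Q := act 2 n6856
theorem D8743 : act 2 n6856 = n8743 := rfl
theorem F7020 : act 3 n8743 = n8736 := d5_2 D6856 D8743 (iv D8736) (iv D6852) (iv D5305) D5306 D6853 D8738 (iv F7016) (iv D8740) (iv D6854) (iv D5307) (iv D4049) D4050 D5308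
def n8744 : Q := act 1 n6859
theorem D8744 : act 1 n6859 = n8744 := rfl
theorem F7021 : act 0 n8744 = n6868 := d0_1 D8744 (iv D6868) (iv D5321) (iv D4060) F2305 (iv F2296) (iv F3093) D5312 D6859
def n8745 : Q := act 3 n6859
theorem D8745 : act 3 n6859 = n8745 := rfl
theorem F7022 : act 0 n8745 = n6860 := d2_1 D8745 (iv D6860) D6859
def n8746 : Q := act 2 n6860
theorem D8746 : act 2 n6860 = n8746 := rfl
theorem F7023 : act 1 n8746 = n7298 := d3_1 D8746 (iv D7298) F5409 (iv D6861) (iv F5406)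
theorem F7024 : act 3 n8518 = n8746 := d4_0 F7023 F5797 D8518
def n8747 : Q := act 0 n6862
theorem D8747 : act 0 n6862 = n8747 := rfl
def n8748 : Q := act 0 n6863
theorem D8748 : act 0 n6863 = n8748 := rfl
def n8749 : Q := act 3 n6863
theorem D8749 : act 3 n6863 = n8749 := rfl
theorem F7026 : act 1 n8749 = n6864 := d4_1 D8749 (iv D6864) D6863
def n8750 : Q := act 3 n6865
theorem D8750 : act 3 n6865 = n8750 := rfl
theorem F7027 : act 1 n8750 = n6867 := d4_1 D8750 (iv D6867) (iv F5413)
def n8752 : Q := act 3 n6866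
theorem D8752 : act 3 n6866 = n8752 := rfl
theorem F7029 : act 0 n8752 = n6867 := d2_1 D8752 (iv D6867) (iv F5414)
def n8753 : Q := act 2 n6867
theorem D8753 : act 2 n6867 = n8753 := rfl
def n8754 : Q := act 2 n6868
theorem D8754 : act 2 n6868 = n8754 := rfl
theorem F7030 : act 1 n8754 = n6894 := d3_1 D8754 (iv D6894) (iv D5341) (iv F4127) D6868
def n8755 : Q := act 3 n6868
theorem D8755 : act 3 n6868 = n8755 := rfl
theorem F7031 : act 1 n8755 = n6869 := d4_1 D8755 (iv D6869) D6868
def n8756 : Q := act 2 n6869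
theorem D8756 : act 2 n6869 = n8756 := rfl
def n8758 : Q := act 3 n6870
theorem D8758 : act 3 n6870 = n8758 := rfl
def n8762 : Q := act 2 n6873
theorem D8762 : act 2 n6873 = n8762 := rfl
theorem F7036 : act 1 n8762 = n6925 := d3_1 D8762 (iv D6925) F4164 (iv F4132) (iv F5417)
def n8764 : Q := act 2 n6875
theorem D8764 : act 2 n6875 = n8764 := rfl
theorem F7038 : act 1 n8764 = n7845 := d3_1 D8764 (iv D7845) F5422 (iv D6876) (iv F5419)
def n8765 : Q := act 0 n6877
theorem D8765 : act 0 n6877 = n8765 := rfl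
theorem F7039 : act 2 n8765 = n6879 := d1_2 (iv F5423) D8765 (iv D6879)
def n8766 : Q := act 3 n6877
theorem D8766 : act 3 n6877 = n8766 := rfl
theorem F7040 : act 1 n8766 = n6878 := d4_1 D8766 (iv D6878) D6877
def n8768 : Q := act 0 n6880
theorem D8768 : act 0 n6880 = n8768 := rfl
theorem F7041 : act 1 n8768 = n6886 := d0_2 D6880 D8768 (iv D6886) (iv D5334) (iv D4070) (iv D3064) (iv F2308) D4066 D5330
def n8770 : Q := act 2 n6881
theorem D8770 : act 2 n6881 = n8770 := rfl
theorem F7044 : act 3 n8770 = n7870 := d6_1 D8770 (iv D7870) (iv D6135) (iv D4710) F2730 (iv F3105) D5331 (iv F5426)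
def n8771 : Q := act 3 n6882
theorem D8771 : act 3 n6882 = n8771 := rfl
theorem F7046 : act 2 n8771 = n7869 := d5_1 D8771 (iv D7869) (iv D6134) F3622 (iv F4134) D6881 D8770 F7044 (iv D7870) (iv D6135) (iv D4710) F2730 (iv F3105) D5331 D6882
def n8775 : Q := act 2 n6884
theorem D8775 : act 2 n6884 = n8775 := rfl
theorem F7048 : act 0 n8775 = n6885 := d1_1 D8775 (iv D6885) (iv F5427)
def n8776 : Q := act 3 n6885
theorem D8776 : act 3 n6885 = n8776 := rfl
theorem F7049 : act 1 n8776 = n8771 := d4_1 D8776 (iv D8771) (iv F5428)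
def n8780 : Q := act 0 n6889
theorem D8780 : act 0 n6889 = n8780 := rfl
theorem F7054 : act 2 n8780 = n6890 := d1_2 (iv F5432) D8780 (iv D6890)
theorem F7055 : act 3 n8780 = n8582 := d2_2 (iv F5433) D8780 (iv D8582)
def n8782 : Q := act 2 n6891
theorem D8782 : act 2 n6891 = n8782 := rfl
def n8783 : Q := act 3 n6892
theorem D8783 : act 3 n6892 = n8783 := rfl
theorem F7057 : act 0 n8783 = n7201 := d2_1 D8783 (iv D7201) (iv F5435)
def n8784 : Q := act 3 n6893
theorem D8784 : act 3 n6893 = n8784 := rfl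
theorem F7058 : act 1 n8784 = n7200 := d4_1 D8784 (iv D7200) (iv F5436)
def n8788 : Q := act 3 n6896
theorem D8788 : act 3 n6896 = n8788 := rfl
theorem F7062 : act 2 n8788 = n8758 := d6_2 D6896 D8788 (iv D8758) (iv D6870) (iv D5322) F3100 D4077 (iv F4146)
def n8789 : Q := act 0 n6897
theorem D8789 : act 0 n6897 = n8789 := rfl
theorem F7063 : act 2 n8789 = n6899 := d1_2 (iv F5441) D8789 (iv D6899)
theorem F7064 : act 3 n7521 = n8789 := d6_7 F5441 (iv F4152) F4151 (iv D4479) D4478 D5848 D7521 (iv D8789)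
def n8790 : Q := act 3 n6897
theorem D8790 : act 3 n6897 = n8790 := rfl
theorem F7065 : act 0 n8790 = n7521 := d2_1 D8790 F7064 (iv D8789)
theorem F7066 : act 1 n8790 = n6898 := d4_1 D8790 (iv D6898) D6897
theorem F7067 : act 2 n8790 = n7520 := d5_1 D8790 (iv D7520) (iv D5846) D5847 (iv F5447) F5448 (iv F7063) (iv F7064) (iv D7521) (iv D5848) (iv D4478) D4479 (iv F4151) F4152 (iv F5441)
def n8791 : Q := act 2 n6898
theorem D8791 : act 2 n6898 = n8791 := rfl
theorem F7069 : act 3 n8791 = n8756 := d5_2 D6898 D8791 (iv D8756) (iv D6869) F4127 D5342 D6896 D8788 F7062 (iv D8758) (iv D6870) (iv D5322) F3100 D4077 D5343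
def n8792 : Q := act 1 n6899
theorem D8792 : act 1 n6899 = n8792 := rfl
def n8793 : Q := act 0 n6900
theorem D8793 : act 0 n6900 = n8793 := rfl
theorem F7070 : act 1 n8793 = n6906 := d0_2 D6900 D8793 (iv D6906) (iv D5349) (iv D4083) (iv D3073) (iv F2314) D4079 D5345
theorem F7071 : act 3 n7522 = n8793 := d4_0 F7070 F5445 D7522
def n8794 : Q := act 2 n6900
theorem D8794 : act 2 n6900 = n8794 := rfl
def n8795 : Q := act 3 n6900
theorem D8795 : act 3 n6900 = n8795 := rfl
theorem F7072 : act 0 n8795 = n7522 := d2_1 D8795 F7071 (iv D8793)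
theorem F7073 : act 1 n8795 = n6901 := d4_1 D8795 (iv D6901) D6900
def n8796 : Q := act 2 n6901
theorem D8796 : act 2 n6901 = n8796 := rfl
def n8797 : Q := act 3 n6902
theorem D8797 : act 3 n6902 = n8797 := rfl
def n8798 : Q := act 0 n6903
theorem D8798 : act 0 n6903 = n8798 := rfl
def n8800 : Q := act 3 n6903
theorem D8800 : act 3 n6903 = n8800 := rfl
theorem F7076 : act 1 n8800 = n6904 := d4_1 D8800 (iv D6904) D6903
def n8801 : Q := act 2 n6904
theorem D8801 : act 2 n6904 = n8801 := rfl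
theorem F7077 : act 0 n8801 = n6905 := d1_1 D8801 (iv D6905) (iv F5443)
def n8802 : Q := act 3 n6905
theorem D8802 : act 3 n6905 = n8802 := rfl
theorem F7078 : act 1 n8802 = n8797 := d4_1 D8802 (iv D8797) (iv F5444)
def n8803 : Q := act 2 n6906
theorem D8803 : act 2 n6906 = n8803 := rfl
theorem F7079 : act 0 n8803 = n6907 := d1_1 D8803 (iv D6907) D6906
theorem F7080 : act 3 n8803 = n7504 := d6_1 D8803 (iv D7504) (iv D5834) F3439 (iv F2580) (iv F3445) (iv F4150) D6906
def n8804 : Q := act 3 n6907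
theorem D8804 : act 3 n6907 = n8804 := rfl
theorem F7081 : act 0 n8804 = n7504 := d2_1 D8804 (iv F7080) F7079
theorem F7082 : act 1 n8804 = n6909 := d4_1 D8804 (iv D6909) (iv F5446)
def n8805 : Q := act 1 n6908
theorem D8805 : act 1 n6908 = n8805 := rfl
theorem F7084 : act 3 n8805 = n8792 := d4_2 (iv F5448) D8805 (iv D8792)
def n8806 : Q := act 2 n6909
theorem D8806 : act 2 n6909 = n8806 := rfl
theorem F7085 : act 0 n8806 = n8782 := d1_1 D8806 (iv D8782) (iv F5449)
def n8807 : Q := act 2 n6910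
theorem D8807 : act 2 n6910 = n8807 := rfl
theorem F7086 : act 0 n8807 = n6927 := d1_1 D8807 (iv D6927) (iv F5450)
def n8808 : Q := act 1 n6911
theorem D8808 : act 1 n6911 = n8808 := rfl
theorem F7087 : act 2 n8808 = n6912 := d3_2 D6911 D8808 (iv D6912) (iv D5354) (iv F4156)
def n8809 : Q := act 3 n6911
theorem D8809 : act 3 n6911 = n8809 := rfl
def n8815 : Q := act 1 n6918
theorem D8815 : act 1 n6918 = n8815 := rfl
theorem F7092 : act 0 n8815 = n6923 := d0_1 D8815 (iv D6923) (iv D5362) (iv D4096) F2328 (iv F2325) (iv F3133) D5358 D6918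
def n8816 : Q := act 3 n6918
theorem D8816 : act 3 n6918 = n8816 := rfl
def n8817 : Q := act 2 n6919
theorem D8817 : act 2 n6919 = n8817 := rfl
def n8818 : Q := act 1 n6920
theorem D8818 : act 1 n6920 = n8818 := rfl
theorem F7094 : act 3 n8818 = n8536 := d4_2 F5464 D8818 F6850
def n8820 : Q := act 2 n6923
theorem D8820 : act 2 n6923 = n8820 := rfl
theorem F7096 : act 1 n8820 = n8794 := d3_1 D8820 (iv D8794) (iv D6900) (iv F4163) D6923
def n8821 : Q := act 3 n6923
theorem D8821 : act 3 n6923 = n8821 := rfl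
theorem F7097 : act 1 n8821 = n6924 := d4_1 D8821 (iv D6924) D6923
def n8822 : Q := act 2 n6924
theorem D8822 : act 2 n6924 = n8822 := rfl
theorem F7098 : act 0 n8822 = n6925 := d1_1 D8822 (iv D6925) (iv F5465)
def n8823 : Q := act 3 n6925
theorem D8823 : act 3 n6925 = n8823 := rfl
def n8825 : Q := act 1 n6927
theorem D8825 : act 1 n6927 = n8825 := rfl
theorem F7099 : act 2 n8825 = n6943 := d3_2 D6927 D8825 (iv D6943) (iv D5376) (iv F4165)
def n8826 : Q := act 3 n6927
theorem D8826 : act 3 n6927 = n8826 := rfl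
theorem F7100 : act 2 n8826 = n8809 := d6_2 D6927 D8826 (iv D8809) (iv D6911) (iv D5353) D5352 D6910 F5450
def n8827 : Q := act 0 n6928
theorem D8827 : act 0 n6928 = n8827 := rfl
theorem F7101 : act 2 n8827 = n6930 := d1_2 (iv F5466) D8827 (iv D6930)
theorem F7102 : act 3 n8697 = n8827 := d6_7 F5466 (iv F4178) F4177 (iv D5291) (iv F4094) D6814 D8697 (iv D8827)
def n8828 : Q := act 3 n6928
theorem D8828 : act 3 n6928 = n8828 := rfl
theorem F7104 : act 1 n8828 = n6929 := d4_1 D8828 (iv D6929) D6928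
theorem F7105 : act 2 n8828 = n8696 := d5_1 D8828 (iv D8696) F5362 D6835 (iv F5483) F5484 (iv F7101) (iv F7102) (iv D8697) (iv D6814) F4094 D5291 (iv F4177) F4178 (iv F5466)
def n8829 : Q := act 2 n6929
theorem D8829 : act 2 n6929 = n8829 := rfl
theorem F7107 : act 3 n8829 = n8807 := d5_2 D6929 D8829 (iv D8807) (iv D6910) (iv D5352) D5353 D6911 D8809 (iv F7100) (iv D8826) (iv D6927) (iv D5365) (iv D4099) D4100 D5366
def n8831 : Q := act 0 n6931
theorem D8831 : act 0 n6931 = n8831 := rfl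
def n8833 : Q := act 3 n6931
theorem D8833 : act 3 n6931 = n8833 := rfl
theorem F7109 : act 1 n8833 = n6932 := d4_1 D8833 (iv D6932) D6931
def n8844 : Q := act 1 n6942
theorem D8844 : act 1 n6942 = n8844 := rfl
theorem F7116 : act 2 n8844 = n6960 := d3_2 D6942 D8844 F5490 F4183 (iv F4171)
def n8845 : Q := act 0 n6943
theorem D8845 : act 0 n6943 = n8845 := rfl
def n8846 : Q := act 1 n6944
theorem D8846 : act 1 n6944 = n8846 := rfl
def n8847 : Q := act 3 n6944
theorem D8847 : act 3 n6944 = n8847 := rfl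
def n8848 : Q := act 2 n6945
theorem D8848 : act 2 n6945 = n8848 := rfl
def n8849 : Q := act 0 n6946
theorem D8849 : act 0 n6946 = n8849 := rfl
theorem F7119 : act 1 n8849 = n6949 := d0_2 D6946 D8849 (iv D6949) (iv D5381) (iv D4112) (iv D3096) (iv F2335) D4110 D5379
def n8851 : Q := act 3 n6946
theorem D8851 : act 3 n6946 = n8851 := rfl
theorem F7122 : act 1 n8851 = n6947 := d4_1 D8851 (iv D6947) D6946
def n8852 : Q := act 2 n6947
theorem D8852 : act 2 n6947 = n8852 := rfl
theorem F7123 : act 0 n8852 = n6948 := d1_1 D8852 (iv D6948) (iv F5479)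
def n8853 : Q := act 3 n6948
theorem D8853 : act 3 n6948 = n8853 := rfl
theorem F7124 : act 1 n8853 = n7303 := d4_1 D8853 F5802 (iv F5480)
def n8856 : Q := act 1 n6951
theorem D8856 : act 1 n6951 = n8856 := rfl
def n8865 : Q := act 1 n6959
theorem D8865 : act 1 n6959 = n8865 := rfl
def n8866 : Q := act 3 n6959
theorem D8866 : act 3 n6959 = n8866 := rfl
theorem F7135 : act 0 n8866 = n6960 := d2_1 D8866 (iv D6960) D6959
def n8867 : Q := act 0 n6961
theorem D8867 : act 0 n6961 = n8867 := rfl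
theorem F7136 : act 2 n8867 = n7019 := d1_2 (iv F5491) D8867 F5538
theorem F7137 : act 3 n8867 = n7308 := d2_2 (iv F5492) D8867 (iv D7308)
def n8870 : Q := act 2 n6963
theorem D8870 : act 2 n6963 = n8870 := rfl
def n8872 : Q := act 3 n6964
theorem D8872 : act 3 n6964 = n8872 := rfl
def n8874 : Q := act 3 n6965
theorem D8874 : act 3 n6965 = n8874 := rfl
theorem F7142 : act 2 n8874 = n8872 := d6_2 D6965 D8874 (iv D8872) (iv D6964) (iv D5392) D5391 D6963 F5493
def n8877 : Q := act 2 n6967
theorem D8877 : act 2 n6967 = n8877 := rfl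
theorem F7146 : act 3 n8877 = n8870 := d5_2 D6967 D8877 (iv D8870) (iv D6963) (iv D5391) D5392 D6964 D8872 (iv F7142) (iv D8874) (iv D6965) (iv D5393) (iv D4122) D4123 D5394
def n8878 : Q := act 1 n6968
theorem D8878 : act 1 n6968 = n8878 := rfl
theorem F7147 : act 0 n8878 = n8865 := d0_1 D8878 (iv D8865) (iv D6959) (iv D5388) F3160 (iv F2339) (iv F3163) D5395 D6968
def n8886 : Q := act 3 n6974
theorem D8886 : act 3 n6974 = n8886 := rfl
theorem F7152 : act 0 n8886 = n6975 := d2_1 D8886 (iv D6975) D6974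
def n8887 : Q := act 2 n6975
theorem D8887 : act 2 n6975 = n8887 := rfl
theorem F7153 : act 1 n8887 = n8848 := d3_1 D8887 (iv D8848) F5478 (iv F4196) (iv F5501)
def n8888 : Q := act 0 n6976
theorem D8888 : act 0 n6976 = n8888 := rfl
def n8889 : Q := act 2 n6976
theorem D8889 : act 2 n6976 = n8889 := rfl
theorem F7154 : act 1 n8889 = n6981 := d3_1 D8889 (iv D6981) (iv D5406) (iv F4197) D6976
def n8890 : Q := act 3 n6976
theorem D8890 : act 3 n6976 = n8890 := rfl
theorem F7155 : act 1 n8890 = n6977 := d4_1 D8890 (iv D6977) D6976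
def n8891 : Q := act 2 n6977
theorem D8891 : act 2 n6977 = n8891 := rfl
def n8893 : Q := act 3 n6978
theorem D8893 : act 3 n6978 = n8893 := rfl
def n8894 : Q := act 0 n6979
theorem D8894 : act 0 n6979 = n8894 := rfl
theorem F7158 : act 3 n8894 = n8845 := d2_2 (iv F5503) D8894 (iv D8845)
def n8895 : Q := act 2 n6980
theorem D8895 : act 2 n6980 = n8895 := rfl
theorem F7159 : act 0 n8895 = n6981 := d1_1 D8895 (iv D6981) D6980
def n8897 : Q := act 3 n6981
theorem D8897 : act 3 n6981 = n8897 := rfl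
def n8900 : Q := act 3 n6983
theorem D8900 : act 3 n6983 = n8900 := rfl
theorem F7163 : act 2 n8900 = n8893 := d6_2 D6983 D8900 (iv D8893) (iv D6978) (iv D5404) F3171 D4134 (iv F4201)
def n8901 : Q := act 2 n6984
theorem D8901 : act 2 n6984 = n8901 := rfl
theorem F7165 : act 1 n8901 = n7112 := d3_1 D8901 (iv D7112) F4308 D5520 (iv F5507)
theorem F7166 : act 3 n8901 = n8891 := d5_2 D6984 D8901 (iv D8891) (iv D6977) F4197 D5407 D6983 D8900 F7163 (iv D8893) (iv D6978) (iv D5404) F3171 D4134 D5408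
def n8903 : Q := act 3 n6985
theorem D8903 : act 3 n6985 = n8903 := rfl
theorem F7167 : act 0 n8903 = n6987 := d2_1 D8903 (iv D6987) (iv F5508)
def n8904 : Q := act 2 n6986
theorem D8904 : act 2 n6986 = n8904 := rfl
def n8905 : Q := act 2 n6987
theorem D8905 : act 2 n6987 = n8905 := rfl
def n8906 : Q := act 3 n6988
theorem D8906 : act 3 n6988 = n8906 := rfl
theorem F7169 : act 1 n8906 = n7035 := d4_1 D8906 F5554 (iv F5511)
def n8917 : Q := act 1 n6995
theorem D8917 : act 1 n6995 = n8917 := rfl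
theorem F7180 : act 2 n8917 = n8695 := d3_2 (iv F5517) D8917 (iv D8695) F5362 (iv F4225)
def n8918 : Q := act 3 n6995
theorem D8918 : act 3 n6995 = n8918 := rfl
theorem F7181 : act 0 n8918 = n6996 := d2_1 D8918 (iv D6996) D6995
def n8919 : Q := act 2 n6996
theorem D8919 : act 2 n6996 = n8919 := rfl
def n8920 : Q := act 1 n6997
theorem D8920 : act 1 n6997 = n8920 := rfl
def n8927 : Q := act 2 n7003
theorem D8927 : act 2 n7003 = n8927 := rfl
def n8928 : Q := act 1 n7004
theorem D8928 : act 1 n7004 = n8928 := rfl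
theorem F7186 : act 3 n8928 = n8920 := d4_2 (iv F5526) D8928 (iv D8920)
def n8931 : Q := act 1 n7007
theorem D8931 : act 1 n7007 = n8931 := rfl
theorem F7188 : act 3 n8931 = n7118 := d4_2 (iv F5528) D8931 (iv D7118)
def n8935 : Q := act 1 n7010
theorem D8935 : act 1 n7010 = n8935 := rfl
def n8941 : Q := act 3 n7015
theorem D8941 : act 3 n7015 = n8941 := rfl
def n8942 : Q := act 2 n7016
theorem D8942 : act 2 n7016 = n8942 := rfl
def n8943 : Q := act 1 n7017
theorem D8943 : act 1 n7017 = n8943 := rfl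
theorem F7193 : act 3 n8943 = n8935 := d4_2 (iv F5536) D8943 (iv D8935)
def n8946 : Q := act 1 n7020
theorem D8946 : act 1 n7020 = n8946 := rfl
theorem F7197 : act 3 n8946 = n8878 := d4_2 (iv F5540) D8946 (iv D8878)
def n8947 : Q := act 2 n7021
theorem D8947 : act 2 n7021 = n8947 := rfl
theorem F7198 : act 0 n8947 = n7022 := d1_1 D8947 (iv D7022) (iv F5541)
def n8948 : Q := act 1 n7024
theorem D8948 : act 1 n7024 = n8948 := rfl
def n8949 : Q := act 3 n7024
theorem D8949 : act 3 n7024 = n8949 := rfl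
def n8950 : Q := act 2 n7025
theorem D8950 : act 2 n7025 = n8950 := rfl
theorem F7200 : act 1 n8950 = n7208 := d3_1 D8950 (iv D7208) (iv D5598) (iv F4232) (iv F5545)
def n8951 : Q := act 1 n7026
theorem D8951 : act 1 n7026 = n8951 := rfl
theorem F7201 : act 2 n8951 = n7210 := d3_2 D7026 D8951 (iv D7210) (iv D5600) (iv F4233)
def n8958 : Q := act 0 n7032
theorem D8958 : act 0 n7032 = n8958 := rfl
theorem F7206 : act 1 n8958 = n8721 := d0_2 D7032 D8958 (iv D8721) (iv D6841) (iv D5296) (iv D4041) (iv F2363) D4164 D5447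
def n8959 : Q := act 2 n7032
theorem D8959 : act 2 n7032 = n8959 := rfl
def n8961 : Q := act 2 n7034
theorem D8961 : act 2 n7034 = n8961 := rfl
def n8967 : Q := act 2 n7041
theorem D8967 : act 2 n7041 = n8967 := rfl
theorem F7211 : act 0 n8967 = n7042 := d1_1 D8967 (iv D7042) D7041
def n8968 : Q := act 3 n7041
theorem D8968 : act 3 n7041 = n8968 := rfl
theorem F7212 : act 0 n8968 = n7043 := d2_1 D8968 (iv D7043) D7041
theorem F7213 : act 1 n8968 = n7351 := d4_1 D8968 (iv D7351) (iv F5559)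
def n8971 : Q := act 1 n7046
theorem D8971 : act 1 n7046 = n8971 := rfl
theorem F7216 : act 2 n8971 = n7051 := d3_2 D7046 D8971 (iv D7051) (iv D5462) (iv F4244)
def n8975 : Q := act 1 n7049
theorem D8975 : act 1 n7049 = n8975 := rfl
theorem F7220 : act 2 n8975 = n7050 := d3_2 D7049 D8975 (iv D7050) (iv D5461) (iv F4245)
def n8977 : Q := act 0 n7051
theorem D8977 : act 0 n7051 = n8977 := rfl
def n8978 : Q := act 3 n7051
theorem D8978 : act 3 n7051 = n8978 := rfl
theorem F7221 : act 1 n8978 = n7052 := d4_1 D8978 (iv D7052) D7051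
theorem F7222 : act 2 n8147 = n8978 := d3_0 F7221 (iv F6088) F6087 (iv F4977) (iv F6509)
def n8979 : Q := act 1 n7053
theorem D8979 : act 1 n7053 = n8979 := rfl
theorem F7223 : act 2 n8979 = n7059 := d3_2 D7053 D8979 (iv D7059) (iv D5469) (iv F4250)
def n8982 : Q := act 1 n7056
theorem D8982 : act 1 n7056 = n8982 := rfl
def n8983 : Q := act 3 n7056
theorem D8983 : act 3 n7056 = n8983 := rfl
theorem F7225 : act 0 n8983 = n7057 := d2_1 D8983 (iv D7057) D7056
def n8984 : Q := act 2 n7057
theorem D8984 : act 2 n7057 = n8984 := rfl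
def n8985 : Q := act 1 n7058
theorem D8985 : act 1 n7058 = n8985 := rfl
theorem F7226 : act 3 n8985 = n7090 := d4_2 (iv F5576) D8985 (iv D7090)
def n8987 : Q := act 3 n7059
theorem D8987 : act 3 n7059 = n8987 := rfl
theorem F7227 : act 1 n8987 = n7060 := d4_1 D8987 (iv D7060) D7059
def n8988 : Q := act 2 n7061
theorem D8988 : act 2 n7061 = n8988 := rfl
theorem F7228 : act 0 n8988 = n8917 := d1_1 D8988 F7180 F6983
theorem F7229 : act 1 n8988 = n7085 := d3_1 D8988 (iv D7085) (iv D5493) (iv F4256) D7061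
def n8989 : Q := act 3 n7061
theorem D8989 : act 3 n7061 = n8989 := rfl
theorem F7230 : act 1 n8989 = n7062 := d4_1 D8989 (iv D7062) D7061
theorem F7231 : act 2 n7584 = n8989 := d3_0 F7230 F5580 F4618 D5904 D7584
def n8994 : Q := act 0 n7067
theorem D8994 : act 0 n7067 = n8994 := rfl
theorem F7235 : act 1 n8994 = n7651 := d0_2 D7067 D8994 (iv D7651) (iv D5957) F3507 (iv F3213) F3212 D4187 D5476
def n8996 : Q := act 3 n7067
theorem D8996 : act 3 n7067 = n8996 := rfl
theorem F7237 : act 1 n8996 = n7068 := d4_1 D8996 (iv D7068) D7067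
theorem F7238 : act 2 n8713 = n8996 := d3_0 F7237 F5585 F5381 D6832 D8713
def n8997 : Q := act 1 n7069
theorem D8997 : act 1 n7069 = n8997 := rfl
theorem F7239 : act 2 n8997 = n7070 := d3_2 D7069 D8997 (iv D7070) (iv D5478) (iv F4263)
theorem F7240 : act 3 n8997 = n8712 := d4_2 (iv F5587) D8997 (iv D8712)
def n9000 : Q := act 2 n7072
theorem D9000 : act 2 n7072 = n9000 := rfl
theorem F7242 : act 0 n9000 = n7406 := d1_1 D9000 (iv D7406) (iv F5589)
def n9001 : Q := act 2 n7073
theorem D9001 : act 2 n7073 = n9001 := rfl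
theorem F7243 : act 1 n9001 = n7405 := d3_1 D9001 (iv D7405) F4497 (iv F4267) D7073
def n9002 : Q := act 2 n7074
theorem D9002 : act 2 n7074 = n9002 := rfl
theorem F7244 : act 0 n9002 = n7387 := d1_1 D9002 (iv D7387) (iv F5592)
def n9004 : Q := act 2 n7075
theorem D9004 : act 2 n7075 = n9004 := rfl
def n9005 : Q := act 1 n7076
theorem D9005 : act 1 n7076 = n9005 := rfl
theorem F7248 : act 2 n9005 = n7077 := d3_2 D7076 D9005 (iv D7077) (iv D5484) (iv F4269)
def n9006 : Q := act 3 n7076
theorem D9006 : act 3 n7076 = n9006 := rfl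
def n9007 : Q := act 0 n7077
theorem D9007 : act 0 n7077 = n9007 := rfl
def n9008 : Q := act 1 n7078
theorem D9008 : act 1 n7078 = n9008 := rfl
def n9009 : Q := act 3 n7078
theorem D9009 : act 3 n7078 = n9009 := rfl
def n9015 : Q := act 2 n7082
theorem D9015 : act 2 n7082 = n9015 := rfl
theorem F7253 : act 1 n9015 = n7084 := d3_1 D9015 (iv D7084) (iv D5492) (iv F4274) D7082
def n9016 : Q := act 0 n7083
theorem D9016 : act 0 n7083 = n9016 := rfl
theorem F7254 : act 2 n9016 = n7805 := d1_2 (iv F5598) D9016 F6212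
theorem F7255 : act 3 n9016 = n9007 := d2_2 (iv F5599) D9016 (iv D9007)
def n9018 : Q := act 3 n7085
theorem D9018 : act 3 n7085 = n9018 := rfl
theorem F7257 : act 0 n9018 = n7091 := d2_1 D9018 (iv D7091) (iv F5601)
def n9019 : Q := act 2 n7086
theorem D9019 : act 2 n7086 = n9019 := rfl
theorem F7258 : act 0 n9019 = n7092 := d1_1 D9019 (iv D7092) (iv F5602)
theorem F7259 : act 1 n9019 = n7623 := d3_1 D9019 (iv D7623) (iv D5931) F4284 (iv F5603)
def n9021 : Q := act 1 n7088
theorem D9021 : act 1 n7088 = n9021 := rfl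
theorem F7262 : act 0 n9021 = n7633 := d0_1 D9021 (iv D7633) (iv D5940) (iv D4554) (iv F3225) F3226 (iv F3227) D5497 D7088
def n9022 : Q := act 3 n7088
theorem D9022 : act 3 n7088 = n9022 := rfl
theorem F7263 : act 0 n9022 = n7089 := d2_1 D9022 (iv D7089) D7088
def n9025 : Q := act 2 n7091
theorem D9025 : act 2 n7091 = n9025 := rfl
def n9026 : Q := act 3 n7092
theorem D9026 : act 3 n7092 = n9026 := rfl
theorem F7264 : act 1 n9026 = n8556 := d4_1 D9026 (iv F6896) F6895
def n9044 : Q := act 3 n7110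
theorem D9044 : act 3 n7110 = n9044 := rfl
theorem F7281 : act 0 n9044 = n7111 := d2_1 D9044 (iv D7111) (iv F5625)
def n9045 : Q := act 2 n7111
theorem D9045 : act 2 n7111 = n9045 := rfl
def n9046 : Q := act 3 n7112
theorem D9046 : act 3 n7112 = n9046 := rfl
theorem F7282 : act 1 n9046 = n8891 := d4_1 D9046 (iv F7166) F7165
def n9059 : Q := act 1 n7122
theorem D9059 : act 1 n7122 = n9059 := rfl
def n9060 : Q := act 3 n7122
theorem D9060 : act 3 n7122 = n9060 := rfl
theorem F7295 : act 0 n9060 = n7124 := d2_1 D9060 (iv D7124) (iv F5634)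
def n9061 : Q := act 2 n7123
theorem D9061 : act 2 n7123 = n9061 := rfl
theorem F7296 : act 0 n9061 = n7125 := d1_1 D9061 (iv D7125) (iv F5635)
def n9062 : Q := act 2 n7124
theorem D9062 : act 2 n7124 = n9062 := rfl
def n9063 : Q := act 3 n7125
theorem D9063 : act 3 n7125 = n9063 := rfl
theorem F7297 : act 1 n9063 = n7934 := d4_1 D9063 (iv F6328) F6327
def n9066 : Q := act 2 n7127
theorem D9066 : act 2 n7127 = n9066 := rfl
theorem F7299 : act 0 n9066 = n7129 := d1_1 D9066 (iv D7129) (iv F5637)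
theorem F7300 : act 3 n9066 = n7570 := d6_1 D9066 F6015 F4609 (iv D5536) (iv D4231) D4230 D5535 (iv F5637)
theorem F7301 : act 1 n7571 = n9066 := d4_3 F7300 (iv D7570) D7571
def n9067 : Q := act 1 n7128
theorem D9067 : act 1 n7128 = n9067 := rfl
def n9068 : Q := act 1 n7129
theorem D9068 : act 1 n7129 = n9068 := rfl
theorem F7302 : act 2 n9068 = n7138 := d3_2 D7129 D9068 (iv D7138) (iv D5542) (iv F4325)
def n9069 : Q := act 3 n7129
theorem D9069 : act 3 n7129 = n9069 := rfl
theorem F7304 : act 2 n9069 = n7572 := d5_1 D9069 F6016 (iv D7128) (iv D5534) D5533 D7127 D9066 F7300 F6015 F4609 (iv D5536) (iv D4231) D4230 D5535 D7129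
def n9073 : Q := act 1 n7135
theorem D9073 : act 1 n7135 = n9073 := rfl
def n9074 : Q := act 3 n7135
theorem D9074 : act 3 n7135 = n9074 := rfl
theorem F7307 : act 0 n9074 = n7136 := d2_1 D9074 (iv D7136) D7135
def n9075 : Q := act 2 n7136
theorem D9075 : act 2 n7136 = n9075 := rfl
def n9076 : Q := act 1 n7137
theorem D9076 : act 1 n7137 = n9076 := rfl
theorem F7308 : act 3 n9076 = n7488 := d4_2 (iv F5646) D9076 (iv D7488)
def n9077 : Q := act 0 n7138
theorem D9077 : act 0 n7138 = n9077 := rfl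
def n9079 : Q := act 2 n7140
theorem D9079 : act 2 n7140 = n9079 := rfl
theorem F7310 : act 0 n9079 = n7147 := d1_1 D9079 (iv D7147) (iv F5649)
def n9083 : Q := act 1 n7143
theorem D9083 : act 1 n7143 = n9083 := rfl
theorem F7315 : act 0 n9083 = n7268 := d0_1 D9083 F5765 F4409 F3311 (iv F2475) F2476 (iv F3256) D5546 D7143
def n9101 : Q := act 1 n7157
theorem D9101 : act 1 n7157 = n9101 := rfl
theorem F7329 : act 2 n9101 = n7158 := d3_2 D7157 D9101 (iv D7158) (iv D5559) (iv F4346)
def n9102 : Q := act 3 n7157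
theorem D9102 : act 3 n7157 = n9102 := rfl
theorem F7330 : act 0 n9102 = n7501 := d2_1 D9102 (iv D7501) (iv F5663)
def n9103 : Q := act 0 n7158
theorem D9103 : act 0 n7158 = n9103 := rfl
theorem F7331 : act 3 n9103 = n8947 := d2_2 (iv F5664) D9103 F7198
def n9119 : Q := act 1 n7175
theorem D9119 : act 1 n7175 = n9119 := rfl
theorem F7344 : act 2 n9119 = n8010 := d3_2 D7175 D9119 F6388 (iv F5684) F5683
def n9120 : Q := act 3 n7175
theorem D9120 : act 3 n7175 = n9120 := rfl
theorem F7346 : act 2 n9120 = n7200 := d5_1 D9120 (iv D7200) (iv D5591) (iv D4272) D4271 D5590 D7199 (iv F5980) (iv D7527) (iv D5853) (iv D4484) F2583 D4258 D5572 D7175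
def n9127 : Q := act 3 n7180
theorem D9127 : act 3 n7180 = n9127 := rfl
def n9128 : Q := act 2 n7181
theorem D9128 : act 2 n7181 = n9128 := rfl
def n9130 : Q := act 0 n7183
theorem D9130 : act 0 n7183 = n9130 := rfl
theorem F7351 : act 1 n9130 = n7189 := d0_2 D7183 D9130 (iv D7189) (iv D5582) (iv D4265) (iv D3217) (iv F2435) D4262 D5578
def n9137 : Q := act 3 n7187
theorem D9137 : act 3 n7187 = n9137 := rfl
theorem F7355 : act 0 n9137 = n7188 := d2_1 D9137 (iv D7188) (iv F5694)
theorem F7356 : act 2 n9137 = n7230 := d6_2 D7187 D9137 (iv D7230) (iv D5620) (iv D4294) F2458 D4264 (iv F4359)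
def n9138 : Q := act 2 n7188
theorem D9138 : act 2 n7188 = n9138 := rfl
theorem F7358 : act 3 n9138 = n7229 := d5_2 D7188 D9138 (iv D7229) (iv D5619) F3295 D5580 D7187 D9137 F7356 (iv D7230) (iv D5620) (iv D4294) F2458 D4264 D5581
def n9144 : Q := act 3 n7192
theorem D9144 : act 3 n7192 = n9144 := rfl
theorem F7361 : act 0 n9144 = n7193 := d2_1 D9144 (iv D7193) (iv F5696)
theorem F7362 : act 2 n9144 = n8802 := d6_2 D7192 D9144 (iv D8802) (iv D6905) (iv D5348) F3118 D4266 (iv F4360)
def n9145 : Q := act 2 n7193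
theorem D9145 : act 2 n7193 = n9145 := rfl
theorem F7363 : act 0 n9145 = n8802 := d1_1 D9145 (iv F7362) F7361
def n9148 : Q := act 2 n7196
theorem D9148 : act 2 n7196 = n9148 := rfl
def n9153 : Q := act 2 n7201
theorem D9153 : act 2 n7201 = n9153 := rfl
theorem F7368 : act 3 n9153 = n8782 := d6_1 D9153 (iv D8782) (iv D6891) (iv D5338) D5339 D6892 D8783 F7057
def n9161 : Q := act 0 n7210
theorem D9161 : act 0 n7210 = n9161 := rfl
def n9162 : Q := act 3 n7210
theorem D9162 : act 3 n7210 = n9162 := rfl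
theorem F7374 : act 1 n9162 = n7211 := d4_1 D9162 (iv D7211) D7210
def n9166 : Q := act 2 n7214
theorem D9166 : act 2 n7214 = n9166 := rfl
theorem F7378 : act 0 n9166 = n7216 := d1_1 D9166 (iv D7216) (iv F5717)
def n9168 : Q := act 1 n7216
theorem D9168 : act 1 n7216 = n9168 := rfl
theorem F7379 : act 2 n9168 = n7217 := d3_2 D7216 D9168 (iv D7217) (iv D5605) (iv F4378)
theorem F7380 : act 0 n8487 = n9168 := d6_8 F7379 (iv F5752) F5751 (iv D5662) F3321 D5133 D6650 D8487
theorem F7381 : act 3 n8486 = n9168 := d6_1 D8486 F7379 (iv F5752) F5751 (iv D5662) F3321 D5133 (iv F5227)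
def n9170 : Q := act 0 n7217
theorem D9170 : act 0 n7217 = n9170 := rfl
theorem F7383 : act 2 n9170 = n8487 := d1_2 F7379 D9170 F7380
def n9187 : Q := act 0 n7232
theorem D9187 : act 0 n7232 = n9187 := rfl
def n9188 : Q := act 3 n7232
theorem D9188 : act 3 n7232 = n9188 := rfl
theorem F7395 : act 1 n9188 = n7233 := d4_1 D9188 (iv D7233) D7232
def n9199 : Q := act 0 n7246
theorem D9199 : act 0 n7246 = n9199 := rfl
theorem F7404 : act 2 n9199 = n7248 := d1_2 (iv F5746) D9199 (iv D7248)
theorem F7405 : act 3 n7340 = n9199 := d6_7 F5746 (iv F4428) F4427 (iv D4363) (iv F3347) D5707 D7340 (iv D9199)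
def n9200 : Q := act 3 n7246
theorem D9200 : act 3 n7246 = n9200 := rfl
theorem F7407 : act 1 n9200 = n7247 := d4_1 D9200 (iv D7247) D7246
theorem F7408 : act 2 n9200 = n7339 := d5_1 D9200 (iv D7339) F4457 D5710 (iv F5778) F5779 (iv F7404) (iv F7405) (iv D7340) (iv D5707) F3347 D4363 (iv F4427) F4428 (iv F5746)
def n9215 : Q := act 0 n7257
theorem D9215 : act 0 n7257 = n9215 := rfl
theorem F7421 : act 2 n9215 = n7283 := d1_2 (iv F5751) D9215 F5777
theorem F7422 : act 3 n9215 = n9170 := d2_2 (iv F5752) D9215 (iv D9170)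
def n9216 : Q := act 2 n7259
theorem D9216 : act 2 n7259 = n9216 := rfl
theorem F7423 : act 0 n9216 = n8975 := d1_1 D9216 F7220 (iv F5755)
def n9218 : Q := act 3 n7261
theorem D9218 : act 3 n7261 = n9218 := rfl
theorem F7424 : act 1 n9218 = n7262 := d4_1 D9218 (iv D7262) D7261
def n9219 : Q := act 0 n7263
theorem D9219 : act 0 n7263 = n9219 := rfl
theorem F7425 : act 2 n9219 = n7271 := d1_2 (iv F5759) D9219 (iv D7271)
theorem F7426 : act 3 n8950 = n9219 := d6_7 F5759 F4412 F4242 F4108 (iv F4230) D7025 D8950 (iv D9219)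
def n9220 : Q := act 3 n7263
theorem D9220 : act 3 n7263 = n9220 := rfl
theorem F7428 : act 0 n9220 = n8950 := d2_1 D9220 F7426 (iv D9219)
theorem F7429 : act 1 n9220 = n7264 := d4_1 D9220 (iv D7264) D7263
theorem F7430 : act 2 n9220 = n8949 := d5_1 D9220 (iv D8949) F5544 (iv F5394) (iv F5558) (iv F5767) (iv F7425) (iv F7426) (iv D8950) (iv D7025) F4230 (iv F4108) (iv F4242) (iv F4412) (iv F5759)
def n9223 : Q := act 2 n7268
theorem D9223 : act 2 n7268 = n9223 := rfl
def n9232 : Q := act 0 n7276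
theorem D9232 : act 0 n7276 = n9232 := rfl
theorem F7443 : act 1 n9232 = n7314 := d0_2 D7276 D9232 (iv D7314) (iv D5686) (iv D4347) (iv D3289) (iv F2479) D4322 D5656
def n9233 : Q := act 2 n7276
theorem D9233 : act 2 n7276 = n9233 := rfl
theorem F7444 : act 1 n9233 = n7279 := d3_1 D9233 (iv D7279) (iv D5658) (iv F4418) D7276
def n9234 : Q := act 3 n7276
theorem D9234 : act 3 n7276 = n9234 := rfl
theorem F7445 : act 1 n9234 = n7277 := d4_1 D9234 (iv D7277) D7276
def n9236 : Q := act 3 n7278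
theorem D9236 : act 3 n7278 = n9236 := rfl
def n9237 : Q := act 3 n7279
theorem D9237 : act 3 n7279 = n9237 := rfl
def n9239 : Q := act 3 n7280
theorem D9239 : act 3 n7280 = n9239 := rfl
theorem F7449 : act 0 n9239 = n7281 := d2_1 D9239 (iv D7281) (iv F5775)
theorem F7450 : act 2 n9239 = n9236 := d6_2 D7280 D9239 (iv D9236) (iv D7278) (iv D5657) F3317 D4325 (iv F4422)
def n9240 : Q := act 2 n7281
theorem D9240 : act 2 n7281 = n9240 := rfl
theorem F7451 : act 0 n9240 = n9236 := d1_1 D9240 (iv F7450) F7449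
theorem F7452 : act 1 n9240 = n9223 := d3_1 D9240 (iv D9223) F5765 (iv F5741) (iv F5776)
def n9242 : Q := act 3 n7282
theorem D9242 : act 3 n7282 = n9242 := rfl
theorem F7455 : act 0 n9242 = n7344 := d2_1 D9242 F5834 F5791
theorem F7456 : act 1 n9242 = n7283 := d4_1 D9242 (iv D7283) D7282
def n9244 : Q := act 1 n7285
theorem D9244 : act 1 n7285 = n9244 := rfl
theorem F7458 : act 0 n9244 = n7330 := d0_1 D9244 (iv D7330) (iv D5699) (iv D4356) F2502 (iv F2487) (iv F3326) D5664 D7285
def n9245 : Q := act 3 n7285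
theorem D9245 : act 3 n7285 = n9245 := rfl
theorem F7459 : act 0 n9245 = n7286 := d2_1 D9245 (iv D7286) D7285
def n9249 : Q := act 3 n7288
theorem D9249 : act 3 n7288 = n9249 := rfl
theorem F7461 : act 1 n9249 = n7289 := d4_1 D9249 (iv D7289) D7288
def n9253 : Q := act 2 n7294
theorem D9253 : act 2 n7294 = n9253 := rfl
def n9255 : Q := act 3 n7295
theorem D9255 : act 3 n7295 = n9255 := rfl
def n9257 : Q := act 0 n7299
theorem D9257 : act 0 n7299 = n9257 := rfl
theorem F7469 : act 1 n9257 = n7300 := d0_2 D7299 D9257 (iv D7300) (iv D5676) (iv D4338) (iv D3281) (iv F2492) D4337 D5675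
theorem F7470 : act 3 n9257 = n8747 := d2_2 (iv F5798) D9257 (iv D8747)
def n9260 : Q := act 3 n7300
theorem D9260 : act 3 n7300 = n9260 := rfl
theorem F7472 : act 0 n9260 = n7302 := d2_1 D9260 (iv D7302) D7300
theorem F7473 : act 1 n9260 = n8747 := d4_1 D9260 (iv F7470) F7469
def n9262 : Q := act 2 n7302
theorem D9262 : act 2 n7302 = n9262 := rfl
def n9264 : Q := act 3 n7305
theorem D9264 : act 3 n7305 = n9264 := rfl
theorem F7476 : act 2 n9264 = n9255 := d6_2 D7305 D9264 (iv D9255) (iv D7295) (iv D5671) D5670 D7294 F5792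
def n9265 : Q := act 0 n7306
theorem D9265 : act 0 n7306 = n9265 := rfl
theorem F7477 : act 2 n9265 = n7308 := d1_2 (iv F5806) D9265 (iv D7308)
theorem F7478 : act 3 n8942 = n9265 := d6_7 F5806 (iv F5492) F5491 (iv D5434) (iv F4221) D7016 D8942 (iv D9265)
def n9266 : Q := act 3 n7306
theorem D9266 : act 3 n7306 = n9266 := rfl
theorem F7479 : act 0 n9266 = n8942 := d2_1 D9266 F7478 (iv D9265)
theorem F7480 : act 1 n9266 = n7307 := d4_1 D9266 (iv D7307) D7306
theorem F7481 : act 2 n9266 = n8941 := d5_1 D9266 (iv D8941) F5533 D7019 (iv F7136) F7137 (iv F7477) (iv F7478) (iv D8942) (iv D7016) F4221 D5434 (iv F5491) F5492 (iv F5806)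
def n9267 : Q := act 2 n7307
theorem D9267 : act 2 n7307 = n9267 := rfl
theorem F7483 : act 3 n9267 = n9253 := d5_2 D7307 D9267 (iv D9253) (iv D7294) (iv D5670) D5671 D7295 D9255 (iv F7476) (iv D9264) (iv D7305) (iv D5679) (iv D4340) D4341 D5680
def n9274 : Q := act 3 n7311
theorem D9274 : act 3 n7311 = n9274 := rfl
theorem F7486 : act 1 n9274 = n7312 := d4_1 D9274 (iv D7312) D7311
def n9275 : Q := act 2 n7312
theorem D9275 : act 2 n7312 = n9275 := rfl
def n9276 : Q := act 3 n7313
theorem D9276 : act 3 n7313 = n9276 := rfl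
theorem F7488 : act 1 n9276 = n9236 := d4_1 D9276 (iv D9236) (iv F5809)
def n9277 : Q := act 2 n7314
theorem D9277 : act 2 n7314 = n9277 := rfl
theorem F7489 : act 0 n9277 = n7315 := d1_1 D9277 (iv D7315) D7314
def n9278 : Q := act 3 n7314
theorem D9278 : act 3 n7314 = n9278 := rfl
theorem F7490 : act 0 n9278 = n7316 := d2_1 D9278 (iv D7316) D7314
def n9279 : Q := act 3 n7315
theorem D9279 : act 3 n7315 = n9279 := rfl
theorem F7491 : act 1 n9279 = n7322 := d4_1 D9279 (iv D7322) (iv F5810)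
def n9280 : Q := act 2 n7316
theorem D9280 : act 2 n7316 = n9280 := rfl
theorem F7492 : act 1 n9280 = n7747 := d3_1 D9280 (iv D7747) F5814 (iv D7317) (iv F5811)
def n9284 : Q := act 1 n7321
theorem D9284 : act 1 n7321 = n9284 := rfl
theorem F7496 : act 2 n9284 = n7323 := d3_2 D7321 D9284 (iv D7323) (iv D5692) (iv F4444)
def n9285 : Q := act 3 n7321
theorem D9285 : act 3 n7321 = n9285 := rfl
theorem F7497 : act 0 n9285 = n7322 := d2_1 D9285 (iv D7322) (iv F5819)
def n9286 : Q := act 2 n7322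
theorem D9286 : act 2 n7322 = n9286 := rfl
def n9287 : Q := act 0 n7323
theorem D9287 : act 0 n7323 = n9287 := rfl
def n9288 : Q := act 3 n7323
theorem D9288 : act 3 n7323 = n9288 := rfl
theorem F7498 : act 1 n9288 = n7324 := d4_1 D9288 (iv D7324) D7323
def n9291 : Q := act 1 n7327
theorem D9291 : act 1 n7327 = n9291 := rfl
def n9295 : Q := act 2 n7330
theorem D9295 : act 2 n7330 = n9295 := rfl
def n9308 : Q := act 2 n7338
theorem D9308 : act 2 n7338 = n9308 := rfl
theorem F7508 : act 1 n9308 = n7342 := d3_1 D9308 (iv D7342) (iv D5709) (iv F4457) D7338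
def n9309 : Q := act 3 n7338
theorem D9309 : act 3 n7338 = n9309 := rfl
theorem F7509 : act 1 n9309 = n7339 := d4_1 D9309 (iv D7339) D7338
def n9312 : Q := act 3 n7342
theorem D9312 : act 3 n7342 = n9312 := rfl
theorem F7512 : act 0 n9312 = n7890 := d2_1 D9312 (iv D7890) (iv F5831)
def n9314 : Q := act 2 n7344
theorem D9314 : act 2 n7344 = n9314 := rfl
theorem F7514 : act 1 n9314 = n7715 := d3_1 D9314 (iv D7715) F4700 (iv F4463) D7344
def n9319 : Q := act 1 n7350
theorem D9319 : act 1 n7350 = n9319 := rfl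
def n9320 : Q := act 3 n7350
theorem D9320 : act 3 n7350 = n9320 := rfl
theorem F7518 : act 0 n9320 = n7352 := d2_1 D9320 (iv D7352) (iv F5842)
def n9323 : Q := act 2 n7354
theorem D9323 : act 2 n7354 = n9323 := rfl
def n9324 : Q := act 0 n7355
theorem D9324 : act 0 n7355 = n9324 := rfl
theorem F7521 : act 2 n9324 = n7358 := d1_2 (iv F5847) D9324 (iv D7358)
def n9325 : Q := act 3 n7355
theorem D9325 : act 3 n7355 = n9325 := rfl
theorem F7522 : act 1 n9325 = n7356 := d4_1 D9325 (iv D7356) D7355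
def n9329 : Q := act 1 n7358
theorem D9329 : act 1 n7358 = n9329 := rfl
theorem F7527 : act 0 n9329 = n7366 := d0_1 D9329 (iv D7366) (iv D5727) (iv D4377) F2521 (iv F2515) (iv F3356) D5722 D7358
def n9332 : Q := act 0 n7361
theorem D9332 : act 0 n7361 = n9332 := rfl
def n9333 : Q := act 3 n7361
theorem D9333 : act 3 n7361 = n9333 := rfl
theorem F7529 : act 1 n9333 = n7362 := d4_1 D9333 (iv D7362) D7361
def n9336 : Q := act 2 n7366
theorem D9336 : act 2 n7366 = n9336 := rfl
theorem F7532 : act 1 n9336 = n7387 := d3_1 D9336 (iv D7387) (iv D5743) (iv F4475) D7366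
def n9352 : Q := act 3 n7379
theorem D9352 : act 3 n7379 = n9352 := rfl
def n9358 : Q := act 2 n7383
theorem D9358 : act 2 n7383 = n9358 := rfl
theorem F7555 : act 3 n9358 = n8446 := d6_1 D9358 (iv D8446) (iv D6617) F3955 (iv F2980) (iv F3961) (iv F4487) D7383
def n9359 : Q := act 3 n7384
theorem D9359 : act 3 n7384 = n9359 := rfl
theorem F7558 : act 2 n9359 = n8445 := d5_1 D9359 (iv D8445) F5198 (iv F3962) (iv F5211) (iv F5867) D9358 F7555 (iv D8446) (iv D6617) F3955 (iv F2980) (iv F3961) (iv F4487) D7384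
def n9370 : Q := act 0 n7393
theorem D9370 : act 0 n7393 = n9370 := rfl
theorem F7566 : act 1 n9370 = n7399 := d0_2 D7393 D9370 (iv D7399) (iv D5751) (iv D4398) (iv D3328) (iv F2527) D4394 D5747
def n9373 : Q := act 2 n7394
theorem D9373 : act 2 n7394 = n9373 := rfl
theorem F7568 : act 0 n9373 = n7395 := d1_1 D9373 (iv D7395) (iv F5874)
def n9381 : Q := act 3 n7399
theorem D9381 : act 3 n7399 = n9381 := rfl
theorem F7573 : act 0 n9381 = n7401 := d2_1 D9381 (iv D7401) D7399
def n9386 : Q := act 3 n7405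
theorem D9386 : act 3 n7405 = n9386 := rfl
theorem F7578 : act 0 n9386 = n7811 := d2_1 D9386 (iv D7811) (iv F5882)
def n9387 : Q := act 3 n7406
theorem D9387 : act 3 n7406 = n9387 := rfl
theorem F7579 : act 1 n9387 = n7810 := d4_1 D9387 (iv D7810) (iv F5883)
def n9392 : Q := act 3 n7411
theorem D9392 : act 3 n7411 = n9392 := rfl
theorem F7583 : act 0 n9392 = n7412 := d2_1 D9392 (iv D7412) (iv F5890)
theorem F7584 : act 2 n9392 = n9352 := d6_2 D7411 D9392 (iv D9352) (iv D7379) (iv D5737) F3364 D4407 (iv F4503)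
def n9416 : Q := act 1 n7437
theorem D9416 : act 1 n7437 = n9416 := rfl
def n9425 : Q := act 2 n7445
theorem D9425 : act 2 n7445 = n9425 := rfl
theorem F7611 : act 0 n9425 = n7777 := d1_1 D9425 (iv D7777) (iv F5920)
theorem F7613 : act 3 n8365 = n9425 := d2_0 F7611 (iv F6188) D8365
def n9435 : Q := act 3 n7453
theorem D9435 : act 3 n7453 = n9435 := rfl
theorem F7619 : act 1 n9435 = n7454 := d4_1 D9435 (iv D7454) D7453
def n9436 : Q := act 2 n7454
theorem D9436 : act 2 n7454 = n9436 := rfl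
theorem F7620 : act 0 n9436 = n7455 := d1_1 D9436 (iv D7455) (iv F5927)
theorem F7621 : act 3 n9436 = n7919 := d6_1 D9436 (iv D7919) (iv D6175) (iv D4743) F2750 D4435 D5793 (iv F5927)
def n9437 : Q := act 1 n7455
theorem D9437 : act 1 n7455 = n9437 := rfl
def n9438 : Q := act 3 n7455
theorem D9438 : act 3 n7455 = n9438 := rfl
theorem F7622 : act 0 n9438 = n7919 := d2_1 D9438 (iv F7621) F7620
theorem F7623 : act 2 n9438 = n7918 := d5_1 D9438 (iv D7918) (iv D6174) F3648 D5792 D7454 D9436 F7621 (iv D7919) (iv D6175) (iv D4743) F2750 D4435 D5793 D7455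
def n9452 : Q := act 1 n7468
theorem D9452 : act 1 n7468 = n9452 := rfl
def n9454 : Q := act 2 n7469
theorem D9454 : act 2 n7469 = n9454 := rfl
def n9457 : Q := act 2 n7471
theorem D9457 : act 2 n7471 = n9457 := rfl
theorem F7640 : act 1 n9457 = n9454 := d3_1 D9457 (iv D9454) F5940 (iv F4535) (iv F5941)
def n9464 : Q := act 1 n7478
theorem D9464 : act 1 n7478 = n9464 := rfl
def n9465 : Q := act 0 n7479
theorem D9465 : act 0 n7479 = n9465 := rfl
theorem F7646 : act 1 n9465 = n8212 := d0_2 D7479 D9465 F6560 F5034 F3829 F3423 F3421 D4452 D5814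
theorem F7647 : act 3 n8211 = n9465 := d4_0 F7646 (iv D8212) D8211
def n9467 : Q := act 3 n7479
theorem D9467 : act 3 n7479 = n9467 := rfl
theorem F7649 : act 0 n9467 = n8211 := d2_1 D9467 F7647 (iv D9465)
theorem F7650 : act 1 n9467 = n7480 := d4_1 D9467 (iv D7480) D7479
def n9468 : Q := act 2 n7480
theorem D9468 : act 2 n7480 = n9468 := rfl
def n9469 : Q := act 3 n7481
theorem D9469 : act 3 n7481 = n9469 := rfl
def n9473 : Q := act 1 n7484
theorem D9473 : act 1 n7484 = n9473 := rfl
theorem F7656 : act 2 n9473 = n7488 := d3_2 D7484 D9473 (iv D7488) (iv D5821) (iv F4548)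
def n9493 : Q := act 3 n7498
theorem D9493 : act 3 n7498 = n9493 := rfl
theorem F7668 : act 2 n9493 = n9469 := d6_2 D7498 D9493 (iv D9469) (iv D7481) (iv D5815) F3424 D4464 (iv F4557)
def n9494 : Q := act 2 n7499
theorem D9494 : act 2 n7499 = n9494 := rfl
theorem F7670 : act 3 n9494 = n9468 := d5_2 D7499 D9494 (iv D9468) (iv D7480) F4545 D5829 D7498 D9493 F7668 (iv D9469) (iv D7481) (iv D5815) F3424 D4464 D5830
def n9505 : Q := act 2 n7508
theorem D9505 : act 2 n7508 = n9505 := rfl
theorem F7681 : act 0 n9505 = n7510 := d1_1 D9505 (iv D7510) (iv F5966)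
def n9507 : Q := act 1 n7510
theorem D9507 : act 1 n7510 = n9507 := rfl
theorem F7682 : act 2 n9507 = n7511 := d3_2 D7510 D9507 (iv D7511) (iv D5839) (iv F4564)
def n9517 : Q := act 3 n7516
theorem D9517 : act 3 n7516 = n9517 := rfl
theorem F7686 : act 1 n9517 = n7517 := d4_1 D9517 (iv D7517) D7516
theorem F7687 : act 2 n9162 = n9517 := d3_0 F7686 F5972 F5679 (iv F5713) (iv F7374)
def n9518 : Q := act 1 n7518
theorem D9518 : act 1 n7518 = n9518 := rfl
theorem F7688 : act 2 n9518 = n7559 := d3_2 D7518 D9518 F6006 F4602 (iv F4568)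
def n9519 : Q := act 0 n7519
theorem D9519 : act 0 n7519 = n9519 := rfl
def n9520 : Q := act 3 n7519
theorem D9520 : act 3 n7519 = n9520 := rfl
theorem F7690 : act 1 n9520 = n7520 := d4_1 D9520 (iv D7520) D7519
def n9521 : Q := act 1 n7521
theorem D9521 : act 1 n7521 = n9521 := rfl
theorem F7691 : act 2 n9521 = n7525 := d3_2 D7521 D9521 (iv D7525) (iv D5851) (iv F4571)
def n9522 : Q := act 2 n7522
theorem D9522 : act 2 n7522 = n9522 := rfl
theorem F7692 : act 1 n9522 = n7524 := d3_1 D9522 (iv D7524) (iv D5850) (iv F4572) D7522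
def n9527 : Q := act 1 n7527
theorem D9527 : act 1 n7527 = n9527 := rfl
theorem F7695 : act 2 n9527 = n7998 := d3_2 D7527 D9527 F6378 F4877 (iv F4575)
def n9534 : Q := act 0 n7533
theorem D9534 : act 0 n7533 = n9534 := rfl
def n9539 : Q := act 1 n7537
theorem D9539 : act 1 n7537 = n9539 := rfl
theorem F7704 : act 2 n9539 = n7548 := d3_2 D7537 D9539 (iv D7548) (iv D5872) (iv F4584)
def n9542 : Q := act 1 n7539
theorem D9542 : act 1 n7539 = n9542 := rfl
theorem F7706 : act 2 n9542 = n7540 := d3_2 D7539 D9542 (iv D7540) (iv D5865) (iv F4585)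
def n9545 : Q := act 3 n7540
theorem D9545 : act 3 n7540 = n9545 := rfl
theorem F7707 : act 1 n9545 = n7541 := d4_1 D9545 (iv D7541) D7540
def n9546 : Q := act 1 n7542
theorem D9546 : act 1 n7542 = n9546 := rfl
theorem F7708 : act 2 n9546 = n8031 := d3_2 D7542 D9546 F6401 F4895 F4590
theorem F7709 : act 3 n9546 = n7578 := d4_2 (iv F5991) D9546 (iv D7578)
def n9554 : Q := act 0 n7548
theorem D9554 : act 0 n7548 = n9554 := rfl
theorem F7713 : act 1 n9554 = n9519 := d0_2 D7548 D9554 (iv D9519) (iv D7519) F4569 F3443 (iv F2590) (iv F3457) (iv F4591)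
theorem F7714 : act 3 n9554 = n8046 := d2_2 (iv F5995) D9554 F6413
def n9555 : Q := act 2 n7549
theorem D9555 : act 2 n7549 = n9555 := rfl
theorem F7715 : act 0 n9555 = n7550 := d1_1 D9555 (iv D7550) D7549
def n9556 : Q := act 3 n7550
theorem D9556 : act 3 n7550 = n9556 := rfl
def n9558 : Q := act 0 n7552
theorem D9558 : act 0 n7552 = n9558 := rfl
def n9561 : Q := act 2 n7554
theorem D9561 : act 2 n7554 = n9561 := rfl
def n9565 : Q := act 1 n7558
theorem D9565 : act 1 n7558 = n9565 := rfl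
def n9570 : Q := act 2 n7562
theorem D9570 : act 2 n7562 = n9570 := rfl
def n9572 : Q := act 3 n7563
theorem D9572 : act 3 n7563 = n9572 := rfl
theorem F7727 : act 2 n9572 = n8324 := d6_2 D7563 D9572 (iv D8324) (iv D6515) (iv F3893) D5885 D7562 F6009
def n9573 : Q := act 0 n7564
theorem D9573 : act 0 n7564 = n9573 := rfl
theorem F7728 : act 2 n9573 = n7566 := d1_2 (iv F6010) D9573 (iv D7566)
theorem F7729 : act 3 n7635 = n9573 := d6_7 F6010 (iv F4629) F4628 (iv D4557) (iv F3500) D5941 D7635 (iv D9573)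
def n9574 : Q := act 3 n7564
theorem D9574 : act 3 n7564 = n9574 := rfl
theorem F7730 : act 0 n9574 = n7635 := d2_1 D9574 F7729 (iv D9573)
theorem F7731 : act 1 n9574 = n7565 := d4_1 D9574 (iv D7565) D7564
theorem F7732 : act 2 n9574 = n7634 := d5_1 D9574 (iv D7634) F4644 D5944 (iv F6042) F6043 (iv F7728) (iv F7729) (iv D7635) (iv D5941) F3500 D4557 (iv F4628) F4629 (iv F6010)
def n9575 : Q := act 2 n7565
theorem D9575 : act 2 n7565 = n9575 := rfl
theorem F7734 : act 3 n9575 = n9570 := d5_2 D7565 D9575 (iv D9570) (iv D7562) (iv D5885) F3893 D6515 D8324 (iv F7727) (iv D9572) (iv D7563) (iv D5886) (iv D4510) D4511 D5887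
def n9576 : Q := act 1 n7566
theorem D9576 : act 1 n7566 = n9576 := rfl
theorem F7735 : act 0 n9576 = n9565 := d0_1 D9576 (iv D9565) (iv D7558) (iv D5882) F3468 (iv F2601) (iv F3471) D5888 D7566
def n9591 : Q := act 1 n7581
theorem D9591 : act 1 n7581 = n9591 := rfl
def n9593 : Q := act 2 n7582
theorem D9593 : act 2 n7582 = n9593 := rfl
theorem F7749 : act 1 n9593 = n9561 := d3_1 D9593 (iv D9561) F5999 (iv F4616) (iv F6021)
def n9596 : Q := act 0 n7584
theorem D9596 : act 0 n7584 = n9596 := rfl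
theorem F7751 : act 3 n9596 = n9558 := d2_2 (iv F6022) D9596 (iv D9558)
def n9606 : Q := act 1 n7594
theorem D9606 : act 1 n7594 = n9606 := rfl

end Cfsg.Agent.Helper17.SuzP3TC
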