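import Cfsg.Agent.Helper17.SuzP3TC.Facts1

set_option autoImplicit false
set_option linter.all false

noncomputable section

namespace Cfsg.Agent.Helper17.SuzP3TC

def n9618 : Q := act 2 n7604
theorem D9618 : act 2 n7604 = n9618 := rfl
theorem F7764 : act 0 n9618 = n8226 := d1_1 D9618 (iv D8226) (iv F6040)
def n9622 : Q := act 2 n7607
theorem D9622 : act 2 n7607 = n9622 := rfl
def n9626 : Q := act 2 n7610
theorem D9626 : act 2 n7610 = n9626 := rfl
def n9632 : Q := act 0 n7616
theorem D9632 : act 0 n7616 = n9632 := rfl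
def n9637 : Q := act 2 n7622
theorem D9637 : act 2 n7622 = n9637 := rfl
def n9645 : Q := act 0 n7630
theorem D9645 : act 0 n7630 = n9645 := rfl
def n9649 : Q := act 3 n7633
theorem D9649 : act 3 n7633 = n9649 := rfl
theorem F7788 : act 1 n9649 = n7634 := d4_1 D9649 (iv D7634) D7633
def n9650 : Q := act 1 n7635
theorem D9650 : act 1 n7635 = n9650 := rfl
theorem F7789 : act 2 n9650 = n7636 := d3_2 D7635 D9650 (iv D7636) (iv D5942) (iv F4645)
def n9651 : Q := act 0 n7636
theorem D9651 : act 0 n7636 = n9651 := rfl
theorem F7790 : act 3 n9651 = n9645 := d2_2 (iv F6069) D9651 (iv D9645)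
def n9654 : Q := act 2 n7639
theorem D9654 : act 2 n7639 = n9654 := rfl
theorem F7792 : act 1 n9654 = n7735 := d3_1 D9654 (iv D7735) F4709 (iv F4649) D7639
def n9660 : Q := act 0 n7643
theorem D9660 : act 0 n7643 = n9660 := rfl
def n9669 : Q := act 0 n7649
theorem D9669 : act 0 n7649 = n9669 := rfl
theorem F7802 : act 3 n9669 = n9660 := d2_2 (iv F6078) D9669 (iv D9660)
def n9684 : Q := act 3 n7662
theorem D9684 : act 3 n7662 = n9684 := rfl
theorem F7813 : act 2 n9684 = n9276 := d6_2 D7662 D9684 (iv D9276) (iv D7313) (iv D5685) F3336 D4572 (iv F4665)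
def n9685 : Q := act 2 n7663
theorem D9685 : act 2 n7663 = n9685 := rfl
theorem F7815 : act 3 n9685 = n9275 := d5_2 D7663 D9685 (iv D9275) (iv D7312) F4440 D5964 D7662 D9684 F7813 (iv D9276) (iv D7313) (iv D5685) F3336 D4572 D5965
def n9707 : Q := act 1 n7679
theorem D9707 : act 1 n7679 = n9707 := rfl
theorem F7833 : act 0 n9707 = n7692 := d0_1 D9707 (iv D7692) (iv D5990) (iv D4589) F2646 (iv F2637) (iv F3516) D5980 D7679
def n9708 : Q := act 3 n7679
theorem D9708 : act 3 n7679 = n9708 := rfl
theorem F7834 : act 0 n9708 = n7680 := d2_1 D9708 (iv D7680) D7679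
def n9709 : Q := act 2 n7680
theorem D9709 : act 2 n7680 = n9709 := rfl
def n9712 : Q := act 0 n7684
theorem D9712 : act 0 n7684 = n9712 := rfl
theorem F7836 : act 2 n9712 = n7696 := d1_2 (iv F6106) D9712 (iv D7696)
def n9713 : Q := act 3 n7684
theorem D9713 : act 3 n7684 = n9713 := rfl
def n9719 : Q := act 2 n7691
theorem D9719 : act 2 n7691 = n9719 := rfl
def n9722 : Q := act 2 n7693
theorem D9722 : act 2 n7693 = n9722 := rfl
theorem F7845 : act 0 n9722 = n7694 := d1_1 D9722 (iv D7694) (iv F6117)
def n9723 : Q := act 1 n7694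
theorem D9723 : act 1 n7694 = n9723 := rfl
theorem F7846 : act 2 n9723 = n7695 := d3_2 D7694 D9723 (iv D7695) (iv D5992) (iv F4688)
def n9724 : Q := act 3 n7694
theorem D9724 : act 3 n7694 = n9724 := rfl
def n9726 : Q := act 1 n7696
theorem D9726 : act 1 n7696 = n9726 := rfl
def n9727 : Q := act 3 n7696
theorem D9727 : act 3 n7696 = n9727 := rfl
theorem F7848 : act 0 n9727 = n7697 := d2_1 D9727 (iv D7697) D7696
def n9753 : Q := act 3 n7719
theorem D9753 : act 3 n7719 = n9753 := rfl
theorem F7870 : act 0 n9753 = n7721 := d2_1 D9753 (iv D7721) (iv F6135)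
theorem F7871 : act 2 n9753 = n9724 := d6_2 D7719 D9753 (iv D9724) (iv D7694) (iv D5991) F3523 D4606 (iv F4702)
def n9756 : Q := act 2 n7721
theorem D9756 : act 2 n7721 = n9756 := rfl
theorem F7874 : act 0 n9756 = n9724 := d1_1 D9756 (iv F7871) F7870
def n9758 : Q := act 0 n7723
theorem D9758 : act 0 n7723 = n9758 := rfl
theorem F7876 : act 1 n9758 = n7729 := d0_2 D7723 D9758 (iv D7729) (iv D6018) (iv D4612) (iv D3494) (iv F2654) D4608 D6014
def n9761 : Q := act 2 n7724
theorem D9761 : act 2 n7724 = n9761 := rfl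
def n9770 : Q := act 3 n7730
theorem D9770 : act 3 n7730 = n9770 := rfl
def n9780 : Q := act 1 n7743
theorem D9780 : act 1 n7743 = n9780 := rfl
theorem F7894 : act 0 n9780 = n7748 := d0_1 D9780 (iv D7748) (iv D6033) (iv D4626) F2672 (iv F2669) (iv F3554) D6029 D7743
def n9782 : Q := act 2 n7744
theorem D9782 : act 2 n7744 = n9782 := rfl
def n9783 : Q := act 1 n7745
theorem D9783 : act 1 n7745 = n9783 := rfl
theorem F7896 : act 3 n9783 = n9280 := d4_2 F6163 D9783 F7492
def n9793 : Q := act 1 n7754
theorem D9793 : act 1 n7754 = n9793 := rfl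
theorem F7903 : act 2 n9793 = n9416 := d3_2 D7754 D9793 (iv D9416) (iv D7437) (iv F4721)
def n9794 : Q := act 3 n7754
theorem D9794 : act 3 n7754 = n9794 := rfl
theorem F7905 : act 2 n9794 = n8074 := d6_2 D7754 D9794 (iv D8074) (iv D6300) (iv D4842) F2811 D4631 (iv F4720)
def n9795 : Q := act 2 n7755
theorem D9795 : act 2 n7755 = n9795 := rfl
theorem F7907 : act 1 n9795 = n9709 := d3_1 D9795 (iv D9709) F6103 D7681 (iv F6167)
theorem F7908 : act 3 n9795 = n8073 := d5_2 D7755 D9795 (iv D8073) (iv D6299) F3731 D6038 D7754 D9794 F7905 (iv D8074) (iv D6300) (iv D4842) F2811 D4631 D6039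
def n9806 : Q := act 3 n7763
theorem D9806 : act 3 n7763 = n9806 := rfl
theorem F7918 : act 1 n9806 = n7764 := d4_1 D9806 (iv D7764) D7763
def n9807 : Q := act 2 n7764
theorem D9807 : act 2 n7764 = n9807 := rfl
theorem F7919 : act 0 n9807 = n7766 := d1_1 D9807 (iv D7766) (iv F6175)
def n9809 : Q := act 3 n7765
theorem D9809 : act 3 n7765 = n9809 := rfl
def n9810 : Q := act 1 n7766
theorem D9810 : act 1 n7766 = n9810 := rfl
theorem F7922 : act 2 n9810 = n7772 := d3_2 D7766 D9810 (iv D7772) (iv D6054) (iv F4731)
def n9811 : Q := act 3 n7766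
theorem D9811 : act 3 n7766 = n9811 := rfl
theorem F7923 : act 2 n9811 = n9809 := d6_2 D7766 D9811 (iv D9809) (iv D7765) (iv D6048) D6047 D7764 F6175
def n9812 : Q := act 2 n7767
theorem D9812 : act 2 n7767 = n9812 := rfl
theorem F7926 : act 3 n9812 = n9807 := d5_2 D7767 D9812 (iv D9807) (iv D7764) (iv D6047) D6048 D7765 D9809 (iv F7923) (iv D9811) (iv D7766) (iv D6049) (iv D4640) D4641 D6050
def n9818 : Q := act 3 n7772
theorem D9818 : act 3 n7772 = n9818 := rfl
theorem F7931 : act 1 n9818 = n7773 := d4_1 D9818 (iv D7773) D7772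
def n9823 : Q := act 2 n7778
theorem D9823 : act 2 n7778 = n9823 := rfl
theorem F7934 : act 0 n9823 = n7787 := d1_1 D9823 (iv D7787) (iv F6189)
def n9824 : Q := act 3 n7778
theorem D9824 : act 3 n7778 = n9824 := rfl
theorem F7935 : act 0 n9824 = n7788 := d2_1 D9824 (iv D7788) (iv F6189)
theorem F7936 : act 1 n9824 = n7779 := d4_1 D9824 (iv D7779) D7778
def n9825 : Q := act 2 n7779
theorem D9825 : act 2 n7779 = n9825 := rfl
theorem F7937 : act 0 n9825 = n7780 := d1_1 D9825 (iv D7780) (iv F6190)
theorem F7939 : act 1 n9632 = n9825 := d0_0 F7937 F6191 F5037 (iv F3840) F3839 (iv F3494) (iv F4633) D7616 D9632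
def n9830 : Q := act 0 n7784
theorem D9830 : act 0 n7784 = n9830 := rfl
theorem F7943 : act 2 n9830 = n9332 := d1_2 (iv F6196) D9830 (iv D9332)
def n9835 : Q := act 1 n7789
theorem D9835 : act 1 n7789 = n9835 := rfl
def n9855 : Q := act 1 n7804
theorem D9855 : act 1 n7804 = n9855 := rfl
theorem F7961 : act 2 n9855 = n8185 := d3_2 D7804 D9855 (iv D8185) (iv F5018) F5017
def n9856 : Q := act 3 n7804
theorem D9856 : act 3 n7804 = n9856 := rfl
def n9857 : Q := act 2 n7806
theorem D9857 : act 2 n7806 = n9857 := rfl
def n9862 : Q := act 2 n7810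
theorem D9862 : act 2 n7810 = n9862 := rfl
theorem F7965 : act 0 n9862 = n8471 := d1_1 D9862 (iv D8471) (iv F6216)
theorem F7966 : act 3 n9862 = n7833 := d5_2 D7810 D9862 (iv D7833) (iv D6103) (iv D4685) (iv F2984) D5120 D6637 D8471 F6780 (iv D7809) (iv D6085) (iv D4672) D4673 D6086
def n9870 : Q := act 1 n7818
theorem D9870 : act 1 n7818 = n9870 := rfl
theorem F7972 : act 3 n9870 = n9835 := d4_2 (iv F6225) D9870 (iv D9835)
def n9889 : Q := act 2 n7836
theorem D9889 : act 2 n7836 = n9889 := rfl
theorem F7986 : act 3 n9889 = n8156 := d6_1 D9889 (iv D8156) (iv D6370) (iv D4901) D4902 D6371 D8158 F6518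
def n9897 : Q := act 3 n7843
theorem D9897 : act 3 n7843 = n9897 := rfl
theorem F7990 : act 1 n9897 = n7844 := d4_1 D9897 (iv D7844) D7843
def n9898 : Q := act 0 n7846
theorem D9898 : act 0 n7846 = n9898 := rfl
theorem F7991 : act 1 n9898 = n7847 := d0_2 D7846 D9898 (iv D7847) (iv D6116) (iv D4696) (iv D3567) (iv F2719) D4695 D6115
def n9899 : Q := act 2 n7846
theorem D9899 : act 2 n7846 = n9899 := rfl
def n9900 : Q := act 2 n7847
theorem D9900 : act 2 n7847 = n9900 := rfl
def n9901 : Q := act 3 n7847
theorem D9901 : act 3 n7847 = n9901 := rfl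
theorem F7994 : act 0 n9901 = n7849 := d2_1 D9901 (iv D7849) D7847
theorem F7996 : act 2 n8212 = n9901 := d1_0 F7994 (iv F6252) (iv F6560)
def n9902 : Q := act 3 n7848
theorem D9902 : act 3 n7848 = n9902 := rfl
theorem F7997 : act 1 n9902 = n7851 := d4_1 D9902 (iv D7851) (iv F6250)
def n9903 : Q := act 1 n7850
theorem D9903 : act 1 n7850 = n9903 := rfl
theorem F7998 : act 2 n9903 = n7852 := d3_2 D7850 D9903 (iv D7852) (iv D6121) (iv F4781)
def n9904 : Q := act 3 n7850
theorem D9904 : act 3 n7850 = n9904 := rfl
theorem F7999 : act 0 n9904 = n7851 := d2_1 D9904 (iv D7851) (iv F6253)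
def n9918 : Q := act 0 n7860
theorem D9918 : act 0 n7860 = n9918 := rfl
theorem F8012 : act 2 n9918 = n7873 := d1_2 (iv F6259) D9918 F6269
theorem F8013 : act 3 n9918 = n8161 := d2_2 (iv F6260) D9918 (iv D8161)
def n9920 : Q := act 0 n7862
theorem D9920 : act 0 n7862 = n9920 := rfl
theorem F8014 : act 1 n9920 = n7885 := d0_2 D7862 D9920 (iv D7885) (iv D6146) (iv D4721) (iv D3588) (iv F2725) D4705 D6129
def n9926 : Q := act 1 n7866
theorem D9926 : act 1 n7866 = n9926 := rfl
theorem F8018 : act 0 n9926 = n9464 := d0_1 D9926 (iv D9464) F5947 F4544 F3831 (iv F5026) F5025 (iv F4793) (iv F6262)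
def n9933 : Q := act 2 n7872
theorem D9933 : act 2 n7872 = n9933 := rfl
def n9937 : Q := act 0 n7877
theorem D9937 : act 0 n7877 = n9937 := rfl
theorem F8031 : act 2 n9937 = n8768 := d1_2 (iv F6273) D9937 (iv D8768)
def n9938 : Q := act 3 n7877
theorem D9938 : act 3 n7877 = n9938 := rfl
theorem F8032 : act 1 n9938 = n7878 := d4_1 D9938 (iv D7878) D7877
def n9947 : Q := act 3 n7885
theorem D9947 : act 3 n7885 = n9947 := rfl
theorem F8040 : act 0 n9947 = n7887 := d2_1 D9947 (iv D7887) D7885
theorem F8041 : act 2 n9669 = n9947 := d1_0 F8040 (iv F6284) D9669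
def n9948 : Q := act 3 n7886
theorem D9948 : act 3 n7886 = n9948 := rfl
theorem F8042 : act 1 n9948 = n7890 := d4_1 D9948 (iv D7890) (iv F6282)
def n9951 : Q := act 2 n7890
theorem D9951 : act 2 n7890 = n9951 := rfl
def n9976 : Q := act 1 n7911
theorem D9976 : act 1 n7911 = n9976 := rfl
theorem F8066 : act 0 n9976 = n8077 := d0_1 D9976 F6446 F4924 F3734 (iv F2815) F2816 (iv F3644) D6166 D7911
def n9982 : Q := act 1 n7915
theorem D9982 : act 1 n7915 = n9982 := rfl
def n9983 : Q := act 3 n7915
theorem D9983 : act 3 n7915 = n9983 := rfl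
theorem F8072 : act 0 n9983 = n7916 := d2_1 D9983 (iv D7916) (iv F6310)
theorem F8073 : act 2 n9983 = n8742 := d6_2 D7915 D9983 (iv D8742) F5403 D6858 (iv F5405) (iv D6173) D6171
def n9984 : Q := act 2 n7916
theorem D9984 : act 2 n7916 = n9984 := rfl
theorem F8075 : act 3 n9984 = n8741 := d5_2 D7916 D9984 F7017 F5912 F5911 (iv F4921) D7915 D9983 F8073 (iv D8742) F5403 D6858 (iv F5405) (iv D6173) D6172
def n9987 : Q := act 1 n7919
theorem D9987 : act 1 n7919 = n9987 := rfl
def n9989 : Q := act 2 n7921
theorem D9989 : act 2 n7921 = n9989 := rfl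
def n9993 : Q := act 0 n7926
theorem D9993 : act 0 n7926 = n9993 := rfl
theorem F8081 : act 1 n9993 = n7932 := d0_2 D7926 D9993 (iv D7932) (iv D6184) (iv D4751) (iv D3609) (iv F2753) D4747 D6180
def n9994 : Q := act 2 n7926
theorem D9994 : act 2 n7926 = n9994 := rfl
theorem F8082 : act 1 n9994 = n7944 := d3_1 D9994 (iv D7944) (iv D6193) (iv F4827) D7926
def n10003 : Q := act 3 n7932
theorem D10003 : act 3 n7932 = n10003 := rfl
def n10004 : Q := act 2 n7933
theorem D10004 : act 2 n7933 = n10004 := rfl
def n10016 : Q := act 2 n7946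
theorem D10016 : act 2 n7946 = n10016 := rfl
def n10038 : Q := act 0 n7965
theorem D10038 : act 0 n7965 = n10038 := rfl
def n10040 : Q := act 1 n7967
theorem D10040 : act 1 n7967 = n10040 := rfl
theorem F8117 : act 2 n10040 = n8022 := d3_2 D7967 D10040 F6396 F4889 (iv F4850)
def n10051 : Q := act 3 n7976
theorem D10051 : act 3 n7976 = n10051 := rfl
theorem F8131 : act 1 n10051 = n7977 := d4_1 D10051 (iv D7977) D7976
def n10053 : Q := act 3 n7978
theorem D10053 : act 3 n7978 = n10053 := rfl
theorem F8134 : act 1 n10053 = n9556 := d4_1 D10053 (iv D9556) (iv F6364)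
def n10054 : Q := act 1 n7979
theorem D10054 : act 1 n7979 = n10054 := rfl
theorem F8135 : act 2 n10054 = n8050 := d3_2 D7979 D10054 (iv D8050) (iv D6280) (iv F4863)
def n10055 : Q := act 3 n7979
theorem D10055 : act 3 n7979 = n10055 := rfl
theorem F8136 : act 2 n10055 = n10053 := d6_2 D7979 D10055 (iv D10053) (iv D7978) (iv D6220) D6219 D7977 F6362
def n10067 : Q := act 0 n7987
theorem D10067 : act 0 n7987 = n10067 := rfl
theorem F8150 : act 3 n9782 = n10067 := d6_7 F6368 D7990 (iv F6370) (iv D6282) (iv F4714) D7744 D9782 (iv D10067)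
def n10073 : Q := act 0 n7993
theorem D10073 : act 0 n7993 = n10073 := rfl
theorem F8162 : act 3 n10073 = n9534 := d2_2 (iv F6374) D10073 (iv D9534)
def n10074 : Q := act 3 n7994
theorem D10074 : act 3 n7994 = n10074 := rfl
theorem F8164 : act 1 n10074 = n7996 := d4_1 D10074 (iv D7996) (iv F6376)
def n10123 : Q := act 3 n8030
theorem D10123 : act 3 n8030 = n10123 := rfl
theorem F8203 : act 0 n10123 = n8031 := d2_1 D10123 (iv D8031) D8030
def n10133 : Q := act 1 n8041
theorem D10133 : act 1 n8041 = n10133 := rfl
def n10137 : Q := act 2 n8043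
theorem D10137 : act 2 n8043 = n10137 := rfl
theorem F8221 : act 3 n10137 = n9539 := d6_1 D10137 F7704 F5995 (iv D6277) (iv D4824) (iv F3714) D6274 (iv F6412)
def n10138 : Q := act 3 n8044
theorem D10138 : act 3 n8044 = n10138 := rfl
theorem F8224 : act 2 n10138 = n9554 := d5_1 D10138 F7714 (iv D8046) (iv D6276) (iv F4902) D8043 D10137 F8221 F7704 F5995 (iv D6277) (iv D4824) (iv F3714) D6274 D8044
def n10140 : Q := act 1 n8046
theorem D10140 : act 1 n8046 = n10140 := rfl
theorem F8225 : act 0 n10140 = n9520 := d0_1 D10140 F7690 F5975 F4571 (iv F3459) (iv F4592) (iv F4857) (iv F4905) (iv F6413)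
theorem F8226 : act 3 n10140 = n9519 := d4_2 F7714 D10140 (iv F7713)
def n10145 : Q := act 2 n8051
theorem D10145 : act 2 n8051 = n10145 := rfl
def n10146 : Q := act 3 n8051
theorem D10146 : act 3 n8051 = n10146 := rfl
theorem F8231 : act 0 n10146 = n8128 := d2_1 D10146 F6489 F6433
def n10156 : Q := act 1 n8061
theorem D10156 : act 1 n8061 = n10156 := rfl
theorem F8240 : act 3 n10156 = n8174 := d4_2 F6427 D10156 (iv D8174)
theorem F8241 : act 2 n9320 = n10156 := d6_0 F8240 F6531 F5005 F5002 (iv D5717) D5716 D7352 (iv F7518)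
def n10158 : Q := act 2 n8064
theorem D10158 : act 2 n8064 = n10158 := rfl
theorem F8246 : act 0 n10158 = n10145 := d1_1 D10158 (iv D10145) (iv F6433)
theorem F8247 : act 1 n10158 = n9320 := d3_1 D10158 F8241 (iv D10156) F6426 D8064
theorem F8248 : act 3 n9319 = n10158 := d4_0 F8247 (iv D9320) D9319
def n10164 : Q := act 1 n8073
theorem D10164 : act 1 n8073 = n10164 := rfl
theorem F8253 : act 2 n10164 = n9982 := d3_2 D8073 D10164 (iv D9982) (iv D7915) (iv F4923)
theorem F8254 : act 3 n10164 = n9709 := d4_2 F7908 D10164 (iv F7907)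
def n10177 : Q := act 0 n8086
theorem D10177 : act 0 n8086 = n10177 := rfl
def n10180 : Q := act 2 n8087
theorem D10180 : act 2 n8087 = n10180 := rfl
theorem F8267 : act 3 n10180 = n8245 := d6_1 D10180 (iv D8245) (iv D6450) F3849 F2883 (iv F3738) D6310 (iv F6454)
def n10181 : Q := act 3 n8088
theorem D10181 : act 3 n8088 = n10181 := rfl
theorem F8269 : act 1 n10181 = n10138 := d4_1 D10181 (iv D10138) (iv F6455)
theorem F8270 : act 2 n10181 = n8244 := d5_1 D10181 (iv D8244) F5062 F3850 (iv F4927) D8087 D10180 F8267 (iv D8245) (iv D6450) F3849 F2883 (iv F3738) D6310 D8088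
def n10182 : Q := act 2 n8089
theorem D10182 : act 2 n8089 = n10182 := rfl
theorem F8271 : act 0 n10182 = n8090 := d1_1 D10182 (iv D8090) D8089
theorem F8272 : act 3 n10182 = n9015 := d6_1 D10182 (iv D9015) F5597 F4757 F3592 (iv F4752) (iv F4929) D8089
def n10184 : Q := act 1 n8091
theorem D10184 : act 1 n8091 = n10184 := rfl
theorem F8277 : act 2 n10184 = n8611 := d3_2 (iv F6458) D10184 F6911 (iv D7373) (iv F5861)
theorem F8278 : act 3 n10184 = n10133 := d4_2 (iv F6459) D10184 (iv D10133)
theorem F8280 : act 0 n10133 = n8610 := d6_8 (iv D8610) (iv D6747) (iv D5217) D5218 D6748 D8611 (iv F8277) F8278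
theorem F8281 : act 1 n8610 = n10177 := d0_2 D10133 F8280 (iv D10177) (iv D8086) (iv D6309) (iv D4850) (iv F3713) D6272 D8041
def n10200 : Q := act 2 n8104
theorem D10200 : act 2 n8104 = n10200 := rfl
theorem F8297 : act 1 n10200 = n9323 := d3_1 D10200 (iv D9323) (iv D7354) (iv F5845) (iv F6473)
def n10201 : Q := act 1 n8105
theorem D10201 : act 1 n8105 = n10201 := rfl
theorem F8298 : act 2 n10201 = n8106 := d3_2 D8105 D10201 (iv D8106) (iv D6324) (iv F4939)
def n10202 : Q := act 3 n8105
theorem D10202 : act 3 n8105 = n10202 := rfl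
def n10233 : Q := act 2 n8128
theorem D10233 : act 2 n8128 = n10233 := rfl
theorem F8321 : act 1 n10233 = n8177 := d3_1 D10233 (iv D8177) F5007 (iv F4962) D8128
def n10234 : Q := act 3 n8129
theorem D10234 : act 3 n8129 = n10234 := rfl
theorem F8324 : act 2 n10234 = n10202 := d6_2 D8129 D10234 (iv D10202) (iv D8105) (iv D6323) F3754 D4880 (iv F4964)
def n10235 : Q := act 2 n8130
theorem D10235 : act 2 n8130 = n10235 := rfl
theorem F8326 : act 1 n10235 = n9989 := d3_1 D10235 (iv D9989) F6315 D7922 (iv F6492)
theorem F8327 : act 3 n10235 = n10200 := d5_2 D8130 D10235 (iv D10200) (iv D8104) F4938 D6346 D8129 D10234 F8324 (iv D10202) (iv D8105) (iv D6323) F3754 D4880 D6347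
theorem F8328 : act 3 n9323 = n9989 := d4_2 F8327 F8297 (iv F8326)
def n10252 : Q := act 1 n8146
theorem D10252 : act 1 n8146 = n10252 := rfl
theorem F8345 : act 0 n10252 = n8160 := d0_1 D10252 F6519 F4987 F3786 F3751 (iv F2843) (iv F3778) D6360 D8146
theorem F8346 : act 3 n8159 = n10252 := d2_0 F8345 (iv D8160) D8159
def n10253 : Q := act 3 n8146
theorem D10253 : act 3 n8146 = n10253 := rfl
theorem F8347 : act 0 n10253 = n8147 := d2_1 D10253 (iv D8147) D8146
theorem F8348 : act 1 n10253 = n8159 := d4_1 D10253 F8346 (iv D10252)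
def n10261 : Q := act 0 n8154
theorem D10261 : act 0 n8154 = n10261 := rfl
theorem F8354 : act 2 n10261 = n8161 := d1_2 (iv F6515) D10261 (iv D8161)
theorem F8355 : act 3 n8817 = n10261 := d6_7 F6515 (iv F6260) F6259 (iv D6138) (iv F4160) D6919 D8817 (iv D10261)
def n10262 : Q := act 3 n8154
theorem D10262 : act 3 n8154 = n10262 := rfl
theorem F8356 : act 0 n10262 = n8817 := d2_1 D10262 F8355 (iv D10261)
theorem F8358 : act 2 n10262 = n8816 := d5_1 D10262 (iv D8816) F5459 D7873 (iv F8012) F8013 (iv F8354) (iv F8355) (iv D8817) (iv D6919) F4160 D6138 (iv F6259) F6260 (iv F6515)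
def n10265 : Q := act 0 n8157
theorem D10265 : act 0 n8157 = n10265 := rfl
theorem F8360 : act 2 n10265 = n8159 := d1_2 (iv F6517) D10265 (iv D8159)
def n10299 : Q := act 3 n8185
theorem D10299 : act 3 n8185 = n10299 := rfl
theorem F8394 : act 1 n10299 = n8186 := d4_1 D10299 (iv D8186) D8185
def n10300 : Q := act 2 n8186
theorem D10300 : act 2 n8186 = n10300 := rfl
theorem F8395 : act 0 n10300 = n8187 := d1_1 D10300 (iv D8187) (iv F6540)
def n10309 : Q := act 1 n8193
theorem D10309 : act 1 n8193 = n10309 := rfl
def n10317 : Q := act 2 n8202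
theorem D10317 : act 2 n8202 = n10317 := rfl
theorem F8410 : act 0 n10317 = n8203 := d1_1 D10317 (iv D8203) D8202
def n10326 : Q := act 3 n8209
theorem D10326 : act 3 n8209 = n10326 := rfl
theorem F8414 : act 0 n10326 = n8210 := d2_1 D10326 (iv D8210) D8209
theorem F8415 : act 2 n10326 = n9902 := d6_2 (iv F6558) D10326 (iv D9902) (iv D7848) D7849 (iv F6252) (iv D6420) D6419
def n10327 : Q := act 2 n8210
theorem D10327 : act 2 n8210 = n10327 := rfl
theorem F8417 : act 3 n10327 = n9900 := d5_2 D8210 D10327 (iv D9900) D9901 (iv F7996) (iv D8212) (iv F6558) D10326 F8415 (iv D9902) (iv D7848) D7849 (iv F6252) (iv D6420) (iv F5032)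
def n10332 : Q := act 1 n8215
theorem D10332 : act 1 n8215 = n10332 := rfl
theorem F8420 : act 3 n10332 = n9473 := d4_2 (iv F6562) D10332 (iv D9473)
def n10337 : Q := act 1 n8219
theorem D10337 : act 1 n8219 = n10337 := rfl
theorem F8425 : act 2 n10337 = n9452 := d3_2 D8219 D10337 (iv D9452) F5939 (iv F5043)
def n10338 : Q := act 3 n8219
theorem D10338 : act 3 n8219 = n10338 := rfl
theorem F8426 : act 0 n10338 = n8221 := d2_1 D10338 (iv D8221) (iv F6564)
def n10339 : Q := act 1 n8220
theorem D10339 : act 1 n8220 = n10339 := rfl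
theorem F8427 : act 2 n10339 = n8230 := d3_2 D8220 D10339 (iv D8230) (iv D6439) (iv F5044)
def n10340 : Q := act 3 n8220
theorem D10340 : act 3 n8220 = n10340 := rfl
theorem F8428 : act 2 n10340 = n10338 := d6_2 D8220 D10340 (iv D10338) (iv D8219) (iv D6428) D6427 D8218 F6563
def n10341 : Q := act 2 n8221
theorem D10341 : act 2 n8221 = n10341 := rfl
theorem F8429 : act 0 n10341 = n10340 := d1_1 D10341 F8428 F8426
theorem F8430 : act 1 n10341 = n9626 := d3_1 D10341 (iv D9626) F6046 D7611 (iv F6565)
def n10343 : Q := act 3 n8222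
theorem D10343 : act 3 n8222 = n10343 := rfl
theorem F8432 : act 0 n10343 = n8223 := d2_1 D10343 (iv D8223) D8222
def n10346 : Q := act 2 n8224
theorem D10346 : act 2 n8224 = n10346 := rfl
theorem F8435 : act 1 n10346 = n8226 := d3_1 D10346 (iv D8226) (iv D6436) (iv F5047) D8224
def n10348 : Q := act 3 n8226
theorem D10348 : act 3 n8226 = n10348 := rfl
def n10364 : Q := act 2 n8239
theorem D10364 : act 2 n8239 = n10364 := rfl
def n10366 : Q := act 3 n8240
theorem D10366 : act 3 n8240 = n10366 := rfl
def n10368 : Q := act 3 n8241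
theorem D10368 : act 3 n8241 = n10368 := rfl
theorem F8448 : act 2 n10368 = n10366 := d6_2 D8241 D10368 (iv D10366) (iv D8240) (iv D6446) D6445 D8239 F6581
def n10369 : Q := act 2 n8242
theorem D10369 : act 2 n8242 = n10369 := rfl
theorem F8450 : act 1 n10369 = n8333 := d3_1 D10369 (iv D8333) F5122 D6525 (iv F6583)
theorem F8451 : act 3 n10369 = n10364 := d5_2 D8242 D10369 (iv D10364) (iv D8239) (iv D6445) D6446 D8240 D10366 (iv F8448) (iv D10368) (iv D8241) (iv D6447) (iv D4969) D4970 D6448
def n10372 : Q := act 3 n8243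
theorem D10372 : act 3 n8243 = n10372 := rfl
theorem F8456 : act 1 n10372 = n8244 := d4_1 D10372 (iv D8244) D8243
theorem F8457 : act 2 n9519 = n10372 := d3_0 F8456 (iv F8270) F8269 F8224 F7713
def n10398 : Q := act 1 n8268
theorem D10398 : act 1 n8268 = n10398 := rfl
def n10408 : Q := act 1 n8276
theorem D10408 : act 1 n8276 = n10408 := rfl
def n10414 : Q := act 3 n8279
theorem D10414 : act 3 n8279 = n10414 := rfl
theorem F8489 : act 0 n10414 = n8281 := d2_1 D10414 (iv D8281) D8279
theorem F8490 : act 1 n10414 = n8290 := d4_1 D10414 (iv D8290) (iv F6613)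
def n10427 : Q := act 1 n8292
theorem D10427 : act 1 n8292 = n10427 := rfl
theorem F8502 : act 0 n10427 = n10299 := d0_1 D10427 F8394 F6540 F5011 F3807 (iv F3811) (iv F3877) D6488 D8292
def n10441 : Q := act 1 n8302
theorem D10441 : act 1 n8302 = n10441 := rfl
theorem F8512 : act 3 n10441 = n10398 := d4_2 (iv F6633) D10441 (iv D10398)
def n10469 : Q := act 0 n8325
theorem D10469 : act 0 n8325 = n10469 := rfl
def n10477 : Q := act 3 n8333
theorem D10477 : act 3 n8333 = n10477 := rfl
theorem F8543 : act 1 n10477 = n10364 := d4_1 D10477 (iv F8451) F8450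
def n10496 : Q := act 1 n8353
theorem D10496 : act 1 n8353 = n10496 := rfl
theorem F8559 : act 2 n10496 = n10332 := d3_2 D8353 D10496 (iv D10332) (iv D8215) (iv F5141)
def n10513 : Q := act 1 n8365
theorem D10513 : act 1 n8365 = n10513 := rfl
theorem F8578 : act 0 n10513 = n8619 := d0_1 D10513 F6917 F5327 F4508 F3571 (iv F2941) (iv F3916) D6552 D8365
def n10526 : Q := act 2 n8379
theorem D10526 : act 2 n8379 = n10526 := rfl
theorem F8590 : act 1 n10526 = n8392 := d3_1 D10526 (iv D8392) (iv D6575) (iv F5155) D8379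
def n10527 : Q := act 3 n8379
theorem D10527 : act 3 n8379 = n10527 := rfl
theorem F8591 : act 1 n10527 = n8380 := d4_1 D10527 (iv D8380) D8379
def n10528 : Q := act 2 n8380
theorem D10528 : act 2 n8380 = n10528 := rfl
theorem F8592 : act 0 n10528 = n8381 := d1_1 D10528 (iv D8381) (iv F6707)
def n10529 : Q := act 1 n8381
theorem D10529 : act 1 n8381 = n10529 := rfl
theorem F8593 : act 2 n10529 = n8382 := d3_2 D8381 D10529 (iv D8382) (iv D6566) (iv F5156)
def n10530 : Q := act 3 n8381
theorem D10530 : act 3 n8381 = n10530 := rfl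
def n10533 : Q := act 3 n8383
theorem D10533 : act 3 n8383 = n10533 := rfl
theorem F8594 : act 0 n10533 = n8384 := d2_1 D10533 (iv D8384) D8383
def n10538 : Q := act 0 n8387
theorem D10538 : act 0 n8387 = n10538 := rfl
def n10539 : Q := act 3 n8387
theorem D10539 : act 3 n8387 = n10539 := rfl
theorem F8597 : act 1 n10539 = n8388 := d4_1 D10539 (iv D8388) D8387
def n10540 : Q := act 2 n8388
theorem D10540 : act 2 n8388 = n10540 := rfl
def n10542 : Q := act 3 n8389
theorem D10542 : act 3 n8389 = n10542 := rfl
theorem F8600 : act 2 n10542 = n8517 := d6_2 D8389 D10542 (iv D8517) (iv D6678) (iv F3998) (iv F5161) D8388 F6711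
def n10544 : Q := act 2 n8391
theorem D10544 : act 2 n8391 = n10544 := rfl
theorem F8604 : act 3 n10544 = n10540 := d5_2 D8391 D10544 (iv D10540) (iv D8388) F5161 F3998 D6678 D8517 (iv F8600) (iv D10542) (iv D8389) (iv D6572) F3927 D5068 D6574
def n10547 : Q := act 1 n8394
theorem D10547 : act 1 n8394 = n10547 := rfl
def n10548 : Q := act 3 n8394
theorem D10548 : act 3 n8394 = n10548 := rfl
theorem F8608 : act 2 n10548 = n10530 := d6_2 D8394 D10548 (iv D10530) (iv D8381) (iv D6565) F3924 D5070 (iv F5167)
def n10549 : Q := act 2 n8395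
theorem D10549 : act 2 n8395 = n10549 := rfl
theorem F8610 : act 1 n10549 = n8508 := d3_1 D10549 (iv D8508) F5240 D6668 (iv F6718)
theorem F8611 : act 3 n10549 = n10528 := d5_2 D8395 D10549 (iv D10528) (iv D8380) F5155 D6576 D8394 D10548 F8608 (iv D10530) (iv D8381) (iv D6565) F3924 D5070 D6577
def n10556 : Q := act 2 n8400
theorem D10556 : act 2 n8400 = n10556 := rfl
theorem F8616 : act 0 n10556 = n8401 := d1_1 D10556 (iv D8401) (iv F6723)
def n10557 : Q := act 3 n8401
theorem D10557 : act 3 n8401 = n10557 := rfl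
def n10565 : Q := act 0 n8407
theorem D10565 : act 0 n8407 = n10565 := rfl
theorem F8620 : act 1 n10565 = n8408 := d0_2 D8407 D10565 (iv D8408) (iv D6588) (iv D5081) (iv D3876) (iv F2960) D5080 D6587
theorem F8621 : act 3 n10565 = n8494 := d2_2 (iv F6728) D10565 (iv D8494)
def n10568 : Q := act 3 n8408
theorem D10568 : act 3 n8408 = n10568 := rfl
theorem F8623 : act 0 n10568 = n8410 := d2_1 D10568 (iv D8410) D8408
theorem F8624 : act 1 n10568 = n8494 := d4_1 D10568 (iv F8621) F8620
def n10572 : Q := act 3 n8411
theorem D10572 : act 3 n8411 = n10572 := rfl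
theorem F8626 : act 2 n10572 = n10557 := d6_2 D8411 D10572 (iv D10557) (iv D8401) (iv D6581) F3932 D5082 (iv F5176)
def n10573 : Q := act 2 n8412
theorem D10573 : act 2 n8412 = n10573 := rfl
theorem F8628 : act 3 n10573 = n10556 := d5_2 D8412 D10573 (iv D10556) (iv D8400) F5169 D6589 D8411 D10572 F8626 (iv D10557) (iv D8401) (iv D6581) F3932 D5082 D6590
def n10579 : Q := act 1 n8419
theorem D10579 : act 1 n8419 = n10579 := rfl
theorem F8633 : act 2 n10579 = n8430 := d3_2 D8419 D10579 (iv D8430) (iv D6605) (iv F5181)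
def n10595 : Q := act 3 n8430
theorem D10595 : act 3 n8430 = n10595 := rfl
theorem F8643 : act 1 n10595 = n8431 := d4_1 D10595 (iv D8431) D8430
theorem F8644 : act 2 n9870 = n10595 := d3_0 F8643 F6749 F6223 D7818 D9870
def n10625 : Q := act 3 n8454
theorem D10625 : act 3 n8454 = n10625 := rfl
theorem F8668 : act 1 n10625 = n8455 := d4_1 D10625 (iv D8455) D8454
def n10653 : Q := act 3 n8480
theorem D10653 : act 3 n8480 = n10653 := rfl
theorem F8692 : act 2 n10653 = n9237 := d6_2 D8480 D10653 (iv D9237) (iv D7279) (iv F4421) D6644 D8479 F6790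
def n10682 : Q := act 3 n8508
theorem D10682 : act 3 n8508 = n10682 := rfl
theorem F8716 : act 0 n10682 = n8750 := d2_1 D10682 (iv D8750) (iv F6817)
theorem F8717 : act 1 n10682 = n10528 := d4_1 D10682 (iv F8611) F8610
def n10691 : Q := act 0 n8518
theorem D10691 : act 0 n8518 = n10691 := rfl
theorem F8725 : act 2 n10691 = n10538 := d1_2 (iv F6826) D10691 (iv D10538)
def n10695 : Q := act 1 n8523
theorem D10695 : act 1 n8523 = n10695 := rfl
theorem F8729 : act 2 n10695 = n9288 := d3_2 D8523 D10695 F7498 (iv F6833) F6832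
theorem F8730 : act 3 n10695 = n10496 := d4_2 (iv F6835) D10695 (iv D10496)
theorem F8731 : act 0 n9076 = n9284 := d6_8 F7496 D9288 (iv F8729) F8730 F8559 F8420 F7656 (iv F7308)
theorem F8733 : act 2 n9287 = n9076 := d6_0 F7308 (iv F7656) (iv F8420) (iv F8559) (iv F8730) F8729 (iv D9288) D9287
theorem F8734 : act 1 n9075 = n9287 := d3_5 F8733 (iv D9076) (iv D7137) (iv F5644) D9075
theorem F8735 : act 0 n9291 = n9075 := d0_9 F8734 (iv D9287) (iv D7323) F4445 F3342 (iv F3344) D5696 D7327 D9291
theorem F8736 : act 2 n9074 = n9291 := d1_0 F8735 (iv D9075) (iv F7307)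
theorem F8737 : act 1 n9295 = n9074 := d3_5 F8736 (iv D9291) F5823 D7330 D9295
theorem F8738 : act 3 n9073 = n9295 := d4_0 F8737 (iv D9074) D9073
theorem F8740 : act 1 n9277 = n9077 := d0_6 D9076 F8731 (iv D9284) F5819 (iv F5810) (iv F7489) (iv D9077) (iv D7138) (iv F5645)
def n10708 : Q := act 2 n8534
theorem D10708 : act 2 n8534 = n10708 := rfl
theorem F8753 : act 0 n10708 = n8536 := d1_1 D10708 (iv D8536) (iv F6847)
def n10712 : Q := act 2 n8538
theorem D10712 : act 2 n8538 = n10712 := rfl
theorem F8756 : act 0 n10712 = n8539 := d1_1 D10712 (iv D8539) (iv F6852)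
theorem F8757 : act 3 n10712 = n8753 := d6_1 D10712 (iv D8753) (iv D6867) (iv D5320) F3099 D5173 D6696 (iv F6852)
def n10714 : Q := act 3 n8539
theorem D10714 : act 3 n8539 = n10714 := rfl
theorem F8759 : act 2 n10714 = n8752 := d5_1 D10714 (iv D8752) (iv D6866) F4126 D6695 D8538 D10712 F8757 (iv D8753) (iv D6867) (iv D5320) F3099 D5173 D6696 D8539
def n10732 : Q := act 2 n8555
theorem D10732 : act 2 n8555 = n10732 := rfl
theorem F8774 : act 0 n10732 = n8764 := d1_1 D10732 (iv D8764) (iv F6866)
def n10733 : Q := act 0 n8557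
theorem D10733 : act 0 n8557 = n10733 := rfl
theorem F8776 : act 3 n9148 = n10733 := d6_7 F6869 (iv F5284) F5283 (iv D5587) D5586 D7196 D9148 (iv D10733)
def n10734 : Q := act 3 n8557
theorem D10734 : act 3 n8557 = n10734 := rfl
theorem F8777 : act 0 n10734 = n9148 := d2_1 D10734 F8776 (iv D10733)
theorem F8778 : act 1 n10734 = n8558 := d4_1 D10734 (iv D8558) D8557
def n10736 : Q := act 0 n8560
theorem D10736 : act 0 n8560 = n10736 := rfl
theorem F8780 : act 1 n10736 = n8566 := d0_2 D8560 D10736 (iv D8566) (iv D6715) (iv D5188) (iv D3957) (iv F3025) D5184 D6711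
def n10740 : Q := act 3 n8562
theorem D10740 : act 3 n8562 = n10740 := rfl
def n10744 : Q := act 2 n8564
theorem D10744 : act 2 n8564 = n10744 := rfl
def n10745 : Q := act 3 n8565
theorem D10745 : act 3 n8565 = n10745 := rfl
theorem F8789 : act 1 n10745 = n10740 := d4_1 D10745 (iv D10740) (iv F6872)
def n10746 : Q := act 2 n8566
theorem D10746 : act 2 n8566 = n10746 := rfl
theorem F8790 : act 0 n10746 = n8567 := d1_1 D10746 (iv D8567) D8566
theorem F8791 : act 3 n10746 = n9128 := d6_1 D10746 (iv D9128) (iv D7181) F4358 (iv F3277) (iv F4364) (iv F5282) D8566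
def n10747 : Q := act 3 n8567
theorem D10747 : act 3 n8567 = n10747 := rfl
theorem F8792 : act 0 n10747 = n9128 := d2_1 D10747 (iv F8791) F8790
theorem F8793 : act 1 n10747 = n8569 := d4_1 D10747 (iv D8569) (iv F6874)
theorem F8794 : act 2 n10747 = n9127 := d5_1 D10747 (iv D9127) F5688 (iv F4365) (iv F5701) (iv F6873) D10746 F8791 (iv D9128) (iv D7181) F4358 (iv F3277) (iv F4364) (iv F5282) D8567
def n10758 : Q := act 0 n8576
theorem D10758 : act 0 n8576 = n10758 := rfl
theorem F8804 : act 1 n10758 = n8582 := d0_2 D8576 D10758 (iv D8582) (iv D6726) (iv D5199) (iv D3964) (iv F3028) D5195 D6722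
def n10760 : Q := act 3 n8576
theorem D10760 : act 3 n8576 = n10760 := rfl
def n10768 : Q := act 2 n8582
theorem D10768 : act 2 n8582 = n10768 := rfl
def n10769 : Q := act 3 n8583
theorem D10769 : act 3 n8583 = n10769 := rfl
theorem F8812 : act 1 n10769 = n8585 := d4_1 D10769 (iv D8585) (iv F6885)
def n10771 : Q := act 2 n8585
theorem D10771 : act 2 n8585 = n10771 := rfl
def n10772 : Q := act 3 n8586
theorem D10772 : act 3 n8586 = n10772 := rfl
theorem F8815 : act 0 n10772 = n8784 := d2_1 D10772 (iv D8784) (iv F6888)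
theorem F8816 : act 1 n10772 = n8783 := d4_1 D10772 (iv D8783) (iv F6889)
def n10777 : Q := act 3 n8592
theorem D10777 : act 3 n8592 = n10777 := rfl
theorem F8821 : act 0 n10777 = n9046 := d2_1 D10777 (iv D9046) (iv F6897)
def n10779 : Q := act 3 n8593
theorem D10779 : act 3 n8593 = n10779 := rfl
theorem F8823 : act 0 n10779 = n8594 := d2_1 D10779 (iv D8594) (iv F6898)
theorem F8824 : act 2 n10779 = n10740 := d6_2 D8593 D10779 (iv D10740) (iv D8562) (iv D6712) F4015 D5208 (iv F5301)
def n10780 : Q := act 2 n8594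
theorem D10780 : act 2 n8594 = n10780 := rfl
theorem F8825 : act 0 n10780 = n10740 := d1_1 D10780 (iv F8824) F8823
def n10785 : Q := act 1 n8600
theorem D10785 : act 1 n8600 = n10785 := rfl
theorem F8829 : act 0 n10785 = n8606 := d0_1 D10785 (iv D8606) (iv D6744) (iv D5214) F3042 (iv F3040) (iv F4043) D6740 D8600
def n10786 : Q := act 3 n8600
theorem D10786 : act 3 n8600 = n10786 := rfl
theorem F8830 : act 0 n10786 = n8601 := d2_1 D10786 (iv D8601) D8600
def n10787 : Q := act 2 n8601
theorem D10787 : act 2 n8601 = n10787 := rfl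
def n10816 : Q := act 1 n8628
theorem D10816 : act 1 n8628 = n10816 := rfl
theorem F8852 : act 2 n10816 = n8643 := d3_2 D8628 D10816 F6938 F5330 (iv F5318)
def n10817 : Q := act 1 n8629
theorem D10817 : act 1 n8629 = n10817 := rfl
def n10875 : Q := act 3 n8676
theorem D10875 : act 3 n8676 = n10875 := rfl
theorem F8910 : act 0 n10875 = n8931 := d2_1 D10875 F7188 (iv F6964)
theorem F8911 : act 1 n10875 = n8677 := d4_1 D10875 (iv D8677) D8676
def n10881 : Q := act 3 n8682
theorem D10881 : act 3 n8682 = n10881 := rfl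
theorem F8917 : act 0 n10881 = n8684 := d2_1 D10881 (iv D8684) D8682
theorem F8918 : act 1 n10881 = n10881 := d4_1 D10881 (iv D10881) F6971
theorem F8919 : act 2 n9645 = n10881 := d1_0 F8917 (iv F6974) D9645
def n10897 : Q := act 3 n8695
theorem D10897 : act 3 n8695 = n10897 := rfl
theorem F8933 : act 0 n10897 = n8989 := d2_1 D10897 (iv D8989) (iv F6983)
theorem F8934 : act 1 n10897 = n8696 := d4_1 D10897 (iv D8696) D8695
theorem F8935 : act 2 n9596 = n10897 := d1_0 F8933 (iv F7231) D9596
theorem F8936 : act 1 n8829 = n9596 := d3_5 F8935 F8934 (iv F7105) F7104 D8829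
theorem F8937 : act 1 n9558 = n8807 := d4_3 (iv F7107) F8936 F7751
theorem F8938 : act 0 n8825 = n9591 := d0_3 F8937 F7086 D8825 (iv D9591) (iv D7581) (iv D5900) (iv F4595) D7552 D9558
theorem F8939 : act 2 n9591 = n8845 := d1_2 (iv F7099) F8938 (iv D8845)
theorem F8940 : act 1 n8845 = n9622 := d3_1 F8939 (iv D9622) (iv D7607) (iv F6020) D9591
def n10898 : Q := act 1 n8697
theorem D10898 : act 1 n8697 = n10898 := rfl
theorem F8941 : act 2 n10898 = n8698 := d3_2 D8697 D10898 (iv D8698) (iv D6815) (iv F5363)
def n10899 : Q := act 0 n8698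
theorem D10899 : act 0 n8698 = n10899 := rfl
def n10905 : Q := act 0 n8702
theorem D10905 : act 0 n8702 = n10905 := rfl
theorem F8946 : act 2 n10905 = n9381 := d1_2 (iv F6988) D10905 F7573
theorem F8947 : act 3 n10905 = n10899 := d2_2 (iv F6989) D10905 (iv D10899)
def n10923 : Q := act 2 n8715
theorem D10923 : act 2 n8715 = n10923 := rfl
theorem F8960 : act 1 n10923 = n9000 := d3_1 D10923 (iv D9000) F5590 F5386 (iv F6998)
def n10934 : Q := act 1 n8724
theorem D10934 : act 1 n8724 = n10934 := rfl
def n10944 : Q := act 2 n8730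
theorem D10944 : act 2 n8730 = n10944 := rfl
theorem F8978 : act 0 n10944 = n8732 := d1_1 D10944 (iv D8732) (iv F7008)
def n10945 : Q := act 1 n8731
theorem D10945 : act 1 n8731 = n10945 := rfl
theorem F8979 : act 2 n10945 = n9067 := d3_2 D8731 D10945 (iv D9067) (iv D7128) (iv F5398)
def n10946 : Q := act 3 n8731
theorem D10946 : act 3 n8731 = n10946 := rfl
def n10947 : Q := act 1 n8732
theorem D10947 : act 1 n8732 = n10947 := rfl
theorem F8981 : act 2 n10947 = n8739 := d3_2 D8732 D10947 (iv D8739) (iv D6854) (iv F5399)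
def n10948 : Q := act 3 n8732
theorem D10948 : act 3 n8732 = n10948 := rfl
theorem F8982 : act 2 n10948 = n10946 := d6_2 D8732 D10948 (iv D10946) (iv D8731) (iv D6848) D6847 D8730 F7008
def n10949 : Q := act 2 n8733
theorem D10949 : act 2 n8733 = n10949 := rfl
theorem F8984 : act 1 n10949 = n10787 := d3_1 D10949 (iv D10787) F6903 D8602 (iv F7010)
theorem F8985 : act 3 n10949 = n10944 := d5_2 D8733 D10949 (iv D10944) (iv D8730) (iv D6847) D6848 D8731 D10946 (iv F8982) (iv D10948) (iv D8732) (iv D6849) (iv D5301) D5302 D6850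
def n10951 : Q := act 3 n8734
theorem D10951 : act 3 n8734 = n10951 := rfl
theorem F8986 : act 0 n10951 = n8735 := d2_1 D10951 (iv D8735) D8734
theorem F8987 : act 2 n10951 = n10539 := d6_2 (iv F7011) D10951 (iv D10539) (iv F6826) F7024 (iv D8746) (iv D6860) D6859
def n10952 : Q := act 2 n8735
theorem D10952 : act 2 n8735 = n10952 := rfl
theorem F8989 : act 3 n10952 = n10538 := d6_7 (iv F6826) F7024 (iv D8746) (iv D6860) (iv F5400) D8735 D10952 (iv D10538)
def n10954 : Q := act 0 n8737
theorem D10954 : act 0 n8737 = n10954 := rfl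
theorem F8990 : act 2 n10954 = n8747 := d1_2 (iv F7014) D10954 (iv D8747)
def n10955 : Q := act 3 n8737
theorem D10955 : act 3 n8737 = n10955 := rfl
theorem F8991 : act 1 n10955 = n8738 := d4_1 D10955 (iv D8738) D8737
def n10957 : Q := act 3 n8739
theorem D10957 : act 3 n8739 = n10957 := rfl
theorem F8992 : act 1 n10957 = n8740 := d4_1 D10957 (iv D8740) D8739
def n10961 : Q := act 3 n8744
theorem D10961 : act 3 n8744 = n10961 := rfl
theorem F8995 : act 0 n10961 = n8755 := d2_1 D10961 (iv D8755) (iv F7021)
theorem F8996 : act 1 n10961 = n8745 := d4_1 D10961 (iv D8745) D8744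
def n10962 : Q := act 2 n8745
theorem D10962 : act 2 n8745 = n10962 := rfl
theorem F8997 : act 0 n10962 = n8746 := d1_1 D10962 (iv D8746) (iv F7022)
theorem F8998 : act 3 n10962 = n10691 := d5_2 D8745 D10962 F8725 (iv F8989) (iv D10952) (iv D8735) F5400 D6860 D8746 (iv F7024) F6826 D10539 (iv F8987) (iv D10951) F7011
theorem F8999 : act 1 n10469 = n10962 := d0_0 F8997 F7023 F5796 F5253 F5117 F3897 (iv F5114) D8325 D10469
def n10964 : Q := act 3 n8748
theorem D10964 : act 3 n8748 = n10964 := rfl
theorem F9000 : act 0 n10964 = n8749 := d2_1 D10964 (iv D8749) D8748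
def n10972 : Q := act 1 n8756
theorem D10972 : act 1 n8756 = n10972 := rfl
def n10983 : Q := act 3 n8765
theorem D10983 : act 3 n8765 = n10983 := rfl
theorem F9012 : act 0 n10983 = n8766 := d2_1 D10983 (iv D8766) D8765
theorem F9013 : act 2 n10983 = n10769 := d6_2 (iv F7039) D10983 (iv D10769) (iv D8583) (iv F5433) F5432 F4141 D6879
def n10984 : Q := act 2 n8766
theorem D10984 : act 2 n8766 = n10984 := rfl
theorem F9014 : act 0 n10984 = n10769 := d1_1 D10984 (iv F9013) F9012
theorem F9015 : act 1 n10984 = n9899 := d3_1 D10984 (iv D9899) (iv D7846) (iv F5425) (iv F7040)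
theorem F9016 : act 3 n10984 = n10768 := d5_2 D8766 D10984 (iv D10768) (iv F7055) F7054 F5434 (iv F7039) D10983 F9013 (iv D10769) (iv D8583) (iv F5433) F5432 F4141 (iv F5423)
def n10995 : Q := act 3 n8775
theorem D10995 : act 3 n8775 = n10995 := rfl
theorem F9023 : act 0 n10995 = n8776 := d2_1 D10995 (iv D8776) (iv F7048)
theorem F9024 : act 2 n10995 = n10745 := d6_2 D8775 D10995 (iv D10745) (iv D8565) (iv D6714) F4017 D5333 (iv F5427)
def n10996 : Q := act 2 n8776
theorem D10996 : act 2 n8776 = n10996 := rfl
theorem F9026 : act 3 n10996 = n10744 := d5_2 D8776 D10996 (iv D10744) (iv D8564) F5280 D6884 D8775 D10995 F9024 (iv D10745) (iv D8565) (iv D6714) F4017 D5333 D6885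
def n11004 : Q := act 2 n8783
theorem D11004 : act 2 n8783 = n11004 := rfl
theorem F9036 : act 3 n11004 = n8806 := d5_2 D8783 D11004 (iv D8806) (iv D6909) (iv D5351) (iv F3281) D5592 D7201 D9153 F7368 (iv D8782) (iv D6891) (iv D5338) D5339 D6892
def n11005 : Q := act 2 n8784
theorem D11005 : act 2 n8784 = n11005 := rfl
theorem F9037 : act 3 n11005 = n10771 := d6_1 D11005 (iv D10771) (iv D8585) (iv D6728) D6729 D8586 D10772 F8815
def n11012 : Q := act 1 n8791
theorem D11012 : act 1 n8791 = n11012 := rfl
theorem F9043 : act 2 n11012 = n9520 := d3_2 D8791 D11012 F7690 (iv F7067) F7066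
theorem F9044 : act 3 n11012 = n10972 := d4_2 (iv F7069) D11012 (iv D10972)
def n11013 : Q := act 0 n8792
theorem D11013 : act 0 n8792 = n11013 := rfl
def n11015 : Q := act 2 n8793
theorem D11015 : act 2 n8793 = n11015 := rfl
theorem F9046 : act 0 n11015 = n8794 := d1_1 D11015 (iv D8794) D8793
def n11016 : Q := act 3 n8794
theorem D11016 : act 3 n8794 = n11016 := rfl
def n11017 : Q := act 2 n8795
theorem D11017 : act 2 n8795 = n11017 := rfl
theorem F9047 : act 0 n11017 = n9522 := d1_1 D11017 (iv D9522) (iv F7072)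
def n11019 : Q := act 3 n8796
theorem D11019 : act 3 n8796 = n11019 := rfl
theorem F9049 : act 2 n11019 = n8823 := d6_2 D8796 D11019 (iv D8823) (iv D6925) (iv D5363) F3136 D5346 (iv F5442)
def n11020 : Q := act 2 n8797
theorem D11020 : act 2 n8797 = n11020 := rfl
theorem F9051 : act 3 n11020 = n8822 := d5_2 D8797 D11020 (iv D8822) (iv D6924) F4163 D6901 D8796 D11019 F9049 (iv D8823) (iv D6925) (iv D5363) F3136 D5346 D6902
def n11022 : Q := act 3 n8798
theorem D11022 : act 3 n8798 = n11022 := rfl
theorem F9053 : act 0 n11022 = n8800 := d2_1 D11022 (iv D8800) D8798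
def n11024 : Q := act 2 n8800
theorem D11024 : act 2 n8800 = n11024 := rfl
def n11026 : Q := act 0 n8805
theorem D11026 : act 0 n8805 = n11026 := rfl
def n11027 : Q := act 2 n8805
theorem D11027 : act 2 n8805 = n11027 := rfl
theorem F9057 : act 1 n11027 = n9505 := d3_1 D11027 (iv D9505) F5967 (iv F5447) D8805
def n11037 : Q := act 2 n8815
theorem D11037 : act 2 n8815 = n11037 := rfl
theorem F9065 : act 0 n11037 = n8820 := d1_1 D11037 (iv D8820) (iv F7092)
theorem F9066 : act 1 n11037 = n9933 := d3_1 D11037 (iv D9933) (iv D7872) (iv F5459) D8815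
def n11040 : Q := act 0 n8818
theorem D11040 : act 0 n8818 = n11040 := rfl
theorem F9070 : act 3 n11040 = n10708 := d2_2 (iv F7094) D11040 F8753
def n11042 : Q := act 3 n8820
theorem D11042 : act 3 n8820 = n11042 := rfl
theorem F9071 : act 1 n11042 = n11016 := d4_1 D11042 (iv D11016) (iv F7096)
def n11047 : Q := act 3 n8825
theorem D11047 : act 3 n8825 = n11047 := rfl
theorem F9072 : act 1 n11047 = n8826 := d4_1 D11047 (iv D8826) D8825
def n11048 : Q := act 1 n8827
theorem D11048 : act 1 n8827 = n11048 := rfl
theorem F9073 : act 3 n11048 = n10898 := d4_2 F7102 D11048 (iv D10898)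
def n11052 : Q := act 3 n8831
theorem D11052 : act 3 n8831 = n11052 := rfl
theorem F9076 : act 0 n11052 = n8833 := d2_1 D11052 (iv D8833) D8831
def n11069 : Q := act 0 n8844
theorem D11069 : act 0 n8844 = n11069 := rfl
theorem F9092 : act 2 n11069 = n8866 := d1_2 (iv F7116) D11069 F7135
def n11070 : Q := act 0 n8846
theorem D11070 : act 0 n8846 = n11070 := rfl
theorem F9094 : act 1 n11070 = n8888 := d0_2 D8846 D11070 (iv D8888) (iv D6976) (iv D5403) (iv D4131) (iv F3146) D5377 D6944
def n11072 : Q := act 3 n8846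
theorem D11072 : act 3 n8846 = n11072 := rfl
theorem F9096 : act 1 n11072 = n8847 := d4_1 D11072 (iv D8847) D8846
def n11073 : Q := act 2 n8847
theorem D11073 : act 2 n8847 = n11073 := rfl
def n11074 : Q := act 3 n8848
theorem D11074 : act 3 n8848 = n11074 := rfl
def n11078 : Q := act 1 n8852
theorem D11078 : act 1 n8852 = n11078 := rfl
theorem F9100 : act 0 n11078 = n10547 := d0_1 D11078 (iv D10547) F6717 (iv F5245) F5244 (iv F5804) F5803 (iv F5480) (iv F7123)
def n11079 : Q := act 3 n8852
theorem D11079 : act 3 n8852 = n11079 := rfl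
theorem F9101 : act 0 n11079 = n8853 := d2_1 D11079 (iv D8853) (iv F7123)
theorem F9102 : act 2 n11079 = n11074 := d6_2 D8852 D11079 (iv D11074) (iv D8848) (iv D6945) F4173 D5380 (iv F5479)
def n11080 : Q := act 2 n8853
theorem D11080 : act 2 n8853 = n11080 := rfl
theorem F9103 : act 0 n11080 = n11074 := d1_1 D11080 (iv F9102) F9101
theorem F9104 : act 1 n11080 = n9262 := d3_1 D11080 (iv D9262) F5800 D7303 (iv F7124)
theorem F9105 : act 3 n11080 = n11073 := d5_2 D8853 D11080 (iv D11073) (iv D8847) F5477 D6947 D8852 D11079 F9102 (iv D11074) (iv D8848) (iv D6945) F4173 D5380 D6948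
def n11082 : Q := act 0 n8856
theorem D11082 : act 0 n8856 = n11082 := rfl
theorem F9107 : act 1 n11082 = n11052 := d0_2 D8856 D11082 F9076 F7109 F5467 F4167 (iv F3154) D5382 D6951
def n11083 : Q := act 2 n8856
theorem D11083 : act 2 n8856 = n11083 := rfl
theorem F9109 : act 1 n11083 = n8947 := d3_1 D11083 (iv D8947) F5542 (iv F5483) D8856
def n11095 : Q := act 3 n8865
theorem D11095 : act 3 n8865 = n11095 := rfl
theorem F9119 : act 0 n11095 = n8946 := d2_1 D11095 F7197 F7147
theorem F9120 : act 1 n11095 = n8866 := d4_1 D11095 (iv D8866) D8865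
def n11117 : Q := act 3 n8887
theorem D11117 : act 3 n8887 = n11117 := rfl
theorem F9136 : act 1 n11117 = n11074 := d4_1 D11117 (iv D11074) (iv F7153)
def n11118 : Q := act 2 n8888
theorem D11118 : act 2 n8888 = n11118 := rfl
theorem F9137 : act 0 n11118 = n8889 := d1_1 D11118 (iv D8889) D8888
def n11121 : Q := act 2 n8890
theorem D11121 : act 2 n8890 = n11121 := rfl
def n11126 : Q := act 3 n8895
theorem D11126 : act 3 n8895 = n11126 := rfl
theorem F9144 : act 0 n11126 = n8897 := d2_1 D11126 (iv D8897) (iv F7159)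
def n11135 : Q := act 2 n8903
theorem D11135 : act 2 n8903 = n11135 := rfl
def n11137 : Q := act 3 n8904
theorem D11137 : act 3 n8904 = n11137 := rfl
def n11139 : Q := act 3 n8905
theorem D11139 : act 3 n8905 = n11139 := rfl
theorem F9152 : act 2 n11139 = n11137 := d6_2 D8905 D11139 (iv D11137) (iv D8904) (iv D6986) D6985 D8903 F7167
def n11140 : Q := act 2 n8906
theorem D11140 : act 2 n8906 = n11140 := rfl
theorem F9154 : act 1 n11140 = n8961 := d3_1 D11140 (iv D8961) F5552 D7035 (iv F7169)
theorem F9155 : act 3 n11140 = n11135 := d5_2 D8906 D11140 (iv D11135) (iv D8903) (iv D6985) D6986 D8904 D11137 (iv F9152) (iv D11139) (iv D8905) (iv D6987) (iv D5410) D5411 D6988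
def n11153 : Q := act 2 n8918
theorem D11153 : act 2 n8918 = n11153 := rfl
theorem F9166 : act 0 n11153 = n8919 := d1_1 D11153 (iv D8919) (iv F7181)
theorem F9167 : act 3 n11153 = n9101 := d6_1 D11153 F7329 F5664 (iv D7022) (iv D5437) (iv F4213) D6996 (iv F7181)
theorem F9168 : act 1 n9102 = n11153 := d4_3 F9167 (iv D9101) D9102
def n11154 : Q := act 1 n8919
theorem D11154 : act 1 n8919 = n11154 := rfl
theorem F9169 : act 0 n11154 = n10408 := d0_1 D11154 (iv D10408) (iv D8276) (iv D6476) (iv F5083) (iv F5962) (iv F7330) F9168 F9166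
theorem F9170 : act 2 n11154 = n8920 := d3_2 D8919 D11154 (iv D8920) (iv D6997) (iv F5518)
def n11155 : Q := act 3 n8919
theorem D11155 : act 3 n8919 = n11155 := rfl
theorem F9172 : act 2 n11155 = n9103 := d5_1 D11155 F7331 (iv D8947) (iv D7021) (iv F5517) D8918 D11153 F9167 F7329 F5664 (iv D7022) (iv D5437) (iv F4213) D6996 D8919
def n11166 : Q := act 1 n8927
theorem D11166 : act 1 n8927 = n11166 := rfl
theorem F9180 : act 2 n11166 = n8928 := d3_2 D8927 D11166 (iv D8928) (iv D7004) (iv F5524)
def n11186 : Q := act 1 n8942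
theorem D11186 : act 1 n8942 = n11186 := rfl
theorem F9190 : act 2 n11186 = n8943 := d3_2 D8942 D11186 (iv D8943) (iv D7017) (iv F5534)
def n11192 : Q := act 2 n8948
theorem D11192 : act 2 n8948 = n11192 := rfl
theorem F9197 : act 1 n11192 = n8959 := d3_1 D11192 (iv D8959) (iv D7032) (iv F5544) D8948
def n11193 : Q := act 3 n8948
theorem D11193 : act 3 n8948 = n11193 := rfl
theorem F9199 : act 1 n11193 = n8949 := d4_1 D11193 (iv D8949) D8948
theorem F9200 : act 2 n9218 = n11193 := d3_0 F9199 (iv F7430) F7429 F5760 (iv F7424)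
def n11194 : Q := act 0 n8951
theorem D11194 : act 0 n8951 = n11194 := rfl
theorem F9201 : act 2 n11194 = n9161 := d1_2 (iv F7201) D11194 (iv D9161)
def n11206 : Q := act 3 n8961
theorem D11206 : act 3 n8961 = n11206 := rfl
theorem F9210 : act 1 n11206 = n11135 := d4_1 D11206 (iv F9155) F9154
def n11210 : Q := act 1 n8967
theorem D11210 : act 1 n8967 = n11210 := rfl
def n11214 : Q := act 0 n8971
theorem D11214 : act 0 n8971 = n11214 := rfl
theorem F9216 : act 2 n11214 = n8977 := d1_2 (iv F7216) D11214 (iv D8977)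
theorem F9217 : act 3 n10004 = n11214 := d6_7 F7216 D8978 (iv F7222) (iv D8147) F4975 D7933 D10004 (iv D11214)
def n11215 : Q := act 3 n8971
theorem D11215 : act 3 n8971 = n11215 := rfl
theorem F9218 : act 0 n11215 = n10004 := d2_1 D11215 F9217 (iv D11214)
theorem F9220 : act 2 n11215 = n10003 := d6_4 F7222 (iv D8978) (iv F7216) D11215 (iv D10003) (iv F6508) D10253 F8347
def n11222 : Q := act 1 n8977
theorem D11222 : act 1 n8977 = n11222 := rfl
theorem F9228 : act 0 n11222 = n8982 := d0_1 D11222 (iv D8982) (iv D7056) (iv D5467) F3209 (iv F3203) (iv F4247) D7051 D8977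
def n11227 : Q := act 2 n8982
theorem D11227 : act 2 n8982 = n11227 := rfl
theorem F9233 : act 1 n11227 = n9002 := d3_1 D11227 (iv D9002) (iv D7074) (iv F5573) D8982
def n11228 : Q := act 3 n8982
theorem D11228 : act 3 n8982 = n11228 := rfl
theorem F9234 : act 1 n11228 = n8983 := d4_1 D11228 (iv D8983) D8982
def n11229 : Q := act 2 n8983
theorem D11229 : act 2 n8983 = n11229 := rfl
theorem F9235 : act 0 n11229 = n8984 := d1_1 D11229 (iv D8984) (iv F7225)
def n11230 : Q := act 1 n8984
theorem D11230 : act 1 n8984 = n11230 := rfl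
theorem F9236 : act 2 n11230 = n8985 := d3_2 D8984 D11230 (iv D8985) (iv D7058) (iv F5574)
def n11231 : Q := act 3 n8984
theorem D11231 : act 3 n8984 = n11231 := rfl
def n11253 : Q := act 3 n9004
theorem D11253 : act 3 n9004 = n11253 := rfl
theorem F9258 : act 2 n11253 = n11231 := d6_2 D9004 D11253 (iv D11231) (iv D8984) (iv D7057) F4254 D5483 (iv F5593)
def n11254 : Q := act 0 n9005
theorem D11254 : act 0 n9005 = n11254 := rfl
theorem F9259 : act 2 n11254 = n9007 := d1_2 (iv F7248) D11254 (iv D9007)
theorem F9260 : act 3 n9857 = n11254 := d6_7 F7248 (iv F5599) F5598 (iv D6082) D6081 D7806 D9857 (iv D11254)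
def n11255 : Q := act 3 n9005
theorem D11255 : act 3 n9005 = n11255 := rfl
theorem F9261 : act 0 n11255 = n9857 := d2_1 D11255 F9260 (iv D11254)
theorem F9262 : act 1 n11255 = n9006 := d4_1 D11255 (iv D9006) D9005
theorem F9263 : act 2 n11255 = n9856 := d5_1 D11255 (iv D9856) (iv D7804) D7805 (iv F7254) F7255 (iv F9259) (iv F9260) (iv D9857) (iv D7806) (iv D6081) D6082 (iv F5598) F5599 (iv F7248)
def n11256 : Q := act 2 n9006
theorem D11256 : act 2 n9006 = n11256 := rfl
theorem F9265 : act 3 n11256 = n11229 := d5_2 D9006 D11256 (iv D11229) (iv D8983) F5573 D7075 D9004 D11253 F9258 (iv D11231) (iv D8984) (iv D7057) F4254 D5483 D7076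
def n11260 : Q := act 3 n9008
theorem D11260 : act 3 n9008 = n11260 := rfl
theorem F9269 : act 1 n11260 = n9009 := d4_1 D11260 (iv D9009) D9008
def n11271 : Q := act 3 n9019
theorem D11271 : act 3 n9019 = n11271 := rfl
theorem F9278 : act 0 n11271 = n9026 := d2_1 D11271 (iv D9026) (iv F7258)
def n11274 : Q := act 3 n9021
theorem D11274 : act 3 n9021 = n11274 := rfl
theorem F9284 : act 0 n11274 = n9649 := d2_1 D11274 (iv D9649) (iv F7262)
theorem F9285 : act 1 n11274 = n9022 := d4_1 D11274 (iv D9022) D9021
def n11279 : Q := act 3 n9025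
theorem D11279 : act 3 n9025 = n11279 := rfl
theorem F9288 : act 2 n11279 = n11271 := d6_2 D9025 D11279 (iv D11271) (iv D9019) (iv D7086) D7085 D9018 F7257
def n11280 : Q := act 2 n9026
theorem D11280 : act 2 n9026 = n11280 := rfl
theorem F9289 : act 0 n11280 = n11279 := d1_1 D11280 F9288 F9278
theorem F9290 : act 1 n11280 = n10732 := d3_1 D11280 (iv D10732) F6867 D8556 (iv F7264)
def n11304 : Q := act 3 n9045
theorem D11304 : act 3 n9045 = n11304 := rfl
theorem F9310 : act 2 n11304 = n10777 := d6_2 D9045 D11304 (iv D10777) (iv D8592) (iv F5300) D7110 D9044 F7281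
def n11305 : Q := act 2 n9046
theorem D11305 : act 2 n9046 = n11305 := rfl
theorem F9311 : act 0 n11305 = n11304 := d1_1 D11305 F9310 F8821
theorem F9312 : act 1 n11305 = n11121 := d3_1 D11305 (iv D11121) F7155 D8891 (iv F7282)
def n11322 : Q := act 3 n9059
theorem D11322 : act 3 n9059 = n11322 := rfl
theorem F9325 : act 1 n11322 = n9060 := d4_1 D11322 (iv D9060) D9059
def n11323 : Q := act 2 n9060
theorem D11323 : act 2 n9060 = n11323 := rfl
theorem F9326 : act 0 n11323 = n9062 := d1_1 D11323 (iv D9062) (iv F7295)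
def n11325 : Q := act 3 n9061
theorem D11325 : act 3 n9061 = n11325 := rfl
theorem F9327 : act 0 n11325 = n9063 := d2_1 D11325 (iv D9063) (iv F7296)
def n11326 : Q := act 1 n9062
theorem D11326 : act 1 n9062 = n11326 := rfl
def n11327 : Q := act 3 n9062
theorem D11327 : act 3 n9062 = n11327 := rfl
theorem F9329 : act 2 n11327 = n11325 := d6_2 D9062 D11327 (iv D11325) (iv D9061) (iv D7123) D7122 D9060 F7295
def n11328 : Q := act 2 n9063
theorem D11328 : act 2 n9063 = n11328 := rfl
theorem F9331 : act 1 n11328 = n10004 := d3_1 D11328 (iv D10004) F6321 D7934 (iv F7297)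
theorem F9332 : act 3 n11328 = n11323 := d5_2 D9063 D11328 (iv D11323) (iv D9060) (iv D7122) D7123 D9061 D11325 (iv F9329) (iv D11327) (iv D9062) (iv D7124) (iv D5529) D5530 D7125
theorem F9333 : act 1 n11323 = n11214 := d4_1 F9332 (iv F9217) (iv F9331)
theorem F9334 : act 0 n11210 = n11326 := d0_7 F9333 (iv D11214) (iv D8971) F5567 (iv F5560) (iv F7211) D11210 (iv D11326) (iv F9326)
theorem F9335 : act 2 n11222 = n11322 := d3_4 D11323 F9333 F9216 D11222 F9325
theorem F9336 : act 0 n11322 = n11227 := d1_1 F9335 (iv D11227) (iv F9228)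
theorem F9337 : act 0 n9336 = n9435 := d0_5 (iv F9325) F9336 F9233 F7244 (iv F7532) F7619 F5927 (iv F5636) (iv F7295)
theorem F9342 : act 2 n9435 = n9329 := d1_2 D9336 F9337 F7527
theorem F9343 : act 1 n9324 = n9436 := d3_3 F9342 (iv D9329) (iv F7521) (iv D9436) (iv F7619)
theorem F9344 : act 0 n9437 = n9319 := d0_3 F9343 F7620 D9437 (iv D9319) F5842 F4467 (iv F4471) D7355 D9324
theorem F9345 : act 3 n9987 = n9324 := d4_0 F9343 F7621 D9987
theorem F9346 : act 0 n9325 = n9987 := d2_3 F9345 (iv D9324) D9325
theorem F9347 : act 1 n9438 = n10145 := d0_4 (iv F7522) F9346 (iv D9987) (iv F7622) (iv F8246) F8247 F7518 F5844 (iv F5848)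
theorem E1 : n9780 = n7918 := (c3_6 (iv F7623) F9347 (iv D10145) (iv D8051) (iv F6158) D9780)
theorem E2 : n7748 = n6175 := (((F6313).symm.trans (sb E1 F7894))).symm
theorem E4 : n7916 = n6033 := (((iv F6311)).symm.trans (sb E2 (iv D7748)))
theorem E8 : n9983 = n4626 := ((((iv D6033)).symm.trans (sb E4 (iv F8072)))).symm
theorem F9349 : act 1 n6033 = n6175 := (sb E4 F6311)
theorem E9 : n9984 = n6014 := (((F4717).symm.trans (sb E4 D9984))).symm
theorem E14 : n8742 = n4608 := (((F3557).symm.trans (sb E8 F8073))).symm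
theorem E15 : n7915 = n6034 := (((D6034).symm.trans (sb E8 (iv D9983)))).symm
theorem E16 : n8741 = n7724 := (((D7724).symm.trans (sb E9 F8075))).symm
theorem E21 : n6856 = n3492 := ((((iv D4608)).symm.trans (sb E14 F7018))).symm
theorem E22 : n6855 = n6015 := (((D6015).symm.trans (sb E14 (iv D8742)))).symm
theorem E23 : n9982 = n4627 := (((F4718).symm.trans (sb E15 D9982))).symm
theorem E24 : n7750 = n6171 := ((D7750).symm.trans (sb E15 (iv D7915)))
theorem E26 : n9761 = n6857 := ((D9761).symm.trans (sb E16 F7017))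
theorem E30 : n8738 = n2615 := (((F2654).symm.trans (sb E21 (iv F7015)))).symm
theorem E31 : n8743 = n2613 := ((((iv D3492)).symm.trans (sb E21 D8743))).symm
theorem E32 : n5308 = n4609 := (((D4609).symm.trans (sb E21 (iv D6856)))).symm
theorem E33 : n7725 = n5309 := ((D7725).symm.trans (sb E22 F5403))
theorem E34 : n10164 = n5994 := ((((iv F4692)).symm.trans (sb E23 (iv F8253)))).symm
theorem F9359 : act 2 n6171 = n6034 := (sb E24 (iv D7750))
theorem F9360 : act 2 n6857 = n7724 := (sb E26 (iv D9761))
theorem E41 : n10955 = n3494 := (((D3494).symm.trans (sb E30 (iv F8991)))).symm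
theorem E42 : n8740 = n1924 := ((((iv D2615)).symm.trans (sb E30 (iv F7016)))).symm
theorem E43 : n6853 = n3495 := (((D3495).symm.trans (sb E30 (iv D8738)))).symm
theorem E45 : n8736 = n1922 := ((((iv D2613)).symm.trans (sb E31 F7020))).symm
theorem E46 : n4611 = n4050 := (((iv F3540)).symm.trans (sb E32 (iv D5308)))
theorem F9362 : act 2 n5309 = n6015 := (sb E33 (iv D7725))
theorem E49 : n8073 = n7697 := ((((iv F6119)).symm.trans (sb E34 (iv D10164)))).symm
theorem E50 : n9709 = n4591 := ((((iv D5994)).symm.trans (sb E34 F8254))).symm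
theorem E57 : n8737 = n4613 := (((D4613).symm.trans (sb E41 (iv D10955)))).symm
theorem E58 : n10957 = n1400 := (((F1411).symm.trans (sb E42 (iv F8992)))).symm
theorem E60 : n5306 = n4614 := (((D4614).symm.trans (sb E43 (iv D6853)))).symm
theorem E62 : n6852 = n2612 := (((D2612).symm.trans (sb E45 (iv D8736)))).symm
theorem E63 : n6017 = n3049 := (((F3090).symm.trans (sb E46 (iv F4704)))).symm
theorem F9364 : act 2 n4050 = n4609 := (sb E46 F3540)
theorem E64 : n3493 = n3048 := ((((iv D4050)).symm.trans (sb E46 (iv D4611)))).symm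
theorem E67 : n9727 = n6300 := (((iv F7848)).symm.trans (sb E49 F6444))
theorem F9365 : act 2 n7697 = n6299 := (sb E49 (iv D8073))
theorem E68 : n9795 = n5993 := ((((iv D7697)).symm.trans (sb E49 (iv F7908)))).symm
theorem E69 : n7680 = n3480 := ((((iv D4591)).symm.trans (sb E50 (iv D9709)))).symm
theorem E79 : n10954 = n6019 := ((((iv F4705)).symm.trans (sb E57 D10954))).symm
theorem E80 : n6862 = n6020 := (((D6020).symm.trans (sb E57 F7014))).symm
theorem E81 : n8739 = n1004 := ((((iv D1400)).symm.trans (sb E58 (iv D10957)))).symm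
theorem F9367 : act 0 n4614 = n4050 := (sb E60 F4114)
theorem E85 : n8735 = n3490 := (((D3490).symm.trans (sb E62 (iv F7012)))).symm
theorem E88 : n4610 = n2272 := ((((iv D3049)).symm.trans (sb E63 (iv D6017)))).symm
theorem E89 : n4049 = n2614 := ((D4049).symm.trans (sb E64 (iv D3493)))
theorem E90 : n8074 = n7696 := ((D8074).symm.trans (sb E67 (iv D9727)))
theorem E91 : n7755 = n7684 := ((((iv F6106)).symm.trans (sb E68 (iv D9795)))).symm
theorem E92 : n9708 = n4590 := ((((iv F3524)).symm.trans (sb E69 (iv F7834)))).symm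
theorem E93 : n5981 = n4584 := ((((iv F3518)).symm.trans (sb E69 F6103))).symm
theorem E94 : n5980 = n2604 := ((((iv D3480)).symm.trans (sb E69 (iv D7680)))).symm
theorem E99 : n8747 = n6434 := ((((iv F5051)).symm.trans (sb E79 F8990))).symm
theorem E100 : n7732 = n5314 := ((D7732).symm.trans (sb E80 (iv D6862)))
theorem E103 : n10947 = n1385 := ((((iv F1006)).symm.trans (sb E81 (iv F8981)))).symm
theorem E107 : n10951 = n4605 := (((D4605).symm.trans (sb E85 (iv F8986)))).symm
theorem E108 : n10952 = n4589 := ((((iv F3523)).symm.trans (sb E85 D10952))).symm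
theorem E109 : n6851 = n4606 := (((D4606).symm.trans (sb E85 (iv D8735)))).symm
theorem E112 : n5951 = n3046 := ((((iv F2292)).symm.trans (sb E88 (iv F4654)))).symm
theorem F9374 : act 2 n2614 = n3048 := (sb E89 (iv D4049))
theorem E114 : n9726 = n8079 := ((D9726).symm.trans (sb E90 (iv F6450)))
theorem E115 : n9794 = n9712 := ((((iv F7836)).symm.trans (sb E90 (iv F7905)))).symm
theorem F9375 : act 3 n7696 = n6300 := (sb E90 (iv D8074))
theorem E116 : n7681 = n5983 := ((((iv D7684)).symm.trans (sb E91 F6167))).symm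
theorem E117 : n9713 = n6039 := ((D9713).symm.trans (sb E91 (iv D7755)))
theorem E118 : n7679 = n3479 := ((((iv D4590)).symm.trans (sb E92 (iv D9708)))).symm
theorem F9376 : act 0 n4584 = n4584 := (sb E93 F4680)
theorem E119 : n4582 = n3473 := ((((iv D4584)).symm.trans (sb E93 (iv D5981)))).symm
theorem E120 : n7671 = n1916 := ((((iv D2604)).symm.trans (sb E94 (iv F6098)))).symm
theorem E124 : n9260 = n4961 := (((F5050).symm.trans (sb E99 (iv F7473)))).symm
theorem F9378 : act 1 n5314 = n6020 := (sb E100 (iv D7732))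
theorem E127 : n8224 = n5675 := ((((iv F4436)).symm.trans (sb E100 (iv F6568)))).symm
theorem E129 : n8732 = n1902 := (((D1902).symm.trans (sb E103 (iv D10947)))).symm
theorem E134 : n10539 = n5990 := ((((iv F4687)).symm.trans (sb E107 F8987))).symm
theorem E135 : n8734 = n6011 := (((D6011).symm.trans (sb E107 (iv D10951)))).symm
theorem E136 : n10538 = n5991 := (((D5991).symm.trans (sb E108 F8989))).symm
theorem E137 : n6012 = n5312 := ((D6012).symm.trans (sb E109 F5400))
theorem E140 : n4562 = n4045 := (((D4045).symm.trans (sb E112 (iv D5951)))).symm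
theorem F9379 : act 1 n8079 = n7696 := (sb E114 (iv D9726))
theorem F9380 : act 3 n9712 = n7754 := (sb E115 (iv D9794))
theorem E143 : n7686 = n7685 := (((D7685).symm.trans (sb E116 (iv F6110)))).symm
theorem F9382 : act 3 n6039 = n7684 := (sb E117 (iv D9713))
theorem E144 : n9707 = n4589 := (((D4589).symm.trans (sb E118 D9707))).symm
theorem F9383 : act 0 n3473 = n3473 := (sb E119 F3516)
theorem E146 : n3472 = n2599 := ((((iv D3473)).symm.trans (sb E119 (iv D4582)))).symm
theorem E147 : n5973 = n1395 := ((((iv D1916)).symm.trans (sb E120 (iv D7671)))).symm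
theorem E150 : n7302 = n6418 := ((((iv F5033)).symm.trans (sb E124 F7472))).symm
theorem E153 : n10346 = n6864 := ((((iv F5412)).symm.trans (sb E127 D10346))).symm
theorem E155 : n10944 = n2585 := (((D2585).symm.trans (sb E129 (iv F8978)))).symm
theorem E156 : n10948 = n2587 := (((D2587).symm.trans (sb E129 D10948))).symm
theorem E161 : n8388 = n7692 := (((D7692).symm.trans (sb E134 F8597))).symm
theorem E162 : n8387 = n7693 := (((D7693).symm.trans (sb E134 (iv D10539)))).symm
theorem E164 : n7719 = n6859 := ((D7719).symm.trans (sb E135 F7011))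
theorem E165 : n10691 = n7694 := (((D7694).symm.trans (sb E136 (iv F8725)))).symm
theorem F9387 : act 2 n5312 = n4606 := (sb E137 (iv D6012))
theorem E166 : n7721 = n6860 := (((D6860).symm.trans (sb E137 D7721))).symm
theorem E171 : n5948 = n5300 := (((D5300).symm.trans (sb E140 (iv F4652)))).symm
theorem E172 : n5952 = n5302 := (((D5302).symm.trans (sb E140 D5952))).symm
theorem E175 : n7683 = n5984 := ((F6107).symm.trans (sb E143 (iv D7686)))
theorem E176 : n7692 = n5990 := (((D5990).symm.trans (sb E144 F7833))).symm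
theorem F9391 : act 0 n2599 = n2599 := (sb E146 (iv D3472))
theorem E177 : n4577 = n1913 := ((((iv D2599)).symm.trans (sb E146 (iv F3512)))).symm
theorem E179 : n4578 = n1001 := ((((iv D1395)).symm.trans (sb E147 F4672))).symm
theorem E181 : n8210 = n5677 := (((iv F6559)).symm.trans (sb E150 F5800))
theorem E182 : n9262 = n6432 := ((((iv F5046)).symm.trans (sb E150 D9262))).symm
theorem E185 : n8749 = n8226 := (((iv F7026)).symm.trans (sb E153 F8435))
theorem E186 : n10949 = n3455 := (((D3455).symm.trans (sb E155 (iv F8985)))).symm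
theorem E187 : n10946 = n3457 := (((D3457).symm.trans (sb E156 F8982))).symm
theorem E188 : n8388 = n5990 := (E161).trans E176
theorem E189 : n6572 = n4589 := ((((iv D5990)).symm.trans (sb E188 F6711))).symm
theorem E190 : n10540 = n4605 := (((F4687).symm.trans (sb E188 D10540))).symm
theorem E191 : n7693 = n6571 := ((D7693).symm.trans (sb E188 (iv D8388)))
theorem E192 : n8387 = n6571 := (E162).trans E191
theorem E193 : n8518 = n5067 := (((F5161).symm.trans (sb E192 (iv F6826)))).symm
theorem F9394 : act 2 n6859 = n6011 := (sb E164 (iv D7719))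
theorem E196 : n9722 = n5067 := (((iv F7845)).symm.trans (sb E165 (tr (iv D10691) E193)))
theorem E197 : n10962 = n9724 := (((D9724).symm.trans (sb E165 (iv F8998)))).symm
theorem E198 : n9756 = n8746 := (((D8746).symm.trans (sb E166 D9756))).symm
theorem E199 : n7643 = n4229 := (((F4109).symm.trans (sb E171 D7643))).symm
theorem E200 : n6848 = n5955 := ((D6848).symm.trans (sb E171 (iv F4659)))
theorem E201 : n6850 = n5950 := ((D6850).symm.trans (sb E172 F4655))
theorem F9397 : act 2 n5984 = n7685 := (sb E175 (iv F6107))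
theorem E209 : n3469 = n1393 := ((((iv D1913)).symm.trans (sb E177 (iv D4577)))).symm
theorem E211 : n5967 = n704 := ((((iv D1001)).symm.trans (sb E179 (iv F4667)))).symm
theorem E214 : n10326 = n4339 := (((F4437).symm.trans (sb E181 (iv F8414)))).symm
theorem F9400 : act 1 n5677 = n6418 := (sb E181 F6559)
theorem E215 : n10327 = n7303 := (((D7303).symm.trans (sb E181 D10327))).symm
theorem E216 : n6417 = n4338 := ((((iv D5677)).symm.trans (sb E181 (iv D8210)))).symm
theorem E217 : n11080 = n8223 := ((((iv F6567)).symm.trans (sb E182 (iv F9104)))).symm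
theorem E219 : n10964 = n9618 := ((((iv F7764)).symm.trans (sb E185 (iv F9000)))).symm
theorem E220 : n10348 = n6863 := ((D10348).symm.trans (sb E185 (iv D8749)))
theorem E221 : n10787 = n3460 := ((((iv F2626)).symm.trans (sb E186 F8984))).symm
theorem E223 : n8731 = n4564 := (((D4564).symm.trans (sb E187 (iv D10946)))).symm
theorem E224 : n5066 = n3479 := ((((iv D4589)).symm.trans (sb E189 F5162))).symm
theorem E225 : n8389 = n3490 := (((F3523).symm.trans (sb E189 D8389))).symm
theorem E227 : n10544 = n6011 := (((D6011).symm.trans (sb E190 (iv F8604)))).symm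
theorem E228 : n6679 = n5160 := ((((iv F4000)).symm.trans (sb E193 (iv D8518)))).symm
theorem E229 : n8746 = n5159 := (((F3998).symm.trans (sb E193 F7024))).symm
theorem E230 : n7694 = n3865 := ((((iv D5067)).symm.trans (sb E196 F7845))).symm
theorem E231 : n9756 = n5159 := (E198).trans E229
theorem F9403 : act 1 n9724 = n10469 := (sb E197 (iv F8999))
theorem F9404 : act 2 n9724 = n8745 := (sb E197 (iv D10962))
theorem E232 : n9724 = n5068 := (((F3997).symm.trans (sb E231 F7874))).symm
theorem E233 : n9660 = n3188 := ((((iv D4229)).symm.trans (sb E199 D9660))).symm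
theorem E235 : n7649 = n5534 := (((D5534).symm.trans (sb E199 (iv F6078)))).symm
theorem F9405 : act 0 n5955 = n5302 := (sb E200 F5397)
theorem E236 : n8605 = n7645 := ((((iv F6075)).symm.trans (sb E201 (iv F6908)))).symm
theorem E241 : n2597 = n1000 := ((((iv D1393)).symm.trans (sb E209 (iv D3469)))).symm
theorem E244 : n7664 = n488 := (((F496).symm.trans (sb E211 (iv F6092)))).symm
theorem E245 : n4573 = n486 := ((((iv D704)).symm.trans (sb E211 (iv D5967)))).symm
theorem E249 : n9902 = n5678 := (((D5678).symm.trans (sb E214 F8415))).symm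
theorem E250 : n8209 = n3281 := ((((iv D4339)).symm.trans (sb E214 (iv D10326)))).symm
theorem E252 : n9900 = n6933 := (((F5802).symm.trans (sb E215 F8417))).symm
theorem E253 : n4947 = n3287 := (((F3331).symm.trans (sb E216 F5032))).symm
theorem E254 : n11074 = n10343 := ((((iv F8432)).symm.trans (sb E217 F9103))).symm
theorem E255 : n11073 = n6431 := ((((iv D8223)).symm.trans (sb E217 F9105))).symm
theorem F9411 : act 3 n9618 = n8748 := (sb E219 (iv D10964))
theorem F9412 : act 3 n6863 = n8226 := (sb E220 (iv D10348))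
theorem E258 : n8601 = n4567 := (((D4567).symm.trans (sb E221 (iv D10787)))).symm
theorem E260 : n10945 = n5954 := ((((iv F4657)).symm.trans (sb E223 D10945))).symm
theorem E261 : n6568 = n2604 := (((F2646).symm.trans (sb E224 (iv F5159)))).symm
theorem E262 : n6573 = n2603 := ((((iv D3479)).symm.trans (sb E224 D6573))).symm
theorem E263 : n4590 = n3864 := ((D4590).symm.trans (sb E224 (iv D5066)))
theorem E265 : n10542 = n4606 := (((D4606).symm.trans (sb E225 D10542))).symm
theorem E267 : n8391 = n6859 := ((((iv F9394)).symm.trans (sb E227 (iv D10544)))).symm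
theorem E268 : n5161 = n3935 := (((F3999).symm.trans (sb E228 F5252))).symm
theorem E269 : n7298 = n3934 := ((((iv D5160)).symm.trans (sb E228 (iv F5797)))).symm
theorem E270 : n6860 = n6678 := (((D6678).symm.trans (sb E229 (iv D8746)))).symm
theorem E271 : n9723 = n2901 := ((((iv D3865)).symm.trans (sb E230 D9723))).symm
theorem E272 : n10469 = n3866 := (((F3928).symm.trans (sb E232 F9403))).symm
theorem E273 : n8745 = n6574 := (((D6574).symm.trans (sb E232 F9404))).symm
theorem E274 : n9669 = n4231 := (((D4231).symm.trans (sb E233 (iv F7802)))).symm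
theorem F9415 : act 1 n5534 = n5955 := (sb E235 (iv D7649))
theorem E275 : n7887 = n7128 := (((D7128).symm.trans (sb E235 F6284))).symm
theorem F9416 : act 2 n7645 = n6743 := (sb E236 (iv D8605))
theorem E281 : n1911 = n1392 := ((((iv F1010)).symm.trans (sb E241 (iv D2597)))).symm
theorem E282 : n3466 = n703 := ((((iv D1000)).symm.trans (sb E241 (iv F2631)))).symm
theorem E283 : n3470 = n1394 := (((D1394).symm.trans (sb E241 D3470))).symm
theorem E287 : n5966 = n333 := ((((iv D488)).symm.trans (sb E244 (iv D7664)))).symm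
theorem E289 : n5968 = n331 := ((((iv D486)).symm.trans (sb E245 D5968))).symm
theorem E294 : n7851 = n5152 := (((F4438).symm.trans (sb E249 F7997))).symm
theorem E295 : n7848 = n7304 := (((D7304).symm.trans (sb E249 (iv D9902)))).symm
theorem E297 : n6419 = n2453 := (((F2493).symm.trans (sb E250 F6558))).symm
theorem E298 : n7847 = n5369 := ((((iv D6933)).symm.trans (sb E252 (iv D9900)))).symm
theorem E299 : n4344 = n3767 := ((D4344).symm.trans (sb E253 (iv D4947)))
theorem E300 : n6420 = n4104 := ((((iv F3142)).symm.trans (sb E253 D6420))).symm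
theorem F9420 : act 1 n10343 = n11117 := (sb E254 (iv F9136))
theorem F9421 : act 2 n10343 = n11079 := (sb E254 (iv F9102))
theorem E302 : n8847 = n5938 := (((F5045).symm.trans (sb E255 (iv D11073)))).symm
theorem E305 : n10786 = n3461 := (((F3507).symm.trans (sb E258 (iv F8830)))).symm
theorem E306 : n6741 = n5957 := (((D5957).symm.trans (sb E258 F6903))).symm
theorem E309 : n9067 = n6147 := ((((iv F4803)).symm.trans (sb E260 F8979))).symm
theorem E310 : n8384 = n3473 := ((((iv F2637)).symm.trans (sb E261 (iv F6709)))).symm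
theorem E311 : n6570 = n1916 := ((((iv D2604)).symm.trans (sb E261 (iv F5160)))).symm
theorem E312 : n5063 = n3480 := (((D3480).symm.trans (sb E261 (iv D6568)))).symm
theorem E313 : n8390 = n1922 := (((F1950).symm.trans (sb E262 D8390))).symm
theorem E314 : n6566 = n2626 := ((((iv F1969)).symm.trans (sb E262 F5164))).symm
theorem E315 : n5992 = n2900 := ((((iv D3864)).symm.trans (sb E263 D5992))).symm
theorem E316 : n8517 = n5312 := ((((iv F9387)).symm.trans (sb E265 F8600))).symm
theorem E318 : n8744 = n7348 := ((D8744).symm.trans (sb E267 F6713))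
theorem E319 : n5156 = n2959 := (((F3007).symm.trans (sb E268 F4001))).symm
theorem E321 : n5674 = n3278 := (((F3006).symm.trans (sb E269 (iv D7298)))).symm
theorem E322 : n5670 = n5313 := ((F5251).symm.trans (sb E270 F5406))
theorem E323 : n7695 = n2154 := ((((iv D2901)).symm.trans (sb E271 F7846))).symm
theorem E324 : n8325 = n2902 := (((F2950).symm.trans (sb E272 (iv D10469)))).symm
theorem E326 : n10961 = n6561 := (((F5165).symm.trans (sb E273 (iv F8996)))).symm
theorem E327 : n9947 = n5536 := (((D5536).symm.trans (sb E274 F8041))).symm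
theorem E328 : n7572 = n6146 := (((iv F6016)).symm.trans (sb E275 (iv D7887)))
theorem F9427 : act 1 n1392 = n1392 := (sb E281 (iv D1911))
theorem E329 : n2595 = n999 := ((((iv D1392)).symm.trans (sb E281 (iv F1946)))).symm
theorem E330 : n2598 = n1912 := (((D1912).symm.trans (sb E281 D2598))).symm
theorem E331 : n4574 = n485 := ((((iv D703)).symm.trans (sb E282 D4574))).symm
theorem E332 : n4580 = n1915 := (((D1915).symm.trans (sb E283 D4580))).symm
theorem E334 : n7608 = n482 := ((((iv F338)).symm.trans (sb E287 (iv F6044)))).symm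
theorem E336 : n7667 = n218 := ((((iv D331)).symm.trans (sb E289 D7667))).symm
theorem E338 : n9904 = n6668 := ((((iv F5241)).symm.trans (sb E294 (iv F7999)))).symm
theorem E340 : n6671 = n6120 := ((D6671).symm.trans (sb E294 (iv D7851)))
theorem E341 : n6932 = n6116 := ((F5805).symm.trans (sb E295 (iv D7848)))
theorem E342 : n8211 = n1803 := ((((iv D2453)).symm.trans (sb E297 D8211))).symm
theorem E344 : n9898 = n4103 := (((F4167).symm.trans (sb E298 (iv F7991)))).symm
theorem F9428 : act 1 n3767 = n3287 := (sb E299 (iv D4344))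
theorem E347 : n5370 = n4948 := (((D4948).symm.trans (sb E299 (iv F4168)))).symm
theorem E348 : n7849 = n5368 := ((((iv F4166)).symm.trans (sb E300 F6252))).symm
theorem E351 : n11072 = n4553 := ((((iv D5938)).symm.trans (sb E302 (iv F9096)))).symm
theorem E352 : n7632 = n6944 := ((D7632).symm.trans (sb E302 (iv D8847)))
theorem E356 : n8600 = n4568 := (((D4568).symm.trans (sb E305 (iv D10786)))).symm
theorem E357 : n7651 = n5212 := ((D7651).symm.trans (sb E306 F5305))
theorem F9430 : act 1 n6147 = n7128 := (sb E309 (iv D9067))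
theorem E362 : n10533 = n3473 := (((F9383).symm.trans (sb E310 (iv F8594)))).symm
theorem E364 : n6567 = n4584 := (((D4584).symm.trans (sb E310 (iv D8384)))).symm
theorem E365 : n8386 = n1395 := ((((iv D1916)).symm.trans (sb E311 (iv F6710)))).symm
theorem E367 : n4591 = n3862 := ((D4591).symm.trans (sb E312 (iv D5063)))
theorem E369 : n8382 = n2613 := (((D2613).symm.trans (sb E313 F6712))).symm
theorem E370 : n5062 = n3508 := (((D3508).symm.trans (sb E314 (iv D6566)))).symm
theorem E371 : n4628 = n2153 := ((((iv D2900)).symm.trans (sb E315 F4690))).symm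
theorem E372 : n7294 = n4053 := ((((iv D5312)).symm.trans (sb E316 F6825))).symm
theorem E373 : n6868 = n5714 := (((F5837).symm.trans (sb E318 F7021))).symm
theorem E375 : n6522 = n2201 := (((F2225).symm.trans (sb E319 (iv F5119)))).symm
theorem E376 : n3932 = n2955 := (((F2226).symm.trans (sb E319 (iv D5156)))).symm
theorem E377 : n6521 = n2200 := ((((iv D2959)).symm.trans (sb E319 (iv F5118)))).symm
theorem E379 : n6861 = n4334 := (((D4334).symm.trans (sb E321 F5409))).symm
theorem E381 : n4340 = n4055 := (((F4121).symm.trans (sb E322 F4431))).symm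
theorem E383 : n6035 = n1572 := ((((iv D2154)).symm.trans (sb E323 F6118))).symm
theorem E384 : n6516 = n2160 := (((F2178).symm.trans (sb E324 (iv D8325)))).symm
theorem E385 : n7561 = n3867 := (((D3867).symm.trans (sb E324 F6651))).symm
theorem E387 : n8755 = n7349 := ((((iv F5839)).symm.trans (sb E326 F8995))).symm
theorem E388 : n7885 = n5892 := ((((iv F4609)).symm.trans (sb E327 (iv D9947)))).symm
theorem E389 : n9069 = n7886 := (((D7886).symm.trans (sb E328 (iv F7304)))).symm
theorem F9436 : act 3 n6146 = n7128 := (sb E328 F6016)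
theorem E390 : n1910 = n1391 := ((((iv F1009)).symm.trans (sb E329 (iv D2595)))).symm
theorem F9437 : act 1 n1912 = n1912 := (sb E330 F1947)
theorem E392 : n3471 = n1808 := (((F1403).symm.trans (sb E330 D3471))).symm
theorem E393 : n5969 = n657 := ((((iv F460)).symm.trans (sb E331 D5969))).symm
theorem E394 : n5977 = n2602 := (((D2602).symm.trans (sb E332 D5977))).symm
theorem E397 : n5921 = n696 := ((((iv F492)).symm.trans (sb E334 (iv D7608)))).symm
theorem E401 : n7881 = n306 := ((((iv F208)).symm.trans (sb E336 (iv F6278)))).symm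
theorem E404 : n7850 = n6672 := ((((iv F5246)).symm.trans (sb E338 (iv D9904)))).symm
theorem F9438 : act 1 n6120 = n7304 := (sb E340 (iv F5804))
theorem E406 : n6670 = n4698 := ((((iv D6120)).symm.trans (sb E340 F5243))).symm
theorem E407 : n8833 = n4696 := ((((iv D6116)).symm.trans (sb E341 (iv F7109)))).symm
theorem F9441 : act 2 n6116 = n7304 := (sb E341 (iv F5805))
theorem E408 : n9467 = n2305 := ((((iv F1717)).symm.trans (sb E342 (iv F7649)))).symm
theorem E411 : n7846 = n4114 := ((((iv F3154)).symm.trans (sb E344 (iv D9898)))).symm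
theorem F9442 : act 1 n4948 = n4104 := (sb E347 (iv D5370))
theorem F9443 : act 3 n5368 = n6116 := (sb E348 (iv D7849))
theorem E419 : n8846 = n5939 := (((D5939).symm.trans (sb E351 (iv D11072)))).symm
theorem E420 : n7090 = n5379 := (((F5477).symm.trans (sb E352 (iv F6067)))).symm
theorem E422 : n10785 = n5473 := ((((iv F4260)).symm.trans (sb E356 D10785))).symm
theorem E424 : n8994 = n3980 := (((F4044).symm.trans (sb E357 (iv F7235)))).symm
theorem E429 : n8383 = n4584 := (((D4584).symm.trans (sb E362 (iv D10533)))).symm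
theorem E431 : n5983 = n5072 := ((D5983).symm.trans (sb E364 F5158))
theorem E433 : n6569 = n1408 := ((((iv F1023)).symm.trans (sb E365 (iv D8386)))).symm
theorem E435 : n5993 = n2904 := (((F2949).symm.trans (sb E367 D5993))).symm
theorem F9452 : act 2 n3862 = n3480 := (sb E367 (iv D4591))
theorem E438 : n10529 = n3492 := (((D3492).symm.trans (sb E369 (iv F8593)))).symm
theorem E439 : n6565 = n4626 := (((D4626).symm.trans (sb E370 (iv F5156)))).symm
theorem E441 : n3509 = n2899 := (((D2899).symm.trans (sb E371 (iv D4628)))).symm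
theorem E443 : n9253 = n3051 := ((((iv D4053)).symm.trans (sb E372 D9253))).symm
theorem E444 : n5457 = n5321 := ((F4466).symm.trans (sb E373 (iv D6868)))
theorem E445 : n8754 = n4366 := ((((iv D5714)).symm.trans (sb E373 D8754))).symm
theorem E446 : n6517 = n2159 := (((F1639).symm.trans (sb E375 F5120))).symm
theorem E448 : n5028 = n1609 := ((((iv D2201)).symm.trans (sb E375 (iv D6522)))).symm
theorem F9453 : act 1 n2955 = n2955 := (sb E376 F3004)
theorem E449 : n2954 = n2197 := ((((iv D2955)).symm.trans (sb E376 (iv D3932)))).symm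
theorem E450 : n5027 = n1608 := ((((iv D2200)).symm.trans (sb E377 (iv D6521)))).symm
theorem E453 : n5315 = n3284 := (((F3328).symm.trans (sb E379 F5407))).symm
theorem E455 : n4117 = n3059 := (((F3095).symm.trans (sb E381 F3333))).symm
theorem E457 : n7746 = n2150 := ((((iv F1599)).symm.trans (sb E383 (iv F6161)))).symm
theorem E458 : n5025 = n1599 := (((F1609).symm.trans (sb E384 F5114))).symm
theorem E459 : n5024 = n1598 := (((F1610).symm.trans (sb E384 (iv D6516)))).symm
theorem E460 : n8326 = n1576 := ((((iv D2160)).symm.trans (sb E384 D8326))).symm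
theorem E461 : n5885 = n2943 := (((F2953).symm.trans (sb E385 (iv D7561)))).symm
theorem E463 : n7045 = n6869 := ((F5840).symm.trans (sb E387 F7031))
theorem E465 : n9920 = n4516 := ((((iv D5892)).symm.trans (sb E388 (iv F8014)))).symm
theorem E467 : n9948 = n7129 := ((D9948).symm.trans (sb E389 (iv D9069)))
theorem E468 : n2573 = n1894 := ((((iv F1393)).symm.trans (sb E390 (iv F1929)))).symm
theorem F9456 : act 2 n1391 = n1391 := (sb E390 (iv D1910))
theorem E469 : n2596 = n998 := ((((iv D1391)).symm.trans (sb E390 D2596))).symm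
theorem E471 : n3294 = n2458 := ((((iv F1839)).symm.trans (sb E392 F2636))).symm
theorem E473 : n6143 = n455 := ((((iv D657)).symm.trans (sb E393 (iv F4799)))).symm
theorem E475 : n7677 = n3478 := (((D3478).symm.trans (sb E394 D7677))).symm
theorem E478 : n4541 = n988 := ((((iv F710)).symm.trans (sb E397 (iv D5921)))).symm
theorem E480 : n7610 = n480 := ((((iv D696)).symm.trans (sb E397 D7610))).symm
theorem E482 : n7876 = n348 := ((((iv F239)).symm.trans (sb E401 F6279))).symm
theorem F9457 : act 0 n6672 = n6120 := (sb E404 F6253)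
theorem E484 : n9903 = n6577 := (((F5245).symm.trans (sb E404 D9903))).symm
theorem E485 : n6119 = n5153 := ((((iv D6672)).symm.trans (sb E404 (iv D7850)))).symm
theorem E487 : n8510 = n3569 := ((((iv D4698)).symm.trans (sb E406 (iv F6818)))).symm
theorem E489 : n11052 = n3567 := ((((iv D4696)).symm.trans (sb E407 (iv F9076)))).symm
theorem E490 : n7480 = n3092 := ((((iv F2331)).symm.trans (sb E408 F7650))).symm
theorem E492 : n6115 = n5382 := (((D5382).symm.trans (sb E411 (iv D7846)))).symm
theorem E493 : n9899 = n3097 := ((((iv D4114)).symm.trans (sb E411 D9899))).symm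
theorem E494 : n6912 = n4101 := (((F3155).symm.trans (sb E411 F6249))).symm
theorem E504 : n11070 = n5942 := ((((iv F4646)).symm.trans (sb E419 D11070))).symm
theorem F9459 : act 1 n5939 = n6944 := (sb E419 (iv D8846))
theorem E506 : n6946 = n5499 := ((D6946).symm.trans (sb E420 (iv D7090)))
theorem E507 : n8985 = n6947 := (((D6947).symm.trans (sb E420 (iv F7226)))).symm
theorem E508 : n8606 = n4188 := (((F4259).symm.trans (sb E422 F8829))).symm
theorem E511 : n7067 = n5215 := ((((iv F4046)).symm.trans (sb E424 (iv D8994)))).symm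
theorem E517 : n6578 = n5072 := (((E431).symm.trans ((D5983).symm.trans (sb E429 F6708)))).symm
theorem E518 : n7684 = n3870 := ((((iv D5072)).symm.trans (sb E431 D7684))).symm
theorem E519 : n7685 = n6579 := (((D6579).symm.trans (sb E431 D7685))).symm
theorem E521 : n8371 = n1931 := ((((iv F1418)).symm.trans (sb E433 (iv F6695)))).symm
theorem E523 : n7696 = n2158 := (((F2180).symm.trans (sb E435 D7696))).symm
theorem E524 : n7697 = n2156 := ((((iv D2904)).symm.trans (sb E435 D7697))).symm
theorem E525 : n8381 = n4608 := (((D4608).symm.trans (sb E438 (iv D10529)))).symm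
theorem E526 : n8380 = n6033 := (((D6033).symm.trans (sb E439 (iv F6707)))).symm
theorem E527 : n6034 = n5061 := ((D6034).symm.trans (sb E439 (iv D6565)))
theorem E528 : n4624 = n3855 := ((((iv F2942)).symm.trans (sb E441 (iv F3555)))).symm
theorem F9464 : act 3 n2899 = n2627 := (sb E441 (iv D3509))
theorem E531 : n9267 = n4054 := (((D4054).symm.trans (sb E443 (iv F7483)))).symm
theorem E532 : n7044 = n4060 := ((((iv D5321)).symm.trans (sb E444 (iv F5562)))).symm
theorem E533 : n4172 = n4076 := (((F4127).symm.trans (sb E444 (iv D5457)))).symm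
theorem E534 : n6894 = n3305 := (((F3352).symm.trans (sb E445 F7030))).symm
theorem E536 : n8327 = n1575 := ((((iv D2159)).symm.trans (sb E446 D8327))).symm
theorem E539 : n3830 = n1162 := ((((iv D1609)).symm.trans (sb E448 (iv D5028)))).symm
theorem F9466 : act 1 n2197 = n2197 := (sb E449 (iv D2954))
theorem E540 : n2198 = n1605 := ((((iv D2197)).symm.trans (sb E449 F2221))).symm
theorem E541 : n6520 = n1304 := (((F1176).symm.trans (sb E450 (iv F5116)))).symm
theorem E542 : n3829 = n1161 := ((((iv D1608)).symm.trans (sb E450 (iv D5027)))).symm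
theorem E545 : n6863 = n2451 := ((((iv D3284)).symm.trans (sb E453 D6863))).symm
theorem E548 : n5385 = n4061 := ((((iv F3101)).symm.trans (sb E455 (iv F4180)))).symm
theorem E549 : n4062 = n3099 := ((D4062).symm.trans (sb E455 (iv D4117)))
theorem E552 : n6031 = n2894 := (((D2894).symm.trans (sb E457 (iv D7746)))).symm
theorem E553 : n8050 = n2895 := (((D2895).symm.trans (sb E457 (iv F6416)))).symm
theorem E554 : n3828 = n1156 := ((((iv D1599)).symm.trans (sb E458 (iv D5025)))).symm
theorem E555 : n4509 = n2190 := ((((iv F1632)).symm.trans (sb E459 F3895))).symm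
theorem E557 : n8283 = n1139 := ((((iv D1576)).symm.trans (sb E460 F6653))).symm
theorem E558 : n4510 = n3270 := ((((iv F2485)).symm.trans (sb E461 F4605))).symm
theorem E559 : n7562 = n3918 := (((D3918).symm.trans (sb E461 D7562))).symm
theorem E561 : n8756 = n6969 := ((D8756).symm.trans (sb E463 F5566))
theorem E562 : n7862 = n3423 := (((F3474).symm.trans (sb E465 (iv D9920)))).symm
theorem E563 : n9068 = n7890 := ((D9068).symm.trans (sb E467 F8042))
theorem F9471 : act 3 n7129 = n7886 := (sb E467 (iv D9948))
theorem E564 : n3440 = n1380 := (((F1394).symm.trans (sb E468 D3440))).symm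
theorem F9472 : act 2 n1894 = n1894 := (sb E468 (iv D2573))
theorem E565 : n3441 = n1379 := ((((iv D1894)).symm.trans (sb E468 D3441))).symm
theorem E566 : n3468 = n1390 := (((D1390).symm.trans (sb E469 D3468))).symm
theorem E568 : n3586 = n3293 := ((((iv F2499)).symm.trans (sb E471 (iv F2736)))).symm
theorem E570 : n7878 = n307 := (((F321).symm.trans (sb E473 (iv F6274)))).symm
theorem E572 : n7873 = n4588 := (((D4588).symm.trans (sb E475 (iv F6270)))).symm
theorem E573 : n7872 = n3291 := (((F2645).symm.trans (sb E475 F6268))).symm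
theorem E576 : n3442 = n1381 := (((D1381).symm.trans (sb E478 F3491))).symm
theorem E577 : n5922 = n695 := ((((iv D988)).symm.trans (sb E478 D5922))).symm
theorem E580 : n9626 = n326 := ((((iv D480)).symm.trans (sb E480 D9626))).symm
theorem E583 : n6140 = n508 := (((D508).symm.trans (sb E482 (iv D7876)))).symm
theorem E586 : n7852 = n5070 := ((((iv D6577)).symm.trans (sb E484 F7998))).symm
theorem F9474 : act 0 n5153 = n4698 := (sb E485 (iv D6119))
theorem E587 : n5071 = n4699 := ((F3993).symm.trans (sb E485 F4781))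
theorem E588 : n5165 = n3930 := ((((iv D5153)).symm.trans (sb E485 F4782))).symm
theorem E592 : n6669 = n2964 := (((F2721).symm.trans (sb E487 (iv D8510)))).symm
theorem E594 : n11082 = n2671 := ((((iv D3567)).symm.trans (sb E489 (iv F9107)))).symm
theorem E595 : n5815 = n4106 := ((((iv F3143)).symm.trans (sb E490 F5948))).symm
theorem E596 : n9468 = n4107 := (((D4107).symm.trans (sb E490 D9468))).symm
theorem E597 : n5814 = n2304 := ((((iv D3092)).symm.trans (sb E490 (iv D7480)))).symm
theorem E599 : n6951 = n4695 := ((D6951).symm.trans (sb E492 (iv D6115)))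
theorem E600 : n6878 = n5291 := (((F4177).symm.trans (sb E492 (iv F5425)))).symm
theorem E601 : n5367 = n5354 := ((F4178).symm.trans (sb E492 F4779))
theorem E602 : n10984 = n4113 := ((((iv F3152)).symm.trans (sb E493 (iv F9015)))).symm
theorem E603 : n8808 = n3088 := ((((iv D4101)).symm.trans (sb E494 (iv F7087)))).symm
theorem E616 : n8888 = n7636 := (((D7636).symm.trans (sb E504 F9094))).symm
theorem E618 : n8849 = n7060 := ((((iv F5577)).symm.trans (sb E506 D8849))).symm
theorem E619 : n8851 = n7058 := ((((iv F5576)).symm.trans (sb E506 D8851))).symm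
theorem E620 : n11230 = n8852 := (((D8852).symm.trans (sb E507 (iv F9236)))).symm
theorem E621 : n6744 = n5477 := ((((iv F4263)).symm.trans (sb E508 (iv D8606)))).symm
theorem E628 : n8996 = n3979 := ((((iv D5215)).symm.trans (sb E511 D8996))).symm
theorem F9477 : act 0 n5072 = n5072 := (sb E517 (iv D6578))
theorem E636 : n9712 = n2906 := (((F2956).symm.trans (sb E518 D9712))).symm
theorem E637 : n6039 = n5073 := (((D5073).symm.trans (sb E518 (iv F9382)))).symm
theorem E638 : n8398 = n5984 := ((D8398).symm.trans (sb E519 (iv F9397)))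
theorem E641 : n6557 = n2623 := (((D2623).symm.trans (sb E521 (iv D8371)))).symm
theorem E644 : n8079 = n1575 := (((F1606).symm.trans (sb E523 (iv F9379)))).symm
theorem E645 : n6300 = n1574 := ((((iv D2158)).symm.trans (sb E523 F9375))).symm
theorem E646 : n6299 = n2903 := (((D2903).symm.trans (sb E524 F9365))).symm
theorem E647 : n10528 = n6014 := (((D6014).symm.trans (sb E525 (iv F8592)))).symm
theorem E648 : n10530 = n6015 := (((D6015).symm.trans (sb E525 D10530))).symm
theorem E649 : n10527 = n6175 := (((F9349).symm.trans (sb E526 (iv F8591)))).symm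
theorem E651 : n6171 = n3868 := (((F3924).symm.trans (sb E527 (iv F9359)))).symm
theorem E652 : n6030 = n5054 := ((((iv F3918)).symm.trans (sb E528 (iv F4715)))).symm
theorem E657 : n7307 = n5314 := (((D5314).symm.trans (sb E531 (iv D9267)))).symm
theorem E658 : n5456 = n3069 := (((F3100).symm.trans (sb E532 (iv D7044)))).symm
theorem E659 : n5341 = n3142 := ((D5341).symm.trans (sb E533 F3200))
theorem E661 : n5573 = n3308 := ((((iv F2513)).symm.trans (sb E534 F5437))).symm
theorem E664 : n8282 = n1138 := ((((iv D1575)).symm.trans (sb E536 F6655))).symm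
theorem E667 : n2875 = n825 := (((F837).symm.trans (sb E539 F2921))).symm
theorem E669 : n1606 = n1160 := (((F1170).symm.trans (sb E540 (iv D2198)))).symm
theorem E671 : n7555 = n932 := ((((iv D1304)).symm.trans (sb E541 (iv F6000)))).symm
theorem E673 : n2882 = n1604 := ((((iv F1169)).symm.trans (sb E542 F2920))).symm
theorem E676 : n8748 = n1801 := ((((iv D2451)).symm.trans (sb E545 D8748))).symm
theorem E677 : n5324 = n2310 := (((F1835).symm.trans (sb E545 F5410))).symm
theorem E678 : n8226 = n3285 := (((D3285).symm.trans (sb E545 F9412))).symm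
theorem E681 : n5323 = n4116 := ((D5323).symm.trans (sb E548 (iv D5385)))
theorem F9481 : act 2 n3099 = n3059 := (sb E549 (iv D4062))
theorem E682 : n5325 = n4118 := (((D4118).symm.trans (sb E549 D5325))).symm
theorem E684 : n7745 = n3854 := (((D3854).symm.trans (sb E552 (iv F6160)))).symm
theorem E685 : n6280 = n3856 := (((D3856).symm.trans (sb E552 (iv F4907)))).symm
theorem E686 : n10054 = n3857 := (((D3857).symm.trans (sb E553 (iv F8135)))).symm
theorem E687 : n2873 = n820 := (((F834).symm.trans (sb E554 F2919))).symm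
theorem E688 : n2872 = n819 := ((((iv D1156)).symm.trans (sb E554 (iv D3828)))).symm
theorem E689 : n3418 = n2441 := ((((iv F1828)).symm.trans (sb E555 (iv D4509)))).symm
theorem E692 : n8288 = n807 := (((F822).symm.trans (sb E557 (iv F6620)))).symm
theorem E693 : n6481 = n806 := ((((iv D1139)).symm.trans (sb E557 (iv D8283)))).symm
theorem E694 : n4302 = n3435 := (((iv F3301)).symm.trans (sb E558 F3469))
theorem E696 : n9570 = n5137 := (((D5137).symm.trans (sb E559 D9570))).symm
theorem E698 : n10972 = n7258 := ((((iv F5753)).symm.trans (sb E561 D10972))).symm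
theorem E699 : n8791 = n5461 := (((F5496).symm.trans (sb E561 (iv F7069)))).symm
theorem E700 : n6129 = n4517 := (((D4517).symm.trans (sb E562 (iv D7862)))).symm
theorem F9483 : act 1 n7890 = n7129 := (sb E563 (iv D9068))
theorem E703 : n9951 = n7138 := ((D9951).symm.trans (sb E563 F7302))
theorem E704 : n2574 = n1895 := (((D1895).symm.trans (sb E564 F2613))).symm
theorem E705 : n4542 = n987 := ((((iv D1380)).symm.trans (sb E564 D4542))).symm
theorem E706 : n3465 = n1893 := (((D1893).symm.trans (sb E565 (iv F2630)))).symm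
theorem E707 : n4576 = n1804 := ((((iv F1328)).symm.trans (sb E566 D4576))).symm
theorem E710 : n4353 = n3581 := (((iv F3343)).symm.trans (sb E568 F2737))
theorem E711 : n2686 = n2457 := ((((iv D3293)).symm.trans (sb E568 (iv D3586)))).symm
theorem E713 : n9938 = n449 := ((((iv F313)).symm.trans (sb E570 (iv F8032)))).symm
theorem E714 : n6141 = n456 := (((D456).symm.trans (sb E570 (iv D7878)))).symm
theorem E716 : n6138 = n5988 := (((D5988).symm.trans (sb E572 F6269))).symm
theorem E717 : n9918 = n5989 := (((D5989).symm.trans (sb E572 (iv F8012)))).symm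
theorem E718 : n6137 = n4350 := (((F3522).symm.trans (sb E572 (iv D7873)))).symm
theorem E719 : n9933 = n4347 := ((((iv F3338)).symm.trans (sb E573 D9933))).symm
theorem E723 : n4544 = n1897 := (((D1897).symm.trans (sb E576 D4544))).symm
theorem E724 : n7611 = n984 := ((((iv F708)).symm.trans (sb E577 D7611))).symm
theorem E727 : n10341 = n478 := ((((iv F335)).symm.trans (sb E580 (iv F8430)))).symm
theorem E730 : n7875 = n734 := (((D734).symm.trans (sb E583 (iv F6271)))).symm
theorem E731 : n4715 = n735 := (((D735).symm.trans (sb E583 (iv D6140)))).symm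
theorem E734 : n6121 = n3869 := (((F3929).symm.trans (sb E586 (iv D7852)))).symm
theorem E736 : n3871 = n3570 := ((((iv D4699)).symm.trans (sb E587 F3930))).symm
theorem F9485 : act 1 n4699 = n5153 := (sb E587 (iv F3993))
theorem F9486 : act 0 n3930 = n3940 := (sb E588 (iv D5165))
theorem E741 : n8347 = n3850 := ((((iv F2939)).symm.trans (sb E592 (iv F6675)))).symm
theorem E743 : n8856 = n3566 := ((((iv F2719)).symm.trans (sb E594 (iv D11082)))).symm
theorem F9488 : act 1 n4106 = n4453 := (sb E595 F4546)
theorem E744 : n7481 = n5374 := (((D5374).symm.trans (sb E595 D7481))).symm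
theorem E745 : n4452 = n3091 := ((((iv D4106)).symm.trans (sb E595 (iv D5815)))).symm
theorem E746 : n9494 = n5375 := (((D5375).symm.trans (sb E596 (iv F7670)))).symm
theorem E747 : n4463 = n3080 := ((((iv F2320)).symm.trans (sb E597 F4545))).symm
theorem E749 : n6835 = n6113 := ((((iv F4778)).symm.trans (sb E599 F5483))).symm
theorem E750 : n6930 = n4089 := (((F3610).symm.trans (sb E599 F5484))).symm
theorem E751 : n8766 = n4036 := (((F4103).symm.trans (sb E600 (iv F7040)))).symm
theorem E752 : n5328 = n4035 := ((((iv D5291)).symm.trans (sb E600 (iv D6878)))).symm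
theorem E753 : n6928 = n4088 := ((((iv D5354)).symm.trans (sb E601 (iv F5466)))).symm
theorem E754 : n10769 = n4037 := (((F3151).symm.trans (sb E602 F9014))).symm
theorem E755 : n10768 = n3096 := ((((iv D4113)).symm.trans (sb E602 F9016))).symm
theorem E756 : n6911 = n4100 := ((((iv F3139)).symm.trans (sb E603 (iv D8808)))).symm
theorem E765 : n9651 = n6976 := ((D9651).symm.trans (sb E616 (iv D8888)))
theorem E766 : n11118 = n9650 := ((((iv F7789)).symm.trans (sb E616 D11118))).symm
theorem E770 : n8987 = n6949 := (((iv F7227)).symm.trans (sb E618 F7119))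
theorem F9492 : act 1 n7058 = n6947 := (sb E619 F7122)
theorem E773 : n11078 = n8984 := ((D11078).symm.trans (sb E620 (iv D11230)))
theorem E774 : n7068 = n5214 := (((iv F5584)).symm.trans (sb E621 (iv D6744)))
theorem E775 : n7069 = n6722 := ((D7069).symm.trans (sb E621 F5307))
theorem E781 : n8713 = n2993 := ((((iv D3979)).symm.trans (sb E628 (iv F7238)))).symm
theorem E791 : n7754 = n3872 := (((D3872).symm.trans (sb E636 F9380))).symm
theorem E792 : n5075 = n4631 := (((iv F3933)).symm.trans (sb E637 (iv D6039)))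
theorem E793 : n8401 = n4632 := (((F4682).symm.trans (sb E638 (iv F6724)))).symm
theorem E795 : n8368 = n3505 := (((D3505).symm.trans (sb E641 (iv F6693)))).symm
theorem E798 : n7958 = n1139 := (((F1148).symm.trans (sb E644 F6449))).symm
theorem E800 : n6303 = n1138 := ((((iv D1575)).symm.trans (sb E644 (iv D8079)))).symm
theorem E801 : n4842 = n2157 := (((D2157).symm.trans (sb E645 (iv D6300)))).symm
theorem E802 : n4841 = n3869 := (((D3869).symm.trans (sb E646 (iv D6299)))).symm
theorem E803 : n10682 = n7723 := (((D7723).symm.trans (sb E647 (iv F8717)))).symm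
theorem E804 : n10549 = n7724 := (((D7724).symm.trans (sb E647 (iv F8611)))).symm
theorem E805 : n10548 = n5309 := ((((iv F9362)).symm.trans (sb E648 (iv F8608)))).symm
theorem E806 : n8379 = n4743 := ((((iv D6175)).symm.trans (sb E649 (iv D10527)))).symm
theorem E808 : n6298 = n5070 := (((D5070).symm.trans (sb E651 F4921))).symm
theorem E809 : n7744 = n6554 := (((D6554).symm.trans (sb E652 (iv F6159)))).symm
theorem E813 : n9266 = n6020 := (((F9378).symm.trans (sb E657 (iv F7480)))).symm
theorem E814 : n7043 = n2287 := ((((iv D3069)).symm.trans (sb E658 (iv F5561)))).symm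
theorem E816 : n4259 = n2467 := (((F2370).symm.trans (sb E659 F4145))).symm
theorem E819 : n7147 = n4370 := (((D4370).symm.trans (sb E661 (iv F5654)))).symm
theorem E823 : n6480 = n808 := (((F821).symm.trans (sb E664 (iv D8282)))).symm
theorem E826 : n2876 = n577 := (((F584).symm.trans (sb E667 (iv F2158)))).symm
theorem E827 : n2132 = n576 := ((((iv D825)).symm.trans (sb E667 (iv D2875)))).symm
theorem E828 : n1603 = n1564 := ((((iv F1142)).symm.trans (sb E669 F1171))).symm
theorem F9504 : act 2 n1160 = n1160 := (sb E669 (iv D1606))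
theorem E830 : n5879 = n654 := ((((iv D932)).symm.trans (sb E671 (iv D7555)))).symm
theorem E833 : n3837 = n2195 := (((D2195).symm.trans (sb E673 D3837))).symm
theorem E836 : n9618 = n2452 := (((D2452).symm.trans (sb E676 (iv F9411)))).symm
theorem E837 : n6873 = n3100 := (((D3100).symm.trans (sb E677 D6873))).symm
theorem E838 : n6436 = n4342 := (((D4342).symm.trans (sb E678 (iv D8226)))).symm
theorem E840 : n6871 = n3105 := (((F3156).symm.trans (sb E681 D6871))).symm
theorem E841 : n4098 = n4038 := ((((iv F3157)).symm.trans (sb E681 F4130))).symm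
theorem E842 : n5387 = n4097 := ((D5387).symm.trans (sb E682 F4132))
theorem E843 : n9783 = n4639 := ((((iv F3568)).symm.trans (sb E684 D9783))).symm
theorem E845 : n5057 = n4827 := ((D5057).symm.trans (sb E685 (iv D6280)))
theorem E846 : n7979 = n3918 := ((((iv F2994)).symm.trans (sb E686 (iv D10054)))).symm
theorem E847 : n2133 = n826 := ((((iv F586)).symm.trans (sb E687 F2155))).symm
theorem E848 : n2131 = n572 := ((((iv D820)).symm.trans (sb E687 (iv D2873)))).symm
theorem E849 : n3803 = n573 := (((F582).symm.trans (sb E688 (iv F2896)))).symm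
theorem E850 : n2555 = n1794 := ((((iv D2441)).symm.trans (sb E689 (iv D3418)))).symm
theorem E855 : n6484 = n564 := ((((iv D807)).symm.trans (sb E692 (iv D8288)))).symm
theorem E856 : n4997 = n565 := (((F575).symm.trans (sb E693 (iv D6481)))).symm
theorem E857 : n5629 = n4533 := ((((iv F3484)).symm.trans (sb E694 (iv F4396)))).symm
theorem F9507 : act 1 n3435 = n3270 := (sb E694 F3301)
theorem E858 : n3248 = n2569 := ((((iv D3435)).symm.trans (sb E694 (iv D4302)))).symm
theorem E861 : n9575 = n5134 := (((F3983).symm.trans (sb E696 (iv F7734)))).symm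
theorem E864 : n11012 = n7050 := ((((iv F5754)).symm.trans (sb E698 (iv F9044)))).symm
theorem E865 : n6898 = n4174 := ((((iv D5461)).symm.trans (sb E699 (iv D8791)))).symm
theorem E866 : n5893 = n4705 := ((D5893).symm.trans (sb E700 (iv D6129)))
theorem E867 : n4707 = n3427 := (((F3475).symm.trans (sb E700 F4790))).symm
theorem F9509 : act 2 n7138 = n7890 := (sb E703 (iv D9951))
theorem F9510 : act 1 n1895 = n1895 := (sb E704 (iv D2574))
theorem E870 : n3443 = n2575 := (((D2575).symm.trans (sb E704 D3443))).symm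
theorem E871 : n5923 = n1374 := ((((iv F997)).symm.trans (sb E705 D5923))).symm
theorem E872 : n4572 = n2563 := ((((iv F1921)).symm.trans (sb E706 (iv F3509)))).symm
theorem E874 : n5972 = n2437 := ((((iv F1823)).symm.trans (sb E707 D5972))).symm
theorem E875 : n4540 = n2454 := (((D2454).symm.trans (sb E707 F3511))).symm
theorem F9511 : act 1 n3581 = n3293 := (sb E710 F3343)
theorem E879 : n3292 = n2683 := ((((iv D3581)).symm.trans (sb E710 (iv D4353)))).symm
theorem E880 : n1981 = n1809 := (((F1838).symm.trans (sb E711 (iv D2686)))).symm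
theorem E882 : n7877 = n652 := (((D652).symm.trans (sb E713 (iv D9938)))).symm
theorem E883 : n4716 = n659 := (((D659).symm.trans (sb E714 (iv D6141)))).symm
theorem E886 : n5690 = n4712 := ((F4686).symm.trans (sb E716 (iv D6138)))
theorem E887 : n8161 = n7691 := (((D7691).symm.trans (sb E717 F8013))).symm
theorem E888 : n6918 = n5691 := (((D5691).symm.trans (sb E718 (iv F5459)))).symm
theorem E889 : n11037 = n5686 := (((D5686).symm.trans (sb E719 (iv F9066)))).symm
theorem E892 : n5927 = n2578 := (((D2578).symm.trans (sb E723 D5927))).symm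
theorem E893 : n8221 = n693 := ((((iv D984)).symm.trans (sb E724 (iv F6565)))).symm
theorem E894 : n7618 = n1375 := (((D1375).symm.trans (sb E724 (iv F6053)))).symm
theorem E897 : n10340 = n325 := ((((iv D478)).symm.trans (sb E727 F8429))).symm
theorem E905 : n6139 = n1039 := (((D1039).symm.trans (sb E730 (iv D7875)))).symm
theorem E906 : n3582 = n941 := ((((iv F676)).symm.trans (sb E731 (iv D4715)))).symm
theorem E909 : n4700 = n2905 := (((F2955).symm.trans (sb E734 F4783))).symm
theorem F9512 : act 2 n3869 = n4699 := (sb E734 (iv D6121))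
theorem E911 : n5074 = n2673 := ((((iv D3570)).symm.trans (sb E736 D5074))).symm
theorem E919 : n6537 = n5048 := (((D5048).symm.trans (sb E741 (iv D8347)))).symm
theorem E922 : n11083 = n2670 := ((((iv D3566)).symm.trans (sb E743 D11083))).symm
theorem E923 : n6940 = n6422 := ((D6940).symm.trans (sb E744 F5949))
theorem F9514 : act 1 n3091 = n3374 := (sb E745 (iv D4452))
theorem E925 : n4091 = n3383 := (((iv F3131)).symm.trans (sb E745 F3424))
theorem E926 : n7499 = n6942 := (((D6942).symm.trans (sb E746 (iv D9494)))).symm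
theorem E928 : n5829 = n4092 := (((D4092).symm.trans (sb E747 D5829))).symm
theorem E931 : n7021 = n4694 := ((((iv D6113)).symm.trans (sb E749 (iv F5542)))).symm
theorem E932 : n6876 = n5290 := (((iv F5421)).symm.trans (sb E749 (iv D6835)))
theorem E933 : n8827 = n3077 := ((((iv D4089)).symm.trans (sb E750 (iv F7101)))).symm
theorem E935 : n6877 = n3038 := ((((iv D4036)).symm.trans (sb E751 (iv D8766)))).symm
theorem E936 : n5275 = n4064 := (((iv F4094)).symm.trans (sb E752 (iv D5328)))
theorem E937 : n5366 = n5353 := ((((iv F4156)).symm.trans (sb E753 (iv D6928)))).symm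
theorem E938 : n8828 = n3076 := ((((iv D4088)).symm.trans (sb E753 D8828))).symm
theorem E939 : n8585 = n5292 := (((D5292).symm.trans (sb E754 F8812))).symm
theorem E940 : n8583 = n4112 := (((F3150).symm.trans (sb E754 (iv D10769)))).symm
theorem E941 : n8582 = n2309 := (((F2336).symm.trans (sb E755 (iv D10768)))).symm
theorem E942 : n8809 = n3087 := ((((iv D4100)).symm.trans (sb E756 D8809))).symm
theorem E953 : n9645 = n8890 := (((D8890).symm.trans (sb E765 F7790))).symm
theorem F9517 : act 0 n9650 = n8889 := (sb E766 F9137)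
theorem E956 : n7059 = n6836 := (((F5481).symm.trans (sb E770 (iv D8987)))).symm
theorem E958 : n11229 = n10547 := (((iv F9235)).symm.trans (sb E773 F9100))
theorem F9519 : act 1 n8984 = n8852 := (sb E773 (iv D11078))
theorem E959 : n6831 = n5195 := (((F4045).symm.trans (sb E774 F5585))).symm
theorem F9521 : act 3 n5214 = n5476 := (sb E774 (iv D7068))
theorem E960 : n8997 = n8576 := (((D8576).symm.trans (sb E775 D8997))).symm
theorem F9522 : act 2 n6722 = n5477 := (sb E775 (iv D7069))
theorem E967 : n6832 = n2980 := (((F2249).symm.trans (sb E781 (iv D8713)))).symm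
theorem E974 : n9793 = n2953 := (((F2957).symm.trans (sb E791 D9793))).symm
theorem E975 : n6038 = n5076 := (((D5076).symm.trans (sb E791 (iv D7754)))).symm
theorem E976 : n6581 = n3512 := (((F3560).symm.trans (sb E792 (iv F5170)))).symm
theorem F9527 : act 2 n4631 = n5073 := (sb E792 F3933)
theorem E977 : n10556 = n3513 := (((F3561).symm.trans (sb E793 (iv F8616)))).symm
theorem E978 : n10557 = n3682 := (((F3562).symm.trans (sb E793 D10557))).symm
theorem E979 : n8487 = n2755 := (((F2667).symm.trans (sb E795 (iv F6801)))).symm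
theorem E984 : n8007 = n807 := (((F822).symm.trans (sb E798 (iv F6386)))).symm
theorem E985 : n6203 = n1576 := (((D1576).symm.trans (sb E798 (iv D7958)))).symm
theorem E986 : n8078 = n806 := ((((iv D1139)).symm.trans (sb E798 (iv F6448)))).symm
theorem E989 : n4844 = n808 := (((F821).symm.trans (sb E800 (iv D6303)))).symm
theorem E990 : n3687 = n1578 := (((F1605).symm.trans (sb E801 F3732))).symm
theorem E992 : n4699 = n4630 := ((F9512).symm.trans (sb E802 F3731))
theorem E993 : n9758 = n8750 := ((D9758).symm.trans (sb E803 F8716))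
theorem E995 : n8395 = n6857 := ((((iv F9360)).symm.trans (sb E804 (iv D10549)))).symm
theorem E996 : n8394 = n6858 := (((D6858).symm.trans (sb E805 (iv D10548)))).symm
theorem E998 : n10526 = n3604 := ((((iv D4743)).symm.trans (sb E806 D10526))).symm
theorem E1001 : n7435 = n6577 := (((D6577).symm.trans (sb E808 (iv F5911)))).symm
theorem E1003 : n9782 = n7763 := ((((iv F6174)).symm.trans (sb E809 D9782))).symm
theorem F9529 : act 3 n6554 = n6029 := (sb E809 (iv D7744))
theorem E1009 : n8942 = n6434 := ((((iv F5049)).symm.trans (sb E813 F7479))).symm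
theorem E1010 : n8941 = n4613 := ((((iv D6020)).symm.trans (sb E813 F7481))).symm
theorem E1011 : n8968 = n1677 := (((F1704).symm.trans (sb E814 (iv F7212)))).symm
theorem E1012 : n5455 = n3070 := (((D3070).symm.trans (sb E814 (iv D7043)))).symm
theorem E1014 : n3307 = n3212 := (((iv F2512)).symm.trans (sb E816 (iv D4259)))
theorem E1019 : n9079 = n5719 := (((D5719).symm.trans (sb E819 (iv F7310)))).symm
theorem E1023 : n8281 = n1140 := (((D1140).symm.trans (sb E823 (iv F6615)))).symm
theorem E1027 : n2552 = n451 := (((F405).symm.trans (sb E826 F2159))).symm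
theorem E1029 : n1557 = n395 := ((((iv D576)).symm.trans (sb E827 (iv D2132)))).symm
theorem E1030 : n2194 = n2141 := ((((iv F1589)).symm.trans (sb E828 (iv F1634)))).symm
theorem F9531 : act 2 n1564 = n1564 := (sb E828 F1168)
theorem E1031 : n1158 = n1128 := ((((iv D1564)).symm.trans (sb E828 (iv D1603)))).symm
theorem E1033 : n4503 = n452 := ((((iv D654)).symm.trans (sb E830 (iv D5879)))).symm
theorem E1039 : n5036 = n2950 := (((D2950).symm.trans (sb E833 D5036))).symm
theorem E1042 : n7604 = n3286 := (((D3286).symm.trans (sb E836 (iv D9618)))).symm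
theorem E1043 : n8762 = n4119 := (((D4119).symm.trans (sb E837 D8762))).symm
theorem E1044 : n5681 = n4962 := ((D5681).symm.trans (sb E838 (iv D6436)))
theorem E1045 : n7639 = n5390 := ((((iv F4185)).symm.trans (sb E838 (iv F6072)))).symm
theorem E1048 : n5364 = n3041 := (((F2340).symm.trans (sb E840 F5416))).symm
theorem E1049 : n5293 = n3086 := ((D5293).symm.trans (sb E841 (iv D4098)))
theorem F9532 : act 2 n4097 = n4118 := (sb E842 (iv D5387))
theorem E1052 : n9280 = n6048 := (((D6048).symm.trans (sb E843 F7896))).symm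
theorem E1054 : n6221 = n5137 := (((iv F4863)).symm.trans (sb E845 (iv F3982)))
theorem E1057 : n10055 = n2943 := ((((iv D3918)).symm.trans (sb E846 D10055))).symm
theorem E1058 : n1876 = n653 := (((F587).symm.trans (sb E847 F1584))).symm
theorem E1059 : n1558 = n818 := (((F588).symm.trans (sb E847 (iv D2133)))).symm
theorem E1060 : n1556 = n392 := ((((iv D572)).symm.trans (sb E848 (iv D2131)))).symm
theorem E1061 : n2854 = n393 := ((((iv D573)).symm.trans (sb E849 (iv D3803)))).symm
theorem E1062 : n1879 = n1299 := ((((iv D1794)).symm.trans (sb E850 (iv D2555)))).symm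
theorem E1063 : n2426 = n1891 := (((iv F1815)).symm.trans (sb E850 F1915))
theorem E1064 : n3419 = n2442 := (((D2442).symm.trans (sb E850 D3419))).symm
theorem E1070 : n4999 = n385 := ((((iv D564)).symm.trans (sb E855 (iv D6484)))).symm
theorem E1071 : n3804 = n386 := ((((iv D565)).symm.trans (sb E856 F3872))).symm
theorem E1072 : n7242 = n5911 := (((D5911).symm.trans (sb E857 D7242))).symm
theorem E1073 : n4301 = n3434 := ((((iv D4533)).symm.trans (sb E857 (iv D5629)))).symm
theorem E1075 : n4303 = n3436 := (((D3436).symm.trans (sb E858 D4303))).symm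
theorem E1079 : n7565 = n3916 := ((((iv D5134)).symm.trans (sb E861 (iv D9575)))).symm
theorem E1082 : n9520 = n8975 := ((((iv F7220)).symm.trans (sb E864 F9043))).symm
theorem E1083 : n8790 = n5460 := ((((iv F4245)).symm.trans (sb E865 (iv F7066)))).symm
theorem F9535 : act 0 n4705 = n4517 := (sb E866 (iv D5893))
theorem E1085 : n4523 = n3575 := (((F3618).symm.trans (sb E866 F4610))).symm
theorem E1088 : n6132 = n4462 := ((((iv F3434)).symm.trans (sb E867 D6132))).symm
theorem F9536 : act 1 n2575 = n2575 := (sb E870 F2615)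
theorem E1092 : n4545 = n2567 := (((F1931).symm.trans (sb E870 D4545))).symm
theorem E1093 : n5965 = n1887 := (((D1887).symm.trans (sb E871 (iv F4666)))).symm
theorem E1095 : n5964 = n3411 := ((((iv F2591)).symm.trans (sb E872 (iv F4665)))).symm
theorem E1096 : n3464 = n3428 := (((D3428).symm.trans (sb E872 (iv D4572)))).symm
theorem E1097 : n7670 = n3242 := ((((iv F2460)).symm.trans (sb E874 D7670))).symm
theorem E1098 : n5920 = n3265 := (((D3265).symm.trans (sb E874 F4671))).symm
theorem E1099 : n5900 = n3288 := (((D3288).symm.trans (sb E875 (iv F4615)))).symm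
theorem F9540 : act 1 n2683 = n2457 := (sb E879 (iv D3292))
theorem E1103 : n4352 = n1979 := ((((iv D2683)).symm.trans (sb E879 D4352))).symm
theorem E1104 : n2459 = n1446 := ((D2459).symm.trans (sb E880 F1457))
theorem E1105 : n1451 = n1445 := ((F1332).symm.trans (sb E880 (iv D1981)))
theorem E1106 : n9937 = n928 := ((((iv F664)).symm.trans (sb E882 D9937))).symm
theorem E1107 : n6880 = n930 := (((D930).symm.trans (sb E882 F6273))).symm
theorem E1108 : n4090 = n940 := (((D940).symm.trans (sb E883 F3629))).symm
theorem E1111 : n7321 = n5358 := ((((iv F4160)).symm.trans (sb E886 D7321))).symm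
theorem E1113 : n10261 = n9719 := (((D9719).symm.trans (sb E887 (iv F8354)))).symm
theorem E1114 : n8815 = n7315 := ((((iv F5810)).symm.trans (sb E888 D8815))).symm
theorem E1115 : n8816 = n7322 := (((D7322).symm.trans (sb E888 D8816))).symm
theorem E1116 : n8820 = n7314 := (((D7314).symm.trans (sb E889 F9065))).symm
theorem E1119 : n7616 = n3445 := (((D3445).symm.trans (sb E892 D7616))).symm
theorem E1121 : n10338 = n479 := (((F491).symm.trans (sb E893 (iv F8426)))).symm
theorem E1122 : n6430 = n985 := (((D985).symm.trans (sb E893 (iv D8221)))).symm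
theorem E1123 : n5928 = n1889 := (((D1889).symm.trans (sb E894 (iv D7618)))).symm
theorem E1124 : n8220 = n374 := ((((iv F255)).symm.trans (sb E897 (iv D10340)))).symm
theorem E1132 : n7868 = n1450 := (((D1450).symm.trans (sb E905 (iv F6264)))).symm
theorem E1133 : n4709 = n1314 := ((((iv F953)).symm.trans (sb E906 (iv F3621)))).symm
theorem E1134 : n6106 = n2162 := (((F2181).symm.trans (sb E909 (iv F4774)))).symm
theorem E1137 : n6580 = n1972 := ((((iv D2673)).symm.trans (sb E911 D6580))).symm
theorem E1138 : n3876 = n3559 := ((((iv F2713)).symm.trans (sb E911 F3932))).symm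
theorem E1145 : n6546 = n5041 := ((D6546).symm.trans (sb E919 F5133))
theorem F9544 : act 2 n5048 = n5039 := (sb E919 (iv D6537))
theorem E1148 : n8947 = n3565 := ((((iv F2718)).symm.trans (sb E922 F9109))).symm
theorem F9545 : act 1 n6422 = n5374 := (sb E923 (iv D6940))
theorem F9547 : act 2 n3383 = n3091 := (sb E925 F3131)
theorem E1153 : n5356 = n4464 := (((D4464).symm.trans (sb E925 D5356))).symm
theorem E1154 : n8844 = n5898 := ((D8844).symm.trans (sb E926 F5961))
theorem E1158 : n7498 = n5357 := (((D5357).symm.trans (sb E928 D7498))).symm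
theorem E1159 : n6105 = n5437 := (((iv F4773)).symm.trans (sb E931 F5541))
theorem E1160 : n6114 = n5436 := ((D6114).symm.trans (sb E931 (iv D7021)))
theorem E1161 : n6813 = n5327 := (((iv F5362)).symm.trans (sb E932 (iv D6876)))
theorem E1162 : n11048 = n2293 := (((F2316).symm.trans (sb E933 D11048))).symm
theorem E1165 : n5329 = n2262 := ((((iv D3038)).symm.trans (sb E935 F5423))).symm
theorem E1166 : n4024 = n3061 := (((F3103).symm.trans (sb E936 (iv D5275)))).symm
theorem E1168 : n6929 = n4087 := ((((iv D5353)).symm.trans (sb E937 D6929))).symm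
theorem E1169 : n8696 = n4063 := ((((iv F3102)).symm.trans (sb E938 F7105))).symm
theorem E1170 : n8569 = n6836 := (((D6836).symm.trans (sb E939 F6887))).symm
theorem E1171 : n10771 = n4041 := (((F4104).symm.trans (sb E939 D10771))).symm
theorem E1172 : n6728 = n5381 := ((((iv F4176)).symm.trans (sb E939 (iv D8585)))).symm
theorem E1173 : n6726 = n3098 := (((F3149).symm.trans (sb E940 (iv D8583)))).symm
theorem E1174 : n10758 = n1693 := ((((iv D2309)).symm.trans (sb E941 (iv F8804)))).symm
theorem E1176 : n8826 = n4099 := (((D4099).symm.trans (sb E942 (iv F7100)))).symm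
theorem E1180 : n11121 = n10881 := ((D11121).symm.trans (sb E953 F8919))
theorem F9552 : act 1 n6836 = n5469 := (sb E956 (iv D7059))
theorem E1183 : n8979 = n5296 := (((F5388).symm.trans (sb E956 (iv F7223)))).symm
theorem F9553 : act 0 n10547 = n8984 := (sb E958 F9235)
theorem F9554 : act 2 n10547 = n8983 := (sb E958 (iv D11229))
theorem F9555 : act 3 n10547 = n11256 := (sb E958 (iv F9265))
theorem E1185 : n5287 = n3962 := ((((iv D5195)).symm.trans (sb E959 F5381))).symm
theorem F9556 : act 2 n8576 = n7070 := (sb E960 F7239)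
theorem E1188 : n10760 = n8712 := ((D10760).symm.trans (sb E960 F7240))
theorem E1192 : n6829 = n2218 := (((F2241).symm.trans (sb E967 F5382))).symm
theorem E1200 : n9416 = n2196 := ((((iv D2953)).symm.trans (sb E974 F7903))).symm
theorem F9561 : act 0 n5076 = n4631 := (sb E975 F4720)
theorem E1201 : n5779 = n3930 := (((F3935).symm.trans (sb E975 F4721))).symm
theorem E1202 : n8400 = n2630 := (((F2673).symm.trans (sb E976 (iv F6723)))).symm
theorem E1203 : n10573 = n4633 := (((D4633).symm.trans (sb E977 (iv F8628)))).symm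
theorem E1204 : n10572 = n2761 := ((((iv D3682)).symm.trans (sb E978 (iv F8626)))).symm
theorem E1205 : n9168 = n2035 := (((F2061).symm.trans (sb E979 F7380))).symm
theorem E1206 : n9170 = n3673 := (((D3673).symm.trans (sb E979 (iv F7383)))).symm
theorem E1207 : n6650 = n2034 := ((((iv D2755)).symm.trans (sb E979 (iv D8487)))).symm
theorem E1210 : n6243 = n1137 := ((((iv F820)).symm.trans (sb E984 (iv D8007)))).symm
theorem E1212 : n4766 = n2155 := ((((iv F1604)).symm.trans (sb E985 F4846))).symm
theorem E1213 : n4765 = n2160 := (((D2160).symm.trans (sb E985 (iv D6203)))).symm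
theorem E1214 : n6302 = n565 := (((F575).symm.trans (sb E986 (iv D8078)))).symm
theorem E1217 : n3689 = n1140 := (((D1140).symm.trans (sb E989 F3734))).symm
theorem E1218 : n3688 = n821 := ((((iv F583)).symm.trans (sb E989 (iv D4844)))).symm
theorem E1219 : n2766 = n2161 := ((((iv F1611)).symm.trans (sb E990 F2812))).symm
theorem E1220 : n2764 = n2162 := (((D2162).symm.trans (sb E990 (iv D3687)))).symm
theorem E1221 : n5153 = n4419 := (((F3559).symm.trans (sb E992 F9485))).symm
theorem E1222 : n7729 = n6867 := (((F7027).symm.trans (sb E993 F7876))).symm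
theorem E1223 : n7436 = n6668 := (((iv F5914)).symm.trans (sb E995 F6718))
theorem E1224 : n10547 = n5310 := (((F5404).symm.trans (sb E996 D10547))).symm
theorem E1225 : n8392 = n2701 := ((((iv D3604)).symm.trans (sb E998 F8590))).symm
theorem E1228 : n6672 = n5778 := (((iv F5245)).symm.trans (sb E1001 (iv D7435)))
theorem E1230 : n10067 = n9806 := (((D9806).symm.trans (sb E1003 F8150))).symm
theorem E1235 : n11186 = n4961 := (((F5050).symm.trans (sb E1009 D11186))).symm
theorem E1236 : n7016 = n6019 := (((F5051).symm.trans (sb E1009 (iv D8942)))).symm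
theorem E1238 : n7015 = n3494 := ((((iv D4613)).symm.trans (sb E1010 (iv D8941)))).symm
theorem E1239 : n7351 = n1276 := (((F1231).symm.trans (sb E1011 F7213))).symm
theorem E1240 : n7041 = n2289 := (((D2289).symm.trans (sb E1011 (iv D8968)))).symm
theorem E1241 : n7042 = n4078 := (((D4078).symm.trans (sb E1012 D7042))).symm
theorem E1243 : n4368 = n2399 := ((((iv D3212)).symm.trans (sb E1014 (iv F3353)))).symm
theorem E1251 : n7353 = n7140 := (((iv F5845)).symm.trans (sb E1019 (iv D9079)))
theorem E1253 : n10414 = n1577 := (((D1577).symm.trans (sb E1023 (iv F8489)))).symm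
theorem E1259 : n3413 = n304 := (((F315).symm.trans (sb E1027 (iv F2594)))).symm
theorem E1260 : n1875 = n303 := ((((iv D451)).symm.trans (sb E1027 (iv D2552)))).symm
theorem E1261 : n3414 = n347 := (((F316).symm.trans (sb E1027 D3414))).symm
theorem E1263 : n1121 = n264 := ((((iv D395)).symm.trans (sb E1029 (iv D1557)))).symm
theorem E1264 : n2948 = n2884 := ((((iv F2164)).symm.trans (sb E1030 (iv F2216)))).symm
theorem E1265 : n2949 = n2885 := (((D2885).symm.trans (sb E1030 D2949))).symm
theorem E1266 : n1602 = n1563 := ((((iv D2141)).symm.trans (sb E1030 (iv D2194)))).symm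
theorem E1267 : n822 = n799 := ((((iv D1128)).symm.trans (sb E1031 (iv D1158)))).symm
theorem E1269 : n5877 = n305 := (((F317).symm.trans (sb E1033 (iv F4596)))).symm
theorem E1270 : n5880 = n655 := (((D655).symm.trans (sb E1033 D5880))).symm
theorem E1279 : n3922 = n3838 := ((((iv F2926)).symm.trans (sb E1039 F3902))).symm
theorem E1284 : n5917 = n4107 := ((((iv F3144)).symm.trans (sb E1042 (iv D7604)))).symm
theorem E1286 : n6925 = n5388 := (((D5388).symm.trans (sb E1043 F7036))).symm
theorem E1289 : n6961 = n5945 := ((((iv F4650)).symm.trans (sb E1044 (iv F5492)))).symm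
theorem E1290 : n9654 = n4120 := ((((iv D5390)).symm.trans (sb E1045 D9654))).symm
theorem E1293 : n6921 = n2266 := (((F2290).symm.trans (sb E1048 (iv F5462)))).symm
theorem E1294 : n4094 = n4040 := (((iv F3134)).symm.trans (sb E1049 F4105))
theorem F9575 : act 2 n3086 = n4038 := (sb E1049 (iv D5293))
theorem E1297 : n7765 = n7316 := ((D7765).symm.trans (sb E1052 (iv D9280)))
theorem E1299 : n7977 = n5136 := (((F3981).symm.trans (sb E1054 (iv F6362)))).symm
theorem F9577 : act 1 n5137 = n4827 := (sb E1054 F4863)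
theorem E1300 : n5134 = n4778 := ((F3983).symm.trans (sb E1054 (iv D6221)))
theorem E1302 : n10053 = n2190 := ((((iv D2943)).symm.trans (sb E1057 F8136))).symm
theorem E1303 : n1367 = n929 := ((((iv F665)).symm.trans (sb E1058 F1379))).symm
theorem E1304 : n1365 = n450 := ((((iv D653)).symm.trans (sb E1058 (iv D1876)))).symm
theorem E1305 : n1881 = n931 := (((D931).symm.trans (sb E1058 (iv F1385)))).symm
theorem E1306 : n1122 = n571 := ((((iv D818)).symm.trans (sb E1059 (iv D1558)))).symm
theorem E1307 : n2117 = n263 := (((F270).symm.trans (sb E1060 (iv F1572)))).symm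
theorem E1309 : n2119 = n390 := (((F271).symm.trans (sb E1061 F2143))).symm
theorem E1310 : n1781 = n1377 := (((iv F1309)).symm.trans (sb E1062 F1381))
theorem E1311 : n2556 = n1795 := (((D1795).symm.trans (sb E1062 D2556))).symm
theorem F9578 : act 2 n1891 = n1794 := (sb E1063 F1815)
theorem E1312 : n3249 = n2570 := (((D2570).symm.trans (sb E1063 D3249))).symm
theorem E1313 : n4512 = n3271 := (((D3271).symm.trans (sb E1064 D4512))).symm
theorem E1320 : n3806 = n259 := (((F264).symm.trans (sb E1070 F3874))).symm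
theorem E1322 : n2857 = n261 := (((F265).symm.trans (sb E1071 F2897))).symm
theorem E1323 : n8376 = n7594 := (((D7594).symm.trans (sb E1072 (iv F6703)))).symm
theorem E1324 : n7591 = n5641 := (((iv F6029)).symm.trans (sb E1072 F5743))
theorem E1326 : n4531 = n3254 := (((iv F3482)).symm.trans (sb E1073 F3300))
theorem E1329 : n5632 = n4536 := (((D4536).symm.trans (sb E1075 D5632))).symm
theorem E1332 : n9574 = n5133 := ((((iv F3977)).symm.trans (sb E1079 (iv F7731)))).symm
theorem E1333 : n10140 = n9216 := ((((iv F7423)).symm.trans (sb E1082 (iv F8225)))).symm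
theorem E1336 : n7521 = n7047 := ((((iv F5568)).symm.trans (sb E1083 F7065))).symm
theorem F9579 : act 0 n3575 = n3427 := (sb E1085 (iv D4523))
theorem E1345 : n7866 = n5825 := ((((iv F4555)).symm.trans (sb E1088 D7866))).symm
theorem E1350 : n4530 = n3432 := ((((iv F2607)).symm.trans (sb E1092 F3494))).symm
theorem E1351 : n7662 = n2550 := ((((iv F1912)).symm.trans (sb E1093 (iv F6090)))).symm
theorem E1352 : n7663 = n2564 := (((D2564).symm.trans (sb E1093 D7663))).symm
theorem E1354 : n4571 = n4501 := (((D4501).symm.trans (sb E1095 (iv D5964)))).symm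
theorem E1355 : n4524 = n4345 := ((D4524).symm.trans (sb E1096 (iv F3336)))
theorem E1358 : n7607 = n4296 := (((D4296).symm.trans (sb E1097 F6097))).symm
theorem E1359 : n7581 = n4321 := (((D4321).symm.trans (sb E1098 (iv F6020)))).symm
theorem E1360 : n7582 = n4346 := (((D4346).symm.trans (sb E1099 D7582))).symm
theorem E1365 : n3296 = n1444 := (((F1455).symm.trans (sb E1103 F3342))).symm
theorem E1367 : n3295 = n1447 := ((((iv F1056)).symm.trans (sb E1104 D3295))).symm
theorem F9582 : act 1 n1446 = n1809 := (sb E1104 (iv D2459))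
theorem F9583 : act 0 n1445 = n1040 := (sb E1105 (iv D1451))
theorem F9584 : act 3 n1445 = n1809 := (sb E1105 (iv F1332))
theorem E1369 : n8768 = n1298 := (((D1298).symm.trans (sb E1106 F8031))).symm
theorem E1370 : n5330 = n1301 := (((D1301).symm.trans (sb E1107 (iv D6880)))).symm
theorem E1372 : n3079 = n1313 := (((D1313).symm.trans (sb E1108 (iv D4090)))).symm
theorem E1373 : n9284 = n4093 := ((((iv D5358)).symm.trans (sb E1111 D9284))).symm
theorem E1374 : n9285 = n6919 := (((D6919).symm.trans (sb E1111 D9285))).symm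
theorem F9590 : act 0 n9719 = n8154 := (sb E1113 (iv D10261))
theorem F9591 : act 3 n9719 = n8817 := (sb E1113 (iv F8355))
theorem E1375 : n9277 = n6923 := (((iv F7489)).symm.trans (sb E1114 F7092))
theorem E1377 : n10262 = n9286 := (((D9286).symm.trans (sb E1115 (iv F8358)))).symm
theorem E1378 : n9232 = n8794 := (((iv F7443)).symm.trans (sb E1116 F7096))
theorem E1379 : n11042 = n9278 := (((D9278).symm.trans (sb E1116 D11042))).symm
theorem E1383 : n9632 = n4548 := (((D4548).symm.trans (sb E1119 D9632))).symm
theorem E1385 : n8219 = n694 := (((D694).symm.trans (sb E1121 (iv D10338)))).symm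
theorem E1386 : n4956 = n1376 := (((D1376).symm.trans (sb E1122 (iv D6430)))).symm
theorem E1387 : n4957 = n2566 := (((D2566).symm.trans (sb E1123 F4634))).symm
theorem E1388 : n10339 = n250 := ((((iv D374)).symm.trans (sb E1124 D10339))).symm
theorem E1389 : n6429 = n547 := (((D547).symm.trans (sb E1124 (iv D8220)))).symm
theorem E1401 : n6134 = n1812 := ((((iv F1334)).symm.trans (sb E1132 (iv D7868)))).symm
theorem E1403 : n3578 = n1811 := ((((iv F1333)).symm.trans (sb E1133 (iv D4709)))).symm
theorem E1404 : n6371 = n2908 := ((((iv F2183)).symm.trans (sb E1134 (iv F4986)))).symm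
theorem E1405 : n4688 = n2909 := (((D2909).symm.trans (sb E1134 (iv D6106)))).symm
theorem E1406 : n7836 = n1578 := ((((iv D2162)).symm.trans (sb E1134 D7836))).symm
theorem E1409 : n5081 = n2665 := ((((iv F1994)).symm.trans (sb E1137 F5169))).symm
theorem E1410 : n2674 = n2630 := ((D2674).symm.trans (sb E1137 (tr D8400 E1202)))
theorem E1411 : n5082 = n3736 := ((((iv F2848)).symm.trans (sb E1138 D5082))).symm
theorem E1418 : n8205 = n6467 := ((((iv F5076)).symm.trans (sb E1145 (iv F6556)))).symm
theorem E1419 : n8202 = n6539 := (((D6539).symm.trans (sb E1145 (iv F6553)))).symm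
theorem E1421 : n7022 = n4687 := ((((iv F3604)).symm.trans (sb E1148 F7198))).symm
theorem E1422 : n9103 = n2669 := ((((iv D3565)).symm.trans (sb E1148 (iv F7331)))).symm
theorem F9595 : act 0 n4464 = n4092 := (sb E1153 F4158)
theorem E1426 : n11069 = n7542 := ((((iv F5990)).symm.trans (sb E1154 D11069))).symm
theorem E1427 : n7541 = n6960 := (((iv F5989)).symm.trans (sb E1154 F7116))
theorem F9598 : act 0 n5357 = n5830 := (sb E1158 F5960)
theorem E1433 : n6377 = n4156 := (((F4226).symm.trans (sb E1159 (iv F4994)))).symm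
theorem E1434 : n7835 = n4155 := ((((iv D5437)).symm.trans (sb E1159 D7835))).symm
theorem E1435 : n7845 = n6995 := ((((iv F5517)).symm.trans (sb E1160 D7845))).symm
theorem E1436 : n8695 = n6875 := ((((iv F5419)).symm.trans (sb E1161 D8695))).symm
theorem E1437 : n10898 = n1681 := ((((iv D2293)).symm.trans (sb E1162 F9073))).symm
theorem E1440 : n4065 = n3028 := ((((iv F2279)).symm.trans (sb E1165 (iv D5329)))).symm
theorem E1442 : n3029 = n2282 := (((F2307).symm.trans (sb E1166 F3073))).symm
theorem E1443 : n5276 = n2280 := ((((iv D3061)).symm.trans (sb E1166 D5276))).symm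
theorem E1444 : n8829 = n5352 := (((D5352).symm.trans (sb E1168 D8829))).symm
theorem E1445 : n10897 = n5326 := (((D5326).symm.trans (sb E1169 (iv F8934)))).symm
theorem E1446 : n10747 = n5469 := (((F9552).symm.trans (sb E1170 (iv F8793)))).symm
theorem E1448 : n6949 = n6717 := (((iv F5481)).symm.trans (sb E1170 (iv D8569)))
theorem E1449 : n11005 = n5297 := (((D5297).symm.trans (sb E1171 (iv F9037)))).symm
theorem E1450 : n6950 = n5202 := ((D6950).symm.trans (sb E1172 (iv D6728)))
theorem E1451 : n5199 = n4115 := (((D4115).symm.trans (sb E1173 (iv D6726)))).symm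
theorem E1453 : n8576 = n1225 := (((F1245).symm.trans (sb E1174 (iv D10758)))).symm
theorem E1456 : n11047 = n3093 := (((F3138).symm.trans (sb E1176 (iv F9072)))).symm
theorem E1461 : n11305 = n10881 := (((F8918).symm.trans (sb E1180 (iv F9312)))).symm
theorem F9602 : act 2 n10881 = n8890 := (sb E1180 (iv D11121))
theorem E1465 : n7053 = n6841 := (((D6841).symm.trans (sb E1183 (iv D8979)))).symm
theorem E1469 : n6827 = n2982 := (((F3028).symm.trans (sb E1185 (iv F5377)))).symm
theorem E1474 : n8712 = n1697 := (((D1697).symm.trans (iv (sb E1188 (tr (iv D10760) E1453))))).symm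
theorem E1478 : n5285 = n1622 := ((((iv D2218)).symm.trans (sb E1192 (iv D6829)))).symm
theorem E1485 : n7437 = n2952 := ((((iv F2219)).symm.trans (sb E1200 (iv D9416)))).symm
theorem E1486 : n4421 = n3940 := (((F9486).symm.trans (sb E1201 F4515))).symm
theorem E1487 : n8412 = n3681 := (((F3564).symm.trans (sb E1203 (iv D10573)))).symm
theorem E1488 : n8411 = n2039 := ((((iv D2761)).symm.trans (sb E1204 (iv D10572)))).symm
theorem E1489 : n7216 = n1488 := (((F1501).symm.trans (sb E1205 (iv D9168)))).symm
theorem E1490 : n7217 = n2756 := (((D2756).symm.trans (sb E1205 F7379))).symm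
theorem E1491 : n8486 = n1487 := ((((iv D2035)).symm.trans (sb E1205 (iv F7381)))).symm
theorem E1492 : n9215 = n4829 := (((D4829).symm.trans (sb E1206 (iv F7422)))).symm
theorem E1493 : n5133 = n2723 := ((((iv F2036)).symm.trans (sb E1207 (iv D6650)))).symm
theorem E1495 : n4797 = n1573 := ((((iv F1147)).symm.trans (sb E1210 F4881))).symm
theorem E1497 : n4800 = n2901 := ((((iv F2177)).symm.trans (sb E1212 (iv F3697)))).symm
theorem E1498 : n3623 = n2902 := (((D2902).symm.trans (sb E1212 (iv D4766)))).symm
theorem E1499 : n3624 = n1598 := (((F1610).symm.trans (sb E1213 F3668))).symm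
theorem E1500 : n8077 = n386 := ((((iv D565)).symm.trans (sb E1214 (iv F6446)))).symm
theorem E1506 : n3690 = n1577 := (((D1577).symm.trans (sb E1217 (iv F2815)))).symm
theorem E1507 : n2765 = n1157 := ((((iv F835)).symm.trans (sb E1217 (iv D3689)))).symm
theorem E1508 : n2769 = n1155 := ((((iv F833)).symm.trans (sb E1218 F2813))).symm
theorem E1509 : n2907 = n2698 := ((D2907).symm.trans (sb E1219 F2067))
theorem E1510 : n2908 = n2043 := ((D2908).symm.trans (sb E1219 (iv D2766)))
theorem E1511 : n2909 = n2041 := ((D2909).symm.trans (sb E1220 (iv D2764)))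
theorem E1512 : n4698 = n3348 := ((((iv D4419)).symm.trans (sb E1221 F9474))).symm
theorem E1513 : n8752 = n6018 := (((iv F7029)).symm.trans (sb E1222 (iv D7729)))
theorem E1516 : n5780 = n5152 := (((F5241).symm.trans (sb E1223 F5913))).symm
theorem E1518 : n8984 = n4052 := (((F4116).symm.trans (sb E1224 F9553))).symm
theorem E1519 : n8983 = n5304 := (((F4117).symm.trans (sb E1224 F9554))).symm
theorem E1520 : n11256 = n4051 := ((((iv D5310)).symm.trans (sb E1224 F9555))).symm
theorem E1521 : n6582 = n1992 := ((((iv D2701)).symm.trans (sb E1225 F6714))).symm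
theorem E1526 : n6120 = n4420 := (((F4514).symm.trans (sb E1228 F9457))).symm
theorem F9613 : act 0 n9806 = n7987 := (sb E1230 (iv D10067))
theorem E1531 : n8943 = n6435 := (((D6435).symm.trans (sb E1235 F9190))).symm
theorem E1532 : n7731 = n5432 := (((iv F6141)).symm.trans (sb E1236 F5534))
theorem E1533 : n5431 = n4612 := ((((iv D6019)).symm.trans (sb E1236 (iv D7016)))).symm
theorem E1535 : n5433 = n2616 := (((F2655).symm.trans (sb E1238 F5533))).symm
theorem E1536 : n5717 = n1759 := ((((iv F1293)).symm.trans (sb E1239 F5843))).symm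
theorem E1538 : n5715 = n1761 := (((D1761).symm.trans (sb E1239 (iv D7351)))).symm
theorem E1539 : n8967 = n3072 := (((D3072).symm.trans (sb E1240 D8967))).symm
theorem E1540 : n5459 = n5344 := (((D5344).symm.trans (sb E1241 F5560))).symm
theorem E1543 : n4912 = n3198 := ((((iv F2418)).symm.trans (sb E1243 (iv F3796)))).symm
theorem E1544 : n3306 = n3213 := (((D3213).symm.trans (sb E1243 (iv D4368)))).symm
theorem E1549 : n8104 = n5543 := ((((iv D7140)).symm.trans (sb E1251 (iv F6473)))).symm
theorem E1552 : n8290 = n1146 := (((F1149).symm.trans (sb E1253 F8490))).symm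
theorem E1558 : n2551 = n200 := ((((iv D304)).symm.trans (sb E1259 (iv D3413)))).symm
theorem E1559 : n4504 = n453 := (((D453).symm.trans (sb E1259 D4504))).symm
theorem E1560 : n1364 = n199 := ((((iv D303)).symm.trans (sb E1260 (iv D1875)))).symm
theorem E1561 : n4505 = n229 := ((((iv D347)).symm.trans (sb E1261 D4505))).symm
theorem E1564 : n794 = n391 := ((((iv F269)).symm.trans (sb E1263 (iv D1121)))).symm
theorem E1565 : n3925 = n3841 := (((D3841).symm.trans (sb E1264 D3925))).symm
theorem E1566 : n2193 = n2140 := ((((iv D2884)).symm.trans (sb E1264 (iv D2948)))).symm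
theorem F9618 : act 1 n2885 = n2885 := (sb E1265 F2217)
theorem E1567 : n3926 = n3842 := (((D3842).symm.trans (sb E1265 D3926))).symm
theorem E1568 : n2185 = n1129 := (((F1141).symm.trans (sb E1266 (iv F1626)))).symm
theorem E1570 : n574 = n558 := ((((iv D799)).symm.trans (sb E1267 (iv D822)))).symm
theorem E1571 : n4502 = n201 := ((((iv D305)).symm.trans (sb E1269 (iv D5877)))).symm
theorem E1572 : n7554 = n281 := (((F207).symm.trans (sb E1269 D7554))).symm
theorem E1573 : n7557 = n934 := (((D934).symm.trans (sb E1270 D7557))).symm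
theorem E1577 : n2947 = n2883 := ((((iv D3838)).symm.trans (sb E1279 (iv D3922)))).symm
theorem E1579 : n5374 = n4537 := (((iv F4170)).symm.trans (sb E1284 (iv D5917)))
theorem E1582 : n8822 = n6959 := (((D6959).symm.trans (sb E1286 (iv F7098)))).symm
theorem F9619 : act 2 n5388 = n5363 := (sb E1286 (iv D6925))
theorem E1583 : n8823 = n6960 := (((D6960).symm.trans (sb E1286 D8823))).symm
theorem F9620 : act 1 n5945 = n5390 := (sb E1289 (iv D6961))
theorem E1586 : n5434 = n4616 := (((F4649).symm.trans (sb E1289 F5491))).symm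
theorem E1587 : n7735 = n4125 := ((((iv F3164)).symm.trans (sb E1290 F7792))).symm
theorem E1590 : n5360 = n3042 := (((D3042).symm.trans (sb E1293 (iv D6921)))).symm
theorem E1592 : n5359 = n5294 := ((((iv F4106)).symm.trans (sb E1294 (iv F4161)))).symm
theorem F9621 : act 1 n4040 = n3086 := (sb E1294 F3134)
theorem E1596 : n9278 = n6050 := (((iv F7490)).symm.trans (sb E1297 F6176))
theorem E1598 : n9809 = n5686 := ((((iv D7316)).symm.trans (sb E1297 D9809))).symm
theorem E1600 : n10051 = n6652 := ((((iv F5229)).symm.trans (sb E1299 (iv F8131)))).symm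
theorem E1601 : n6219 = n3917 := ((((iv D5136)).symm.trans (sb E1299 (iv D7977)))).symm
theorem E1602 : n3916 = n3633 := ((((iv D4778)).symm.trans (sb E1300 (iv D5134)))).symm
theorem E1604 : n9556 = n1598 := (((F1632).symm.trans (sb E1302 F8134))).symm
theorem E1605 : n7978 = n1597 := ((((iv D2190)).symm.trans (sb E1302 (iv D10053)))).symm
theorem E1606 : n979 = n651 := ((((iv D929)).symm.trans (sb E1303 (iv D1367)))).symm
theorem E1607 : n1880 = n1300 := (((D1300).symm.trans (sb E1303 D1880))).symm
theorem E1608 : n977 = n302 := ((((iv D450)).symm.trans (sb E1304 (iv D1365)))).symm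
theorem E1609 : n1368 = n1303 := (((D1303).symm.trans (sb E1305 (iv D1881)))).symm
theorem E1610 : n817 = n795 := (((iv F580)).symm.trans (sb E1306 F804))
theorem E1611 : n1547 = n388 := ((((iv F267)).symm.trans (sb E1307 F1571))).symm
theorem E1613 : n2856 = n569 := ((((iv F400)).symm.trans (sb E1309 D2856))).symm
theorem E1614 : n1290 = n986 := ((((iv D1377)).symm.trans (sb E1310 (iv D1781)))).symm
theorem F9625 : act 2 n1377 = n1299 := (sb E1310 F1309)
theorem E1616 : n3420 = n2443 := (((D2443).symm.trans (sb E1311 D3420))).symm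
theorem E1617 : n4304 = n3437 := (((D3437).symm.trans (sb E1312 D4304))).symm
theorem E1618 : n5888 = n4327 := (((D4327).symm.trans (sb E1313 D5888))).symm
theorem E1619 : n4539 = n4328 := (((D4328).symm.trans (sb E1313 (iv F3490)))).symm
theorem E1621 : n9574 = n2723 := (E1332).trans E1493
theorem E1626 : n3809 = n170 := (((F178).symm.trans (sb E1320 (iv F2902)))).symm
theorem E1628 : n3808 = n389 := (((D389).symm.trans (sb E1322 (iv F2901)))).symm
theorem E1629 : n9606 = n6560 := ((D9606).symm.trans (sb E1323 F6704))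
theorem E1632 : n5909 = n4311 := ((((iv D5641)).symm.trans (sb E1324 (iv D7591)))).symm
theorem F9626 : act 2 n5641 = n5911 := (sb E1324 F6029)
theorem E1635 : n3433 = n2430 := ((((iv D3254)).symm.trans (sb E1326 (iv D4531)))).symm
theorem E1636 : n4312 = n3780 := ((D4312).symm.trans (sb E1326 F3483))
theorem E1639 : n7246 = n5915 := (((D5915).symm.trans (sb E1329 D7246))).symm
theorem E1640 : n7247 = n5916 := (((D5916).symm.trans (sb E1329 D7247))).symm
theorem E1644 : n7635 = n2008 := ((((iv D2723)).symm.trans (sb E1621 F7730))).symm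
theorem E1645 : n7634 = n2034 := (((F2036).symm.trans (sb E1621 F7732))).symm
theorem F9630 : act 3 n9216 = n9519 := (sb E1333 F8226)
theorem E1648 : n9521 = n5463 := (((F5569).symm.trans (sb E1336 D9521))).symm
theorem E1654 : n9926 = n4461 := ((((iv D5825)).symm.trans (sb E1345 D9926))).symm
theorem E1657 : n4958 = n4529 := ((((iv F3481)).symm.trans (sb E1350 (iv F3839)))).symm
theorem F9634 : act 2 n3432 = n3432 := (sb E1350 (iv D4530))
theorem E1659 : n9684 = n3412 := (((D3412).symm.trans (sb E1351 D9684))).symm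
theorem E1660 : n9685 = n3429 := (((D3429).symm.trans (sb E1352 D9685))).symm
theorem E1664 : n5876 = n5684 := ((D5876).symm.trans (sb E1354 (iv F4440)))
theorem F9635 : act 2 n4345 = n3428 := (sb E1355 (iv D4524))
theorem E1667 : n9622 = n5622 := (((D5622).symm.trans (sb E1358 D9622))).symm
theorem E1668 : n9591 = n5655 := (((D5655).symm.trans (sb E1359 D9591))).symm
theorem E1670 : n9593 = n4323 := (((F3337).symm.trans (sb E1360 D9593))).symm
theorem E1677 : n4354 = n1037 := (((F1053).symm.trans (sb E1365 (iv F3344)))).symm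
theorem E1680 : n2460 = n1684 := ((((iv F1238)).symm.trans (sb E1367 F2500))).symm
theorem E1682 : n6886 = n1596 := ((((iv F1164)).symm.trans (sb E1369 F7041))).symm
theorem E1684 : n4066 = n1796 := (((D1796).symm.trans (sb E1370 (iv D5330)))).symm
theorem E1687 : n2294 = n1810 := (((D1810).symm.trans (sb E1372 (iv D3079)))).symm
theorem E1688 : n9076 = n3083 := (((F3133).symm.trans (sb E1373 (iv F8731)))).symm
theorem F9636 : act 0 n6919 = n7322 := (sb E1374 F7497)
theorem E1690 : n9077 = n5362 := ((((iv D6923)).symm.trans (sb E1375 F8740))).symm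
theorem F9638 : act 2 n6923 = n7314 := (sb E1375 (iv D9277))
theorem F9640 : act 0 n9286 = n8817 := (sb E1377 F8356)
theorem F9642 : act 3 n9286 = n8154 := (sb E1377 (iv D10262))
theorem E1691 : n11015 = n7276 := (((iv F9046)).symm.trans (sb E1378 (iv D9232)))
theorem E1692 : n11042 = n6050 := (E1379).trans E1596
theorem E1693 : n11016 = n7423 := ((((iv F5900)).symm.trans (sb E1692 F9071))).symm
theorem E1696 : n9825 = n5931 := (((D5931).symm.trans (sb E1383 F7939))).symm
theorem E1698 : n10337 = n651 := (((E1606).symm.trans (((iv F704)).symm.trans (sb E1385 D10337)))).symm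
theorem E1699 : n6428 = n986 := (((D986).symm.trans (sb E1385 (iv D8219)))).symm
theorem E1700 : n3775 = n1890 := (((D1890).symm.trans (sb E1386 F3836))).symm
theorem E1702 : n3776 = n3431 := (((D3431).symm.trans (sb E1387 F3837))).symm
theorem E1703 : n8230 = n372 := ((((iv F253)).symm.trans (sb E1388 F8427))).symm
theorem E1704 : n4964 = n782 := ((((iv F557)).symm.trans (sb E1389 F5044))).symm
theorem E1716 : n4710 = n2463 := ((((iv F1842)).symm.trans (sb E1401 F4794))).symm
theorem E1717 : n7869 = n2464 := (((D2464).symm.trans (sb E1401 D7869))).symm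
theorem E1718 : n2680 = n2462 := ((((iv F1841)).symm.trans (sb E1403 (iv D3578)))).symm
theorem E1719 : n6371 = n2043 := (E1404).trans E1510
theorem E1720 : n8157 = n2708 := ((((iv F2023)).symm.trans (sb E1719 D8157))).symm
theorem E1721 : n4902 = n1495 := ((((iv D2043)).symm.trans (sb E1719 (iv D6371)))).symm
theorem E1722 : n4688 = n2041 := (E1405).trans E1511
theorem E1723 : n3559 = n1937 := (((F1508).symm.trans (sb E1722 (iv D4688)))).symm
theorem E1724 : n4900 = n1493 := ((((iv D2041)).symm.trans (sb E1722 F3782))).symm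
theorem E1726 : n9889 = n1140 := ((((iv D1578)).symm.trans (sb E1406 D9889))).symm
theorem E1728 : n6588 = n1965 := ((((iv D2665)).symm.trans (sb E1409 D6588))).symm
theorem E1729 : n6589 = n2801 := ((((iv F2093)).symm.trans (sb E1409 D6589))).symm
theorem E1730 : n1973 = n1936 := (((F1971).symm.trans (sb E1410 F1999))).symm
theorem E1731 : n3572 = n3513 := (((D3513).symm.trans (sb E1410 D3572))).symm
theorem E1733 : n3877 = n1493 := (((E1724).symm.trans (((iv F3781)).symm.trans (sb E1411 F3939)))).symm
theorem E1741 : n6466 = n6415 := ((F5075).symm.trans (sb E1418 F6555))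
theorem E1743 : n6462 = n6413 := ((F5077).symm.trans (sb E1418 (iv D8205)))
theorem E1744 : n10317 = n8350 := (((D8350).symm.trans (sb E1419 D10317))).symm
theorem E1745 : n5597 = n3558 := (((F3605).symm.trans (sb E1421 F5543))).symm
theorem E1746 : n7158 = n3557 := ((((iv D4687)).symm.trans (sb E1421 (iv F5664)))).symm
theorem E1747 : n11155 = n3564 := (((D3564).symm.trans (sb E1422 (iv F9172)))).symm
theorem E1749 : n8866 = n5866 := ((((iv D7542)).symm.trans (sb E1426 F9092))).symm
theorem E1751 : n9545 = n5389 := (((F5490).symm.trans (sb E1427 (iv F7707)))).symm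
theorem F9650 : act 2 n6960 = n5898 := (sb E1427 F5989)
theorem E1752 : n5865 = n5388 := ((((iv D6960)).symm.trans (sb E1427 (iv D7541)))).symm
theorem E1753 : n8162 = n3129 := (((F3189).symm.trans (sb E1433 (iv F6520)))).symm
theorem E1754 : n5438 = n4907 := ((D5438).symm.trans (sb E1433 (iv D6377)))
theorem E1756 : n7844 = n5418 := ((((iv F4213)).symm.trans (sb E1434 (iv F6246)))).symm
theorem E1757 : n8917 = n8764 := ((D8917).symm.trans (sb E1435 (iv F7038)))
theorem E1758 : n8918 = n7834 := ((D8918).symm.trans (sb E1435 F6248))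
theorem E1759 : n8555 = n7061 := (((iv F6866)).symm.trans (sb E1436 F6983))
theorem E1760 : n8698 = n1213 := ((((iv D1681)).symm.trans (sb E1437 F8941))).symm
theorem E1762 : n3063 = n2256 := ((((iv D3028)).symm.trans (sb E1440 F3104))).symm
theorem E1764 : n2976 = n2350 := (((iv F2239)).symm.trans (sb E1442 F2280))
theorem E1766 : n6815 = n1671 := ((((iv D2280)).symm.trans (sb E1443 D6815))).symm
theorem E1767 : n9596 = n6874 := ((((iv F5418)).symm.trans (sb E1444 F8936))).symm
theorem E1769 : n8989 = n6707 := ((((iv F5276)).symm.trans (sb E1445 F8933))).symm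
theorem E1770 : n9128 = n7058 := ((((iv F5575)).symm.trans (sb E1446 F8792))).symm
theorem E1771 : n9127 = n4182 := ((((iv D5469)).symm.trans (sb E1446 F8794))).symm
theorem E1772 : n8567 = n7060 := (((D7060).symm.trans (sb E1446 (iv D10747)))).symm
theorem F9653 : act 3 n6717 = n6836 := (sb E1448 F5481)
theorem E1774 : n8784 = n6843 := (((D6843).symm.trans (sb E1449 (iv D11005)))).symm
theorem E1775 : n5384 = n3966 := ((((iv D5202)).symm.trans (sb E1450 F5482))).symm
theorem E1777 : n5383 = n3964 := ((D5383).symm.trans (sb E1451 (iv D5199)))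
theorem E1778 : n5336 = n4128 := ((((iv F3170)).symm.trans (sb E1451 (iv F4140)))).symm
theorem E1779 : n6722 = n1696 := (((D1696).symm.trans (sb E1453 (iv D8576)))).symm
theorem E1780 : n7070 = n873 := ((((iv D1225)).symm.trans (sb E1453 F9556))).symm
theorem E1782 : n8825 = n4108 := (((D4108).symm.trans (sb E1456 (iv D11047)))).symm
theorem E1783 : n11304 = n8684 := (((F8917).symm.trans (sb E1461 F9311))).symm
theorem E1784 : n9046 = n8890 := (((F9602).symm.trans (sb E1461 (iv D11305)))).symm
theorem E1786 : n8721 = n7658 := ((D8721).symm.trans (sb E1465 (iv F6086)))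
theorem F9657 : act 2 n6841 = n5464 := (sb E1465 (iv D7053))
theorem E1787 : n8723 = n7657 := ((D8723).symm.trans (sb E1465 (iv F6085)))
theorem E1788 : n8709 = n3964 := (((D3964).symm.trans (sb E1469 (iv F6992)))).symm
theorem E1789 : n5284 = n3965 := (((D3965).symm.trans (sb E1469 (iv D6827)))).symm
theorem E1795 : n6830 = n2313 := ((((iv F1723)).symm.trans (sb E1474 (iv D8712)))).symm
theorem E1800 : n4031 = n2217 := (((D2217).symm.trans (sb E1478 (iv D5285)))).symm
theorem E1807 : n5781 = n3928 := ((((iv F3001)).symm.trans (sb E1485 F5915))).symm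
theorem E1809 : n3349 = n2964 := ((((iv D3940)).symm.trans (sb E1486 F3398))).symm
theorem E1810 : n6656 = n4837 := ((((iv F3728)).symm.trans (sb E1487 F6731))).symm
theorem E1814 : n2801 = n1492 := ((((iv D2039)).symm.trans (sb E1488 (tr (iv D8411) E1729)))).symm
theorem E1815 : n9166 = n1069 := (((F1087).symm.trans (sb E1489 (iv F7378)))).symm
theorem E1816 : n5604 = n1490 := ((((iv F1089)).symm.trans (sb E1489 (iv D7216)))).symm
theorem E1818 : n5605 = n2759 := ((((iv F2063)).symm.trans (sb E1490 (iv D7217)))).symm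
theorem E1819 : n7257 = n3674 := (((D3674).symm.trans (sb E1490 (iv F5752)))).symm
theorem E1820 : n6649 = n2008 := ((((iv F1477)).symm.trans (sb E1491 (iv D8486)))).symm
theorem E1821 : n7283 = n4781 := (((F3720).symm.trans (sb E1492 F7421))).symm
theorem E1822 : n3915 = n3634 := (((D3634).symm.trans (sb E1493 (iv D5133)))).symm
theorem E1825 : n3650 = n2154 := ((((iv F1603)).symm.trans (sb E1495 F3693))).symm
theorem E1826 : n3648 = n1136 := ((((iv D1573)).symm.trans (sb E1495 (iv D4797)))).symm
theorem E1829 : n4764 = n3866 := (((D3866).symm.trans (sb E1497 F3698))).symm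
theorem E1830 : n3867 = n2715 := ((D3867).symm.trans (sb E1498 (iv D3623)))
theorem E1831 : n2716 = n2190 := ((((iv F1632)).symm.trans (sb E1499 (iv D3624)))).symm
theorem E1832 : n9976 = n261 := (((F265).symm.trans (sb E1500 (iv F8066)))).symm
theorem E1838 : n3601 = n1146 := (((F1149).symm.trans (sb E1506 F2816))).symm
theorem E1839 : n3685 = n1600 := ((((iv F1167)).symm.trans (sb E1506 F2817))).symm
theorem E1840 : n2042 = n1601 := (((D1601).symm.trans (sb E1507 (iv D2765)))).symm
theorem E1841 : n2046 = n1597 := (((D1597).symm.trans (sb E1508 (iv D2769)))).symm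
theorem E1842 : n2171 = n1990 := ((((iv D2698)).symm.trans (sb E1509 F2182))).symm
theorem F9663 : act 2 n2041 = n2162 := (sb E1511 (iv D2909))
theorem E1845 : n3569 = n2498 := ((((iv D3348)).symm.trans (sb E1512 (iv D4698)))).symm
theorem E1847 : n10714 = n7730 := (((D7730).symm.trans (sb E1513 (iv F8759)))).symm
theorem E1848 : n6866 = n5432 := (((E1532).symm.trans ((D7731).symm.trans (sb E1513 (iv D8752))))).symm
theorem E1850 : n5678 = n4426 := (((iv F4438)).symm.trans (sb E1516 F4516))
theorem E1853 : n8852 = n3950 := (((F3092).symm.trans (sb E1518 F9519))).symm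
theorem E1854 : n7057 = n5311 := (((D5311).symm.trans (sb E1518 (iv D8984)))).symm
theorem E1856 : n11228 = n5532 := ((((iv F4321)).symm.trans (sb E1519 (iv F9234)))).symm
theorem E1858 : n9006 = n3049 := ((((iv D4051)).symm.trans (sb E1520 (iv D11256)))).symm
theorem E1859 : n5101 = n1456 := ((((iv D1992)).symm.trans (sb E1521 F5171))).symm
theorem E1864 : n7304 = n3352 := (((F3397).symm.trans (sb E1526 F9438))).symm
theorem E1869 : n8225 = n7017 := ((D8225).symm.trans (sb E1531 (iv D8943)))
theorem E1870 : n8935 = n6416 := (((F5053).symm.trans (sb E1531 F7193))).symm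
theorem E1871 : n6018 = n4151 := ((((iv D5432)).symm.trans (sb E1532 (iv D7731)))).symm
theorem E1872 : n4152 = n3496 := (((F3541).symm.trans (sb E1533 F4221))).symm
theorem E1875 : n7018 = n1925 := ((((iv D2616)).symm.trans (sb E1535 D7018))).symm
theorem E1877 : n6384 = n1275 := ((((iv D1759)).symm.trans (sb E1536 (iv F5002)))).symm
theorem E1878 : n4367 = n2400 := (((D2400).symm.trans (sb E1536 (iv D5717)))).symm
theorem E1881 : n7350 = n2402 := (((D2402).symm.trans (sb E1538 D7350))).symm
theorem E1882 : n11210 = n4081 := (((D4081).symm.trans (sb E1539 D11210))).symm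
theorem E1884 : n7046 = n6899 := (((D6899).symm.trans (sb E1540 (iv F5567)))).symm
theorem E1888 : n3742 = n2390 := ((((iv D3198)).symm.trans (sb E1543 F3795))).symm
theorem E1890 : n4261 = n2468 := ((D4261).symm.trans (sb E1544 F2511))
theorem E1894 : n6323 = n4238 := ((((iv D5543)).symm.trans (sb E1549 F6472))).symm
theorem E1895 : n10200 = n7135 := ((((iv F5643)).symm.trans (sb E1549 D10200))).symm
theorem E1897 : n6487 = n812 := ((((iv D1146)).symm.trans (sb E1552 F6622))).symm
theorem E1898 : n8193 = n1585 := (((D1585).symm.trans (sb E1552 (iv F6623)))).symm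
theorem E1907 : n3412 = n129 := (((F134).symm.trans (sb E1558 (iv F2593)))).symm
theorem E1909 : n4469 = n346 := (((F319).symm.trans (sb E1559 F3463))).symm
theorem E1910 : n1858 = n130 := (((F133).symm.trans (sb E1560 (iv F1368)))).symm
theorem E1911 : n3826 = n149 := (((F151).symm.trans (sb E1561 F3465))).symm
theorem E1915 : n570 = n555 := ((D570).symm.trans (sb E1564 (iv D794)))
theorem E1916 : n5146 = n4986 := ((((iv F3861)).symm.trans (sb E1565 D5146))).symm
theorem E1918 : n2939 = n1565 := (((F1588).symm.trans (sb E1566 (iv F2210)))).symm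
theorem F9672 : act 1 n3842 = n3842 := (sb E1567 F2999)
theorem E1919 : n5148 = n3845 := ((((iv F2933)).symm.trans (sb E1567 D5148))).symm
theorem E1920 : n1595 = n800 := ((((iv D1129)).symm.trans (sb E1568 (iv D2185)))).symm
theorem E1921 : n2940 = n1566 := (((D1566).symm.trans (sb E1568 D2940))).symm
theorem F9673 : act 2 n558 = n394 := (sb E1570 (iv D574))
theorem E1924 : n3429 = n186 := (((F135).symm.trans (sb E1571 F3461))).symm
theorem E1926 : n9561 = n416 := ((((iv F290)).symm.trans (sb E1572 D9561))).symm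
theorem E1927 : n7504 = n733 := (((F668).symm.trans (sb E1573 F6004))).symm
theorem E1933 : n3923 = n3839 := (((D3839).symm.trans (sb E1577 D3923))).symm
theorem F9674 : act 0 n4537 = n4107 := (sb E1579 F4170)
theorem E1935 : n6422 = n3437 := ((((iv D4537)).symm.trans (sb E1579 (iv F9545)))).symm
theorem E1936 : n5915 = n4106 := (((iv F4626)).symm.trans (sb E1579 (iv D5374)))
theorem E1937 : n6941 = n5918 := (((D5918).symm.trans (sb E1579 D6941))).symm
theorem F9675 : act 2 n6959 = n6924 := (sb E1582 (iv D8822))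
theorem E1942 : n11020 = n5866 := (((E1749).symm.trans ((D8866).symm.trans (sb E1582 (iv F9051))))).symm
theorem E1943 : n11019 = n5898 := (((F9650).symm.trans (sb E1583 (iv F9049)))).symm
theorem E1945 : n6023 = n4153 := (((iv F4709)).symm.trans (sb E1586 F4222))
theorem E1946 : n7715 = n4154 := ((((iv F3187)).symm.trans (sb E1587 F6145))).symm
theorem E1952 : n6920 = n4039 := (((D4039).symm.trans (sb E1590 (iv F5461)))).symm
theorem E1955 : n6919 = n6838 := (((D6838).symm.trans (sb E1592 (iv F5460)))).symm
theorem E1957 : n7767 = n7314 := ((D7767).symm.trans (sb E1596 (iv D9278)))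
theorem E1958 : n9811 = n7315 := (((D7315).symm.trans (sb E1598 (iv F7923)))).symm
theorem E1959 : n7976 = n5135 := ((((iv D6652)).symm.trans (sb E1600 (iv D10051)))).symm
theorem E1960 : n4777 = n2942 := ((((iv D3917)).symm.trans (sb E1601 (iv D6219)))).symm
theorem E1961 : n4779 = n2941 := ((D4779).symm.trans (sb E1602 (iv D3916)))
theorem E1964 : n7550 = n1155 := ((((iv D1598)).symm.trans (sb E1604 (iv D9556)))).symm
theorem E1965 : n6220 = n2189 := (((D2189).symm.trans (sb E1605 (iv D7978)))).symm
theorem E1966 : n921 = n694 := (((iv F659)).symm.trans (sb E1606 F704))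
theorem E1967 : n687 = n448 := ((((iv D651)).symm.trans (sb E1606 (iv D979)))).symm
theorem E1968 : n1878 = n1302 := ((((iv F944)).symm.trans (sb E1607 F1382))).symm
theorem E1969 : n686 = n449 := (((D449).symm.trans (sb E1608 (iv D977)))).symm
theorem E1970 : n1154 = n1123 := ((F946).symm.trans (sb E1609 F992))
theorem E1971 : n1298 = n980 := ((F947).symm.trans (sb E1609 (iv D1368)))
theorem F9679 : act 1 n795 = n571 := (sb E1610 F580)
theorem E1973 : n1115 = n567 := ((((iv F399)).symm.trans (sb E1611 F1129))).symm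
theorem E1976 : n3807 = n813 := ((((iv F577)).symm.trans (sb E1613 D3807))).symm
theorem E1977 : n2120 = n814 := (((D814).symm.trans (sb E1613 F2144))).symm
theorem E1978 : n1376 = n923 := (((iv F999)).symm.trans (sb E1614 F937))
theorem E1979 : n1782 = n1378 := (((D1378).symm.trans (sb E1614 D1782))).symm
theorem E1981 : n3417 = n2446 := ((((iv F1833)).symm.trans (sb E1616 F2601))).symm
theorem E1983 : n5633 = n4537 := (((D4537).symm.trans (sb E1617 D5633))).symm
theorem E1984 : n4538 = n4329 := ((D4538).symm.trans (sb E1617 (iv F3325)))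
theorem E1985 : n7566 = n5661 := (((D5661).symm.trans (sb E1618 D7566))).symm
theorem E1986 : n5919 = n5662 := (((D5662).symm.trans (sb E1618 (iv F4629)))).symm
theorem E1987 : n4305 = n3438 := ((F3323).symm.trans (sb E1619 (iv D4539)))
theorem E1994 : n5003 = n225 := ((((iv F149)).symm.trans (sb E1626 D5003))).symm
theorem E1997 : n5001 = n568 := (((D568).symm.trans (sb E1628 (iv F3875)))).symm
theorem E1998 : n5002 = n499 := ((((iv F348)).symm.trans (sb E1628 D5002))).symm
theorem F9680 : act 1 n6560 = n7594 := (sb E1629 (iv D9606))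
theorem E1999 : n4532 = n3255 := (((F3307).symm.trans (sb E1632 F4623))).symm
theorem E2000 : n7592 = n5642 := (((D5642).symm.trans (sb E1632 D7592))).symm
theorem E2001 : n2568 = n1785 := ((((iv D2430)).symm.trans (sb E1635 (iv D3433)))).symm
theorem E2002 : n3256 = n2836 := ((D3256).symm.trans (sb E1635 F2608))
theorem E2003 : n5643 = n4963 := (((D4963).symm.trans (sb E1636 D5643))).symm
theorem E2005 : n7246 = n4106 := (E1639).trans E1936
theorem E2007 : n9200 = n3091 := ((((iv D4106)).symm.trans (sb E2005 D9200))).symm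
theorem E2008 : n7602 = n3091 := (((iv F6037)).symm.trans (sb E1640 (tr (iv F7407) E2007)))
theorem E2009 : n9650 = n1469 := ((((iv D2008)).symm.trans (sb E1644 D9650))).symm
theorem E2010 : n5941 = n1487 := (((F1477).symm.trans (sb E1644 (iv D7635)))).symm
theorem E2011 : n9649 = n2754 := (((D2754).symm.trans (sb E1645 (iv F7788)))).symm
theorem E2012 : n5940 = n2755 := (((D2755).symm.trans (sb E1645 (iv D7634)))).symm
theorem E2016 : n7525 = n4569 := ((((iv F4249)).symm.trans (sb E1648 F7691))).symm
theorem E2022 : n9464 = n5824 := ((((iv F4554)).symm.trans (sb E1654 F8018))).symm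
theorem F9697 : act 2 n4529 = n4529 := (sb E1657 F3841)
theorem E2024 : n9684 = n129 := (E1659).trans E1907
theorem E2025 : n9276 = n201 := (((D201).symm.trans (sb E2024 F7813))).symm
theorem E2026 : n9685 = n186 := (E1660).trans E1924
theorem E2027 : n9275 = n118 := ((((iv D186)).symm.trans (sb E2026 F7815))).symm
theorem E2030 : n7552 = n7311 := (((D7311).symm.trans (sb E1664 D7552))).symm
theorem F9698 : act 2 n5684 = n4501 := (sb E1664 (iv D5876))
theorem E2031 : n7312 = n5904 := ((D7312).symm.trans (sb E1664 (iv F4620)))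
theorem E2033 : n8845 = n7232 := (((D7232).symm.trans (sb E1667 (iv F8940)))).symm
theorem E2035 : n7275 = n4108 := ((D7275).symm.trans (sb E1668 (tr (iv F8938) E1782)))
theorem E2036 : n5657 = n416 := (((iv F4419)).symm.trans (sb E1670 (tr F7749 E1926)))
theorem E2045 : n5696 = n1216 := (((F880).symm.trans (sb E1677 D5696))).symm
theorem E2048 : n3298 = n1977 := ((((iv F1454)).symm.trans (sb E1680 D3298))).symm
theorem E2049 : n5334 = n2184 := ((((iv F1625)).symm.trans (sb E1682 (iv D6886)))).symm
theorem E2052 : n3062 = n2444 := (((D2444).symm.trans (sb E1684 (iv D4066)))).symm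
theorem E2053 : n5331 = n2445 := (((D2445).symm.trans (sb E1684 D5331))).symm
theorem E2055 : n2461 = n1682 := ((D2461).symm.trans (sb E1687 (iv D2294)))
theorem E2056 : n7137 = n2300 := (((F2325).symm.trans (sb E1688 (iv D9076)))).symm
theorem E2058 : n7138 = n4096 := ((((iv D5362)).symm.trans (sb E1690 (iv D9077)))).symm
theorem F9701 : act 0 n7276 = n8794 := (sb E1691 F9046)
theorem E2059 : n9233 = n8793 := ((D9233).symm.trans (sb E1691 (iv D11015)))
theorem E2060 : n8794 = n7420 := (((F5901).symm.trans (sb E1693 (iv D11016)))).symm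
theorem E2063 : n7780 = n7622 := (((D7622).symm.trans (sb E1696 F7937))).symm
theorem E2064 : n7779 = n7623 := (((D7623).symm.trans (sb E1696 (iv D9825)))).symm
theorem E2066 : n9452 = n929 := (((D929).symm.trans (sb E1698 F8425))).symm
theorem E2067 : n5813 = n1377 := (((D1377).symm.trans (sb E1699 F5043))).symm
theorem E2068 : n2831 = n1785 := (((E2001).symm.trans ((D2568).symm.trans (sb E1700 F2877)))).symm
theorem E2070 : n4528 = n3773 := ((D4528).symm.trans (sb E1702 F2878))
theorem E2072 : n6439 = n543 := (((D543).symm.trans (sb E1703 (iv D8230)))).symm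
theorem E2074 : n6438 = n1101 := ((((iv F791)).symm.trans (sb E1704 (iv F5054)))).symm
theorem E2075 : n3781 = n1103 := (((D1103).symm.trans (sb E1704 (iv D4964)))).symm
theorem E2088 : n5357 = n3301 := (((D3301).symm.trans (sb E1716 (iv F4159)))).symm
theorem E2090 : n8771 = n3303 := (((D3303).symm.trans (sb E1717 (iv F7046)))).symm
theorem E2091 : n3300 = n3081 := ((D3300).symm.trans (sb E1718 (iv F2322)))
theorem E2092 : n10265 = n2700 := (((F2022).symm.trans (sb E1720 D10265))).symm
theorem E2093 : n6372 = n1997 := ((((iv D2708)).symm.trans (sb E1720 F6517))).symm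
theorem E2095 : n3734 = n1072 := (((F1094).symm.trans (sb E1721 F3784))).symm
theorem E2097 : n2665 = n1411 := ((((iv D1937)).symm.trans (sb E1723 (iv D3559)))).symm
theorem E2099 : n6369 = n2040 := (((D2040).symm.trans (sb E1724 D6369))).symm
theorem E2101 : n8156 = n1157 := ((((iv F835)).symm.trans (sb E1726 F7986))).symm
theorem E2102 : n8408 = n2075 := ((((iv F1536)).symm.trans (sb E1728 D8408))).symm
theorem E2103 : n8410 = n2074 := (((F1535).symm.trans (sb E1728 D8410))).symm
theorem E2104 : n6589 = n1492 := (E1729).trans E1814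
theorem E2105 : n2074 = n1070 := ((((iv D1492)).symm.trans (sb E2104 (tr (iv F6729) E2103)))).symm
theorem E2106 : n1838 = n1612 := ((F1423).symm.trans (sb E1730 F1450))
theorem E2107 : n2497 = n1611 := (((iv F1863)).symm.trans (sb E1730 F1451))
theorem E2108 : n1439 = n1410 := ((((iv D1936)).symm.trans (sb E1730 (iv D1973)))).symm
theorem E2109 : n4418 = n2963 := (((iv F3396)).symm.trans (sb E1731 F2723))
theorem E2111 : n2946 = n1071 := ((((iv D1493)).symm.trans (sb E1733 F2962))).symm
theorem E2112 : n2945 = n2040 := (((D2040).symm.trans (sb E1733 F2963))).symm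
theorem F9703 : act 0 n6415 = n6467 := (sb E1741 (iv F5075))
theorem E2117 : n8265 = n4943 := (((F5030).symm.trans (sb E1741 (iv F6602)))).symm
theorem E2119 : n4985 = n4942 := ((((iv D6415)).symm.trans (sb E1741 (iv D6466)))).symm
theorem F9704 : act 1 n6413 = n6539 := (sb E1743 (iv F5134))
theorem F9705 : act 3 n6413 = n6467 := (sb E1743 (iv F5077))
theorem F9706 : act 0 n8350 = n8203 := (sb E1744 F8410)
theorem E2121 : n5561 = n2664 := (((F2712).symm.trans (sb E1745 F4373))).symm
theorem E2124 : n9101 = n4686 := (((D4686).symm.trans (sb E1746 (iv F7329)))).symm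
theorem E2125 : n8919 = n4693 := (((D4693).symm.trans (sb E1747 (iv D11155)))).symm
theorem E2127 : n11095 = n5871 := ((((iv F4590)).symm.trans (sb E1749 (iv F9120)))).symm
theorem E2128 : n6959 = n4493 := ((((iv D5866)).symm.trans (sb E1749 (iv D8866)))).symm
theorem E2129 : n7540 = n4119 := ((((iv D5389)).symm.trans (sb E1751 (iv D9545)))).symm
theorem E2130 : n5363 = n4492 := ((F9619).symm.trans (sb E1752 (iv D5865)))
theorem E2132 : n6376 = n4158 := (((D4158).symm.trans (sb E1753 (iv D8162)))).symm
theorem E2134 : n4855 = n4277 := ((F3789).symm.trans (sb E1754 F4228))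
theorem E2136 : n9897 = n4141 := ((((iv D5418)).symm.trans (sb E1756 (iv F7990)))).symm
theorem E2138 : n10732 = n8988 := (((iv F8774)).symm.trans (sb E1757 (iv F7228)))
theorem F9709 : act 1 n8764 = n6995 := (sb E1757 (iv D8917))
theorem E2140 : n11153 = n6104 := ((((iv D7834)).symm.trans (sb E1758 D11153))).symm
theorem E2141 : n6708 = n5470 := ((((iv D7061)).symm.trans (sb E1759 F6867))).symm
theorem E2142 : n10899 = n865 := ((((iv D1213)).symm.trans (sb E1760 D10899))).symm
theorem E2143 : n8702 = n1682 := (((D1682).symm.trans (sb E1760 (iv F6989)))).symm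
theorem E2146 : n4068 = n1653 := ((((iv D2256)).symm.trans (sb E1762 D4068))).symm
theorem E2147 : n4069 = n3030 := (((D3030).symm.trans (sb E1762 D4069))).symm
theorem E2149 : n3954 = n3151 := ((((iv F2378)).symm.trans (sb E1764 (iv F3024)))).symm
theorem E2150 : n3956 = n1724 := ((((iv D2350)).symm.trans (sb E1764 D3956))).symm
theorem E2151 : n3153 = n2212 := ((D3153).symm.trans (sb E1764 (iv D2976)))
theorem E2153 : n6821 = n2281 := (((D2281).symm.trans (sb E1766 (iv F5374)))).symm
theorem E2154 : n8554 = n7584 := (((iv F6864)).symm.trans (sb E1767 (iv D9596)))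
theorem E2156 : n7062 = n5181 := ((((iv D6707)).symm.trans (sb E1769 F7230))).symm
theorem E2157 : n7181 = n5468 := ((((iv D7058)).symm.trans (sb E1770 (iv D9128)))).symm
theorem E2158 : n10746 = n5499 := (((F5576).symm.trans (sb E1770 (iv F8791)))).symm
theorem E2159 : n7180 = n3150 := ((((iv D4182)).symm.trans (sb E1771 (iv D9127)))).symm
theorem E2160 : n6715 = n5498 := (((F5578).symm.trans (sb E1772 (iv D8567)))).symm
theorem E2163 : n10772 = n8724 := ((((iv F7003)).symm.trans (sb E1774 (iv F8815)))).symm
theorem E2164 : n7200 = n5450 := (((F5393).symm.trans (sb E1774 F7058))).symm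
theorem F9717 : act 2 n3966 = n4115 := (sb E1775 (iv D5384))
theorem F9718 : act 0 n3964 = n4115 := (sb E1777 (iv D5383))
theorem E2169 : n4121 = n2982 := ((((iv D3964)).symm.trans (sb E1777 F4179))).symm
theorem E2170 : n5397 = n5200 := (((D5200).symm.trans (sb E1777 (iv F4191)))).symm
theorem E2171 : n5398 = n4071 := ((D5398).symm.trans (sb E1778 (iv D5336)))
theorem E2172 : n5195 = n2312 := (((D2312).symm.trans (sb E1779 (iv D6722)))).symm
theorem E2173 : n5477 = n1234 := (((F1247).symm.trans (sb E1779 F9522))).symm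
theorem E2174 : n5478 = n616 := (((F626).symm.trans (sb E1780 (iv D7070)))).symm
theorem E2178 : n6943 = n5376 := (((D5376).symm.trans (sb E1782 F7099))).symm
theorem E2179 : n10777 = n7630 := ((((iv F6974)).symm.trans (sb E1783 F9310))).symm
theorem E2182 : n7112 = n6976 := ((((iv D8890)).symm.trans (sb E1784 (iv D9046)))).symm
theorem E2184 : n8958 = n6043 := (((F6087).symm.trans (sb E1786 (iv F7206)))).symm
theorem F9720 : act 1 n7657 = n6842 := (sb E1787 F7002)
theorem F9721 : act 3 n7657 = n6841 := (sb E1787 (iv D8723))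
theorem E2189 : n6826 = n5200 := (((D5200).symm.trans (sb E1788 (iv D8709)))).symm
theorem E2190 : n5201 = n4030 := ((D5201).symm.trans (sb E1789 (iv D5284)))
theorem E2197 : n5286 = n3103 := ((((iv F2338)).symm.trans (sb E1795 (iv D6830)))).symm
theorem E2198 : n5288 = n3104 := (((D3104).symm.trans (sb E1795 F5380))).symm
theorem E2201 : n3034 = n2981 := (((D2981).symm.trans (sb E1800 (iv D4031)))).symm
theorem E2207 : n7365 = n5039 := ((((iv F3905)).symm.trans (sb E1807 (iv F5855)))).symm
theorem E2210 : n2499 = n2204 := ((((iv D2964)).symm.trans (sb E1809 F2544))).symm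
theorem E2211 : n4422 = n3850 := ((((iv F2939)).symm.trans (sb E1809 D4422))).symm
theorem E2212 : n8456 = n6292 := ((((iv F4914)).symm.trans (sb E1810 (iv F6769)))).symm
theorem E2213 : n8455 = n6293 := (((D6293).symm.trans (sb E1810 (iv F6768)))).symm
theorem E2217 : n7214 = n1491 := (((D1491).symm.trans (sb E1815 (iv D9166)))).symm
theorem E2218 : n4284 = n2037 := ((((iv F1503)).symm.trans (sb E1816 F4378))).symm
theorem E2220 : n4285 = n3678 := ((((iv F2805)).symm.trans (sb E1818 F4379))).symm
theorem E2221 : n5640 = n3679 := (((D3679).symm.trans (sb E1818 (iv F4405)))).symm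
theorem E2222 : n5662 = n4830 := (((D4830).symm.trans (sb E1819 F5751))).symm
theorem E2223 : n8485 = n1469 := ((((iv D2008)).symm.trans (sb E1820 (iv F6799)))).symm
theorem E2225 : n9242 = n4786 := ((((iv F3685)).symm.trans (sb E1821 (iv F7456)))).symm
theorem E2226 : n5661 = n3635 := ((((iv D4781)).symm.trans (sb E1821 (iv D7283)))).symm
theorem E2227 : n4780 = n4327 := ((D4780).symm.trans (sb E1822 (iv F3321)))
theorem E2230 : n4799 = n2900 := ((((iv F2176)).symm.trans (sb E1825 (iv F3696)))).symm
theorem E2232 : n2734 = n1570 := ((((iv F1146)).symm.trans (sb E1826 (iv D3648)))).symm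
theorem E2238 : n3859 = n3622 := ((F2951).symm.trans (sb E1829 (iv D4764)))
theorem E2239 : n2943 = n2003 := (((F2029).symm.trans (sb E1830 F2953))).symm
theorem E2241 : n2441 = n2004 := (((iv F1828)).symm.trans (sb E1831 F2030))
theorem E2242 : n7911 = n389 := (((D389).symm.trans (sb E1832 (iv D9976)))).symm
theorem E2251 : n2697 = n1585 := (((D1585).symm.trans (sb E1838 (iv D3601)))).symm
theorem E2252 : n4738 = n1586 := (((D1586).symm.trans (sb E1838 D4738))).symm
theorem E2253 : n2763 = n2191 := (((D2191).symm.trans (sb E1839 (iv D3685)))).symm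
theorem E2254 : n2189 = n1497 := (((iv F1631)).symm.trans (sb E1840 F1509))
theorem E2255 : n2192 = n1494 := ((D2192).symm.trans (sb E1840 (iv D2042)))
theorem E2256 : n2718 = n2188 := (((D2188).symm.trans (sb E1841 (iv F2032)))).symm
theorem E2257 : n2923 = n1454 := ((((iv D1990)).symm.trans (sb E1842 D2923))).symm
theorem E2260 : n2672 = n1837 := ((((iv D2498)).symm.trans (sb E1845 (iv D3569)))).symm
theorem E2261 : n4696 = n1839 := (((F1864).symm.trans (sb E1845 (iv F3611)))).symm
theorem F9724 : act 3 n2498 = n2964 := (sb E1845 F2721)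
theorem E2263 : n9770 = n8539 := ((D9770).symm.trans (sb E1847 (iv D10714)))
theorem E2265 : n7017 = n5319 := ((D7017).symm.trans (sb E1848 (iv D6866)))
theorem E2266 : n8225 = n5319 := (E1869).trans E2265
theorem E2268 : n7303 = n3993 := (((F3402).symm.trans (sb E1850 (iv F5801)))).symm
theorem E2269 : n5233 = n4339 := (((iv F4057)).symm.trans (sb E1850 (iv D5678)))
theorem E2272 : n6948 = n2992 := (((F3020).symm.trans (sb E1853 F7123))).symm
theorem E2273 : n6947 = n2991 := (((F3021).symm.trans (sb E1853 (iv D8852)))).symm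
theorem E2274 : n11079 = n2971 := ((((iv D3950)).symm.trans (sb E1853 D11079))).symm
theorem E2275 : n5468 = n5213 := (((F4119).symm.trans (sb E1854 F5574))).symm
theorem E2276 : n5467 = n5303 := (((F4120).symm.trans (sb E1854 (iv D7057)))).symm
theorem E2278 : n8982 = n4228 := ((((iv D5532)).symm.trans (sb E1856 (iv D11228)))).symm
theorem E2280 : n11255 = n4050 := ((((iv F3090)).symm.trans (sb E1858 (iv F9262)))).symm
theorem E2281 : n7076 = n2272 := ((((iv D3049)).symm.trans (sb E1858 (iv D9006)))).symm
theorem E2282 : n6088 = n1453 := (((F1063).symm.trans (sb E1859 (iv F4761)))).symm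
theorem E2290 : n6933 = n3005 := (((F2546).symm.trans (sb E1864 F5803))).symm
theorem E2291 : n6116 = n2501 := ((((iv D3352)).symm.trans (sb E1864 (iv F9441)))).symm
theorem E2298 : n6435 = n5175 := (((F4125).symm.trans (sb E2266 (iv D8225)))).symm
theorem E2299 : n8208 = n5172 := (((F4126).symm.trans (sb E2266 F6570))).symm
theorem E2300 : n7010 = n5172 := (((E2299).symm.trans ((D8208).symm.trans (sb E1870 (iv D8935))))).symm
theorem E2303 : n7730 = n3124 := ((((iv D4151)).symm.trans (sb E1871 D7730))).symm
theorem E2304 : n4615 = n3125 := ((D4615).symm.trans (sb E1872 (iv D4152)))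
theorem E2306 : n7005 = n1401 := (((F1412).symm.trans (sb E1875 F5537))).symm
theorem E2308 : n4913 = n1752 := ((((iv F1288)).symm.trans (sb E1877 (iv D6384)))).symm
theorem E2309 : n6389 = n1760 := (((D1760).symm.trans (sb E1877 (iv F5005)))).symm
theorem E2310 : n5716 = n3214 := (((D3214).symm.trans (sb E1878 D5716))).symm
theorem E2313 : n9319 = n3217 := (((D3217).symm.trans (sb E1881 D9319))).symm
theorem E2314 : n9320 = n3218 := (((D3218).symm.trans (sb E1881 D9320))).symm
theorem E2315 : n11326 = n5347 := (((D5347).symm.trans (sb E1882 F9334))).symm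
theorem E2316 : n8971 = n8792 := (((D8792).symm.trans (sb E1884 D8971))).symm
theorem E2319 : n2806 = n1753 := (((F1792).symm.trans (sb E1888 F2854))).symm
theorem E2322 : n5576 = n3309 := (((D3309).symm.trans (sb E1890 D5576))).symm
theorem F9730 : act 2 n2468 = n3213 := (sb E1890 (iv D4261))
theorem E2323 : n5577 = n2644 := ((((iv F1981)).symm.trans (sb E1890 D5577))).symm
theorem E2329 : n4864 = n3194 := ((((iv D4238)).symm.trans (sb E1894 F4939))).symm
theorem E2330 : n8105 = n5540 := ((((iv F4330)).symm.trans (sb E1894 D8105))).symm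
theorem E2331 : n5544 = n4863 := ((D5544).symm.trans (sb E1894 (iv D6323)))
theorem E2332 : n9323 = n9073 := (((D9073).symm.trans (sb E1895 F8297))).symm
theorem E2335 : n6402 = n1147 := (((D1147).symm.trans (sb E1897 (iv F5090)))).symm
theorem F9732 : act 1 n1585 = n10309 := (sb E1898 D10309)
theorem E2336 : n8184 = n2172 := (((D2172).symm.trans (sb E1898 F6544))).symm
theorem E2342 : n2564 = n198 := ((((iv F131)).symm.trans (sb E1907 F2592))).symm
theorem E2345 : n5834 = n507 := ((((iv F355)).symm.trans (sb E1909 (iv F4561)))).symm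
theorem E2347 : n1352 = n202 := (((D202).symm.trans (sb E1910 (iv D1858)))).symm
theorem E2350 : n5022 = n92 := ((((iv D149)).symm.trans (sb E1911 D5022))).symm
theorem F9733 : act 1 n555 = n391 := (sb E1915 (iv D570))
theorem E2357 : n6665 = n3796 := ((((iv D4986)).symm.trans (sb E1916 D6665))).symm
theorem E2359 : n3912 = n2142 := (((D2142).symm.trans (sb E1918 D3912))).symm
theorem E2361 : n6542 = n5043 := ((((iv F3908)).symm.trans (sb E1919 (iv F5139)))).symm
theorem E2364 : n2186 = n1130 := (((D1130).symm.trans (sb E1920 D2186))).symm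
theorem E2365 : n3914 = n2144 := (((D2144).symm.trans (sb E1921 D3914))).symm
theorem E2368 : n4525 = n283 := ((((iv F193)).symm.trans (sb E1924 D4525))).symm
theorem E2370 : n8804 = n1035 := ((((iv F743)).symm.trans (sb E1927 (iv F7081)))).symm
theorem E2371 : n8803 = n1037 := (((D1037).symm.trans (sb E1927 (iv F7080)))).symm
theorem E2374 : n5128 = n2886 := (((F2927).symm.trans (sb E1933 (iv F3973)))).symm
theorem E2377 : n4950 = n2570 := ((((iv D3437)).symm.trans (sb E1935 (iv D6422)))).symm
theorem E2380 : n7560 = n6917 := (((iv F6007)).symm.trans (sb E1937 F5474))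
theorem E2382 : n8797 = n7542 := (((D7542).symm.trans (sb E1942 (iv D11020)))).symm
theorem E2383 : n8796 = n4522 := ((((iv D5898)).symm.trans (sb E1943 (iv D11019)))).symm
theorem E2384 : n6008 = n3126 := (((F3185).symm.trans (sb E1945 F4708))).symm
theorem F9736 : act 1 n4153 = n4616 := (sb E1945 F4709)
theorem E2385 : n9314 = n5435 := (((D5435).symm.trans (sb E1946 (iv F7514)))).symm
theorem E2388 : n8818 = n4030 := (((F3083).symm.trans (sb E1952 D8818))).symm
theorem E2393 : n8718 = n7322 := ((D8718).symm.trans (sb E1955 F9636))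
theorem E2394 : n8817 = n5200 := (((E2189).symm.trans ((F5390).symm.trans (sb E1955 D8817)))).symm
theorem F9737 : act 3 n6838 = n5358 := (sb E1955 (iv D6919))
theorem E2395 : n9812 = n6923 := ((((iv F9638)).symm.trans (sb E1957 D9812))).symm
theorem E2396 : n9279 = n7766 := ((D9279).symm.trans (sb E1958 (iv D9811)))
theorem E2398 : n6230 = n3921 := (((F3979).symm.trans (sb E1959 F6361))).symm
theorem E2399 : n3639 = n1494 := (((E2255).symm.trans ((F2213).symm.trans (sb E1960 F3678)))).symm
theorem E2400 : n6220 = n1497 := (E1965).trans E2254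
theorem F9740 : act 1 n2941 = n3634 := (sb E1961 F3680)
theorem E2404 : n9555 = n819 := ((((iv D1155)).symm.trans (sb E1964 (iv F7715)))).symm
theorem E2405 : n5874 = n821 := (((F833).symm.trans (sb E1964 (iv D7550)))).symm
theorem F9742 : act 1 n1497 = n4788 := (sb E2400 F4862)
theorem E2406 : n985 = n647 := (((iv F709)).symm.trans (sb E1966 F658))
theorem F9743 : act 1 n694 = n651 := (sb E1966 F659)
theorem E2407 : n645 = n479 := ((((iv D694)).symm.trans (sb E1966 (iv D921)))).symm
theorem E2408 : n650 = n474 := ((D650).symm.trans (sb E1967 (iv D687)))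
theorem E2409 : n2554 = n1797 := ((((iv F1323)).symm.trans (sb E1968 (iv F1914)))).symm
theorem E2410 : n1366 = n930 := ((((iv D1302)).symm.trans (sb E1968 (iv D1878)))).symm
theorem E2411 : n967 = n307 := (((F313).symm.trans (sb E1969 (iv F695)))).symm
theorem E2413 : n1594 = n796 := (((F805).symm.trans (sb E1970 (iv F1163)))).symm
theorem F9744 : act 1 n1123 = n1303 := (sb E1970 (iv F946))
theorem E2415 : n928 = n688 := ((((iv D980)).symm.trans (sb E1971 (iv D1298)))).symm
theorem F9745 : act 3 n980 = n1303 := (sb E1971 (iv F947))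
theorem E2417 : n810 = n791 := (((iv F576)).symm.trans (sb E1973 F800))
theorem E2422 : n2858 = n1149 := (((D1149).symm.trans (sb E1976 F2900))).symm
theorem E2423 : n2859 = n1150 := (((D1150).symm.trans (sb E1977 D2859))).symm
theorem F9746 : act 0 n923 = n986 := (sb E1978 F999)
theorem E2424 : n1890 = n1292 := (((D1292).symm.trans (sb E1978 D1890))).symm
theorem E2425 : n1293 = n1107 := ((D1293).symm.trans (sb E1978 F1000))
theorem E2426 : n1784 = n1106 := (((F1002).symm.trans (sb E1979 (iv F1311)))).symm
theorem E2428 : n4507 = n3276 := ((((iv F2489)).symm.trans (sb E1981 (iv F3468)))).symm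
theorem E2430 : n7248 = n4107 := (((F9674).symm.trans (sb E1983 D7248))).symm
theorem E2431 : n5918 = n5663 := ((D5918).symm.trans (sb E1983 (iv F4428)))
theorem F9747 : act 3 n4329 = n3437 := (sb E1984 (iv D4538))
theorem E2432 : n7566 = n3635 := (E1985).trans E2226
theorem E2433 : n9576 = n3638 := ((((iv F2775)).symm.trans (sb E2432 D9576))).symm
theorem E2434 : n7606 = n4781 := (((D4781).symm.trans (sb E2432 (iv F6043)))).symm
theorem E2435 : n5919 = n4830 := (E1986).trans E2222
theorem E2436 : n4557 = n3674 := ((((iv D4830)).symm.trans (sb E2435 F4628))).symm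
theorem F9748 : act 0 n3438 = n4329 := (sb E1987 (iv F3324))
theorem E2437 : n4310 = n2835 := (((F2611).symm.trans (sb E1987 (iv F3306)))).symm
theorem F9749 : act 2 n3438 = n4328 := (sb E1987 (iv F3323))
theorem E2444 : n6489 = n339 := ((((iv F234)).symm.trans (sb E1994 D6489))).symm
theorem E2447 : n4929 = n722 := ((((iv F511)).symm.trans (sb E1997 F3876))).symm
theorem E2448 : n4928 = n723 := (((D723).symm.trans (sb E1998 F3878))).symm
theorem E2450 : n5910 = n4313 := (((D4313).symm.trans (sb E1999 D5910))).symm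
theorem E2451 : n8231 = n7260 := (((D7260).symm.trans (sb E2000 (iv F6575)))).symm
theorem E2452 : n3431 = n1294 := (((F1312).symm.trans (sb E2001 (iv F2606)))).symm
theorem E2453 : n2431 = n2105 := ((D2431).symm.trans (sb E2001 F1925))
theorem E2454 : n4314 = n1103 := (((E2075).symm.trans ((D3781).symm.trans (sb E2002 D4314)))).symm
theorem E2455 : n7261 = n6437 := (((D6437).symm.trans (sb E2003 D7261))).symm
theorem E2456 : n7262 = n1101 := (((E2074).symm.trans ((D6438).symm.trans (sb E2003 D7262)))).symm
theorem E2458 : n7339 = n3383 := ((((iv F9547)).symm.trans (sb E2007 F7408))).symm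
theorem E2459 : n5916 = n3374 := (((F9514).symm.trans (sb E2008 F6037))).symm
theorem E2461 : n8889 = n1054 := (((F1076).symm.trans (sb E2009 F9517))).symm
theorem E2462 : n7636 = n1052 := ((((iv D1469)).symm.trans (sb E2009 F7789))).symm
theorem E2463 : n4555 = n1066 := ((((iv D1487)).symm.trans (sb E2010 F4645))).symm
theorem E2465 : n11274 = n3507 := ((((iv F2670)).symm.trans (sb E2011 (iv F9284)))).symm
theorem E2467 : n4556 = n3673 := (((D3673).symm.trans (sb E2012 F4644))).symm
theorem E2474 : n8040 = n5961 := (((D5961).symm.trans (sb E2016 (iv F6411)))).symm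
theorem E2475 : n7491 = n7478 := ((D7491).symm.trans (sb E2022 (iv D9464)))
theorem E2479 : n9236 = n305 := (((D305).symm.trans (sb E2025 F7488))).symm
theorem E2480 : n5904 = n72 := ((((iv D118)).symm.trans (sb E2027 (tr (iv D9275) E2031)))).symm
theorem E2485 : n9274 = n7584 := ((D9274).symm.trans (sb E2030 (iv F6022)))
theorem E2486 : n7312 = n72 := (E2031).trans E2480
theorem E2487 : n5685 = n117 := ((((iv F77)).symm.trans (sb E2486 F5808))).symm
theorem E2488 : n7584 = n42 := (((F47).symm.trans (sb E2486 (tr (iv F7486) E2485)))).symm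
theorem E2489 : n5684 = n41 := ((((iv D72)).symm.trans (sb E2486 (iv D7312)))).symm
theorem E2491 : n9187 = n5376 := ((D9187).symm.trans (sb E2033 (tr (iv D8845) E2178)))
theorem E2492 : n9188 = n8894 := ((D9188).symm.trans (sb E2033 (iv F7158)))
theorem E2493 : n5655 = n3109 := (((F3145).symm.trans (sb E2035 (iv D7275)))).symm
theorem E2496 : n7277 = n605 := (((D605).symm.trans (sb E2036 (iv F5773)))).symm
theorem E2497 : n4323 = n280 := ((((iv D416)).symm.trans (sb E2036 F4419))).symm
theorem E2498 : n4322 = n606 := (((D606).symm.trans (sb E2036 (iv D5657)))).symm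
theorem E2504 : n7327 = n867 := (((F878).symm.trans (sb E2045 D7327))).symm
theorem F9754 : act 0 n1977 = n2462 := (sb E2048 F2503)
theorem E2508 : n4070 = n2938 := ((((iv F2209)).symm.trans (sb E2049 (iv D5334)))).symm
theorem E2509 : n6887 = n1130 := (((E2364).symm.trans (((iv F1627)).symm.trans (sb E2049 D6887)))).symm
theorem E2510 : n6888 = n796 := (((E2413).symm.trans (((iv D2184)).symm.trans (sb E2049 D6888)))).symm
theorem E2514 : n3273 = n2283 := ((D3273).symm.trans (sb E2052 F2308))
theorem E2515 : n3274 = n2281 := ((D3274).symm.trans (sb E2052 (iv D3062)))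
theorem E2516 : n4067 = n3275 := (((D3275).symm.trans (sb E2052 D4067))).symm
theorem E2517 : n6882 = n3276 := (((D3276).symm.trans (sb E2053 D6882))).symm
theorem F9755 : act 2 n1682 = n1810 := (sb E2055 (iv D2461))
theorem E2521 : n5542 = n3085 := ((((iv F2328)).symm.trans (sb E2056 F5645))).symm
theorem E2522 : n5541 = n1687 := ((((iv D2300)).symm.trans (sb E2056 (iv D7137)))).symm
theorem E2523 : n5821 = n3086 := (((D3086).symm.trans (sb E2056 F5646))).symm
theorem E2525 : n7890 = n4079 := (((F3136).symm.trans (sb E2058 F9509))).symm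
theorem E2527 : n7279 = n6906 := (((F7070).symm.trans (sb E2059 F7444))).symm
theorem F9756 : act 2 n8793 = n7276 := (sb E2059 (iv D9233))
theorem E2528 : n7276 = n5768 := (((F5896).symm.trans (sb E2060 (iv F9701)))).symm
theorem E2529 : n6900 = n5767 := ((((iv D7420)).symm.trans (sb E2060 (iv D8794)))).symm
theorem E2533 : n9637 = n6060 := ((D9637).symm.trans (sb E2063 (iv D7780)))
theorem E2534 : n7585 = n6424 := ((F6059).symm.trans (sb E2063 (iv F6192)))
theorem E2535 : n9824 = n9019 := ((((iv F7259)).symm.trans (sb E2064 (iv F7936)))).symm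
theorem E2538 : n7468 = n1299 := (((D1299).symm.trans (sb E2066 (iv D9452)))).symm
theorem E2539 : n4451 = n1891 := (((D1891).symm.trans (sb E2067 (iv D5813)))).symm
theorem E2540 : n2430 = n2100 := ((D2430).symm.trans (sb E2068 F2122))
theorem E2541 : n2105 = n2099 := ((E2453).symm.trans ((D2431).symm.trans (sb E2068 (iv D2831))))
theorem E2543 : n3773 = n1788 := (((D1788).symm.trans (iv (sb E2070 (tr (iv D4528) E2452))))).symm
theorem E2546 : n7260 = n783 := (((D783).symm.trans (sb E2072 (tr D8231 E2451)))).symm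
theorem E2547 : n8231 = n783 := (E2451).trans E2546
theorem E2548 : n8228 = n1530 := (((D1530).symm.trans (sb E2074 (iv F6571)))).symm
theorem E2555 : n5830 = n4362 := (((D4362).symm.trans (sb E2088 F9598))).symm
theorem E2556 : n4360 = n4092 := (((iv F3347)).symm.trans (sb E2088 (iv D5357)))
theorem E2557 : n6917 = n4363 := (((D4363).symm.trans (sb E2088 D6917))).symm
theorem E2558 : n8776 = n4364 := (((D4364).symm.trans (sb E2090 (iv F7049)))).symm
theorem F9758 : act 2 n3081 = n2462 := (sb E2091 (iv D3300))
theorem E2560 : n8159 = n2707 := ((((iv F2021)).symm.trans (sb E2092 F8360))).symm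
theorem E2561 : n4903 = n1464 := (((F1468).symm.trans (sb E2093 (iv D6372)))).symm
theorem E2564 : n2799 = n759 := ((((iv D1072)).symm.trans (sb E2095 (iv D3734)))).symm
theorem E2566 : n1965 = n1012 := ((((iv D1411)).symm.trans (sb E2097 (iv D2665)))).symm
theorem E2567 : n8154 = n2762 := (((D2762).symm.trans (sb E2099 D8154))).symm
theorem E2571 : n6370 = n1601 := (((D1601).symm.trans (sb E2101 (iv D8156)))).symm
theorem E2572 : n10565 = n1517 := (((F1537).symm.trans (sb E2102 (iv F8620)))).symm
theorem E2573 : n10568 = n1516 := ((((iv D2075)).symm.trans (sb E2102 D10568))).symm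
theorem E2574 : n8410 = n1070 := (E2103).trans E2105
theorem E2575 : n1516 = n758 := ((((iv D1070)).symm.trans (sb E2574 (tr (iv F8623) E2573)))).symm
theorem E2577 : n1518 = n1407 := ((((iv F1022)).symm.trans (sb E2105 F1534))).symm
theorem F9759 : act 0 n1612 = n1936 := (sb E2106 (iv F1423))
theorem E2578 : n2500 = n1164 := ((((iv D1612)).symm.trans (sb E2106 D2500))).symm
theorem E2579 : n1971 = n1335 := (((iv F1449)).symm.trans (sb E2106 (iv D1838)))
theorem E2580 : n3347 = n2203 := ((((iv F1641)).symm.trans (sb E2107 (iv F2543)))).symm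
theorem F9760 : act 2 n1611 = n1936 := (sb E2107 F1863)
theorem E2581 : n1836 = n1163 := ((((iv D1611)).symm.trans (sb E2107 (iv D2497)))).symm
theorem E2582 : n1032 = n1011 := ((((iv D1410)).symm.trans (sb E2108 (iv D1439)))).symm
theorem E2583 : n5776 = n3938 := ((((iv F3010)).symm.trans (sb E2109 (iv F4512)))).symm
theorem F9761 : act 1 n2963 = n3513 := (sb E2109 F3396)
theorem E2584 : n5777 = n3939 := (((D3939).symm.trans (sb E2109 D5777))).symm
theorem E2585 : n3921 = n759 := ((((iv D1071)).symm.trans (sb E2111 D3921))).symm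
theorem E2586 : n3920 = n2762 := (((D2762).symm.trans (sb E2112 (iv F2996)))).symm
theorem E2593 : n6465 = n3763 := ((((iv D4943)).symm.trans (sb E2117 (iv D8265)))).symm
theorem E2596 : n6414 = n3795 := ((D6414).symm.trans (sb E2119 (iv D4985)))
theorem E2599 : n7160 = n1964 := (((F1993).symm.trans (sb E2121 (iv F5668)))).symm
theorem E2601 : n4250 = n1963 := ((((iv D2664)).symm.trans (sb E2121 (iv D5561)))).symm
theorem E2604 : n7157 = n6073 := ((((iv F4750)).symm.trans (sb E2124 (iv D9101)))).symm
theorem E2605 : n11154 = n3573 := (((F3609).symm.trans (sb E2125 D11154))).symm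
theorem E2607 : n8946 = n6263 := ((((iv F4896)).symm.trans (sb E2127 F9119))).symm
theorem E2609 : n6924 = n3405 := ((((iv D4493)).symm.trans (sb E2128 F9675))).symm
theorem E2611 : n9542 = n3100 := ((((iv D4119)).symm.trans (sb E2129 (iv F7706)))).symm
theorem E2612 : n5864 = n4097 := (((iv F4585)).symm.trans (sb E2130 F4164))
theorem E2615 : n6316 = n5440 := (((D5440).symm.trans (sb E2132 F4992))).symm
theorem E2617 : n6314 = n3228 := (((F3286).symm.trans (sb E2134 D6314))).symm
theorem E2618 : n7843 = n5419 := (((D5419).symm.trans (sb E2136 (iv D9897)))).symm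
theorem E2619 : n11280 = n7085 := (((F7229).symm.trans (sb E2138 (iv F9290)))).symm
theorem E2620 : n9102 = n7796 := ((((iv F6206)).symm.trans (sb E2140 (iv F9168)))).symm
theorem E2621 : n5182 = n4183 := ((((iv D5470)).symm.trans (sb E2141 F5277))).symm
theorem E2622 : n8556 = n4199 := (((F4256).symm.trans (sb E2141 D8556))).symm
theorem E2623 : n10905 = n1215 := (((D1215).symm.trans (sb E2142 (iv F8947)))).symm
theorem E2624 : n7401 = n1810 := (((F9755).symm.trans (sb E2143 F6988))).symm
theorem E2626 : n5332 = n1192 := ((((iv D1653)).symm.trans (sb E2146 D5332))).symm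
theorem E2628 : n5333 = n2257 := (((D2257).symm.trans (sb E2146 D5333))).symm
theorem E2629 : n4027 = n3275 := ((D4027).symm.trans (sb E2147 (tr F3107 E2516)))
theorem E2631 : n5183 = n2349 := ((((iv D3151)).symm.trans (sb E2149 D5183))).symm
theorem E2632 : n4184 = n2974 := ((D4184).symm.trans (sb E2149 (iv D3954)))
theorem E2633 : n5187 = n2351 := (((D2351).symm.trans (sb E2150 D5187))).symm
theorem E2634 : n4186 = n1619 := ((((iv D2212)).symm.trans (sb E2151 D4186))).symm
theorem F9773 : act 2 n2281 = n5280 := (sb E2153 (iv D6821))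
theorem E2637 : n8554 = n42 := (E2154).trans E2488
theorem E2638 : n6874 = n69 := ((((iv F44)).symm.trans (sb E2637 F6864))).symm
theorem E2639 : n6730 = n72 := ((((iv F47)).symm.trans (sb E2637 F6865))).symm
theorem E2640 : n6707 = n73 := (((D73).symm.trans (sb E2637 (iv D8554)))).symm
theorem E2642 : n5471 = n3953 := ((((iv D5181)).symm.trans (sb E2156 F5579))).symm
theorem E2643 : n5903 = n3968 := (((F4012).symm.trans (sb E2156 F5580))).symm
theorem F9774 : act 3 n5181 = n5470 := (sb E2156 (iv D7062))
theorem E2644 : n7181 = n5213 := (E2157).trans E2275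
theorem E2645 : n5311 = n2644 := (((iv F4119)).symm.trans (sb E2644 (tr F5689 E2323)))
theorem E2646 : n6743 = n3309 := ((D6743).symm.trans (sb E2644 (tr (iv D7181) E2322)))
theorem E2647 : n8566 = n4204 := ((((iv D5499)).symm.trans (sb E2158 (iv D10746)))).symm
theorem E2648 : n4181 = n3309 := (((iv F3209)).symm.trans (sb E2159 (tr (iv D7180) E2322)))
theorem E2650 : n5578 = n2348 := ((((iv D3150)).symm.trans (sb E2159 F5688))).symm
theorem E2651 : n7089 = n5188 := (((iv F5607)).symm.trans (sb E2160 (iv D6715)))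
theorem E2652 : n5588 = n4203 := ((((iv D5498)).symm.trans (sb E2160 F5282))).symm
theorem E2655 : n10934 = n8783 := ((D10934).symm.trans (sb E2163 F8816))
theorem E2656 : n7035 = n5853 := (((iv F5553)).symm.trans (sb E2164 F5704))
theorem E2657 : n9120 = n4166 := ((((iv D5450)).symm.trans (sb E2164 (iv F7346)))).symm
theorem E2658 : n7036 = n5591 := ((D7036).symm.trans (sb E2164 (iv D7200)))
theorem E2662 : n3962 = n3102 := (((iv F3028)).symm.trans (sb E2169 (iv D4121)))
theorem E2663 : n5391 = n2218 := ((((iv D2982)).symm.trans (sb E2169 D5391))).symm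
theorem E2664 : n5392 = n3965 := (((D3965).symm.trans (sb E2169 D5392))).symm
theorem F9777 : act 0 n5200 = n4128 := (sb E2170 (iv D5397))
theorem F9778 : act 2 n4071 = n4128 := (sb E2171 (iv D5398))
theorem E2667 : n5214 = n1708 := (((F1722).symm.trans (sb E2172 (iv F4045)))).symm
theorem E2668 : n4188 = n879 := ((((iv D1234)).symm.trans (sb E2173 F4263))).symm
theorem E2669 : n4187 = n1709 := (((D1709).symm.trans (sb E2173 (iv D5477)))).symm
theorem E2670 : n5475 = n877 := ((((iv F627)).symm.trans (sb E2174 F4264))).symm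
theorem E2671 : n5472 = n423 := ((((iv D616)).symm.trans (sb E2174 F4265))).symm
theorem E2675 : n8592 = n1052 := (((E2462).symm.trans (((iv F6069)).symm.trans (sb E2179 (iv D10777))))).symm
theorem E2680 : n5519 = n1054 := (((E2461).symm.trans ((D8889).symm.trans (sb E2182 (iv D7112))))).symm
theorem E2681 : n7032 = n6362 := ((((iv F4978)).symm.trans (sb E2184 (iv D8958)))).symm
theorem E2685 : n6838 = n5335 := ((((iv F4138)).symm.trans (sb E2189 (iv F5390)))).symm
theorem E2686 : n6727 = n4039 := ((((iv F3083)).symm.trans (sb E2190 D6727))).symm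
theorem F9782 : act 2 n4030 = n3965 := (sb E2190 (iv D5201))
theorem E2690 : n4123 = n4032 := (((iv F3162)).symm.trans (sb E2197 (iv D5286)))
theorem E2691 : n4124 = n4033 := ((D4124).symm.trans (sb E2197 F4100))
theorem E2692 : n6833 = n3101 := (((F2339).symm.trans (sb E2198 D6833))).symm
theorem E2693 : n6834 = n4125 := (((D4125).symm.trans (sb E2198 D6834))).symm
theorem F9783 : act 2 n2981 = n2259 := (sb E2201 (iv D3034))
theorem E2704 : n7364 = n3840 := (((F3904).symm.trans (sb E2207 F5854))).symm
theorem E2705 : n5726 = n5048 := ((((iv F9544)).symm.trans (sb E2207 (iv D7365)))).symm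
theorem E2708 : n3350 = n2891 := ((((iv F2170)).symm.trans (sb E2210 D3350))).symm
theorem E2709 : n4941 = n4429 := (((iv F3824)).symm.trans (sb E2211 (iv F3408)))
theorem E2711 : n8066 = n6624 := ((D8066).symm.trans (sb E2212 (iv D8456)))
theorem E2712 : n10625 = n7434 := ((((iv F5908)).symm.trans (sb E2213 (iv F8668)))).symm
theorem E2713 : n8067 = n6623 := ((D8067).symm.trans (sb E2213 (iv D8455)))
theorem E2717 : n7023 = n1930 := ((((iv F1417)).symm.trans (sb E2217 F5718))).symm
theorem E2719 : n3232 = n2758 := ((((iv F2062)).symm.trans (sb E2218 F3289))).symm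
theorem E2720 : n3231 = n1489 := ((((iv D2037)).symm.trans (sb E2218 (iv D4284)))).symm
theorem E2722 : n4835 = n4282 := ((D4835).symm.trans (sb E2220 F3290))
theorem E2723 : n5606 = n3715 := ((((iv F2831)).symm.trans (sb E2220 D5606))).symm
theorem E2724 : n3714 = n2835 := (((iv F2829)).symm.trans (sb E2221 (tr (iv D5640) E2437)))
theorem E2725 : n6283 = n4328 := ((D6283).symm.trans (sb E2222 F4426))
theorem E2726 : n6654 = n1054 := (((F1076).symm.trans (sb E2223 F6798))).symm
theorem E2729 : n7344 = n6229 := ((((iv F4867)).symm.trans (sb E2225 F7455))).symm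
theorem E2730 : n7282 = n3638 := ((((iv D4786)).symm.trans (sb E2225 (iv D9242)))).symm
theorem F9786 : act 2 n4327 = n3634 := (sb E2227 (iv D4780))
theorem F9787 : act 3 n4327 = n4830 := (sb E2227 (iv F3722))
theorem E2736 : n6245 = n3862 := ((((iv F2948)).symm.trans (sb E2230 (iv F4882)))).symm
theorem E2738 : n3649 = n2153 := ((((iv D2900)).symm.trans (sb E2230 (iv D4799)))).symm
theorem E2740 : n3647 = n1135 := ((((iv D1570)).symm.trans (sb E2232 (iv F2782)))).symm
theorem E2750 : n5059 = n4763 := ((((iv F3666)).symm.trans (sb E2238 (iv F3922)))).symm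
theorem E2752 : n3270 = n1466 := (((F1473).symm.trans (sb E2239 (iv F2485)))).symm
theorem E2753 : n3918 = n1465 := ((((iv D2003)).symm.trans (sb E2239 D3918))).symm
theorem E2755 : n2717 = n1794 := ((D2717).symm.trans (sb E2241 (iv D2441)))
theorem E2756 : n6166 = n568 := (((D568).symm.trans (sb E2242 (iv D7911)))).symm
theorem E2768 : n10309 = n1990 := ((F9732).symm.trans (sb E2251 F2013))
theorem E2769 : n2172 = n1989 := ((D2172).symm.trans (sb E2251 (iv D2697)))
theorem E2770 : n6170 = n2173 := (((D2173).symm.trans (sb E2252 D6170))).symm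
theorem E2771 : n3684 = n2944 := (((D2944).symm.trans (sb E2253 (iv F2809)))).symm
theorem E2772 : n2941 = n2045 := ((((iv F1511)).symm.trans (sb E2254 (iv F2212)))).symm
theorem E2773 : n4788 = n1601 := ((F9742).symm.trans (sb E2254 F1631))
theorem F9792 : act 2 n1497 = n1597 := (sb E2254 (iv D2189))
theorem F9793 : act 3 n1494 = n1601 := (sb E2255 (iv D2192))
theorem E2775 : n3626 = n2442 := ((((iv F1831)).symm.trans (sb E2256 (iv F2766)))).symm
theorem F9794 : act 3 n2188 = n2004 := (sb E2256 (iv D2718))
theorem E2776 : n3894 = n1044 := (((F1061).symm.trans (sb E2257 D3894))).symm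
theorem E2780 : n3567 = n1336 := (((F1351).symm.trans (sb E2260 (iv F2720)))).symm
theorem F9795 : act 3 n1837 = n2204 := (sb E2260 F1998)
theorem E2781 : n6117 = n2502 := (((D2502).symm.trans (sb E2261 D6117))).symm
theorem E2785 : n8539 = n2326 := ((((iv D3124)).symm.trans (iv (sb E2263 (tr (iv D9770) E2303))))).symm
theorem E2789 : n5677 = n5235 := (((D5235).symm.trans (sb E2268 (iv D7303)))).symm
theorem E2791 : n3991 = n3281 := ((((iv D4339)).symm.trans (sb E2269 (iv D5233)))).symm
theorem E2794 : n5380 = n2226 := ((((iv D2992)).symm.trans (sb E2272 (iv D6948)))).symm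
theorem E2795 : n7058 = n3978 := ((((iv F3041)).symm.trans (sb E2273 (iv F9492)))).symm
theorem E2796 : n5379 = n2225 := ((((iv D2991)).symm.trans (sb E2273 (iv D6947)))).symm
theorem E2797 : n10343 = n2209 := ((((iv D2971)).symm.trans (sb E2274 (iv F9421)))).symm
theorem E2798 : n5514 = n4182 := (((iv F4305)).symm.trans (sb E2275 F4255))
theorem E2799 : n4192 = n4046 := ((((iv D5303)).symm.trans (sb E2276 F4254))).symm
theorem E2801 : n11222 = n5531 := ((((iv F4318)).symm.trans (sb E2278 (iv F9228)))).symm
theorem E2805 : n9857 = n4614 := ((((iv F9367)).symm.trans (sb E2280 F9261))).symm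
theorem E2806 : n9856 = n4609 := (((F9364).symm.trans (sb E2280 F9263))).symm
theorem E2807 : n9005 = n3048 := ((((iv D4050)).symm.trans (sb E2280 (iv D11255)))).symm
theorem E2808 : n5483 = n3046 := ((((iv F2292)).symm.trans (sb E2281 (iv D7076)))).symm
theorem E2809 : n7787 = n1988 := ((((iv F1462)).symm.trans (sb E2282 (iv F6198)))).symm
theorem E2817 : n5369 = n2235 := ((((iv D3005)).symm.trans (sb E2290 (iv D6933)))).symm
theorem E2818 : n5368 = n2234 := ((((iv F1869)).symm.trans (sb E2291 (iv F9443)))).symm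
theorem E2824 : n6699 = n4961 := ((D6699).symm.trans (sb E2298 (iv D6435)))
theorem E2827 : n5430 = n3945 := ((((iv D5172)).symm.trans (sb E2300 F5530))).symm
theorem E2828 : n6695 = n5428 := ((D6695).symm.trans (sb E2300 (iv D7010)))
theorem E2833 : n4602 = n2328 := (((F2354).symm.trans (sb E2304 F3545))).symm
theorem F9800 : act 1 n3125 = n3496 := (sb E2304 (iv D4615))
theorem E2836 : n5424 = n1398 := (((F1014).symm.trans (sb E2306 (iv D7005)))).symm
theorem E2840 : n4917 = n1776 := ((((iv F1305)).symm.trans (sb E2308 (iv F3801)))).symm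
theorem E2841 : n8174 = n2401 := (((D2401).symm.trans (sb E2309 (iv F6531)))).symm
theorem E2842 : n4372 = n4262 := (((D4262).symm.trans (sb E2310 F4467))).symm
theorem E2845 : n9437 = n4265 := (((D4265).symm.trans (sb E2313 (iv F9344)))).symm
theorem E2846 : n10158 = n4266 := (((D4266).symm.trans (sb E2313 F8248))).symm
theorem E2847 : n10156 = n3216 := (((F2437).symm.trans (sb E2314 F8241))).symm
theorem E2848 : n9062 = n6903 := (((D6903).symm.trans (sb E2315 (iv D11326)))).symm
theorem E2849 : n11214 = n11013 := (((D11013).symm.trans (sb E2316 D11214))).symm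
theorem E2851 : n11215 = n8805 := ((((iv F7084)).symm.trans (sb E2316 D11215))).symm
theorem E2853 : n3706 = n2386 := ((((iv F1786)).symm.trans (sb E2319 (iv F2825)))).symm
theorem E2854 : n2391 = n2079 := ((D2391).symm.trans (sb E2319 (iv D2806)))
theorem E2859 : n6324 = n2385 := ((((iv D3194)).symm.trans (sb E2329 D6324))).symm
theorem E2860 : n4239 = n3704 := ((D4239).symm.trans (sb E2329 (iv D4864)))
theorem E2861 : n10201 = n4236 := ((((iv D5540)).symm.trans (sb E2330 D10201))).symm
theorem E2863 : n7142 = n3716 := (((F3754).symm.trans (sb E2331 D7142))).symm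
theorem E2864 : n9989 = n9295 := (((F8738).symm.trans (sb E2332 F8328))).symm
theorem E2866 : n4930 = n1428 := ((((iv F1040)).symm.trans (sb E2335 (iv D6402)))).symm
theorem E2867 : n6396 = n1587 := (((D1587).symm.trans (sb E2335 F5014))).symm
theorem E2868 : n8184 = n1989 := (E2336).trans E2769
theorem E2869 : n2695 = n1587 := ((D2695).symm.trans (sb E2868 (tr (iv D8184) E2867)))
theorem E2877 : n1888 = n301 := ((((iv F205)).symm.trans (sb E2342 F1922))).symm
theorem E2881 : n7503 = n731 := ((((iv F517)).symm.trans (sb E2345 (iv F5963)))).symm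
theorem E2883 : n968 = n306 := (((D306).symm.trans (sb E2347 F980))).symm
theorem E2887 : n6514 = n55 := ((((iv D92)).symm.trans (sb E2350 D6514))).symm
theorem E2896 : n8477 = n2847 := ((((iv D3796)).symm.trans (sb E2357 (iv F6788)))).symm
theorem E2898 : n5127 = n1884 := (((F1590).symm.trans (sb E2359 D5127))).symm
theorem E2900 : n8352 = n6541 := ((((iv F5137)).symm.trans (sb E2361 (iv F6683)))).symm
theorem F9804 : act 2 n5043 = n5043 := (sb E2361 (iv D6542))
theorem E2901 : n6647 = n3844 := ((((iv D5043)).symm.trans (sb E2361 (iv F5225)))).symm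
theorem E2905 : n3911 = n2136 := (((F1594).symm.trans (sb E2365 F2992))).symm
theorem E2908 : n5902 = n420 := ((((iv F291)).symm.trans (sb E2368 D5902))).symm
theorem E2909 : n3430 = n421 := (((D421).symm.trans (sb E2368 F3480))).symm
theorem E2910 : n3968 = n185 := ((((iv D283)).symm.trans (sb E2368 (tr D5903 E2643)))).symm
theorem E2911 : n5903 = n185 := (E2643).trans E2910
theorem E2912 : n6909 = n1443 := (((D1443).symm.trans (sb E2370 F7082))).symm
theorem E2914 : n6906 = n1447 := (((D1447).symm.trans (sb E2371 (iv D8803)))).symm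
theorem E2919 : n6645 = n3843 := (((D3843).symm.trans (sb E2374 D6645))).symm
theorem E2921 : n3770 = n3436 := ((((iv F2609)).symm.trans (sb E2377 (iv D4950)))).symm
theorem E2924 : n7560 = n4363 := (E2380).trans E2557
theorem E2925 : n5884 = n3302 := (((F3348).symm.trans (sb E2924 (iv D7560)))).symm
theorem E2926 : n7511 = n3301 := ((((iv D4363)).symm.trans (sb E2924 F6008))).symm
theorem E2928 : n9546 = n8802 := ((D9546).symm.trans (sb E2382 (iv F7078)))
theorem E2929 : n6902 = n5897 := (((F5991).symm.trans (sb E2382 (iv D8797)))).symm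
theorem E2931 : n6901 = n3426 := ((((iv D4522)).symm.trans (sb E2383 (iv D8796)))).symm
theorem E2932 : n4603 = n3121 := (((F2355).symm.trans (sb E2384 F4700))).symm
theorem E2933 : n6229 = n5426 := (((F4223).symm.trans (sb E2385 (tr (iv D9314) E2729)))).symm
theorem E2934 : n11040 = n3035 := (((F3078).symm.trans (sb E2388 D11040))).symm
theorem E2940 : n7322 = n4071 := (((F4137).symm.trans (iv (sb E2393 (tr (iv D8718) E2685))))).symm
theorem E2942 : n9286 = n4128 := (((F9777).symm.trans (sb E2394 (iv F9640)))).symm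
theorem E2943 : n9719 = n3964 := ((((iv D5200)).symm.trans (sb E2394 (iv F9591)))).symm
theorem E2945 : n9807 = n8821 := (((D8821).symm.trans (sb E2395 F7926))).symm
theorem E2946 : n9810 = n4071 := ((D9810).symm.trans (sb E2396 (tr F7491 E2940)))
theorem E2948 : n6230 = n759 := (E2398).trans E2585
theorem E2950 : n4787 = n1071 := (((D1071).symm.trans (sb E2948 (iv D6230)))).symm
theorem E2951 : n7992 = n1072 := (((D1072).symm.trans (sb E2948 D7992))).symm
theorem E2952 : n2727 = n2040 := ((((iv F1506)).symm.trans (sb E2399 (iv D3639)))).symm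
theorem E2958 : n7549 = n573 := (((F582).symm.trans (sb E2404 (iv D9555)))).symm
theorem E2959 : n4499 = n1157 := (((D1157).symm.trans (sb E2405 (iv D5874)))).symm
theorem F9806 : act 0 n647 = n694 := (sb E2406 F709)
theorem E2961 : n1375 = n446 := (((F451).symm.trans (sb E2406 (iv F998)))).symm
theorem E2962 : n693 = n445 := ((((iv D647)).symm.trans (sb E2406 (iv D985)))).symm
theorem F9807 : act 1 n479 = n448 := (sb E2407 F450)
theorem F9808 : act 0 n474 = n449 := (sb E2408 F454)
theorem E2964 : n927 = n322 := ((((iv D474)).symm.trans (sb E2408 D927))).symm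
theorem F9809 : act 2 n474 = n448 := (sb E2408 (iv D650))
theorem E2965 : n3416 = n2445 := ((((iv F1832)).symm.trans (sb E2409 (iv F2598)))).symm
theorem F9810 : act 0 n930 = n980 := (sb E2410 F991)
theorem E2967 : n680 = n455 := ((((iv F321)).symm.trans (sb E2411 (iv D967)))).symm
theorem E2969 : n2183 = n1124 := (((D1124).symm.trans (sb E2413 D2183))).symm
theorem F9811 : act 0 n688 = n652 := (sb E2415 F664)
theorem E2970 : n1297 = n475 := (((F484).symm.trans (sb E2415 (iv F940)))).symm
theorem F9812 : act 0 n791 = n567 := (sb E2417 F576)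
theorem E2973 : n1144 = n1116 := (((D1116).symm.trans (sb E2417 D1144))).symm
theorem E2974 : n566 = n551 := ((((iv D791)).symm.trans (sb E2417 (iv D810)))).symm
theorem E2976 : n3810 = n1589 := (((D1589).symm.trans (sb E2422 D3810))).symm
theorem E2977 : n3811 = n1590 := (((D1590).symm.trans (sb E2422 D3811))).symm
theorem E2978 : n2868 = n1591 := (((D1591).symm.trans (sb E2423 (iv F2150)))).symm
theorem E2979 : n2566 = n924 := (((F938).symm.trans (sb E2424 (iv F1924)))).symm
theorem E2980 : n1786 = n1537 := ((D1786).symm.trans (sb E2424 F1390))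
theorem E2981 : n1787 = n785 := ((((iv D1107)).symm.trans (sb E2425 D1787))).symm
theorem F9813 : act 3 n1107 = n923 := (sb E2425 (iv D1293))
theorem E2982 : n2429 = n1536 := ((((iv F1121)).symm.trans (sb E2426 (iv F1817)))).symm
theorem E2983 : n1291 = n784 := ((((iv D1106)).symm.trans (sb E2426 (iv D1784)))).symm
theorem E2985 : n5882 = n4333 := (((D4333).symm.trans (sb E2428 D5882))).symm
theorem E2986 : n5883 = n3303 := ((((iv F2508)).symm.trans (sb E2428 D5883))).symm
theorem E2988 : n7284 = n5375 := (((D5375).symm.trans (sb E2430 (iv F5779)))).symm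
theorem F9814 : act 3 n5663 = n4537 := (sb E2431 (iv D5918))
theorem E2989 : n9565 = n4785 := ((((iv F3684)).symm.trans (sb E2433 F7735))).symm
theorem E2991 : n5944 = n4829 := ((((iv F3720)).symm.trans (sb E2434 F6042))).symm
theorem E2992 : n3679 = n3452 := (((iv F2806)).symm.trans (sb E2436 F3501))
theorem E2994 : n5639 = n3453 := ((((iv F2621)).symm.trans (sb E2437 (iv F4402)))).symm
theorem E3004 : n8292 = n496 := (((D496).symm.trans (sb E2444 (iv F6625)))).symm
theorem E3005 : n6478 = n223 := ((((iv D339)).symm.trans (sb E2444 F5093))).symm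
theorem E3008 : n3754 = n1023 := (((D1023).symm.trans (sb E2447 F3811))).symm
theorem E3010 : n3755 = n1025 := (((D1025).symm.trans (sb E2448 F3810))).symm
theorem E3013 : n7593 = n5644 := (((D5644).symm.trans (sb E2450 D7593))).symm
theorem E3014 : n5644 = n1102 := ((((iv F792)).symm.trans (sb E2547 (tr F6574 E3013)))).symm
theorem E3015 : n4529 = n1789 := (((D1789).symm.trans (sb E2452 D4529))).symm
theorem E3016 : n2431 = n2099 := (E2453).trans E2541
theorem E3017 : n3257 = n1537 := (((F1561).symm.trans (sb E3016 D3257))).symm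
theorem F9815 : act 3 n2099 = n1785 := (sb E3016 (iv D2431))
theorem E3018 : n5550 = n785 := (((F793).symm.trans (sb E2454 (iv F4338)))).symm
theorem E3021 : n9218 = n1530 := (((E2548).symm.trans ((D8228).symm.trans (sb E2455 D9218)))).symm
theorem E3022 : n7264 = n781 := ((((iv D1101)).symm.trans (sb E2456 (iv F5760)))).symm
theorem E3025 : n9309 = n2525 := ((((iv D3383)).symm.trans (sb E2458 (iv F7509)))).symm
theorem E3028 : n7603 = n2518 := ((((iv D3374)).symm.trans (sb E2459 D7603))).symm
theorem E3029 : n6981 = n1471 := (((D1471).symm.trans (sb E2461 F7154))).symm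
theorem E3032 : n5942 = n755 := (((F752).symm.trans (sb E2462 (iv D7636)))).symm
theorem E3034 : n5496 = n757 := (((F763).symm.trans (sb E2463 (iv F4287)))).symm
theorem E3036 : n9022 = n2624 := (((F2671).symm.trans (sb E2465 F9285))).symm
theorem E3039 : n5943 = n4828 := (((D4828).symm.trans (sb E2467 D5943))).symm
theorem E3043 : n7999 = n7657 := (((D7657).symm.trans (sb E2474 F6410))).symm
theorem F9817 : act 1 n7478 = n5824 := (sb E2475 (iv D7491))
theorem E3046 : n8201 = n7534 := (((iv F6551)).symm.trans (sb E2475 (iv F5985)))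
theorem E3049 : n9240 = n454 := (((D454).symm.trans (sb E2479 (iv F7451)))).symm
theorem E3053 : n4346 = n183 := ((((iv F122)).symm.trans (sb E2487 F4441))).symm
theorem E3054 : n4345 = n71 := ((((iv D117)).symm.trans (sb E2487 (iv D5685)))).symm
theorem E3055 : n4501 = n24 := (((F27).symm.trans (sb E2489 F9698))).symm
theorem E3057 : n7232 = n4130 := (((F4172).symm.trans (sb E2491 (iv D9187)))).symm
theorem F9821 : act 1 n8894 = n7233 := (sb E2492 F7395)
theorem E3058 : n8894 = n5402 := (((D5402).symm.trans (iv (sb E2492 (tr (iv D9188) E3057))))).symm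
theorem E3059 : n4321 = n4004 := ((((iv F3061)).symm.trans (sb E2493 (iv D5655)))).symm
theorem E3063 : n9234 = n865 := (((D865).symm.trans (sb E2496 (iv F7445)))).symm
theorem E3064 : n5656 = n866 := (((D866).symm.trans (sb E2496 (iv D7277)))).symm
theorem E3065 : n3290 = n414 := ((((iv F289)).symm.trans (sb E2497 F3318))).symm
theorem E3066 : n3266 = n417 := (((D417).symm.trans (sb E2497 (iv D4323)))).symm
theorem E3067 : n3267 = n867 := (((D867).symm.trans (sb E2498 F3317))).symm
theorem E3076 : n5699 = n606 := ((((iv D867)).symm.trans (sb E2504 F5823))).symm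
theorem E3081 : n3066 = n2136 := (((E2905).symm.trans ((D3911).symm.trans (sb E2508 F3108)))).symm
theorem E3082 : n5335 = n1124 := (((E2969).symm.trans (((iv D2938)).symm.trans (sb E2508 D5335)))).symm
theorem E3083 : n5338 = n1566 := ((((iv F1143)).symm.trans (sb E2509 F5429))).symm
theorem E3085 : n4039 = n556 := ((((iv D796)).symm.trans (sb E2510 (tr (iv F5431) E2686)))).symm
theorem E3090 : n4330 = n1673 := ((((iv D2283)).symm.trans (sb E2514 D4330))).symm
theorem E3091 : n3909 = n3065 := (((D3065).symm.trans (sb E2514 F2988))).symm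
theorem E3092 : n5280 = n2444 := ((F9773).symm.trans (sb E2515 (iv D3274)))
theorem E3093 : n4331 = n1671 := ((((iv D2281)).symm.trans (sb E2515 D4331))).symm
theorem E3094 : n6885 = n4333 := (((D4333).symm.trans (sb E2517 (iv F5428)))).symm
theorem E3097 : n7139 = n4097 := (((D4097).symm.trans (sb E2521 D7139))).symm
theorem E3098 : n4236 = n1670 := (((F1241).symm.trans (sb E2522 (iv D5541)))).symm
theorem E3099 : n4458 = n4038 := (((F9575).symm.trans (sb E2523 (iv D5821)))).symm
theorem E3102 : n9312 = n5345 := (((D5345).symm.trans (sb E2525 (iv F7512)))).symm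
theorem E3103 : n7129 = n3071 := ((((iv D4079)).symm.trans (sb E2525 F9483))).symm
theorem E3104 : n6150 = n5346 := (((D5346).symm.trans (sb E2525 (iv D7890)))).symm
theorem E3105 : n7279 = n1447 := (E2527).trans E2914
theorem E3106 : n6646 = n1446 := (((F1056).symm.trans (sb E3105 F5774))).symm
theorem E3108 : n9237 = n1442 := (((F1057).symm.trans (sb E3105 D9237))).symm
theorem E3109 : n7421 = n866 := ((D7421).symm.trans (sb E2528 (tr (iv D7276) E3064)))
theorem E3110 : n8793 = n4411 := ((((iv D5768)).symm.trans (sb E2528 (iv F9756)))).symm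
theorem E3111 : n7422 = n865 := ((D7422).symm.trans (sb E2528 (tr D9234 E3063)))
theorem E3112 : n7419 = n5345 := (((iv F5895)).symm.trans (sb E2529 (iv D6900)))
theorem E3113 : n8795 = n4410 := ((((iv D5767)).symm.trans (sb E2529 D8795))).symm
theorem F9825 : act 2 n6060 = n7622 := (sb E2533 (iv D9637))
theorem F9827 : act 3 n6424 = n7622 := (sb E2534 (iv F6059))
theorem E3115 : n7788 = n7092 := (((F7258).symm.trans (sb E2535 F7935))).symm
theorem E3116 : n11271 = n7778 := ((D11271).symm.trans (sb E2535 (iv D9824)))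
theorem E3118 : n5802 = n1794 := (((D1794).symm.trans (sb E2538 (iv D7468)))).symm
theorem E3120 : n3373 = n2569 := (((D2569).symm.trans (sb E2539 (iv D4451)))).symm
theorem E3121 : n3254 = n2101 := ((((iv F1563)).symm.trans (sb E2540 D3254))).symm
theorem F9830 : act 0 n2099 = n1537 := (sb E2541 (iv D2105))
theorem E3124 : n4952 = n1701 := (((F1316).symm.trans (sb E2543 (iv F3834)))).symm
theorem E3125 : n2829 = n2434 := (((D2434).symm.trans (sb E2543 (iv D3773)))).symm
theorem E3130 : n5642 = n1104 := (((D1104).symm.trans (sb E2546 (iv D7260)))).symm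
theorem E3131 : n7265 = n543 := ((((iv D783)).symm.trans (sb E2546 (iv F5763)))).symm
theorem E3139 : n5709 = n4522 := ((D5709).symm.trans (sb E2555 F4558))
theorem F9831 : act 2 n4092 = n3301 := (sb E2556 F3347)
theorem E3141 : n10995 = n5711 := (((D5711).symm.trans (sb E2558 (iv F9023)))).symm
theorem E3142 : n10996 = n3488 := (((F3349).symm.trans (sb E2558 D10996))).symm
theorem E3144 : n10253 = n3612 := ((((iv F2755)).symm.trans (sb E2560 (iv F8348)))).symm
theorem E3146 : n3735 = n1073 := (((F1071).symm.trans (sb E2561 F3785))).symm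
theorem E3151 : n3731 = n528 := (((F537).symm.trans (sb E2564 (iv F2844)))).symm
theorem E3154 : n1434 = n713 := ((((iv D1012)).symm.trans (sb E2566 (iv D1965)))).symm
theorem E3155 : n3964 = n3683 := (((D3683).symm.trans (sb E2567 (tr (iv F9590) E2943)))).symm
theorem E3156 : n4128 = n2944 := (((E2771).symm.trans ((D3684).symm.trans (sb E2567 (tr (iv F9642) E2942))))).symm
theorem F9832 : act 1 n1601 = n8152 := (sb E2571 (iv F6514))
theorem E3159 : n8494 = n1091 := ((((iv D1517)).symm.trans (sb E2572 F8621))).symm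
theorem E3160 : n10568 = n758 := (E2573).trans E2575
theorem E3161 : n1091 = n525 := ((((iv D758)).symm.trans (sb E3160 (tr F8624 E3159)))).symm
theorem E3162 : n1092 = n1068 := ((((iv F764)).symm.trans (sb E2575 F1109))).symm
theorem E3163 : n2077 = n1932 := ((((iv F1419)).symm.trans (sb E2577 D2077))).symm
theorem E3164 : n1527 = n1008 := ((((iv D1407)).symm.trans (sb E2577 (iv F1116)))).symm
theorem E3165 : n3351 = n1568 := ((((iv F1145)).symm.trans (sb E2578 D3351))).symm
theorem E3167 : n1438 = n955 := ((((iv D1335)).symm.trans (sb E2579 (iv D1971)))).symm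
theorem F9833 : act 3 n1335 = n1612 := (sb E2579 F1449)
theorem E3169 : n2496 = n1610 := ((((iv D2203)).symm.trans (sb E2580 (iv D3347)))).symm
theorem E3170 : n1334 = n827 := ((((iv D1163)).symm.trans (sb E2581 (iv D1836)))).symm
theorem E3171 : n729 = n712 := ((((iv D1011)).symm.trans (sb E2582 (iv D1032)))).symm
theorem E3173 : n7433 = n4714 := ((((iv F3626)).symm.trans (sb E2583 D7433))).symm
theorem F9834 : act 1 n3939 = n4633 := (sb E2584 F4513)
theorem E3174 : n7434 = n4713 := ((((iv F3624)).symm.trans (sb E2584 D7434))).symm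
theorem E3176 : n5139 = n3683 := (((D3683).symm.trans (sb E2586 (iv F3984)))).symm
theorem E3184 : n4990 = n3527 := (((F2868).symm.trans (sb E2593 F5073))).symm
theorem E3185 : n6053 = n2851 := (((F2890).symm.trans (sb E2596 F5029))).symm
theorem E3187 : n6266 = n713 := (((E3154).symm.trans ((F1443).symm.trans (sb E2599 F5667)))).symm
theorem E3189 : n5560 = n1432 := ((((iv D1964)).symm.trans (sb E2599 (iv D7160)))).symm
theorem E3192 : n3202 = n2647 := ((((iv F1983)).symm.trans (sb E2601 (iv D4250)))).symm
theorem E3196 : n5995 = n5832 := ((F4749).symm.trans (sb E2604 F5663))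
theorem E3197 : n10408 = n2687 := (((F2724).symm.trans (sb E2605 F9169))).symm
theorem E3198 : n8920 = n4704 := (((D4704).symm.trans (sb E2605 F9170))).symm
theorem E3199 : n8032 = n7020 := ((D8032).symm.trans (sb E2607 (iv D8946)))
theorem E3203 : n8821 = n2543 := (((F2586).symm.trans (sb E2609 (iv F7097)))).symm
theorem E3205 : n7539 = n4118 := ((((iv F3159)).symm.trans (sb E2611 (iv D9542)))).symm
theorem E3206 : n6233 = n3086 := (((F3137).symm.trans (sb E2612 (iv F4873)))).symm
theorem E3210 : n7024 = n4858 := ((D7024).symm.trans (sb E2615 F4934))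
theorem E3211 : n7025 = n4856 := ((D7025).symm.trans (sb E2615 (iv D6316)))
theorem E3213 : n8090 = n2410 := ((((iv D3228)).symm.trans (sb E2617 (iv F6457)))).symm
theorem F9838 : act 1 n5419 = n6112 := (sb E2618 (iv D7843))
theorem E3216 : n6997 = n6128 := ((D6997).symm.trans (sb E2618 F6245))
theorem E3217 : n11279 = n5500 := (((F5601).symm.trans (sb E2619 F9289))).symm
theorem E3218 : n9026 = n5493 := ((((iv D7085)).symm.trans (sb E2619 (iv D11280)))).symm
theorem E3220 : n7698 = n7501 := ((F6205).symm.trans (sb E2620 F7330))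
theorem E3222 : n6709 = n3163 := (((F3210).symm.trans (sb E2621 D6709))).symm
theorem E3223 : n8591 = n5494 := (((D5494).symm.trans (sb E2622 (iv F6896)))).symm
theorem E3224 : n9381 = n1684 := (((D1684).symm.trans (sb E2623 F8946))).symm
theorem E3225 : n5752 = n1313 := ((((iv D1810)).symm.trans (sb E2624 F5878))).symm
theorem E3226 : n5751 = n2462 := (((D2462).symm.trans (sb E2624 (iv D7401)))).symm
theorem E3229 : n6713 = n888 := (((F859).symm.trans (sb E2626 (iv F5280)))).symm
theorem E3232 : n4333 = n3031 := (((D3031).symm.trans (sb E2628 (tr D6885 E3094)))).symm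
theorem E3234 : n4332 = n3030 := ((D4332).symm.trans (sb E2629 (iv D4027)))
theorem E3235 : n6710 = n1730 := (((F1755).symm.trans (sb E2631 D6710))).symm
theorem E3237 : n2211 = n423 := (((iv D2974)).symm.trans (sb E2632 (tr D5472 E2671)))
theorem E3238 : n5185 = n3154 := (((D3154).symm.trans (sb E2633 F4018))).symm
theorem E3240 : n2213 = n877 := ((D2213).symm.trans (sb E2634 (tr D5475 E2670)))
theorem E3243 : n5352 = n112 := ((((iv F73)).symm.trans (sb E2638 F5418))).symm
theorem E3244 : n5326 = n113 := (((D113).symm.trans (sb E2638 (iv D6874)))).symm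
theorem E3246 : n5217 = n117 := ((((iv F77)).symm.trans (sb E2639 F5294))).symm
theorem E3249 : n5181 = n119 := (((D119).symm.trans (sb E2640 (iv D6707)))).symm
theorem E3251 : n7063 = n2985 := (((F3023).symm.trans (sb E2642 D7063))).symm
theorem E3252 : n2985 = n282 := (((D282).symm.trans (sb E2911 (tr (iv F5581) E3251)))).symm
theorem E3253 : n5304 = n1948 := ((((iv D2644)).symm.trans (sb E2645 F4118))).symm
theorem E3254 : n5213 = n3530 := (((D3530).symm.trans (sb E2645 F4119))).symm
theorem E3256 : n5303 = n2468 := (((F1981).symm.trans (sb E2645 F4120))).symm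
theorem E3258 : n7645 = n4262 := (((E2842).symm.trans ((D4372).symm.trans (sb E2646 (iv F9416))))).symm
theorem E3259 : n10736 = n757 := (((E3034).symm.trans (((iv F4288)).symm.trans (sb E2647 (iv F8780))))).symm
theorem E3262 : n4262 = n3149 := ((E2842).symm.trans ((D4372).symm.trans (sb E2648 (iv D4181))))
theorem E3263 : n7183 = n1723 := ((((iv D2348)).symm.trans (sb E2650 D7183))).symm
theorem E3265 : n3957 = n2624 := (((iv D5188)).symm.trans (sb E2651 (tr (iv F7263) E3036)))
theorem E3266 : n5497 = n4269 := ((((iv F4020)).symm.trans (sb E2651 (iv D7089)))).symm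
theorem E3267 : n4270 = n3167 := ((((iv D4203)).symm.trans (sb E2652 F4364))).symm
theorem F9842 : act 1 n8783 = n8724 := (sb E2655 (iv D10934))
theorem F9843 : act 0 n5853 = n5450 := (sb E2656 F5553)
theorem E3269 : n8906 = n4818 := (((F4575).symm.trans (sb E2656 (iv F7169)))).symm
theorem E3270 : n7527 = n5449 := ((D7527).symm.trans (sb E2656 (iv D7035)))
theorem E3271 : n5609 = n4484 := ((((iv D5853)).symm.trans (sb E2656 F5554))).symm
theorem E3272 : n7175 = n3135 := ((((iv D4166)).symm.trans (sb E2657 (iv D9120)))).symm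
theorem E3273 : n5608 = n4272 := ((((iv D5591)).symm.trans (sb E2658 F5556))).symm
theorem F9844 : act 3 n5591 = n5450 := (sb E2658 (iv D7036))
theorem E3280 : n4122 = n2980 := ((D4122).symm.trans (sb E2662 (iv D3962)))
theorem E3281 : n6963 = n1622 := ((((iv D2218)).symm.trans (sb E2663 D6963))).symm
theorem E3282 : n6964 = n4030 := ((((iv F9782)).symm.trans (sb E2664 D6964))).symm
theorem E3289 : n3979 = n2326 := (((D2326).symm.trans (sb E2667 (iv D5214)))).symm
theorem E3290 : n5476 = n2327 := (((D2327).symm.trans (sb E2667 F9521))).symm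
theorem E3292 : n3154 = n1235 := (((D1235).symm.trans (sb E2668 (iv D4188)))).symm
theorem E3293 : n3155 = n2328 := (((D2328).symm.trans (sb E2669 F3214))).symm
theorem E3300 : n6734 = n1469 := (((D1469).symm.trans (sb E2675 (iv D8592)))).symm
theorem E3306 : n4219 = n1471 := (((D1471).symm.trans (sb E2680 F4308))).symm
theorem E3309 : n8959 = n4895 := ((((iv D6362)).symm.trans (sb E2681 D8959))).symm
theorem E3313 : n6838 = n1124 := (E2685).trans E3082
theorem E3314 : n5294 = n796 := ((((iv D1124)).symm.trans (sb E3313 (iv D6838)))).symm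
theorem E3315 : n5358 = n1560 := (((D1560).symm.trans (sb E3313 F9737))).symm
theorem E3319 : n5394 = n3035 := ((((iv D4032)).symm.trans (sb E2690 D5394))).symm
theorem E3320 : n5395 = n3036 := ((((iv D4033)).symm.trans (sb E2691 D5395))).symm
theorem E3321 : n5289 = n4154 := ((D5289).symm.trans (sb E2691 (iv F3188)))
theorem E3322 : n6822 = n4119 := ((((iv F3160)).symm.trans (sb E2692 F5384))).symm
theorem E3323 : n8715 = n4120 := (((D4120).symm.trans (sb E2692 D8715))).symm
theorem E3324 : n5480 = n4153 := ((((iv F3186)).symm.trans (sb E2693 (iv F5386)))).symm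
theorem E3337 : n7362 = n5041 := (((D5041).symm.trans (sb E2704 F5853))).symm
theorem E3339 : n6412 = n4376 := (((iv F5028)).symm.trans (sb E2705 (iv D5726)))
theorem E3343 : n4423 = n2147 := ((((iv D2891)).symm.trans (sb E2708 D4423))).symm
theorem E3344 : n4424 = n3762 := ((((iv F2867)).symm.trans (sb E2708 D4424))).symm
theorem E3345 : n6410 = n3354 := ((((iv D4429)).symm.trans (sb E2709 (iv F5023)))).symm
theorem E3348 : n8072 = n5109 := ((((iv D6624)).symm.trans (sb E2711 (iv F6443)))).symm
theorem E3349 : n10625 = n4713 := (E2712).trans E3174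
theorem E3350 : n8454 = n3580 := ((((iv D4713)).symm.trans (sb E3349 (iv D10625)))).symm
theorem E3351 : n7416 = n3580 := (((E3350).symm.trans ((D8454).symm.trans (sb E2713 F6436)))).symm
theorem E3358 : n5439 = n2621 := ((((iv F1965)).symm.trans (sb E2717 (iv D7023)))).symm
theorem E3362 : n3677 = n2414 := (((iv F2804)).symm.trans (sb E2719 F2451))
theorem E3363 : n2413 = n2036 := ((((iv D2758)).symm.trans (sb E2719 (iv D3232)))).symm
theorem E3364 : n2428 = n1081 := (((F1088).symm.trans (sb E2720 F2450))).symm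
theorem E3367 : n6290 = n5600 := ((((iv F4376)).symm.trans (sb E2722 D6290))).symm
theorem E3368 : n6288 = n3230 := ((((iv D4282)).symm.trans (sb E2722 (iv F4913)))).symm
theorem E3369 : n5601 = n4878 := ((D5601).symm.trans (sb E2722 (iv F3763)))
theorem E3370 : n3453 = n2785 := ((((iv D3715)).symm.trans (sb E2723 (tr (iv F4403) E2994)))).symm
theorem E3372 : n2784 = n2104 := ((((iv D2835)).symm.trans (sb E2724 (iv D3714)))).symm
theorem F9859 : act 1 n4328 = n4830 := (sb E2725 (iv D6283))
theorem E3374 : n3683 = n1471 := (((D1471).symm.trans (sb E2726 (tr F5231 E3176)))).symm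
theorem E3378 : n7344 = n5426 := (E2729).trans E2933
theorem E3379 : n5711 = n4147 := ((((iv D5426)).symm.trans (sb E3378 (iv D7344)))).symm
theorem E3380 : n7293 = n4223 := (((F4218).symm.trans (sb E3378 F5834))).symm
theorem E3381 : n4785 = n4223 := (((iv F3684)).symm.trans (sb E2730 (tr (iv F5791) E3380)))
theorem E3385 : n8010 = n2904 := (((F2949).symm.trans (sb E2736 (iv F6388)))).symm
theorem E3386 : n7173 = n3480 := (((F9452).symm.trans (sb E2736 (iv F5684)))).symm
theorem E3389 : n2899 = n2736 := ((D2899).symm.trans (sb E2738 F2784))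
theorem E3391 : n4486 = n1415 := ((((iv F1030)).symm.trans (sb E2740 (iv F3450)))).symm
theorem E3400 : n6560 = n6190 := ((((iv F4834)).symm.trans (sb E2750 (iv F5152)))).symm
theorem E3402 : n3435 = n2000 := ((((iv F1471)).symm.trans (sb E2752 (iv F9507)))).symm
theorem E3404 : n5137 = n1049 := ((((iv D1465)).symm.trans (sb E2753 D5137))).symm
theorem E3406 : n3625 = n1299 := ((((iv D1794)).symm.trans (sb E2755 D3625))).symm
theorem F9863 : act 1 n1794 = n2004 := (sb E2755 (iv D2717))
theorem E3407 : n3618 = n1891 := ((((iv F9578)).symm.trans (sb E2755 (iv F2759)))).symm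
theorem E3408 : n7459 = n722 := ((((iv F511)).symm.trans (sb E2756 (iv F5931)))).symm
theorem F9864 : act 1 n1990 = n1585 := (sb E2768 (iv F9732))
theorem E3421 : n4840 = n2925 := (((D2925).symm.trans (sb E2770 F4821))).symm
theorem E3424 : n3634 = n2768 := ((((iv F2069)).symm.trans (sb E2772 F9740))).symm
theorem F9867 : act 2 n2045 = n2188 := (sb E2772 (iv D2941))
theorem E3426 : n3641 = n2191 := ((((iv F1633)).symm.trans (sb E2773 F3687))).symm
theorem E3427 : n8152 = n1497 := ((F9832).symm.trans (sb E2773 (iv F9742)))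
theorem E3429 : n4769 = n1795 := (((F1830).symm.trans (sb E2775 (iv F3670)))).symm
theorem E3430 : n4770 = n3271 := (((D3271).symm.trans (sb E2775 D4770))).symm
theorem E3431 : n5104 = n1457 := (((D1457).symm.trans (sb E2776 D5104))).symm
theorem E3436 : n2671 = n956 := ((((iv D1336)).symm.trans (sb E2780 (iv D3567)))).symm
theorem E3438 : n6411 = n3353 := (((D3353).symm.trans (sb E2781 (iv F5027)))).symm
theorem E3442 : n10712 = n3122 := (((D3122).symm.trans (sb E2785 (iv F8756)))).symm
theorem E3443 : n6696 = n3123 := (((D3123).symm.trans (sb E2785 (iv D8539)))).symm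
theorem E3448 : n6418 = n5177 := (((F4060).symm.trans (sb E2789 F9400))).symm
theorem E3449 : n5231 = n4338 := ((F4061).symm.trans (sb E2789 (iv D5677)))
theorem E3452 : n3003 = n2453 := (((F2493).symm.trans (sb E2791 (iv D3991)))).symm
theorem E3456 : n4111 = n1630 := (((F1659).symm.trans (sb E2794 F4175))).symm
theorem E3458 : n5469 = n4215 := ((((iv F3236)).symm.trans (sb E2795 F5575))).symm
theorem E3459 : n5499 = n2990 := ((((iv D3978)).symm.trans (sb E2795 F5576))).symm
theorem E3460 : n6944 = n1631 := (((F1658).symm.trans (sb E2796 (iv F5477)))).symm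
theorem E3461 : n11117 = n1617 := (((F1646).symm.trans (sb E2797 F9420))).symm
theorem E3463 : n4655 = n4182 := ((D4655).symm.trans (iv (sb E2798 (tr F4305 E3254))))
theorem E3464 : n5787 = n5464 := ((((iv F4250)).symm.trans (sb E2798 (iv F4522)))).symm
theorem E3466 : n5302 = n3158 := (((iv F4111)).symm.trans (sb E2799 (iv D4192)))
theorem E3468 : n8977 = n6188 := ((((iv F4832)).symm.trans (sb E2801 (iv D11222)))).symm
theorem E3474 : n7806 = n3495 := ((((iv D4614)).symm.trans (sb E2805 (iv D9857)))).symm
theorem E3476 : n7804 = n3492 := ((((iv D4609)).symm.trans (sb E2806 (iv D9856)))).symm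
theorem E3477 : n7077 = n2614 := ((((iv F9374)).symm.trans (sb E2807 F7248))).symm
theorem E3478 : n4193 = n4045 := (((D4045).symm.trans (sb E2808 F4269))).symm
theorem E3479 : n9823 = n2693 := ((((iv F2010)).symm.trans (sb E2809 (iv F7934)))).symm
theorem E3480 : n6067 = n2694 := (((D2694).symm.trans (sb E2809 (iv D7787)))).symm
theorem E3491 : n4103 = n1637 := (((F1665).symm.trans (sb E2817 F4167))).symm
theorem E3493 : n4104 = n3002 := ((((iv F2257)).symm.trans (sb E2818 F4166))).symm
theorem E3504 : n8544 = n3778 := ((((iv D4961)).symm.trans (sb E2824 D8544))).symm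
theorem E3509 : n5173 = n4150 := ((D5173).symm.trans (sb E2827 (iv D5430)))
theorem E3511 : n8538 = n4148 := ((((iv D5428)).symm.trans (sb E2828 D8538))).symm
theorem E3518 : n3487 = n2325 := (((F1732).symm.trans (sb E2833 (iv D4602)))).symm
theorem E3521 : n4145 = n1920 := ((((iv F1410)).symm.trans (sb E2836 (iv D5424)))).symm
theorem E3527 : n3745 = n2420 := (((D2420).symm.trans (sb E2840 (iv D4917)))).symm
theorem E3528 : n6388 = n3215 := (((D3215).symm.trans (sb E2841 (iv D8174)))).symm
theorem E3532 : n7455 = n5582 := (((D5582).symm.trans (sb E2845 (iv D9437)))).symm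
theorem E3533 : n10145 = n5583 := ((((iv F4360)).symm.trans (sb E2846 F8246))).symm
theorem E3534 : n8064 = n5584 := (((D5584).symm.trans (sb E2846 (iv D10158)))).symm
theorem E3535 : n8061 = n4264 := ((((iv F3274)).symm.trans (sb E2847 (iv D10156)))).symm
theorem E3536 : n11323 = n8798 := (((D8798).symm.trans (sb E2848 (iv F9326)))).symm
theorem E3538 : n11327 = n8800 := (((D8800).symm.trans (sb E2848 D11327))).symm
theorem E3539 : n11013 = n7938 := (((D7938).symm.trans (iv (sb E2849 (tr F9216 E3468))))).symm
theorem E3540 : n11214 = n7938 := (E2849).trans E3539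
theorem E3541 : n10004 = n7934 := (((F6328).symm.trans (sb E3540 (iv F9217)))).symm
theorem E3542 : n11026 = n7934 := ((D11026).symm.trans (sb E2851 (tr F9218 E3541)))
theorem E3543 : n11027 = n10003 := ((D11027).symm.trans (sb E2851 F9220))
theorem E3545 : n3196 = n2777 := ((D3196).symm.trans (sb E2853 (iv D3706)))
theorem E3546 : n3200 = n1519 := ((((iv D2079)).symm.trans (sb E2854 D3200))).symm
theorem E3550 : n8106 = n3192 := ((((iv F2414)).symm.trans (sb E2859 D8106))).symm
theorem E3551 : n6331 = n3195 := (((D3195).symm.trans (sb E2859 (iv F4951)))).symm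
theorem E3552 : n5545 = n2776 := ((((iv D3704)).symm.trans (sb E2860 D5545))).symm
theorem E3553 : n10201 = n1670 := (E2861).trans E3098
theorem E3554 : n3192 = n2279 := (((D2279).symm.trans (sb E3553 (tr F8298 E3550)))).symm
theorem E3557 : n2786 = n543 := (((iv D3716)).symm.trans (sb E2863 (tr (iv F5762) E3131)))
theorem E3559 : n7921 = n7330 := ((((iv D9295)).symm.trans (sb E2864 (iv D9989)))).symm
theorem E3561 : n4927 = n1958 := ((((iv F1440)).symm.trans (sb E2866 F3812))).symm
theorem E3562 : n4923 = n1960 := (((D1960).symm.trans (sb E2866 F3813))).symm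
theorem E3563 : n3359 = n1960 := ((((iv F1442)).symm.trans (sb E2869 (iv F2551)))).symm
theorem E3572 : n1374 = n197 := ((((iv D301)).symm.trans (sb E2877 (iv D1888)))).symm
theorem E3577 : n5833 = n505 := ((((iv D731)).symm.trans (sb E2881 (iv D7503)))).symm
theorem E3579 : n1271 = n218 := (((F208).symm.trans (sb E2883 (iv F922)))).symm
theorem E3586 : n5832 = n31 := (((F34).symm.trans (sb E2887 F5111))).symm
theorem E3599 : n6643 = n2112 := (((F2135).symm.trans (sb E2896 (iv D8477)))).symm
theorem E3602 : n5659 = n1370 := (((F1387).symm.trans (sb E2898 (iv F4423)))).symm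
theorem E3606 : n8483 = n5042 := ((((iv D6541)).symm.trans (sb E2900 (iv F6796)))).symm
theorem E3607 : n8481 = n3421 := (((F2931).symm.trans (sb E2901 (iv F6791)))).symm
theorem E3615 : n4527 = n612 := (((D612).symm.trans (sb E2908 F4617))).symm
theorem E3616 : n3445 = n613 := (((D613).symm.trans (sb E2909 (iv F2616)))).symm
theorem E3618 : n6891 = n1978 := (((D1978).symm.trans (sb E2912 F5449))).symm
theorem E3619 : n8806 = n1610 := ((((iv F1178)).symm.trans (sb E2912 D8806))).symm
theorem E3620 : n5351 = n1979 := (((D1979).symm.trans (sb E2912 (iv D6909)))).symm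
theorem E3622 : n4411 = n1684 := ((((iv F1238)).symm.trans (sb E2914 (tr (iv F7070) E3110)))).symm
theorem E3623 : n5849 = n1442 := (((F1057).symm.trans (sb E2914 F5445))).symm
theorem E3626 : n8480 = n4518 := ((((iv F3476)).symm.trans (sb E2919 D8480))).symm
theorem F9879 : act 2 n3436 = n4453 := (sb E2921 (iv F3426))
theorem E3629 : n5840 = n2464 := (((F2505).symm.trans (sb E2925 F4603))).symm
theorem E3631 : n9507 = n4092 := ((((iv F9831)).symm.trans (sb E2926 (iv F7682)))).symm
theorem E3632 : n9144 = n8031 := (((iv F7362)).symm.trans (sb E2928 F7708))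
theorem E3633 : n7578 = n6905 := ((((iv D8802)).symm.trans (sb E2928 F7709))).symm
theorem E3634 : n5346 = n4521 := ((((iv D5897)).symm.trans (sb E2929 (iv D6902)))).symm
theorem E3635 : n4410 = n2561 := (((F2604).symm.trans (sb E2931 (tr (iv F7073) E3113)))).symm
theorem E3636 : n5345 = n2560 := ((((iv D3426)).symm.trans (sb E2931 (iv D6901)))).symm
theorem E3637 : n4146 = n3488 := (((iv F3179)).symm.trans (sb E2932 F3535))
theorem E3638 : n7007 = n4786 := ((D7007).symm.trans (sb E2933 F4867))
theorem E3639 : n7990 = n4147 := ((((iv D5426)).symm.trans (sb E2933 (iv F6369)))).symm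
theorem E3640 : n5435 = n4786 := (((iv F4223)).symm.trans (sb E2933 F4868))
theorem E3641 : n10708 = n2259 := ((((iv D3035)).symm.trans (sb E2934 F9070))).symm
theorem E3648 : n7419 = n2560 := (E3112).trans E3636
theorem E3649 : n9807 = n2543 := (E2945).trans E3203
theorem E3650 : n7766 = n1872 := (((F1904).symm.trans (sb E3649 F7919))).symm
theorem E3651 : n7764 = n2545 := ((((iv F1906)).symm.trans (sb E3649 (iv D9807)))).symm
theorem E3652 : n3065 = n1872 := ((F3109).symm.trans (sb E2946 (tr (iv D9810) E3650)))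
theorem E3653 : n7772 = n2944 := (((E3156).symm.trans ((F9778).symm.trans (sb E2946 F7922)))).symm
theorem E3659 : n3640 = n1493 := (((D1493).symm.trans (sb E2950 F3686))).symm
theorem E3661 : n7534 = n1464 := ((((iv F1072)).symm.trans (sb E2951 (iv F6372)))).symm
theorem E3662 : n2762 = n2012 := ((D2762).symm.trans (sb E2952 (iv D2727)))
theorem E3668 : n7544 = n393 := ((((iv D573)).symm.trans (sb E2958 F5996))).symm
theorem E3670 : n3409 = n1600 := (((D1600).symm.trans (sb E2959 (iv D4499)))).symm
theorem E3671 : n4490 = n1140 := (((F835).symm.trans (sb E2959 F3458))).symm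
theorem E3673 : n1889 = n648 := (((D648).symm.trans (sb E2961 D1889))).symm
theorem E3674 : n984 = n300 := ((((iv D446)).symm.trans (sb E2961 (iv D1375)))).symm
theorem F9883 : act 0 n445 = n479 := (sb E2962 F491)
theorem E3675 : n646 = n478 := ((D646).symm.trans (sb E2962 (iv D693)))
theorem E3678 : n1296 = n212 := ((((iv D322)).symm.trans (sb E2964 D1296))).symm
theorem E3679 : n3275 = n2877 := (((iv F2488)).symm.trans (sb E2965 F2599))
theorem E3682 : n657 = n470 := ((D657).symm.trans (sb E2967 (iv D680)))
theorem E3685 : n2937 = n1559 := (((D1559).symm.trans (sb E2969 D2937))).symm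
theorem E3687 : n1792 = n323 := (((F333).symm.trans (sb E2970 (iv F1320)))).symm
theorem F9884 : act 0 n1116 = n811 := (sb E2973 F826)
theorem E3690 : n1583 = n1119 := ((((iv F802)).symm.trans (sb E2973 D1583))).symm
theorem E3691 : n1584 = n1549 := (((D1549).symm.trans (sb E2973 D1584))).symm
theorem F9885 : act 0 n551 = n387 := (sb E2974 (iv D566))
theorem E3692 : n3822 = n2177 := (((D2177).symm.trans (sb E2976 (iv F2913)))).symm
theorem E3693 : n5005 = n2178 := (((D2178).symm.trans (sb E2976 D5005))).symm
theorem E3694 : n3824 = n1431 := (((F1159).symm.trans (sb E2977 (iv F2915)))).symm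
theorem E3695 : n2179 = n2128 := ((D2179).symm.trans (sb E2978 (iv D2868)))
theorem E3697 : n3432 = n1295 := (((D1295).symm.trans (sb E2979 D3432))).symm
theorem E3698 : n2432 = n2099 := ((((iv F1561)).symm.trans (sb E2980 D2432))).symm
theorem F9886 : act 3 n1537 = n1292 := (sb E2980 (iv D1786))
theorem E3699 : n2433 = n1103 := ((((iv F793)).symm.trans (sb E2981 D2433))).symm
theorem E3701 : n3252 = n2103 := ((((iv F1565)).symm.trans (sb E2982 (iv F2465)))).symm
theorem E3702 : n1783 = n1105 := ((((iv D1536)).symm.trans (sb E2982 (iv D2429)))).symm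
theorem E3703 : n922 = n546 := ((((iv D784)).symm.trans (sb E2983 (iv D1291)))).symm
theorem E3706 : n5882 = n3031 := (E2985).trans E3232
theorem E3707 : n7558 = n2258 := (((F2282).symm.trans (sb E3706 D7558))).symm
theorem E3708 : n5029 = n2257 := ((((iv D3031)).symm.trans (sb E3706 F4600))).symm
theorem E3709 : n7559 = n3157 := ((((iv F2384)).symm.trans (sb E3706 D7559))).symm
theorem E3710 : n4364 = n3157 := ((D4364).symm.trans (sb E2986 (tr (iv F6006) E3709)))
theorem F9887 : act 0 n5375 = n5663 := (sb E2988 (iv D7284))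
theorem E3713 : n9565 = n4223 := (E2989).trans E3381
theorem E3714 : n3183 = n2258 := (((iv D4223)).symm.trans (sb E3713 (tr (iv D9565) E3707)))
theorem E3715 : n7638 = n6282 := ((((iv F4908)).symm.trans (sb E2991 (iv F6071)))).symm
theorem E3716 : n3715 = n2584 := (((F2619).symm.trans (sb E2992 (iv F2830)))).symm
theorem E3717 : n2759 = n2583 := ((((iv D3452)).symm.trans (sb E2992 (iv D3679)))).symm
theorem E3727 : n10427 = n719 := (((D719).symm.trans (sb E3004 D10427))).symm
theorem E3729 : n8276 = n144 := ((((iv D223)).symm.trans (sb E3005 (iv F6611)))).symm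
theorem E3732 : n4925 = n1427 := (((D1427).symm.trans (sb E3008 (iv F3807)))).symm
theorem E3734 : n4931 = n1022 := (((F736).symm.trans (sb E3010 D4931))).symm
theorem E3739 : n7263 = n1132 := ((((iv F815)).symm.trans (sb E3014 D7263))).symm
theorem E3741 : n2435 = n1789 := ((D2435).symm.trans (sb E3015 (tr F9697 E3015)))
theorem E3742 : n4242 = n1107 := ((((iv D1537)).symm.trans (sb E3017 (iv F3257)))).symm
theorem E3745 : n2776 = n547 := ((((iv D785)).symm.trans (sb E3018 (tr F4339 E3552)))).symm
theorem E3746 : n5545 = n547 := (E3552).trans E3745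
theorem E3747 : n11193 = n2091 := ((((iv F1556)).symm.trans (sb E3021 F9200))).symm
theorem E3748 : n9220 = n1099 := ((((iv F790)).symm.trans (sb E3022 (iv F7429)))).symm
theorem E3750 : n7338 = n3384 := (((D3384).symm.trans (sb E3025 (iv D9309)))).symm
theorem E3754 : n7596 = n1850 := ((((iv D2518)).symm.trans (sb E3028 F6039))).symm
theorem E3755 : n8895 = n2012 := (((D2012).symm.trans (sb E3029 (iv F7159)))).symm
theorem E3757 : n8897 = n2013 := (((D2013).symm.trans (sb E3029 D8897))).symm
theorem E3760 : n5939 = n524 := (((F534).symm.trans (sb E3032 F4646))).symm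
theorem E3763 : n4204 = n1068 := (((D1068).symm.trans (sb E3034 F4288))).symm
theorem E3764 : n4202 = n1069 := (((D1069).symm.trans (sb E3034 (iv D5496)))).symm
theorem E3766 : n7088 = n1931 := ((((iv D2624)).symm.trans (sb E3036 (iv D9022)))).symm
theorem E3769 : n6281 = n5956 := ((D6281).symm.trans (sb E3039 (iv F4660)))
theorem E3774 : n6842 = n6238 := ((F9720).symm.trans (sb E3043 (iv D7999)))
theorem E3775 : n6841 = n6270 := ((F9721).symm.trans (sb E3043 F6379))
theorem E3778 : n8201 = n1464 := (E3046).trans E3661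
theorem E3779 : n6409 = n1073 := (((F1071).symm.trans (sb E3778 (iv D8201)))).symm
theorem E3781 : n7478 = n1048 := ((((iv D1464)).symm.trans (sb E3778 F6551))).symm
theorem E3783 : n9223 = n656 := (((D656).symm.trans (sb E3049 F7452))).symm
theorem E3784 : n7281 = n654 := ((((iv F457)).symm.trans (sb E3049 (iv D9240)))).symm
theorem E3787 : n4349 = n278 := ((((iv F190)).symm.trans (sb E3053 (iv F3340)))).symm
theorem E3788 : n3288 = n116 := ((((iv D183)).symm.trans (sb E3053 (iv D4346)))).symm
theorem E3789 : n3428 = n44 := (((F46).symm.trans (sb E3054 F9635))).symm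
theorem E3790 : n5831 = n11 := ((((iv D24)).symm.trans (sb E3055 (iv F4559)))).symm
theorem E3791 : n5622 = n5401 := (((D5401).symm.trans (sb E3057 (iv D7232)))).symm
theorem E3792 : n7233 = n6975 := ((((iv F5501)).symm.trans (sb E3058 F9821))).symm
theorem E3794 : n5236 = n116 := (((iv F4062)).symm.trans (sb E3059 (tr F3316 E3788)))
theorem E3795 : n5249 = n3265 := ((D5249).symm.trans (sb E3059 (iv D4321)))
theorem E3796 : n3013 = n278 := (((iv D4004)).symm.trans (sb E3059 (tr (iv F3341) E3787)))
theorem E3798 : n4324 = n1216 := (((D1216).symm.trans (sb E3064 F4418))).symm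
theorem E3800 : n2455 = n602 := (((D602).symm.trans (sb E3065 (iv D3290)))).symm
theorem E3801 : n2438 = n607 := (((D607).symm.trans (sb E3066 (iv D3266)))).symm
theorem E3803 : n4325 = n1218 := (((D1218).symm.trans (sb E3067 D4325))).symm
theorem E3815 : n7330 = n417 := (((F426).symm.trans (sb E3076 D7330))).symm
theorem E3822 : n4073 = n2144 := ((((iv F1594)).symm.trans (sb E3081 D4073))).symm
theorem E3823 : n4074 = n2848 := ((((iv F2137)).symm.trans (sb E3081 D4074))).symm
theorem E3824 : n4071 = n1559 := (((D1559).symm.trans (sb E3082 F4137))).symm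
theorem E3825 : n5200 = n797 := (((F806).symm.trans (sb E3082 F4138))).symm
theorem E3826 : n2143 = n1979 := (((iv F1592)).symm.trans (sb E3083 (tr (iv F4153) E3620)))
theorem E3827 : n1978 = n1129 := ((((iv D1566)).symm.trans (sb E3083 (tr D6891 E3618)))).symm
theorem E3828 : n6891 = n1129 := (E3618).trans E3827
theorem E3830 : n3042 = n795 := ((((iv F564)).symm.trans (sb E3085 (iv D4039)))).symm
theorem E3831 : n4030 = n380 := (((F389).symm.trans (sb E3085 F3083))).symm
theorem E3836 : n5664 = n1208 := (((F1229).symm.trans (sb E3090 D5664))).symm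
theorem E3838 : n3909 = n1872 := (E3091).trans E3652
theorem E3839 : n2877 = n2543 := ((((iv F1904)).symm.trans (sb E3838 (tr F2987 E3679)))).symm
theorem E3840 : n2547 = n1559 := (((iv F1908)).symm.trans (sb E3838 (tr (iv D3909) E3685)))
theorem E3841 : n5124 = n2548 := (((D2548).symm.trans (sb E3838 D5124))).symm
theorem F9892 : act 2 n2444 = n2281 := (sb E3092 (iv F9773))
theorem E3843 : n5666 = n2280 := (((D2280).symm.trans (sb E3093 D5666))).symm
theorem E3849 : n5820 = n4118 := (((F9532).symm.trans (sb E3097 F5648))).symm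
theorem E3850 : n5817 = n3041 := ((((iv D4038)).symm.trans (sb E3099 (iv F4548)))).symm
theorem E3851 : n4116 = n3379 := ((F3157).symm.trans (sb E3099 (iv D4458)))
theorem E3854 : n9312 = n2560 := (E3102).trans E3636
theorem E3855 : n7342 = n3426 := (((D3426).symm.trans (sb E3854 (iv D9312)))).symm
theorem E3856 : n9066 = n2290 := (((F2314).symm.trans (sb E3103 (iv F7299)))).symm
theorem E3857 : n7886 = n4080 := (((D4080).symm.trans (sb E3103 F9471))).symm
theorem E3858 : n6150 = n4521 := (E3104).trans E3634
theorem E3860 : n5897 = n4724 := ((D5897).symm.trans (sb E3858 (iv D6150)))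
theorem E3861 : n3421 = n1809 := (((F9582).symm.trans (sb E3106 (tr D8481 E3607)))).symm
theorem E3863 : n10653 = n1034 := ((((iv D1442)).symm.trans (sb E3108 (iv F8692)))).symm
theorem E3866 : n5772 = n1216 := (((D1216).symm.trans (sb E3109 F5897))).symm
theorem E3868 : n8793 = n1684 := (E3110).trans E3622
theorem E3869 : n7522 = n1977 := ((((iv F1454)).symm.trans (sb E3868 (iv F7071)))).symm
theorem E3870 : n7423 = n1213 := (((D1213).symm.trans (sb E3111 (iv F5899)))).symm
theorem E3871 : n6772 = n1214 := (((D1214).symm.trans (sb E3111 F5898))).symm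
theorem E3874 : n5766 = n3426 := (((D3426).symm.trans (sb E3648 (iv D7419)))).symm
theorem E3875 : n8795 = n2561 := (E3113).trans E3635
theorem E3876 : n1977 = n1886 := (((F1920).symm.trans (sb E3875 (tr F7072 E3869)))).symm
theorem E3877 : n11017 = n3384 := ((((iv F2574)).symm.trans (sb E3875 D11017))).symm
theorem E3878 : n6068 = n5494 := (((E3223).symm.trans (((iv F6895)).symm.trans (sb E3115 F6199)))).symm
theorem E3880 : n5493 = n2694 := ((E3218).symm.trans ((D9026).symm.trans (sb E3115 (tr (iv D7788) E3480))))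
theorem E3882 : n5500 = n2693 := (((E3479).symm.trans ((D9823).symm.trans (sb E3116 (tr (iv F9288) E3217))))).symm
theorem E3883 : n4442 = n2004 := (((F9863).symm.trans (sb E3118 (iv D5802)))).symm
theorem E3884 : n7469 = n2442 := (((D2442).symm.trans (sb E3118 D7469))).symm
theorem E3885 : n3434 = n2519 := ((D3434).symm.trans (sb E3120 F2564))
theorem E3887 : n4311 = n1534 := ((((iv D2101)).symm.trans (sb E3121 D4311))).symm
theorem E3889 : n6424 = n1228 := ((((iv D1701)).symm.trans (sb E3124 D6424))).symm
theorem E3891 : n3261 = n2097 := ((D3261).symm.trans (sb E3125 (iv D2829)))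
theorem E3893 : n7259 = n1371 := ((((iv F994)).symm.trans (sb E3130 (iv F5756)))).symm
theorem F9898 : act 1 n4522 = n4362 := (sb E3139 (iv D5709))
theorem E3896 : n7343 = n5898 := (((D5898).symm.trans (sb E3139 D7343))).symm
theorem E3897 : n10995 = n4147 := (E3141).trans E3379
theorem E3898 : n10745 = n3121 := ((((iv D4147)).symm.trans (sb E3897 F9024))).symm
theorem E3899 : n10744 = n2609 := ((((iv D3488)).symm.trans (sb E3142 F9026))).symm
theorem E3900 : n8147 = n3727 := ((((iv F2839)).symm.trans (sb E3144 F8347))).symm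
theorem E3902 : n8146 = n2706 := ((((iv D3612)).symm.trans (sb E3144 (iv D10253)))).symm
theorem E3903 : n3701 = n1088 := ((((iv F781)).symm.trans (sb E3146 F2847))).symm
theorem E3904 : n4904 = n1463 := ((((iv F1070)).symm.trans (sb E3146 D4904))).symm
theorem E3912 : n4897 = n761 := (((D761).symm.trans (sb E3151 D4897))).symm
theorem E3916 : n1027 = n491 := ((((iv D713)).symm.trans (sb E3154 (iv D1434)))).symm
theorem E3917 : n3964 = n1471 := (E3155).trans E3374
theorem E3918 : n4115 = n2012 := (((D2012).symm.trans (sb E3917 F9718))).symm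
theorem E3919 : n2982 = n1054 := ((((iv D1471)).symm.trans (sb E3917 (iv D3964)))).symm
theorem E3921 : n2013 = n797 := ((D2013).symm.trans (sb E3917 (tr D5200 E3825)))
theorem E3923 : n3107 = n2191 := ((((iv D2944)).symm.trans (sb E3156 (iv D4128)))).symm
theorem E3924 : n2925 = n1559 := ((F2214).symm.trans (sb E3156 (tr (iv F9778) E3824)))
theorem E3928 : n771 = n359 := ((((iv D525)).symm.trans (sb E3161 (iv D1091)))).symm
theorem E3929 : n772 = n757 := ((((iv D1068)).symm.trans (sb E3162 (iv D1092)))).symm
theorem E3930 : n1405 = n1098 := (((iv F1018)).symm.trans (sb E3162 (iv F789)))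
theorem E3931 : n2803 = n2624 := ((((iv F1966)).symm.trans (sb E3163 D2803))).symm
theorem E3933 : n1433 = n710 := ((((iv D1008)).symm.trans (sb E3164 F1115))).symm
theorem E3934 : n4425 = n2146 := ((((iv F1596)).symm.trans (sb E3165 D4425))).symm
theorem E3935 : n2628 = n1133 := ((((iv D1568)).symm.trans (sb E3165 F2545))).symm
theorem E3937 : n1970 = n671 := (((F683).symm.trans (sb E3167 (iv F1447)))).symm
theorem E3941 : n3338 = n1443 := (((F1178).symm.trans (sb E3169 (iv F2535)))).symm
theorem E3942 : n1831 = n731 := (((F589).symm.trans (sb E3170 (iv F1347)))).symm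
theorem E3943 : n954 = n728 := (((F590).symm.trans (sb E3170 (iv D1334)))).symm
theorem E3944 : n1010 = n504 := ((D1010).symm.trans (sb E3171 (iv D729)))
theorem E3948 : n7417 = n3581 := ((((iv D4714)).symm.trans (sb E3173 F5906))).symm
theorem E3962 : n4645 = n3799 := (((iv F3574)).symm.trans (sb E3184 (iv D4990)))
theorem E3963 : n6473 = n2640 := ((((iv D3527)).symm.trans (sb E3184 D6473))).symm
theorem E3964 : n4647 = n3798 := ((((iv F2892)).symm.trans (sb E3185 F4734))).symm
theorem E3965 : n7771 = n2115 := ((((iv D2851)).symm.trans (sb E3185 D7771))).symm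
theorem E3967 : n8035 = n1011 := ((((iv F726)).symm.trans (sb E3187 D8035))).symm
theorem E3968 : n4814 = n1012 := (((D1012).symm.trans (sb E3187 (iv D6266)))).symm
theorem E3972 : n4251 = n1026 := ((((iv D1432)).symm.trans (sb E3189 F4348))).symm
theorem E3976 : n2393 = n1951 := ((((iv D2647)).symm.trans (sb E3192 F2421))).symm
theorem E3983 : n5995 = n31 := (E3196).trans E3586
theorem E3987 : n7501 = n15 := ((((iv D31)).symm.trans (sb E3983 (tr D7698 E3220)))).symm
theorem E3988 : n2607 = n144 := ((F2009).symm.trans (sb E3197 (tr (iv D10408) E3729)))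
theorem E3990 : n8928 = n4723 := ((((iv F3636)).symm.trans (sb E3198 (iv F7186)))).symm
theorem E3992 : n8023 = n4786 := (((E3638).symm.trans ((F5539).symm.trans (sb E3199 F6402)))).symm
theorem E3998 : n7994 = n4038 := (((F3158).symm.trans (sb E3205 (iv F6375)))).symm
theorem E4000 : n4790 = n4040 := ((((iv F9621)).symm.trans (sb E3206 (iv D6233)))).symm
theorem E4005 : n8948 = n3700 := (((F3748).symm.trans (sb E3210 D8948))).symm
theorem E4007 : n8950 = n6315 := (((D6315).symm.trans (sb E3211 D8950))).symm
theorem E4010 : n10182 = n1769 := (((F1804).symm.trans (sb E3213 (iv F8271)))).symm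
theorem F9908 : act 2 n6128 = n5419 := (sb E3216 (iv D6997))
theorem E4014 : n7004 = n6149 := ((((iv F4806)).symm.trans (sb E3216 (iv F5526)))).symm
theorem E4019 : n7698 = n15 := (E3220).trans E3987
theorem E4020 : n7796 = n26 := ((((iv F16)).symm.trans (sb E4019 (iv F6205)))).symm
theorem E4027 : n8557 = n2359 := ((((iv D3163)).symm.trans (sb E3222 D8557))).symm
theorem E4028 : n8558 = n4200 := (((D4200).symm.trans (sb E3222 D8558))).symm
theorem E4030 : n6733 = n4548 := ((((iv F4284)).symm.trans (sb E3223 (iv D8591)))).symm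
theorem E4031 : n7399 = n1886 := (((E3876).symm.trans (((iv F1454)).symm.trans (sb E3224 (iv D9381))))).symm
theorem E4032 : n4399 = n940 := ((((iv D1313)).symm.trans (sb E3225 F4493))).symm
theorem E4034 : n7400 = n3081 := ((((iv F9758)).symm.trans (sb E3226 D7400))).symm
theorem E4037 : n8564 = n1248 := (((D1248).symm.trans (sb E3229 D8564))).symm
theorem E4040 : n4028 = n3276 := ((D4028).symm.trans (sb E3232 (iv D4333)))
theorem E4041 : n5667 = n2257 := ((((iv D3031)).symm.trans (sb E3232 (iv F4430)))).symm
theorem E4043 : n4025 = n2548 := (((iv F3074)).symm.trans (sb E3234 (tr (iv F3971) E3841)))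
theorem E4044 : n3275 = n2543 := (E3679).trans E3839
theorem E4045 : n3030 = n2545 := ((((iv F1906)).symm.trans (iv (sb E3234 (tr (iv D4332) E4044))))).symm
theorem E4046 : n4332 = n2545 := (E3234).trans E4045
theorem E4047 : n5668 = n1870 := ((((iv D2545)).symm.trans (sb E4046 D5668))).symm
theorem E4048 : n8559 = n1251 := ((((iv D1730)).symm.trans (sb E3235 D8559))).symm
theorem E4049 : n6716 = n2360 := (((D2360).symm.trans (sb E3235 (iv F5284)))).symm
theorem E4051 : n1619 = n614 := ((((iv F432)).symm.trans (sb E3237 (iv D2211)))).symm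
theorem E4052 : n1625 = n610 := ((((iv F429)).symm.trans (sb E3237 F1647))).symm
theorem E4055 : n5185 = n1235 := (E3238).trans E3292
theorem E4056 : n3958 = n1238 := ((((iv F895)).symm.trans (sb E4055 F4016))).symm
theorem E4057 : n6712 = n1709 := ((((iv F1258)).symm.trans (sb E4055 (iv F5279)))).symm
theorem E4061 : n2977 = n1231 := (((D1231).symm.trans (sb E3240 D2977))).symm
theorem E4065 : n4099 = n176 := ((((iv F118)).symm.trans (sb E3243 F4154))).symm
theorem E4066 : n4087 = n177 := (((D177).symm.trans (sb E3243 (iv D5352)))).symm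
theorem E4068 : n4063 = n178 := (((D178).symm.trans (sb E3244 (iv D5326)))).symm
theorem E4069 : n6875 = n123 := ((((iv F82)).symm.trans (sb E3244 D6875))).symm
theorem E4071 : n3994 = n183 := ((((iv F122)).symm.trans (sb E3246 F4047))).symm
theorem E4072 : n3981 = n184 := (((D184).symm.trans (sb E3246 (iv D5217)))).symm
theorem E4073 : n6747 = n71 := ((((iv D117)).symm.trans (sb E3246 D6747))).symm
theorem E4077 : n5470 = n188 := (((D188).symm.trans (sb E3249 F9774))).symm
theorem E4079 : n2221 = n419 := (((D419).symm.trans (sb E3252 (iv D2985)))).symm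
theorem E4081 : n5532 = n1420 := ((((iv D1948)).symm.trans (sb E3253 (iv F4321)))).symm
theorem E4084 : n4656 = n3978 := ((D4656).symm.trans (sb E3254 (iv D5213)))
theorem E4087 : n4046 = n3213 := (((F9730).symm.trans (sb E3256 (iv D5303)))).symm
theorem E4090 : n7645 = n3149 := (E3258).trans E3262
theorem E4091 : n5950 = n2354 := (((F2377).symm.trans (sb E4090 F6075))).symm
theorem E4093 : n8560 = n1066 := ((((iv F763)).symm.trans (sb E3259 (iv D10736)))).symm
theorem E4097 : n9130 = n1246 := ((((iv D1723)).symm.trans (sb E3263 D9130))).symm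
theorem E4100 : n5188 = n1932 := (((F1966).symm.trans (sb E3265 D5188))).symm
theorem E4101 : n3507 = n1231 := (((iv F2671)).symm.trans (sb E3265 (tr (iv D3957) E4061)))
theorem E4102 : n3477 = n2978 := (((iv F2644)).symm.trans (sb E3265 F3026))
theorem E4103 : n5189 = n1931 := ((((iv D2624)).symm.trans (sb E3265 D5189))).symm
theorem E4104 : n5485 = n3220 := ((((iv D4269)).symm.trans (sb E3266 F4289))).symm
theorem E4105 : n3221 = n3159 := (((F2394).symm.trans (sb E3267 (iv D4270)))).symm
theorem E4109 : n11140 = n6237 := ((((iv F4877)).symm.trans (sb E3269 D11140))).symm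
theorem E4110 : n6988 = n3664 := ((((iv D4818)).symm.trans (sb E3269 (iv D8906)))).symm
theorem E4111 : n9527 = n7034 := ((((iv F5552)).symm.trans (sb E3270 D9527))).symm
theorem E4112 : n7199 = n4165 := ((((iv D5449)).symm.trans (sb E3270 F5980))).symm
theorem E4113 : n4287 = n3399 := ((((iv D4484)).symm.trans (sb E3271 (iv D5609)))).symm
theorem E4114 : n9119 = n2337 := ((((iv D3135)).symm.trans (sb E3272 D9119))).symm
theorem E4115 : n5572 = n2338 := (((F2364).symm.trans (sb E3272 (iv D7175)))).symm
theorem E4116 : n4286 = n3222 := ((((iv D4272)).symm.trans (sb E3273 (iv D5608)))).symm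
theorem E4120 : n3123 = n2993 := ((((iv F2249)).symm.trans (sb E3280 F3161))).symm
theorem E4122 : n8870 = n2217 := (((D2217).symm.trans (sb E3281 D8870))).symm
theorem E4123 : n6964 = n380 := (E3282).trans E3831
theorem E4124 : n3035 = n552 := ((((iv F386)).symm.trans (sb E4123 (tr F5494 E3319)))).symm
theorem E4130 : n3122 = n2994 := ((D3122).symm.trans (sb E3289 F3042))
theorem E4132 : n4189 = n3125 := (((D3125).symm.trans (sb E3290 F4262))).symm
theorem E4136 : n2352 = n2325 := (((F1732).symm.trans (sb E3293 (iv D3155)))).symm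
theorem E4143 : n5207 = n2008 := (((D2008).symm.trans (sb E3300 (iv D6734)))).symm
theorem E4153 : n3180 = n2012 := (((D2012).symm.trans (sb E3306 F3240))).symm
theorem E4157 : n11192 = n4859 := (((F3779).symm.trans (sb E3309 (iv F9197)))).symm
theorem E4160 : n4040 = n1123 := ((((iv F805)).symm.trans (sb E3314 F4106))).symm
theorem E4162 : n4712 = n2136 := (((D2136).symm.trans (sb E3315 F4160))).symm
theorem E4166 : n5394 = n552 := (E3319).trans E4124
theorem E4167 : n6966 = n791 := ((((iv F562)).symm.trans (sb E4166 D6966))).symm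
theorem E4168 : n6967 = n377 := ((((iv D552)).symm.trans (sb E4166 D6967))).symm
theorem E4170 : n2260 = n791 := (((iv D3036)).symm.trans (sb E3320 (tr (iv F5495) E4167)))
theorem E4171 : n4786 = n4034 := (((D4034).symm.trans (sb E3320 (tr (iv F4224) E3640)))).symm
theorem E4172 : n5435 = n4034 := (E3640).trans E4171
theorem F9916 : act 3 n4154 = n4033 := (sb E3321 (iv D5289))
theorem E4173 : n5388 = n5281 := ((D5388).symm.trans (sb E3322 (iv D6822)))
theorem E4174 : n7073 = n5389 := (((D5389).symm.trans (sb E3322 (iv F5591)))).symm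
theorem E4175 : n10923 = n5390 := (((D5390).symm.trans (sb E3323 D10923))).symm
theorem E4176 : n7072 = n4616 := (((F9736).symm.trans (sb E3324 (iv F5590)))).symm
theorem E4190 : n9333 = n6467 := ((((iv F5076)).symm.trans (sb E3337 (iv F7529)))).symm
theorem E4191 : n6539 = n5724 := ((D6539).symm.trans (sb E3337 (iv D7362)))
theorem E4193 : n8203 = n3312 := ((((iv D4376)).symm.trans (sb E3339 D8203))).symm
theorem E4200 : n5783 = n2821 := ((((iv F2113)).symm.trans (sb E3343 D5783))).symm
theorem E4201 : n4939 = n4428 := (((iv F3823)).symm.trans (sb E3344 (iv F3405)))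
theorem E4202 : n7867 = n3313 := (((F2548).symm.trans (sb E3345 (iv F6263)))).symm
theorem E4205 : n6297 = n3897 := ((((iv D5109)).symm.trans (sb E3348 (iv D8072)))).symm
theorem E4207 : n6623 = n2136 := (((E4162).symm.trans ((D4712).symm.trans (sb E3350 (iv D8454))))).symm
theorem E4209 : n5765 = n2683 := (((F2731).symm.trans (sb E3351 F5893))).symm
theorem E4218 : n4157 = n3502 := (((D3502).symm.trans (sb E3358 (iv D5439)))).symm
theorem E4220 : n5598 = n2753 := ((((iv F2060)).symm.trans (sb E3358 (iv F4375)))).symm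
theorem F9925 : act 1 n2414 = n2758 := (sb E3362 F2804)
theorem E4229 : n1504 = n1105 := ((F1502).symm.trans (sb E3363 (tr F1806 E3702)))
theorem E4230 : n3251 = n765 := ((((iv D1081)).symm.trans (sb E3364 D3251))).symm
theorem E4231 : n2103 = n1505 := (((D1505).symm.trans (sb E3364 (tr D3252 E3701)))).symm
theorem E4235 : n7210 = n5584 := ((D7210).symm.trans (sb E3367 (tr D8064 E3534)))
theorem E4236 : n4281 = n4264 := (((iv D5600)).symm.trans (sb E3367 (tr (iv F6426) E3535)))
theorem E4237 : n7211 = n6345 := ((D7211).symm.trans (sb E3367 (iv F4963)))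
theorem E4238 : n8062 = n2411 := ((((iv D3230)).symm.trans (sb E3368 D8062))).symm
theorem F9926 : act 3 n4878 = n4282 := (sb E3369 (iv D5601))
theorem E4240 : n4558 = n2780 := (((F2079).symm.trans (sb E3370 D4558))).symm
theorem E4241 : n2834 = n2058 := ((((iv D2785)).symm.trans (sb E3370 F2622))).symm
theorem E4244 : n2057 = n1536 := ((((iv D2104)).symm.trans (sb E3372 (iv D2784)))).symm
theorem E4255 : n5525 = n3638 := ((D5525).symm.trans (sb E3381 F3684))
theorem E4256 : n6228 = n2258 := (((E3714).symm.trans (((iv D4223)).symm.trans (sb E3381 D6228)))).symm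
theorem E4263 : n3870 = n2337 := ((D3870).symm.trans (sb E3385 (tr (iv F7344) E4114)))
theorem E4264 : n4584 = n2338 := (((iv F3518)).symm.trans (sb E3386 (tr F5683 E4115)))
theorem E4268 : n3855 = n2019 := ((((iv D2736)).symm.trans (sb E3389 (iv F2942)))).symm
theorem E4269 : n2744 = n2627 := (((iv F2050)).symm.trans (sb E3389 F9464))
theorem E4271 : n3401 = n1941 := (((D1941).symm.trans (sb E3391 F3451))).symm
theorem E4272 : n3400 = n1942 := (((D1942).symm.trans (sb E3391 (iv D4486)))).symm
theorem E4282 : n7594 = n4756 := (((F4835).symm.trans (sb E3400 F9680))).symm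
theorem E4283 : n5058 = n4755 := ((((iv D6190)).symm.trans (sb E3400 (iv D6560)))).symm
theorem E4285 : n4533 = n2710 := ((((iv F2025)).symm.trans (sb E3402 (iv F3484)))).symm
theorem E4286 : n2712 = n2569 := ((D2712).symm.trans (sb E3402 (iv D3435)))
theorem E4287 : n4535 = n1461 := ((((iv D2000)).symm.trans (sb E3402 D4535))).symm
theorem E4289 : n4827 = n749 := (((F749).symm.trans (sb E3404 F9577))).symm
theorem E4292 : n4760 = n1377 := ((((iv F9625)).symm.trans (sb E3406 (iv F3663)))).symm
theorem E4293 : n4761 = n2570 := (((D2570).symm.trans (sb E3407 D4761))).symm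
theorem E4294 : n5796 = n1023 := (((D1023).symm.trans (sb E3408 (iv D7459)))).symm
theorem E4304 : n4840 = n1559 := (E3421).trans E3924
theorem E4306 : n3897 = n2135 := (((D2135).symm.trans (sb E4304 (tr D6297 E4205)))).symm
theorem E4311 : n3692 = n2724 := (((iv F2818)).symm.trans (sb E3424 F2773))
theorem E4312 : n4327 = n3693 := (((D3693).symm.trans (sb E3424 (iv F9786)))).symm
theorem E4313 : n2723 = n2044 := ((((iv D2768)).symm.trans (sb E3424 (iv D3634)))).symm
theorem E4314 : n2944 = n2728 := ((D2944).symm.trans (sb E3426 F2777))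
theorem F9931 : act 1 n1497 = n1601 := (sb E3427 (iv F9832))
theorem E4317 : n6208 = n2443 := (((D2443).symm.trans (sb E3429 D6208))).symm
theorem E4318 : n6209 = n4328 := (((D4328).symm.trans (sb E3430 D6209))).symm
theorem E4319 : n6616 = n1993 := (((D1993).symm.trans (sb E3431 D6616))).symm
theorem E4326 : n3568 = n1337 := (((D1337).symm.trans (sb E3436 D3568))).symm
theorem E4327 : n4940 = n4427 := (((D4427).symm.trans (sb E3438 F5026))).symm
theorem E4330 : n10712 = n2994 := (E3442).trans E4130
theorem E4331 : n4148 = n2227 := ((((iv D2994)).symm.trans (sb E4330 (tr (iv D10712) E3511)))).symm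
theorem E4332 : n6696 = n2993 := (E3443).trans E4120
theorem E4335 : n4150 = n2972 := (((F2250).symm.trans (sb E4332 (tr (iv D6696) E3509)))).symm
theorem E4339 : n6701 = n4946 := ((D6701).symm.trans (sb E3448 (iv D6418)))
theorem E4340 : n3990 = n3287 := (((F3331).symm.trans (sb E3449 (iv D5231)))).symm
theorem E4344 : n2233 = n1803 := ((((iv D2453)).symm.trans (sb E3452 F2258))).symm
theorem E4348 : n3097 = n1638 := ((((iv F1199)).symm.trans (sb E3456 F3147))).symm
theorem E4351 : n6836 = n3177 := ((((iv D4215)).symm.trans (sb E3458 (iv F9552)))).symm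
theorem F9935 : act 2 n4215 = n4182 := (sb E3458 (iv D5469))
theorem E4353 : n3977 = n1068 := ((D3977).symm.trans (sb E3459 (tr (iv D5499) E3763)))
theorem E4354 : n2227 = n524 := ((D2227).symm.trans (sb E3460 (tr (iv F9459) E3760)))
theorem E4356 : n8887 = n1167 := ((((iv D1617)).symm.trans (sb E3461 (iv D11117)))).symm
theorem E4358 : n5464 = n4374 := (((iv F4250)).symm.trans (sb E3463 F3581))
theorem E4359 : n6065 = n4215 := ((((iv F9935)).symm.trans (sb E3463 D6065))).symm
theorem E4360 : n5787 = n4374 := (E3464).trans E4358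
theorem E4361 : n6040 = n3312 := (((F3357).symm.trans (sb E4360 (iv F4722)))).symm
theorem E4362 : n5724 = n4430 := ((D5724).symm.trans (sb E4360 (iv D5787)))
theorem E4364 : n5955 = n2355 := (((F2385).symm.trans (sb E3466 (iv F9405)))).symm
theorem E4365 : n3158 = n2400 := (((F2434).symm.trans (iv (sb E3466 (tr F4111 E4087))))).symm
theorem E4366 : n5302 = n2400 := (E3466).trans E4365
theorem E4367 : n4045 = n1759 := ((((iv D2400)).symm.trans (sb E4366 (iv D5302)))).symm
theorem E4376 : n6085 = n4613 := ((((iv F3542)).symm.trans (sb E3474 F6213))).symm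
theorem E4377 : n6081 = n2615 := ((((iv D3495)).symm.trans (sb E3474 (iv D7806)))).symm
theorem E4379 : n9855 = n4608 := (((D4608).symm.trans (sb E3476 D9855))).symm
theorem E4380 : n6080 = n2613 := ((((iv D3492)).symm.trans (sb E3476 (iv D7804)))).symm
theorem E4381 : n5484 = n3456 := ((((iv F2625)).symm.trans (sb E3477 (iv D7077)))).symm
theorem E4382 : n7083 = n1923 := ((((iv D2614)).symm.trans (sb E3477 (iv F5599)))).symm
theorem E4383 : n4193 = n1759 := (E3478).trans E4367
theorem E4385 : n3456 = n1275 := ((((iv D1759)).symm.trans (sb E4383 (tr D5484 E4381)))).symm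
theorem E4386 : n7778 = n3596 := (((D3596).symm.trans (sb E3479 (iv D9823)))).symm
theorem E4387 : n4657 = n2510 := (((F2011).symm.trans (sb E3480 (iv D6067)))).symm
theorem E4399 : n3089 = n1180 := ((((iv D1637)).symm.trans (sb E3491 (iv D4103)))).symm
theorem E4400 : n4948 = n3989 := (((D3989).symm.trans (sb E3493 (iv F9442)))).symm
theorem E4409 : n8546 = n2833 := ((((iv D3778)).symm.trans (sb E3504 (iv F6857)))).symm
theorem E4416 : n5173 = n2972 := (E3509).trans E4335
theorem E4417 : n6691 = n2216 := (((F2235).symm.trans (sb E4416 (iv F5259)))).symm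
theorem E4427 : n3120 = n2609 := (((iv F2352)).symm.trans (sb E3518 (iv D3487)))
theorem E4428 : n4599 = n1707 := ((((iv D2325)).symm.trans (sb E3518 (iv F3531)))).symm
theorem E4430 : n5422 = n1397 := ((((iv D1920)).symm.trans (sb E3521 (iv F4216)))).symm
theorem E4438 : n4916 = n3239 := (((D3239).symm.trans (sb E3527 (iv F3799)))).symm
theorem E4440 : n4263 = n2411 := ((D4263).symm.trans (sb E3528 (tr (iv F6428) E4238)))
theorem E4444 : n9436 = n7189 := (((D7189).symm.trans (sb E3532 (iv F7620)))).symm
theorem E4447 : n8051 = n7192 := (((D7192).symm.trans (sb E3533 (iv D10145)))).symm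
theorem E4448 : n8128 = n7193 := (((D7193).symm.trans (sb E3534 (iv F6489)))).symm
theorem E4450 : n11328 = n11022 := (((D11022).symm.trans (sb E3536 (iv F9332)))).symm
theorem E4452 : n11325 = n11024 := (((D11024).symm.trans (sb E3538 F9329))).symm
theorem E4455 : n11022 = n9063 := ((((iv F7297)).symm.trans (sb E3541 (tr (iv F9331) E4450)))).symm
theorem E4457 : n8805 = n6186 := (((F6322).symm.trans (sb E3542 (iv D11026)))).symm
theorem F9941 : act 1 n10003 = n9505 := (sb E3543 F9057)
theorem E4458 : n10003 = n4752 := ((((iv D6186)).symm.trans (iv (sb E3543 (tr (iv D11027) E4457))))).symm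
theorem E4460 : n4241 = n2053 := ((((iv D2777)).symm.trans (sb E3545 D4241))).symm
theorem E4461 : n4246 = n1093 := ((((iv D1519)).symm.trans (sb E3546 D4246))).symm
theorem E4466 : n8106 = n2279 := (E3550).trans E3554
theorem E4468 : n8112 = n3059 := (((D3059).symm.trans (sb E4466 (iv F6480)))).symm
theorem E4470 : n4868 = n4240 := (((D4240).symm.trans (sb E3551 (iv D6331)))).symm
theorem E4471 : n2053 = n784 := ((((iv F559)).symm.trans (sb E3746 (tr F4333 E4460)))).symm
theorem E4476 : n2060 = n781 := (((D781).symm.trans (sb E3557 F2080))).symm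
theorem E4482 : n7921 = n417 := (E3559).trans E3815
theorem E4484 : n6177 = n606 := ((((iv F426)).symm.trans (sb E4482 F6315))).symm
theorem E4485 : n6176 = n280 := ((((iv D417)).symm.trans (sb E4482 (iv D7921)))).symm
theorem E4489 : n3752 = n2657 := (((D2657).symm.trans (sb E3561 (iv D4927)))).symm
theorem E4490 : n3750 = n2659 := (((D2659).symm.trans (sb E3562 (iv D4923)))).symm
theorem E4491 : n2657 = n2508 := (((iv F1990)).symm.trans (sb E3563 (iv D3359)))
theorem E4498 : n987 = n298 := ((((iv F204)).symm.trans (sb E3572 F997))).symm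
theorem E4505 : n4470 = n730 := (((D730).symm.trans (sb E3577 F4560))).symm
theorem E4509 : n1756 = n332 := (((D332).symm.trans (sb E3579 D1756))).symm
theorem E4525 : n6599 = n1543 := (((F1568).symm.trans (sb E3599 F5221))).symm
theorem E4530 : n1218 = n982 := (((F993).symm.trans (sb E3602 (tr F4422 E3803)))).symm
theorem E4532 : n1216 = n981 := ((((iv D1370)).symm.trans (sb E3602 (tr (iv D5659) E3798)))).symm
theorem E4539 : n7571 = n4514 := (((F3907).symm.trans (sb E3606 F6795))).symm
theorem E4540 : n8481 = n1809 := (E3607).trans E3861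
theorem E4541 : n4514 = n1312 := ((((iv D1809)).symm.trans (sb E4540 (tr (iv F6792) E4539)))).symm
theorem E4543 : n4325 = n982 := (E3803).trans E4530
theorem E4552 : n4548 = n620 := ((((iv F437)).symm.trans (sb E3615 (iv F3496)))).symm
theorem E4553 : n4200 = n619 := ((((iv F435)).symm.trans (sb E3616 F3222))).symm
theorem E4555 : n8782 = n1563 := ((((iv F1141)).symm.trans (sb E3828 D8782))).symm
theorem E4556 : n2202 = n1563 := ((D2202).symm.trans (sb E3619 (tr F7085 E4555)))
theorem E4557 : n11004 = n2203 := (((D2203).symm.trans (sb E3619 (iv F9036)))).symm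
theorem E4558 : n4086 = n2683 := (((D2683).symm.trans (sb E3620 (iv D5351)))).symm
theorem E4562 : n3345 = n1447 := (((F1238).symm.trans (sb E3622 F3392))).symm
theorem E4564 : n7522 = n1886 := (E3869).trans E3876
theorem E4565 : n4481 = n1034 := ((((iv D1442)).symm.trans (sb E3623 F4572))).symm
theorem E4570 : n3423 = n1034 := (((iv D4518)).symm.trans (sb E3626 (tr D10653 E3863)))
theorem E4572 : n5845 = n1985 := (((F1843).symm.trans (sb E3629 (iv F4568)))).symm
theorem E4575 : n7510 = n3081 := (((F3132).symm.trans (sb E3631 (iv D9507)))).symm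
theorem E4576 : n10123 = n7193 := (((iv F8203)).symm.trans (sb E3632 F7361))
theorem F9947 : act 2 n8031 = n8802 := (sb E3632 F7362)
theorem E4577 : n7192 = n6261 := ((((iv D8031)).symm.trans (sb E3632 (iv D9144)))).symm
theorem E4579 : n6905 = n3590 := ((((iv D4724)).symm.trans (iv (sb E3633 (tr (iv D7578) E3860))))).symm
theorem E4582 : n3384 = n3341 := (((iv F2574)).symm.trans (sb E3635 (iv D4410)))
theorem F9948 : act 0 n3488 = n3121 := (sb E3637 F3179)
theorem E4584 : n7007 = n4034 := (E3638).trans E4171
theorem F9949 : act 1 n4034 = n8931 := (sb E4584 D8931)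
theorem E4587 : n3638 = n3036 := ((((iv D4034)).symm.trans (sb E4584 (tr F5528 E4255)))).symm
theorem E4589 : n6282 = n3121 := ((((iv D4147)).symm.trans (sb E3639 (iv F6370)))).symm
theorem E4590 : n8931 = n4154 := ((F9949).symm.trans (sb E4172 (iv D5435)))
theorem E4591 : n8534 = n2981 := ((((iv F9783)).symm.trans (sb E3641 (iv D10708)))).symm
theorem E4598 : n6049 = n2548 := (((D2548).symm.trans (sb E3650 (iv D7766)))).symm
theorem E4600 : n9806 = n3407 := ((((iv F2588)).symm.trans (sb E3651 (iv F7918)))).symm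
theorem E4602 : n7772 = n2728 := (E3653).trans E4314
theorem E4604 : n9818 = n2012 := ((((iv D2728)).symm.trans (sb E4602 D9818))).symm
theorem E4612 : n2731 = n2038 := ((((iv F1504)).symm.trans (sb E3659 F2776))).symm
theorem E4613 : n4789 = n2041 := (((D2041).symm.trans (sb E3659 D4789))).symm
theorem F9953 : act 1 n2012 = n2040 := (sb E3662 (iv D2762))
theorem E4625 : n5869 = n390 := (((F271).symm.trans (sb E3668 F5993))).symm
theorem E4629 : n2548 = n1586 := (((F1166).symm.trans (sb E3670 (iv D3409)))).symm
theorem E4631 : n5858 = n1578 := (((D1578).symm.trans (sb E3671 (iv F4580)))).symm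
theorem E4634 : n2567 = n925 := (((D925).symm.trans (sb E3673 D2567))).symm
theorem E4635 : n695 = n442 := ((((iv F307)).symm.trans (sb E3674 F708))).symm
theorem F9954 : act 2 n478 = n445 := (sb E3675 (iv D646))
theorem E4639 : n1791 = n137 := ((((iv D212)).symm.trans (sb E3678 D1791))).symm
theorem E4640 : n3405 = n2445 := (((iv F2586)).symm.trans (sb E4044 F2488))
theorem E4641 : n2444 = n1869 := ((((iv D2543)).symm.trans (sb E4044 (iv D3275)))).symm
theorem E4645 : n937 = n318 := ((((iv D470)).symm.trans (sb E3682 D937))).symm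
theorem F9955 : act 1 n470 = n455 := (sb E3682 (iv D657))
theorem E4646 : n637 = n485 := (((iv F445)).symm.trans (sb E3682 F460))
theorem E4647 : n938 = n681 := (((D681).symm.trans (sb E3682 D938))).symm
theorem E4652 : n607 = n213 := (((F222).symm.trans (sb E3687 (tr (iv F1825) E3801)))).symm
theorem E4656 : n2169 = n1553 := ((((iv F1132)).symm.trans (sb E3690 D2169))).symm
theorem F9956 : act 0 n1549 = n1145 := (sb E3691 F1154)
theorem F9957 : act 2 n1549 = n1145 := (sb E3691 F1155)
theorem E4658 : n2932 = n2866 := ((D2932).symm.trans (sb E3692 (iv D3822)))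
theorem E4660 : n6491 = n2655 := ((((iv F1988)).symm.trans (sb E3693 D6491))).symm
theorem E4661 : n5020 = n1426 := (((F1043).symm.trans (sb E3694 D5020))).symm
theorem E4662 : n2934 = n2087 := (((F1580).symm.trans (sb E3695 D2934))).symm
theorem F9958 : act 1 n2128 = n1591 := (sb E3695 (iv D2179))
theorem E4663 : n2086 = n1962 := ((F1581).symm.trans (sb E3695 F1622))
theorem E4664 : n1790 = n1295 := ((D1790).symm.trans (sb E3697 (tr F9634 E3697)))
theorem E4665 : n3258 = n1533 := ((((iv D2099)).symm.trans (sb E3698 D3258))).symm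
theorem E4667 : n3260 = n1531 := ((((iv F1118)).symm.trans (sb E3699 D3260))).symm
theorem E4671 : n1282 = n481 := (((F380).symm.trans (sb E3703 (iv F930)))).symm
theorem E4674 : n6523 = n1654 := ((((iv D2258)).symm.trans (sb E3707 F6005))).symm
theorem E4677 : n6524 = n1653 := ((((iv D2257)).symm.trans (sb E3708 D6524))).symm
theorem E4678 : n9518 = n2353 := ((((iv D3157)).symm.trans (sb E3709 (iv F7688)))).symm
theorem E4679 : n4191 = n3303 := ((D4191).symm.trans (sb E3710 (iv D4364)))
theorem E4680 : n3488 = n2353 := ((((iv D3157)).symm.trans (sb E3710 F3349))).symm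
theorem E4681 : n3031 = n2377 := (((iv F2282)).symm.trans (sb E3714 F2409))
theorem E4685 : n7638 = n3121 := (E3715).trans E4589
theorem E4686 : n6024 = n2353 := (((E4680).symm.trans (((iv F9948)).symm.trans (sb E4685 F6070)))).symm
theorem E4688 : n4878 = n2589 := ((((iv F1942)).symm.trans (sb E3716 D4878))).symm
theorem F9959 : act 2 n2584 = n2785 := (sb E3716 (iv D3715))
theorem E4689 : n3678 = n1901 := ((((iv D2584)).symm.trans (sb E3716 F2831))).symm
theorem E4690 : n2037 = n1900 := ((((iv D2583)).symm.trans (sb E3717 (iv D2759)))).symm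
theorem E4704 : n10299 = n1019 := (((D1019).symm.trans (sb E3727 F8502))).symm
theorem E4711 : n6398 = n1949 := ((((iv F1432)).symm.trans (sb E3732 (iv F5011)))).symm
theorem E4712 : n3751 = n1959 := (((D1959).symm.trans (sb E3732 (iv D4925)))).symm
theorem E4714 : n4918 = n1425 := ((((iv F1039)).symm.trans (sb E3734 F3814))).symm
theorem E4716 : n5651 = n1567 := (((D1567).symm.trans (sb E3739 F5759))).symm
theorem E4717 : n3262 = n2339 := ((((iv F1744)).symm.trans (sb E3741 D3262))).symm
theorem F9961 : act 2 n1789 = n1789 := (sb E3741 (iv D2435))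
theorem E4719 : n5547 = n1378 := ((((iv F1001)).symm.trans (sb E3742 (iv F4334)))).symm
theorem E4723 : n4241 = n784 := (E4460).trans E4471
theorem E4728 : n3700 = n2820 := (((D2820).symm.trans (sb E3747 (tr (iv D11193) E4005)))).symm
theorem E4729 : n6315 = n780 := ((((iv D1099)).symm.trans (sb E3748 (tr F7428 E4007)))).symm
theorem E4732 : n7338 = n3341 := (E3750).trans E4582
theorem F9962 : act 2 n3341 = n9308 := (sb E4732 D9308)
theorem E4737 : n5912 = n1346 := ((((iv D1850)).symm.trans (sb E3754 (iv D7596)))).symm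
theorem E4740 : n11126 = n2728 := (((D2728).symm.trans (sb E3755 D11126))).symm
theorem E4743 : n8897 = n797 := (E3757).trans E3921
theorem E4744 : n2728 = n1126 := (((D1126).symm.trans (sb E4743 (tr (iv F9144) E4740)))).symm
theorem E4755 : n3166 = n1491 := (((D1491).symm.trans (sb E3764 (iv D4202)))).symm
theorem E4757 : n7078 = n1408 := (((F1418).symm.trans (sb E3766 F5606))).symm
theorem E4761 : n8051 = n6261 := (E4447).trans E4577
theorem E4762 : n6261 = n4565 := ((((iv D5956)).symm.trans (sb E3769 (tr D8051 E4761)))).symm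
theorem E4768 : n6237 = n5297 := ((F4878).symm.trans (sb E3774 F5392))
theorem E4769 : n8724 = n4793 := ((((iv D6238)).symm.trans (sb E3774 D8724))).symm
theorem E4770 : n5296 = n4817 := (((F4879).symm.trans (sb E3774 (iv D6842)))).symm
theorem E4771 : n4374 = n1011 := (((E3967).symm.trans (((iv F6407)).symm.trans (sb E3775 (tr F9657 E4358))))).symm
theorem E4774 : n4938 = n1088 := ((((iv F781)).symm.trans (sb E3779 (iv D6409)))).symm
theorem E4775 : n8199 = n760 := ((((iv D1073)).symm.trans (sb E3779 (iv F6549)))).symm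
theorem E4778 : n5824 = n1459 := ((((iv F1066)).symm.trans (sb E3781 F9817))).symm
theorem E4781 : n7268 = n936 := (((D936).symm.trans (sb E3783 (iv D9223)))).symm
theorem E4782 : n7239 = n932 := (((D932).symm.trans (sb E3784 F5776))).symm
theorem E4783 : n5660 = n933 := (((D933).symm.trans (sb E3784 (iv D7281)))).symm
theorem E4786 : n2454 = n182 := (((D182).symm.trans (sb E3788 (iv D3288)))).symm
theorem E4787 : n2572 = n76 := (((D76).symm.trans (sb E3789 F2605))).symm
theorem E4788 : n7156 = n5 := (((F7).symm.trans (sb E3790 (iv F5661)))).symm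
theorem E4789 : n7202 = n6974 := (((D6974).symm.trans (sb E3791 (iv F5706)))).symm
theorem E4791 : n8886 = n7234 := (((iv F7152)).symm.trans (sb E3792 (iv F5733)))
theorem E4793 : n4004 = n181 := (((D181).symm.trans (sb E3794 F4062))).symm
theorem E4795 : n3265 = n277 := (((D277).symm.trans (iv (sb E3795 (tr (iv D5249) E4793))))).symm
theorem E4799 : n2244 = n414 := (((D414).symm.trans (sb E3796 (iv D3013)))).symm
theorem E4805 : n1805 = n604 := ((((iv F424)).symm.trans (sb E3800 (iv D2455)))).symm
theorem E4806 : n2438 = n213 := (E3801).trans E4652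
theorem E4807 : n604 = n319 := ((((iv F218)).symm.trans (sb E4806 (tr F1824 E4805)))).symm
theorem E4808 : n1371 = n933 := ((D1371).symm.trans (sb E4543 (tr D5660 E4783)))
theorem E4824 : n9244 = n602 := ((((iv F422)).symm.trans (sb E3815 (iv F7458)))).symm
theorem E4834 : n2887 = n2683 := (((iv F2166)).symm.trans (sb E3822 (tr (iv F3127) E4558)))
theorem E4835 : n5339 = n2888 := (((D2888).symm.trans (sb E3822 D5339))).symm
theorem E4836 : n5203 = n2112 := ((((iv D2848)).symm.trans (sb E3823 F4037))).symm
theorem E4838 : n2682 = n1566 := (((iv F2006)).symm.trans (sb E3826 F1592))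
theorem E4839 : n1565 = n1443 := ((((iv D1979)).symm.trans (sb E3826 (iv D2143)))).symm
theorem E4841 : n2266 = n571 := (((F9679).symm.trans (sb E3830 (iv D3042)))).symm
theorem E4843 : n7285 = n862 := (((F873).symm.trans (sb E3836 D7285))).symm
theorem E4844 : n7286 = n861 := ((((iv D1208)).symm.trans (sb E3836 D7286))).symm
theorem E4846 : n2134 = n1872 := (((F1904).symm.trans (sb E3839 (iv D2877)))).symm
theorem E4848 : n2135 = n1871 := ((D2135).symm.trans (sb E3840 (iv D2547)))
theorem E4849 : n5124 = n1586 := (E3841).trans E4629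
theorem E4850 : n6596 = n1600 := ((((iv F1166)).symm.trans (sb E4849 (iv F5182)))).symm
theorem E4851 : n6640 = n1146 := ((((iv D1586)).symm.trans (sb E4849 D6640))).symm
theorem E4853 : n7288 = n3060 := (((D3060).symm.trans (sb E3843 D7288))).symm
theorem E4854 : n7289 = n3061 := (((D3061).symm.trans (sb E3843 D7289))).symm
theorem E4859 : n7487 = n3100 := (((F3159).symm.trans (sb E3849 (iv F5954)))).symm
theorem E4862 : n4455 = n3105 := ((((iv F2340)).symm.trans (sb E3850 (iv D5817)))).symm
theorem F9970 : act 3 n3379 = n4038 := (sb E3851 (iv F3157))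
theorem E4865 : n9308 = n2561 := (((F2604).symm.trans (sb E3855 (iv F7508)))).symm
theorem E4866 : n7571 = n1312 := (E4539).trans E4541
theorem E4867 : n3073 = n1312 := ((D3073).symm.trans (sb E3856 (tr (iv F7301) E4866)))
theorem E4869 : n6146 = n4082 := ((((iv F3119)).symm.trans (sb E3857 (iv D7886)))).symm
theorem E4873 : n3844 = n2457 := ((((iv F1838)).symm.trans (sb E3861 (iv F2931)))).symm
theorem E4878 : n5772 = n981 := (E3866).trans E4532
theorem F9974 : act 1 n981 = n4415 := (sb E4878 (iv D5772))
theorem E4881 : n9522 = n2562 := (((D2562).symm.trans (sb E4564 D9522))).symm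
theorem E4883 : n5769 = n1681 := (((D1681).symm.trans (sb E3870 (iv D7423)))).symm
theorem E4884 : n8619 = n870 := (((F876).symm.trans (sb E3871 (iv F6917)))).symm
theorem E4885 : n5241 = n1683 := (((D1683).symm.trans (sb E3871 (iv D6772)))).symm
theorem E4887 : n6773 = n4522 := (((D4522).symm.trans (sb E3874 (iv F5328)))).symm
theorem E4888 : n2561 = n2462 := (((iv F1920)).symm.trans (sb E3876 F9754))
theorem E4889 : n2558 = n1442 := (((iv F1918)).symm.trans (sb E3876 (iv D1977)))
theorem E4890 : n2678 = n2562 := (((D2562).symm.trans (sb E3876 (iv F2004)))).symm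
theorem E4891 : n1684 = n1373 := ((((iv D1886)).symm.trans (sb E3876 F1454))).symm
theorem E4892 : n11017 = n3341 := (E3877).trans E4582
theorem E4893 : n2562 = n2491 := ((((iv D3341)).symm.trans (sb E4892 (tr F9047 E4881)))).symm
theorem E4895 : n7789 = n620 := (((E4552).symm.trans (((iv F4284)).symm.trans (sb E3878 D7789)))).symm
theorem E4896 : n4199 = n2510 := (((iv D5494)).symm.trans (sb E3878 (tr (iv D6068) E4387)))
theorem E4897 : n4205 = n3596 := ((((iv F2743)).symm.trans (sb E3880 F4282))).symm
theorem E4899 : n4211 = n3595 := ((((iv F2742)).symm.trans (sb E3882 F4291))).symm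
theorem E4902 : n5803 = n2188 := ((((iv F9794)).symm.trans (sb E3883 D5803))).symm
theorem E4903 : n9454 = n3271 := (((D3271).symm.trans (sb E3884 D9454))).symm
theorem F9975 : act 0 n2519 = n2569 := (sb E3885 (iv D3434))
theorem E4904 : n2710 = n1851 := ((((iv D2519)).symm.trans (sb E3885 (tr D4533 E4285)))).symm
theorem E4906 : n5641 = n1852 := (((F1362).symm.trans (sb E3887 D5641))).symm
theorem E4910 : n7622 = n1242 := ((((iv F901)).symm.trans (sb E3889 F9827))).symm
theorem F9976 : act 3 n2097 = n2434 := (sb E3891 (iv D3261))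
theorem E4914 : n7259 = n933 := (E3893).trans E4808
theorem E4916 : n9216 = n982 := (((E4530).symm.trans (((iv F883)).symm.trans (sb E4914 D9216)))).symm
theorem E4917 : n1852 = n654 := ((((iv D933)).symm.trans (sb E4914 (tr (iv D7259) E4906)))).symm
theorem F9977 : act 1 n5898 = n5710 := (sb E3896 F5833)
theorem E4920 : n10740 = n3126 := ((((iv F2355)).symm.trans (sb E3898 F8789))).symm
theorem E4922 : n3485 = n1248 := (((iv F2650)).symm.trans (sb E3899 (tr (iv D10744) E4037)))
theorem E4923 : n6361 = n2794 := ((((iv D3727)).symm.trans (sb E3900 F6509))).symm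
theorem E4926 : n7932 = n3609 := ((((iv F2754)).symm.trans (sb E3902 F6508))).symm
theorem E4927 : n4859 = n1511 := ((((iv F1103)).symm.trans (sb E3903 (iv F3749)))).symm
theorem E4928 : n2774 = n769 := ((((iv D1088)).symm.trans (sb E3903 (iv D3701)))).symm
theorem E4930 : n6374 = n1047 := ((((iv D1463)).symm.trans (sb E3904 D6374))).symm
theorem E4941 : n6364 = n1074 := (((D1074).symm.trans (sb E3912 D6364))).symm
theorem E4947 : n724 = n709 := ((((iv F499)).symm.trans (sb E3916 (iv D1027)))).symm
theorem E4948 : n3098 = n2040 := (((F9953).symm.trans (sb E3918 (iv D4115)))).symm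
theorem E4949 : n3966 = n1473 := (((F1481).symm.trans (sb E3918 (iv F9717)))).symm
theorem E4951 : n2218 = n746 := ((((iv D1054)).symm.trans (sb E3919 (iv D2982)))).symm
theorem E4955 : n1471 = n789 := (((F565).symm.trans (sb E3921 (iv D2013)))).symm
theorem E4956 : n2944 = n1126 := (E4314).trans E4744
theorem E4957 : n2315 = n1601 := (((F1633).symm.trans (sb E3923 (iv D3107)))).symm
theorem E4959 : n2173 = n1872 := (((E4846).symm.trans ((D2134).symm.trans (sb E3924 (iv D2925))))).symm
theorem E4960 : n3897 = n1871 := (E4306).trans E4848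
theorem E4961 : n537 = n524 := ((((iv F365)).symm.trans (sb E3928 F545))).symm
theorem E4963 : n1066 = n539 := (((iv F763)).symm.trans (sb E3929 F546))
theorem E4964 : n1069 = n779 := ((D1069).symm.trans (sb E3929 (iv F556)))
theorem F9978 : act 0 n1098 = n1008 := (sb E3930 F1017)
theorem E4965 : n1028 = n1007 := ((F788).symm.trans (sb E3930 (iv D1405)))
theorem F9979 : act 3 n1098 = n1068 := (sb E3930 F1018)
theorem E4966 : n2083 = n1231 := (((E4101).symm.trans (((iv F2671)).symm.trans (sb E3931 F2096)))).symm
theorem E4970 : n1026 = n489 := ((((iv D710)).symm.trans (sb E3933 (iv D1433)))).symm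
theorem E4971 : n5784 = n2890 := ((((iv F2169)).symm.trans (sb E3934 D5784))).symm
theorem E4972 : n3510 = n1567 := ((((iv D2146)).symm.trans (sb E3934 F3401))).symm
theorem E4973 : n3503 = n802 := ((((iv D1133)).symm.trans (sb E3935 (iv F2664)))).symm
theorem E4976 : n1437 = n463 := ((((iv D671)).symm.trans (sb E3937 (iv D1970)))).symm
theorem E4983 : n2489 = n1035 := ((((iv D1443)).symm.trans (sb E3941 (iv D3338)))).symm
theorem E4986 : n1328 = n505 := ((((iv D731)).symm.trans (sb E3942 (iv D1831)))).symm
theorem F9980 : act 2 n728 = n670 := (sb E3943 (iv D954))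
theorem F9981 : act 2 n504 = n712 := (sb E3944 (iv D1010))
theorem E4988 : n7412 = n3293 := (((F9511).symm.trans (sb E3948 F5894))).symm
theorem E5000 : n4989 = n3523 := (((iv F3864)).symm.trans (sb E3962 F3573))
theorem E5001 : n4991 = n3521 := ((D4991).symm.trans (sb E3962 (iv D4645)))
theorem E5002 : n8274 = n3526 := (((D3526).symm.trans (sb E3963 D8274))).symm
theorem E5003 : n6055 = n4988 := ((((iv F3863)).symm.trans (sb E3964 D6055))).symm
theorem E5005 : n7773 = n1544 := ((((iv D2115)).symm.trans (sb E3965 (iv F6182)))).symm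
theorem E5007 : n6270 = n1410 := (((D1410).symm.trans (sb E3967 F6407))).symm
theorem E5010 : n3659 = n1070 := ((((iv F765)).symm.trans (sb E3968 (iv D4814)))).symm
theorem E5013 : n4251 = n489 := (E3972).trans E4970
theorem E5015 : n4257 = n710 := (((D710).symm.trans (sb E5013 (iv F3272)))).symm
theorem E5020 : n1423 = n332 := ((F1433).symm.trans (sb E3976 (tr F1794 E4509)))
theorem E5033 : n2687 = n203 := ((((iv F137)).symm.trans (sb E3988 (iv F2009)))).symm
theorem E5034 : n3484 = n223 := (((D223).symm.trans (sb E3988 D3484))).symm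
theorem E5035 : n1918 = n224 := (((D224).symm.trans (sb E3988 (iv D2607)))).symm
theorem E5038 : n11166 = n3589 := ((((iv D4723)).symm.trans (sb E3990 (iv F9180)))).symm
theorem E5042 : n8023 = n4034 := (E3992).trans E4171
theorem E5043 : n6256 = n4154 := (((E4590).symm.trans ((F9949).symm.trans (sb E5042 (iv D8023))))).symm
theorem E5050 : n6235 = n3041 := ((((iv D4038)).symm.trans (sb E3998 F6376))).symm
theorem E5051 : n10074 = n3379 := ((((iv F9970)).symm.trans (sb E3998 D10074))).symm
theorem E5052 : n4790 = n1123 := (E4000).trans E4160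
theorem E5053 : n3642 = n796 := (((F805).symm.trans (sb E5052 (iv D4790)))).symm
theorem E5062 : n8948 = n2820 := (E4005).trans E4728
theorem E5064 : n11192 = n1511 := (E4157).trans E4927
theorem E5065 : n3761 = n1511 := ((D3761).symm.trans (sb E5062 (tr D11192 E5064)))
theorem E5066 : n8950 = n780 := (E4007).trans E4729
theorem E5067 : n7208 = n542 := ((((iv D780)).symm.trans (sb E5066 F7200))).symm
theorem E5070 : n9015 = n2414 := (((D2414).symm.trans (sb E4010 F8272))).symm
theorem E5074 : n7888 = n5423 := (((iv F6285)).symm.trans (sb E4014 (iv D7004)))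
theorem E5080 : n6104 = n47 := (((D47).symm.trans (sb E4020 F6206))).symm
theorem E5088 : n10733 = n1731 := (((F1762).symm.trans (sb E4027 D10733))).symm
theorem E5089 : n10734 = n3164 := (((D3164).symm.trans (sb E4027 D10734))).symm
theorem E5090 : n8558 = n619 := (E4028).trans E4553
theorem E5091 : n3164 = n883 := ((((iv F630)).symm.trans (sb E5090 (tr (iv F8778) E5089)))).symm
theorem E5094 : n6733 = n620 := (E4030).trans E4552
theorem E5095 : n5502 = n884 := (((D884).symm.trans (sb E5094 F5298))).symm
theorem E5097 : n9370 = n1442 := (((E4889).symm.trans (((iv F1918)).symm.trans (sb E4031 (iv F7566))))).symm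
theorem E5099 : n3329 = n659 := ((((iv D940)).symm.trans (sb E4032 F3380))).symm
theorem E5100 : n3328 = n1314 := (((D1314).symm.trans (sb E4032 (iv D4399)))).symm
theorem E5102 : n2678 = n2491 := (E4890).trans E4893
theorem E5103 : n5755 = n4092 := ((((iv F3132)).symm.trans (sb E4034 F5877))).symm
theorem E5111 : n5281 = n2446 := (((F2489).symm.trans (sb E4040 D5281))).symm
theorem E5112 : n3276 = n3021 := ((((iv F2273)).symm.trans (iv (sb E4040 (tr (iv D4028) E4681))))).symm
theorem E5113 : n4028 = n3021 := (E4040).trans E5112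
theorem E5114 : n4014 = n3303 := ((D4014).symm.trans (sb E5113 (tr (iv F3217) E4679)))
theorem E5115 : n7291 = n1653 := ((((iv D2257)).symm.trans (sb E4041 D7291))).symm
theorem E5117 : n4025 = n1586 := (E4043).trans E4629
theorem E5118 : n2545 = n1148 := (((F1157).symm.trans (sb E5117 (tr F3074 E4045)))).symm
theorem E5120 : n3030 = n1148 := (E4045).trans E5118
theorem E5121 : n2257 = n813 := (((F827).symm.trans (sb E5120 F2281))).symm
theorem E5124 : n2544 = n1653 := ((D2544).symm.trans (sb E4047 (tr (iv F5787) E5115)))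
theorem E5127 : n8568 = n1732 := (((D1732).symm.trans (sb E4048 (iv F6876)))).symm
theorem E5128 : n5587 = n1907 := ((((iv F1764)).symm.trans (sb E4049 F5283))).symm
theorem E5131 : n1169 = n876 := (((D876).symm.trans (sb E4051 (iv D1619)))).symm
theorem E5134 : n2222 = n873 := (((D873).symm.trans (sb E4052 D2222))).symm
theorem E5136 : n1931 = n1713 := (((D1713).symm.trans (sb E4056 (tr (iv F4022) E4103)))).symm
theorem E5138 : n5184 = n1234 := ((((iv D1709)).symm.trans (sb E4057 (iv D6712)))).symm
theorem E5142 : n3093 = n269 := ((((iv F185)).symm.trans (sb E4065 F3138))).symm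
theorem E5145 : n3076 = n271 := (((D271).symm.trans (sb E4066 (iv D4087)))).symm
theorem E5147 : n3060 = n273 := (((D273).symm.trans (sb E4068 (iv D4063)))).symm
theorem E5149 : n8764 = n75 := ((((iv D123)).symm.trans (sb E4069 D8764))).symm
theorem E5150 : n3006 = n280 := (((D280).symm.trans (sb E4071 (iv D3994)))).symm
theorem E5151 : n2995 = n281 := (((D281).symm.trans (sb E4072 (iv D3981)))).symm
theorem E5153 : n8610 = n44 := (((F46).symm.trans (sb E4073 D8610))).symm
theorem E5157 : n2510 = n286 := (((D286).symm.trans (sb E4077 (tr F4256 E4896)))).symm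
theorem E5160 : n1626 = n609 := (((D609).symm.trans (sb E4079 F1655))).symm
theorem E5163 : n4740 = n1018 := ((((iv D1420)).symm.trans (sb E4081 F4322))).symm
theorem E5168 : n6064 = n2991 := (((F3041).symm.trans (sb E4084 (iv F4744)))).symm
theorem E5169 : n6066 = n2990 := ((((iv D3978)).symm.trans (sb E4084 D6066))).symm
theorem E5178 : n4564 = n1727 := ((((iv D2354)).symm.trans (sb E4091 F4653))).symm
theorem E5181 : n8560 = n539 := (E4093).trans E4963
theorem E5182 : n6711 = n775 := (((D775).symm.trans (sb E5181 (iv D8560)))).symm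
theorem E5189 : n7189 = n887 := ((((iv D1246)).symm.trans (sb E4097 F7351))).symm
theorem E5192 : n3959 = n2625 := (((D2625).symm.trans (sb E4100 F4019))).symm
theorem E5193 : n4269 = n1406 := ((((iv D1932)).symm.trans (sb E4100 (iv F4020)))).symm
theorem E5194 : n2754 = n879 := (((F890).symm.trans (sb E4101 F2670))).symm
theorem E5195 : n2624 = n1705 := (((D1705).symm.trans (sb E4101 F2671))).symm
theorem E5196 : n4625 = n877 := ((((iv D1231)).symm.trans (sb E4101 D4625))).symm
theorem E5199 : n2978 = n2320 := ((((iv F1729)).symm.trans (iv (sb E4102 (tr F2644 E5195))))).symm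
theorem E5200 : n3477 = n2320 := (E4102).trans E5199
theorem E5201 : n3114 = n2601 := ((D3114).symm.trans (sb E5200 (iv D3477)))
theorem E5202 : n5189 = n1713 := (E4103).trans E5136
theorem E5203 : n2335 = n1406 := ((D2335).symm.trans (sb E5202 (tr F4021 E5193)))
theorem E5204 : n4268 = n2333 := ((((iv F1738)).symm.trans (sb E5202 F4023))).symm
theorem E5205 : n2333 = n1408 := ((E5204).symm.trans (((iv F3276)).symm.trans (sb E4104 (tr D7078 E4757))))
theorem E5206 : n4194 = n2404 := (((F2439).symm.trans (sb E4104 (iv D5485)))).symm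
theorem E5208 : n3218 = n2356 := (((F2386).symm.trans (sb E4105 F2440))).symm
theorem E5214 : n11140 = n5297 := (E4109).trans E4768
theorem E5215 : n8961 = n4042 := (((F4107).symm.trans (sb E5214 F9154))).symm
theorem E5216 : n11135 = n4041 := ((((iv D5297)).symm.trans (sb E5214 F9155))).symm
theorem E5217 : n5411 = n2746 := ((((iv D3664)).symm.trans (sb E4110 (iv D6988)))).symm
theorem E5218 : n7998 = n4042 := (((E5215).symm.trans ((D8961).symm.trans (sb E4111 F7695)))).symm
theorem E5220 : n5590 = n3137 := (((F3195).symm.trans (sb E4112 (iv D7199)))).symm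
theorem E5221 : n5412 = n2538 := ((((iv D3399)).symm.trans (sb E4113 F4207))).symm
theorem E5223 : n4258 = n2416 := ((((iv F1810)).symm.trans (sb E4115 (iv D5572)))).symm
theorem E5224 : n4271 = n3233 := ((D4271).symm.trans (sb E4116 (iv D4286)))
theorem E5228 : n4148 = n524 := (E4331).trans E4354
theorem E5231 : n8877 = n2981 := (((D2981).symm.trans (sb E4122 (iv F7146)))).symm
theorem E5243 : n5479 = n3496 := (((F9800).symm.trans (sb E4132 D5479))).symm
theorem E5248 : n2609 = n1726 := ((E4427).symm.trans (((iv F2352)).symm.trans (sb E4136 F1757)))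
theorem E5256 : n3971 = n2044 := (((E4313).symm.trans ((D2723).symm.trans (sb E4143 (iv D5207))))).symm
theorem E5257 : n1487 = n775 := ((F1477).symm.trans (sb E4143 (tr (iv F5278) E5182)))
theorem E5258 : n6735 = n2724 := (((D2724).symm.trans (sb E4143 D6735))).symm
theorem E5273 : n2373 = n2040 := (((F9953).symm.trans (sb E4153 F2406))).symm
theorem E5274 : n2372 = n1126 := (((E4744).symm.trans ((D2728).symm.trans (sb E4153 (iv D3180))))).symm
theorem E5282 : n3580 = n2144 := ((((iv F1594)).symm.trans (sb E4162 (iv D4712)))).symm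
theorem E5290 : n2981 = n252 := ((((iv D377)).symm.trans (sb E4168 (tr D8877 E5231)))).symm
theorem E5292 : n3036 = n1116 := (((D1116).symm.trans (sb E4170 D3036))).symm
theorem E5295 : n3638 = n1116 := (E4587).trans E5292
theorem E5296 : n5388 = n2446 := (E4173).trans E5111
theorem E5298 : n4119 = n2443 := (((F1833).symm.trans (sb E5296 (iv D5388)))).symm
theorem E5300 : n6960 = n3277 := (((D3277).symm.trans (sb E5296 D6960))).symm
theorem E5302 : n9001 = n4343 := (((F4183).symm.trans (sb E4174 D9001))).symm
theorem E5303 : n9000 = n5945 := ((((iv F9620)).symm.trans (sb E4175 F8960))).symm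
theorem E5304 : n5757 = n3497 := (((F3546).symm.trans (sb E4176 F5589))).symm
theorem E5320 : n7361 = n6413 := ((((iv F9705)).symm.trans (sb E4190 (iv D9333)))).symm
theorem E5321 : n6539 = n4430 := (E4191).trans E4362
theorem E5322 : n6413 = n3355 := ((((iv D4430)).symm.trans (sb E5321 (iv F9704)))).symm
theorem F9997 : act 2 n4430 = n8350 := (sb E5321 D8350)
theorem E5326 : n8350 = n1011 := (((E4771).symm.trans (((iv F3357)).symm.trans (sb E4193 (iv F9706))))).symm
theorem E5340 : n7442 = n2092 := ((((iv D2821)).symm.trans (sb E4200 D7442))).symm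
theorem E5341 : n5786 = n1511 := (((iv F4521)).symm.trans (sb E4201 (tr (iv D4939) E5065)))
theorem E5343 : n6133 = n2493 := (((F2518).symm.trans (sb E4202 (iv D7867)))).symm
theorem E5347 : n5108 = n1560 := ((((iv D2136)).symm.trans (sb E4207 (iv D6623)))).symm
theorem E5350 : n5762 = n2457 := (((F9540).symm.trans (sb E4209 F4506))).symm
theorem E5364 : n4620 = n3130 := ((D4620).symm.trans (sb E4218 F3190))
theorem E5365 : n4595 = n3128 := (((iv F3528)).symm.trans (sb E4218 (iv D4157)))
theorem E5369 : n3504 = n542 := (((iv F2666)).symm.trans (sb E4220 (tr D7208 E5067)))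
theorem E5375 : n1535 = n1081 := ((D1535).symm.trans (sb E4229 (iv D1504)))
theorem E5378 : n4306 = n1078 := ((((iv F771)).symm.trans (sb E4230 D4306))).symm
theorem E5379 : n2833 = n1082 := (((F1099).symm.trans (sb E4231 (iv F2124)))).symm
theorem E5383 : n7192 = n4565 := (E4577).trans E4762
theorem E5384 : n9161 = n4565 := (((E5383).symm.trans (((iv F5696)).symm.trans (sb E4235 D9161)))).symm
theorem E5385 : n5600 = n5581 := (((F4361).symm.trans (sb E4235 (iv D7210)))).symm
theorem E5386 : n8951 = n4266 := ((((iv D5584)).symm.trans (sb E4235 (iv F7201)))).symm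
theorem E5387 : n9162 = n7193 := (((D7193).symm.trans (sb E4235 D9162))).symm
theorem E5389 : n5442 = n3216 := (((F3274).symm.trans (sb E4236 (iv F4233)))).symm
theorem E5390 : n3229 = n3215 := ((((iv D4264)).symm.trans (sb E4236 (iv D4281)))).symm
theorem E5391 : n7166 = n4919 := (((F4962).symm.trans (sb E4237 F5713))).symm
theorem E5392 : n7188 = n6345 := ((D7188).symm.trans (iv (sb E4237 (tr (iv D7211) E5385))))
theorem E5393 : n6387 = n3204 := ((((iv F2423)).symm.trans (sb E4238 F6430))).symm
theorem E5395 : n5945 = n2810 := ((((iv F2101)).symm.trans (sb E4240 D5945))).symm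
theorem E5396 : n3497 = n2809 := ((((iv F2100)).symm.trans (sb E4240 F3502))).symm
theorem E5397 : n3779 = n2055 := ((((iv D2780)).symm.trans (sb E4240 F3503))).symm
theorem F10001 : act 0 n2058 = n2104 := (sb E4241 F2125)
theorem F10002 : act 0 n1536 = n1505 := (sb E4244 F1517)
theorem E5399 : n2783 = n1106 := (((F1121).symm.trans (sb E4244 (iv F2077)))).symm
theorem E5408 : n5525 = n1116 := (E4255).trans E5295
theorem E5410 : n7118 = n1119 := ((((iv F802)).symm.trans (sb E5408 D7118))).symm
theorem E5413 : n7987 = n1654 := ((((iv D2258)).symm.trans (sb E4256 (iv F6368)))).symm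
theorem E5422 : n2906 = n2268 := (((F1743).symm.trans (sb E4263 F2956))).symm
theorem E5423 : n5072 = n3135 := (((D3135).symm.trans (sb E4263 D5072))).symm
theorem E5424 : n2904 = n1715 := ((((iv D2337)).symm.trans (sb E4263 (iv D3870)))).symm
theorem E5425 : n5073 = n3136 := (((D3136).symm.trans (sb E4263 D5073))).symm
theorem E5426 : n3137 = n2338 := ((D3137).symm.trans (sb E4264 (tr F9376 E4264)))
theorem E5428 : n3473 = n2416 := ((((iv F1810)).symm.trans (sb E4264 (iv D4584)))).symm
theorem E5434 : n5054 = n1478 := (((F1487).symm.trans (sb E4268 (iv F3918)))).symm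
theorem E5436 : n3661 = n1933 := ((((iv D2627)).symm.trans (sb E4269 (iv F2790)))).symm
theorem E5440 : n2636 = n2539 := ((D2636).symm.trans (sb E4271 (iv D3401)))
theorem E5441 : n4485 = n2149 := ((((iv F1598)).symm.trans (sb E4272 D4485))).symm
theorem E5452 : n5911 = n3614 := (((F3661).symm.trans (sb E4282 (iv D7594)))).symm
theorem E5455 : n6189 = n3860 := ((D6189).symm.trans (sb E4283 F3921))
theorem E5457 : n4533 = n1851 := (E4285).trans E4904
theorem E5458 : n3614 = n1347 := (((F1359).symm.trans (sb E5457 (tr D5911 E5452)))).symm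
theorem E5459 : n3615 = n2519 := ((((iv F9975)).symm.trans (sb E4286 (iv F2757)))).symm
theorem E5460 : n3619 = n3436 := (((D3436).symm.trans (sb E4286 D3619))).symm
theorem E5461 : n1998 = n1346 := (((iv F1469)).symm.trans (sb E4287 (tr (iv F4624) E4737)))
theorem E5463 : n6032 = n519 := ((((iv D749)).symm.trans (sb E4289 (iv F4716)))).symm
theorem E5464 : n3672 = n1058 := (((D1058).symm.trans (sb E4289 (iv D4827)))).symm
theorem E5466 : n6196 = n986 := ((((iv D1377)).symm.trans (sb E4292 D6196))).symm
theorem E5468 : n6198 = n3437 := (((D3437).symm.trans (sb E4293 D6198))).symm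
theorem E5469 : n4439 = n1427 := (((D1427).symm.trans (sb E4294 F4528))).symm
theorem E5480 : n2546 = n1560 := ((D2546).symm.trans (sb E4960 (tr (iv F3956) E5347)))
theorem E5481 : n2926 = n1362 := ((((iv D1871)).symm.trans (sb E4960 F2977))).symm
theorem F10010 : act 0 n2724 = n2768 := (sb E4311 F2818)
theorem E5486 : n4847 = n3635 := (((D3635).symm.trans (sb E4311 D4847))).symm
theorem E5487 : n2767 = n2008 := ((((iv D2724)).symm.trans (sb E4311 (iv D3692)))).symm
theorem F10011 : act 1 n3693 = n3271 := (sb E4312 (iv D4327))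
theorem E5488 : n4848 = n4830 := ((D4848).symm.trans (sb E4312 F9787))
theorem E5489 : n2034 = n2020 := (((F1510).symm.trans (sb E4313 F2036))).symm
theorem E5490 : n2191 = n1561 := (((D1561).symm.trans (sb E4956 (iv D2944)))).symm
theorem E5491 : n7965 = n2446 := ((((iv F1833)).symm.trans (sb E4317 D7965))).symm
theorem E5493 : n7967 = n3438 := ((((iv F9749)).symm.trans (sb E4318 D7967))).symm
theorem E5495 : n8445 = n2703 := (((D2703).symm.trans (sb E4319 D8445))).symm
theorem E5504 : n3576 = n1332 := (((F967).symm.trans (sb E4326 (iv F2727)))).symm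
theorem E5505 : n5785 = n4949 := ((D5785).symm.trans (sb E4327 (iv F3831)))
theorem E5508 : n5428 = n358 := ((((iv D524)).symm.trans (sb E5228 D5428))).symm
theorem E5511 : n2210 = n358 := (((iv D2972)).symm.trans (sb E4335 (tr (iv F4219) E5508)))
theorem E5512 : n8547 = n3766 := ((((iv D4946)).symm.trans (sb E4339 D8547))).symm
theorem E5513 : n5230 = n3767 := ((((iv F9428)).symm.trans (sb E4340 (iv F4054)))).symm
theorem E5518 : n2999 = n2305 := ((((iv F1717)).symm.trans (sb E4344 (iv F2255)))).symm
theorem E5519 : n2303 = n1635 := (((iv F1716)).symm.trans (sb E4344 (iv D2233)))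
theorem E5524 : n4113 = n1260 := (((F1200).symm.trans (sb E4348 (iv F3152)))).symm
theorem E5529 : n4817 = n3355 := ((((iv F2549)).symm.trans (sb E4351 (tr F5388 E4770)))).symm
theorem E5530 : n6717 = n4216 := (((D4216).symm.trans (sb E4351 (iv F9653)))).symm
theorem E5533 : n2990 = n758 := (((F764).symm.trans (sb E4353 (iv D3977)))).symm
theorem E5535 : n2993 = n755 := ((((iv F534)).symm.trans (sb E4354 D2993))).symm
theorem E5538 : n6975 = n830 := ((((iv D1167)).symm.trans (sb E4356 (iv D8887)))).symm
theorem E5542 : n7784 = n3177 := ((((iv D4215)).symm.trans (sb E4359 D7784))).symm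
theorem E5543 : n7785 = n3976 := ((((iv F3237)).symm.trans (sb E4359 D7785))).symm
theorem E5545 : n4634 = n4376 := (((D4376).symm.trans (sb E4361 (iv D6040)))).symm
theorem E5546 : n7361 = n3355 := (E5320).trans E5322
theorem E5547 : n5534 = n1825 := (((F1758).symm.trans (sb E4364 (iv F9415)))).symm
theorem E5560 : n6103 = n6019 := ((((iv F4705)).symm.trans (sb E4376 (iv F4771)))).symm
theorem E5561 : n7809 = n6020 := (((D6020).symm.trans (sb E4376 D7809))).symm
theorem E5562 : n4672 = n3494 := ((((iv D4613)).symm.trans (sb E4376 (iv D6085)))).symm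
theorem E5563 : n4668 = n1924 := ((((iv D2615)).symm.trans (sb E4377 (iv D6081)))).symm
theorem E5566 : n8185 = n4626 := ((((iv F3557)).symm.trans (sb E4379 F7961))).symm
theorem E5567 : n6405 = n2626 := ((((iv F1968)).symm.trans (sb E4380 (iv F5017)))).symm
theorem E5569 : n5484 = n1275 := (E4381).trans E4385
theorem E5571 : n5491 = n1760 := (((D1760).symm.trans (sb E5569 (iv F4280)))).symm
theorem E5572 : n2586 = n1760 := (((iv F1939)).symm.trans (sb E4382 (tr (iv D7083) E5571)))
theorem E5577 : n6059 = n4732 := (((D4732).symm.trans (sb E4386 (iv D7778)))).symm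
theorem E5578 : n4657 = n286 := (E4387).trans E5157
theorem E5579 : n3531 = n425 := ((((iv F293)).symm.trans (sb E5578 (iv D4657)))).symm
theorem E5589 : n2302 = n840 := ((((iv D1180)).symm.trans (sb E4399 (iv D3089)))).symm
theorem E5590 : n5229 = n3769 := ((D5229).symm.trans (sb E4400 F3829))
theorem E5603 : n8546 = n1082 := (E4409).trans E5379
theorem E5604 : n3766 = n1085 := ((((iv F777)).symm.trans (sb E5603 (tr (iv F6858) E5512)))).symm
theorem E5620 : n8533 = n1622 := ((((iv D2216)).symm.trans (sb E4417 (iv F6846)))).symm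
theorem E5637 : n3120 = n1726 := (E4427).trans E5248
theorem E5638 : n2324 = n1248 := ((((iv D1726)).symm.trans (sb E5637 (iv D3120)))).symm
theorem E5639 : n6004 = n1232 := ((((iv D1707)).symm.trans (sb E4428 D6004))).symm
theorem E5642 : n4144 = n1919 := ((((iv F1409)).symm.trans (sb E4430 (iv D5422)))).symm
theorem E5643 : n7003 = n1002 := ((((iv D1397)).symm.trans (sb E4430 D7003))).symm
theorem E5655 : n4294 = n3744 := ((D4294).symm.trans (sb E4438 (iv D4916)))
theorem E5656 : n5579 = n1768 := ((((iv D2411)).symm.trans (sb E4440 D5579))).symm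
theorem E5662 : n9436 = n887 := (E4444).trans E5189
theorem E5664 : n7919 = n894 := ((((iv F641)).symm.trans (sb E5662 F7621))).symm
theorem E5669 : n8051 = n4565 := (E4761).trans E4762
theorem E5670 : n10146 = n4617 := ((((iv F3548)).symm.trans (sb E5669 D10146))).symm
theorem E5671 : n7193 = n3498 := ((((iv D4617)).symm.trans (iv (sb E4448 (tr (iv F8231) E5670))))).symm
theorem E5672 : n8128 = n3498 := (E4448).trans E5671
theorem E5673 : n6345 = n2618 := ((((iv D3498)).symm.trans (sb E5672 (iv D8128)))).symm
theorem E5674 : n10233 = n3489 := (((F2657).symm.trans (sb E5672 D10233))).symm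
theorem F10026 : act 0 n11024 = n9063 := (sb E4452 F9327)
theorem E5678 : n11024 = n8800 := (((iv F10026)).symm.trans (sb E4455 F9053))
theorem E5681 : n9505 = n3610 := (((F3656).symm.trans (sb E4458 F9941))).symm
theorem E5683 : n5548 = n1105 := (((D1105).symm.trans (sb E4723 D5548))).symm
theorem E5684 : n5555 = n773 := ((((iv D1093)).symm.trans (sb E4461 D5555))).symm
theorem E5685 : n1502 = n1105 := (((iv F1097)).symm.trans (sb E4461 (tr (iv F4335) E5683)))
theorem E5693 : n6506 = n3099 := ((((iv F9481)).symm.trans (sb E4468 F6479))).symm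
theorem E5695 : n6330 = n5546 := (((D5546).symm.trans (sb E4470 (iv F4948)))).symm
theorem E5707 : n1510 = n1099 := ((((iv F790)).symm.trans (sb E4476 F1519))).symm
theorem E5708 : n1506 = n1101 := (((D1101).symm.trans (sb E4476 (iv D2060)))).symm
theorem E5709 : n2788 = n1102 := (((D1102).symm.trans (sb E4476 D2788))).symm
theorem E5718 : n4745 = n866 := ((((iv F621)).symm.trans (sb E4484 F4826))).symm
theorem E5719 : n4744 = n416 := ((((iv D606)).symm.trans (sb E4484 (iv D6177)))).symm
theorem E5720 : n7920 = n183 := ((((iv D280)).symm.trans (sb E4485 D7920))).symm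
theorem E5727 : n3752 = n2508 := (E4489).trans E4491
theorem E5728 : n3360 = n2813 := ((D3360).symm.trans (sb E5727 (iv D3752)))
theorem E5729 : n3548 = n2813 := (((iv F2702)).symm.trans (sb E4490 F2860))
theorem E5730 : n3552 = n2811 := ((D3552).symm.trans (sb E4490 (iv D3750)))
theorem E5737 : n1379 = n196 := ((((iv D298)).symm.trans (sb E4498 D1379))).symm
theorem E5738 : n1380 = n443 := (((D443).symm.trans (sb E4498 D1380))).symm
theorem E5745 : n5835 = n1033 := (((D1033).symm.trans (sb E4505 D5835))).symm
theorem E5763 : n6604 = n1112 := (((F1126).symm.trans (sb E4525 (iv F5188)))).symm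
theorem E5764 : n5090 = n1111 := ((((iv D1543)).symm.trans (sb E4525 (iv D6599)))).symm
theorem E5769 : n1370 = n934 := (((iv F993)).symm.trans (sb E4530 F882))
theorem E5771 : n4415 = n1037 := ((F9974).symm.trans (sb E4532 (iv F880)))
theorem E5772 : n866 = n692 := (((F705).symm.trans (sb E4532 (iv D1216)))).symm
theorem E5780 : n5042 = n1807 := ((((iv F1331)).symm.trans (sb E4541 (iv F3907)))).symm
theorem E5796 : n2140 = n1610 := ((D2140).symm.trans (sb E4556 (iv D2202)))
theorem E5798 : n8783 = n2963 := (((D2963).symm.trans (sb E4557 (iv D11004)))).symm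
theorem E5799 : n3075 = n2457 := (((F9540).symm.trans (sb E4558 (iv D4086)))).symm
theorem E5800 : n4273 = n3581 := (((D3581).symm.trans (sb E4558 (iv F3281)))).symm
theorem E5805 : n2495 = n1442 := (((F1057).symm.trans (sb E4562 (iv D3345)))).symm
theorem E5806 : n5850 = n1441 := ((((iv F1051)).symm.trans (sb E4565 D5850))).symm
theorem E5807 : n4517 = n1441 := ((((iv F1051)).symm.trans (sb E4570 D4517))).symm
theorem E5809 : n7517 = n2611 := ((((iv F1956)).symm.trans (sb E4572 (iv F5971)))).symm
theorem E5810 : n7518 = n2610 := ((((iv F1955)).symm.trans (sb E4572 D7518))).symm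
theorem E5813 : n3610 = n2491 := (((E5102).symm.trans ((F2321).symm.trans (sb E4575 (tr (iv F7681) E5681))))).symm
theorem E5815 : n10123 = n3498 := (E4576).trans E5671
theorem E5816 : n8031 = n4617 := (((D4617).symm.trans (sb E5815 F8203))).symm
theorem E5818 : n5584 = n3458 := ((((iv D4565)).symm.trans (sb E5383 F5696))).symm
theorem E5820 : n5953 = n5583 := (((iv F4656)).symm.trans (sb E5383 (iv D7192)))
theorem E5821 : n8801 = n2689 := ((((iv D3590)).symm.trans (sb E4579 (iv F7077)))).symm
theorem E5822 : n5348 = n4721 := ((((iv F3633)).symm.trans (sb E4579 (iv D6905)))).symm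
theorem E5823 : n8802 = n4604 := ((((iv F3536)).symm.trans (sb E4579 D8802))).symm
theorem E5824 : n4464 = n3999 := ((((iv F3058)).symm.trans (sb E4582 (iv F3435)))).symm
theorem E5825 : n9308 = n2462 := (E4865).trans E4888
theorem E5826 : n3998 = n2525 := ((F3056).symm.trans (sb E4582 (iv D3384)))
theorem E5828 : n3635 = n1119 := ((((iv F802)).symm.trans (sb E5295 F2775))).symm
theorem E5829 : n4829 = n3126 := ((((iv F2355)).symm.trans (sb E4589 F4908))).symm
theorem E5830 : n4828 = n2325 := ((((iv D3121)).symm.trans (sb E4589 (iv D6282)))).symm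
theorem E5831 : n10875 = n4125 := (((F3187).symm.trans (sb E4590 (iv F8910)))).symm
theorem E5832 : n4033 = n1119 := ((F9916).symm.trans (sb E4590 (tr F7188 E5410)))
theorem E5833 : n8534 = n252 := (E4591).trans E5290
theorem E5834 : n6690 = n163 := ((((iv D252)).symm.trans (sb E5833 (iv D8534)))).symm
theorem E5843 : n6049 = n1586 := (E4598).trans E4629
theorem E5844 : n4646 = n1600 := ((((iv F1166)).symm.trans (sb E5843 F4731))).symm
theorem E5847 : n4495 = n1654 := (((iv F3455)).symm.trans (sb E4600 (tr F9613 E5413)))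
theorem E5850 : n2040 = n1544 := ((F9953).symm.trans (sb E4604 (tr F7931 E5005)))
theorem E5856 : n2745 = n1492 := ((((iv D2038)).symm.trans (sb E4612 (iv F2051)))).symm
theorem E5857 : n2760 = n2015 := ((D2760).symm.trans (sb E4612 (iv D2731)))
theorem E5859 : n6232 = n2162 := (((F9663).symm.trans (sb E4613 D6232))).symm
theorem E5872 : n1654 = n569 := ((((iv F400)).symm.trans (sb E4625 (tr F4588 E5847)))).symm
theorem E5876 : n7533 = n2157 := ((((iv F1605)).symm.trans (sb E4631 D7533))).symm
theorem E5877 : n2575 = n918 := (((F661).symm.trans (sb E4634 (iv F1931)))).symm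
theorem E5878 : n641 = n480 := ((D641).symm.trans (sb E4635 (iv D695)))
theorem E5883 : n2437 = n84 := ((((iv D137)).symm.trans (sb E4639 D2437))).symm
theorem F10040 : act 1 n2445 = n2543 := (sb E4640 F2586)
theorem E5885 : n2281 = n1360 := ((((iv D1869)).symm.trans (sb E4641 F9892))).symm
theorem E5888 : n702 = n438 := ((((iv F304)).symm.trans (sb E4645 F671))).symm
theorem F10041 : act 2 n485 = n470 := (sb E4646 F445)
theorem F10042 : act 1 n681 = n658 := (sb E4647 F672)
theorem E5891 : n1311 = n970 := (((D970).symm.trans (sb E4647 D1311))).symm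
theorem E5894 : n417 = n324 := (((D324).symm.trans (sb E4652 (iv D607)))).symm
theorem E5900 : n2920 = n2126 := (((D2126).symm.trans (sb E4656 D2920))).symm
theorem F10043 : act 1 n2866 = n2177 := (sb E4658 (iv D2932))
theorem E5903 : n3905 = n3823 := (((D3823).symm.trans (sb E4658 D3905))).symm
theorem E5905 : n6511 = n1957 := ((((iv D2655)).symm.trans (sb E4660 (iv F5106)))).symm
theorem E5907 : n6391 = n1956 := ((((iv F1436)).symm.trans (sb E4661 (iv F5006)))).symm
theorem E5908 : n3906 = n2082 := (((F1549).symm.trans (sb E4662 D3906))).symm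
theorem E5909 : n2662 = n1524 := ((((iv D2087)).symm.trans (sb E4662 F2207))).symm
theorem E5910 : n2660 = n1523 := (((iv F1992)).symm.trans (sb E4663 (iv D2086)))
theorem F10044 : act 3 n1962 = n2128 := (sb E4663 (iv F1581))
theorem F10045 : act 2 n1295 = n1295 := (sb E4664 (iv D1790))
theorem E5912 : n4315 = n2096 := ((((iv F1559)).symm.trans (sb E4665 D4315))).symm
theorem E5914 : n4317 = n2095 := ((((iv F1558)).symm.trans (sb E4667 D4317))).symm
theorem E5919 : n1767 = n328 := (((F337).symm.trans (sb E4671 (iv F1299)))).symm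
theorem E5924 : n6523 = n569 := (E4674).trans E5872
theorem E5926 : n8332 = n389 := ((((iv D569)).symm.trans (sb E5924 D8332))).symm
theorem E5930 : n1192 = n389 := (((iv D1653)).symm.trans (sb E4677 (tr (iv F6661) E5926)))
theorem E5931 : n8333 = n1247 := (((F1213).symm.trans (sb E4677 D8333))).symm
theorem E5932 : n2610 = n2358 := ((((iv F1761)).symm.trans (sb E4678 (tr (iv D9518) E5810)))).symm
theorem E5935 : n1743 = n813 := (((iv D2377)).symm.trans (sb E4681 (tr (iv D3031) E5121)))
theorem E5939 : n4617 = n2358 := ((((iv F1761)).symm.trans (sb E4686 (iv D6024)))).symm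
theorem E5942 : n3747 = n2617 := ((((iv F1961)).symm.trans (sb E4688 F3762))).symm
theorem E5943 : n4282 = n1904 := ((((iv D2589)).symm.trans (sb E4688 F9926))).symm
theorem E5944 : n2758 = n1384 := ((((iv D1901)).symm.trans (sb E4689 (iv D3678)))).symm
theorem E5945 : n1489 = n1383 := ((((iv D1900)).symm.trans (sb E4690 (iv D2037)))).symm
theorem E5961 : n8186 = n1421 := (((D1421).symm.trans (sb E4704 F8394))).symm
theorem E5962 : n4626 = n1030 := ((((iv F740)).symm.trans (sb E4704 (tr (iv D10299) E5566)))).symm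
theorem E5963 : n8185 = n1030 := (E5566).trans E5962
theorem E5966 : n8187 = n2645 := (((D2645).symm.trans (sb E4711 D8187))).symm
theorem E5968 : n2812 = n2658 := (((D2658).symm.trans (sb E4712 (iv D3751)))).symm
theorem E5970 : n3746 = n1955 := (((D1955).symm.trans (sb E4714 (iv D4918)))).symm
theorem E5973 : n5453 = n2146 := (((D2146).symm.trans (sb E4716 F4412))).symm
theorem E5975 : n4320 = n1788 := (((F1745).symm.trans (sb E4717 D4320))).symm
theorem E5976 : n7144 = n1892 := ((((iv F1391)).symm.trans (sb E4719 (iv F5651)))).symm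
theorem E5992 : n7595 = n963 := ((((iv D1346)).symm.trans (sb E4737 (iv F6031)))).symm
theorem E6013 : n2362 = n1930 := ((((iv F1417)).symm.trans (sb E4755 (iv D3166)))).symm
theorem E6016 : n9008 = n1933 := (((D1933).symm.trans (sb E4757 D9008))).symm
theorem E6017 : n9009 = n1395 := (((F1023).symm.trans (sb E4757 D9009))).symm
theorem E6022 : n8031 = n2358 := (E5816).trans E5939
theorem E6028 : n6843 = n4818 := ((D6843).symm.trans (sb E4768 F4877))
theorem E6029 : n4792 = n4041 := ((((iv D5297)).symm.trans (sb E4768 (iv D6237)))).symm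
theorem E6030 : n4819 = n2963 := (((iv F3712)).symm.trans (sb E4769 (tr (iv F9842) E5798)))
theorem E6032 : n5296 = n3355 := (E4770).trans E5529
theorem E6033 : n4041 = n2504 := ((((iv D3355)).symm.trans (sb E6032 (iv D5296)))).symm
theorem E6036 : n4949 = n1512 := (((D1512).symm.trans (sb E4774 (iv F3832)))).symm
theorem E6037 : n6408 = n527 := (((F538).symm.trans (sb E4775 (iv D8199)))).symm
theorem E6042 : n4460 = n1045 := ((((iv D1459)).symm.trans (sb E4778 (iv D5824)))).symm
theorem E6045 : n9083 = n1307 := ((((iv F950)).symm.trans (sb E4781 (iv F7315)))).symm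
theorem E6046 : n5647 = n1305 := ((((iv F948)).symm.trans (sb E4781 F5765))).symm
theorem E6047 : n5646 = n1308 := (((D1308).symm.trans (sb E4781 (iv D7268)))).symm
theorem E6048 : n5648 = n1304 := (((D1304).symm.trans (sb E4782 F5740))).symm
theorem E6049 : n5626 = n1306 := (((D1306).symm.trans (sb E4782 (iv D7239)))).symm
theorem E6053 : n1909 = n125 := (((F121).symm.trans (sb E4786 F1837))).symm
theorem E6055 : n125 = n124 := (((D124).symm.trans (sb E4787 (tr F1928 E6053)))).symm
theorem E6057 : n5593 = n13 := (((D13).symm.trans (sb E4788 F5662))).symm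
theorem E6059 : n8651 = n13 := (((iv F6943)).symm.trans (sb E4789 (tr (iv D7202) E6057)))
theorem E6061 : n7234 = n1166 := ((((iv F840)).symm.trans (iv (sb E4791 (tr F7152 E5538))))).symm
theorem E6062 : n8886 = n1166 := (E4791).trans E6061
theorem E6064 : n6974 = n829 := ((((iv D1166)).symm.trans (sb E6062 (iv D8886)))).symm
theorem E6068 : n3109 = n267 := ((((iv F183)).symm.trans (sb E4793 F3061))).symm
theorem E6072 : n413 = n84 := ((D413).symm.trans (sb E4795 (tr (iv D3265) E5883)))
theorem E6078 : n1644 = n601 := (((D601).symm.trans (sb E4799 (iv D2244)))).symm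
theorem E6088 : n602 = n321 := ((((iv F220)).symm.trans (sb E4807 F424))).symm
theorem E6090 : n1306 = n1104 := (((iv F949)).symm.trans (sb E4808 F994))
theorem F10058 : act 2 n933 = n982 := (sb E4808 (iv D1371))
theorem E6092 : n4745 = n692 := (E5718).trans E5772
theorem E6110 : n9244 = n321 := (E4824).trans E6088
theorem E6111 : n862 = n473 := ((((iv F332)).symm.trans (sb E6110 (tr (iv D9244) E4843)))).symm
theorem E6118 : n3845 = n3581 := (((D3581).symm.trans (sb E4834 D3845))).symm
theorem E6119 : n6892 = n3846 := (((D3846).symm.trans (sb E4835 D6892))).symm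
theorem E6121 : n1542 = n1473 := (((iv D2112)).symm.trans (sb E4836 (tr (iv D5203) E4949)))
theorem F10061 : act 0 n1566 = n1979 := (sb E4838 F2006)
theorem F10062 : act 0 n1443 = n1129 := (sb E4839 (iv D1565))
theorem E6123 : n3041 = n818 := (((D818).symm.trans (sb E4841 (iv F2290)))).symm
theorem E6125 : n7285 = n473 := (E4843).trans E6111
theorem E6127 : n9245 = n320 := ((((iv D473)).symm.trans (sb E6125 D9245))).symm
theorem E6128 : n601 = n320 := (((iv D861)).symm.trans (sb E4844 (tr (iv F7459) E6127)))
theorem F10063 : act 1 n1872 = n1559 := (sb E4846 (iv D2134))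
theorem F10064 : act 3 n1871 = n1559 := (sb E4848 (iv D2135))
theorem E6132 : n8419 = n1157 := ((((iv D1600)).symm.trans (sb E4850 (iv F6739)))).symm
theorem E6134 : n3061 = n1585 := (((D1585).symm.trans (sb E4851 (tr (iv F5783) E4854)))).symm
theorem E6135 : n7288 = n273 := (E4853).trans E5147
theorem E6137 : n9249 = n293 := ((((iv F200)).symm.trans (sb E6135 D9249))).symm
theorem E6138 : n7289 = n1585 := (E4854).trans E6134
theorem E6140 : n1990 = n293 := (((iv F9864)).symm.trans (sb E6138 (tr (iv F7461) E6137)))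
theorem E6149 : n5819 = n2310 := ((((iv D3100)).symm.trans (sb E4859 (iv D7487)))).symm
theorem F10066 : act 1 n3105 = n3379 := (sb E4862 F3429)
theorem E6153 : n3341 = n3081 := ((((iv F9758)).symm.trans (sb E5825 (iv F9962)))).symm
theorem E6154 : n2291 = n1807 := ((((iv F1331)).symm.trans (sb E4867 F2315))).symm
theorem E6157 : n7128 = n3072 := ((((iv D4082)).symm.trans (sb E4869 F9436))).symm
theorem E6162 : n5043 = n3293 := (((D3293).symm.trans (sb E4873 D5043))).symm
theorem E6172 : n9522 = n2491 := (E4881).trans E4893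
theorem E6173 : n7524 = n1833 := ((((iv D2491)).symm.trans (sb E6172 F7692))).symm
theorem E6175 : n4642 = n2292 := (((D2292).symm.trans (sb E4883 F4508))).symm
theorem E6177 : n10513 = n1220 := ((((iv F885)).symm.trans (sb E4884 (iv F8578)))).symm
theorem E6180 : n2525 = n2295 := (((D2295).symm.trans (sb E4885 (tr (iv D5241) E5826)))).symm
theorem E6183 : n5242 = n4362 := (((F9898).symm.trans (sb E4887 (iv D6773)))).symm
theorem E6184 : n8643 = n5898 := (((D5898).symm.trans (sb E4887 D8643))).symm
theorem F10069 : act 0 n2462 = n1886 := (sb E4888 F1920)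
theorem F10070 : act 1 n1442 = n1886 := (sb E4889 F1918)
theorem E6187 : n3343 = n3078 := ((D3343).symm.trans (sb E5102 (iv F2318)))
theorem F10072 : act 1 n1373 = n1447 := (sb E4891 F1238)
theorem E6188 : n1215 = n983 := ((((iv D1373)).symm.trans (sb E4891 (iv D1684)))).symm
theorem E6189 : n3427 = n1833 := ((((iv D2491)).symm.trans (sb E4893 D3427))).symm
theorem F10073 : act 2 n2491 = n1886 := (sb E4893 (iv D2562))
theorem E6190 : n3382 = n3078 := (((E6187).symm.trans ((D3343).symm.trans (sb E4893 (iv F2572))))).symm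
theorem E6193 : n9835 = n884 := (((D884).symm.trans (sb E4895 D9835))).symm
theorem E6196 : n4732 = n3169 := ((D4732).symm.trans (sb E4897 (iv D4205)))
theorem E6199 : n4729 = n3181 := (((iv F3639)).symm.trans (sb E4899 F3231))
theorem E6205 : n5805 = n2045 := ((((iv F9867)).symm.trans (sb E4902 (iv F4535)))).symm
theorem E6206 : n9457 = n3693 := ((((iv F10011)).symm.trans (sb E4903 (iv F7640)))).symm
theorem E6207 : n5641 = n654 := (E4906).trans E4917
theorem E6209 : n5911 = n1347 := (E5452).trans E5458
theorem E6210 : n1347 = n454 := (((F457).symm.trans (sb E6207 (tr F9626 E6209)))).symm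
theorem E6212 : n6060 = n1200 := (((F900).symm.trans (sb E4910 (iv F9825)))).symm
theorem E6220 : n9519 = n690 := ((((iv D982)).symm.trans (sb E4916 F9630))).symm
theorem E6221 : n1534 = n932 := (((D932).symm.trans (sb E4917 (iv F1362)))).symm
theorem E6224 : n10780 = n4153 := ((((iv F3185)).symm.trans (sb E4920 (iv F8825)))).symm
theorem E6225 : n10779 = n4154 := (((D4154).symm.trans (sb E4920 (iv F8824)))).symm
theorem E6226 : n2608 = n889 := (((F904).symm.trans (sb E4922 (iv D3485)))).symm
theorem E6228 : n4895 = n2067 := ((((iv D2794)).symm.trans (sb E4923 F4976))).symm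
theorem E6229 : n6043 = n3514 := ((((iv F2674)).symm.trans (sb E4923 F4977))).symm
theorem E6231 : n9993 = n2705 := ((((iv D3609)).symm.trans (sb E4926 (iv F8081)))).symm
theorem E6232 : n3723 = n2068 := (((D2068).symm.trans (sb E4927 F3750))).symm
theorem E6233 : n2050 = n533 := ((((iv D769)).symm.trans (sb E4928 (iv D2774)))).symm
theorem E6235 : n6354 = n1462 := ((((iv F1068)).symm.trans (sb E4930 F4990))).symm
theorem E6246 : n4968 = n1058 := (((F767).symm.trans (sb E4941 F4981))).symm
theorem E6247 : n8151 = n1049 := (((F768).symm.trans (sb E4941 D8151))).symm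
theorem E6253 : n1006 = n501 := ((D1006).symm.trans (sb E4947 (iv D724)))
theorem E6254 : n3098 = n1544 := (E4948).trans E5850
theorem E6255 : n2309 = n2114 := (((D2114).symm.trans (sb E6254 (iv D3098)))).symm
theorem E6256 : n4112 = n2115 := (((D2115).symm.trans (sb E6254 (iv F3149)))).symm
theorem E6261 : n1622 = n516 := ((((iv D746)).symm.trans (sb E4951 (iv D2218)))).symm
theorem E6266 : n1111 = n1055 := (((iv F799)).symm.trans (sb E4955 F1077))
theorem E6267 : n1700 = n1497 := ((((iv F9931)).symm.trans (sb E4957 (iv D2315)))).symm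
theorem E6268 : n2264 = n1157 := ((((iv D1601)).symm.trans (sb E4957 F1725))).symm
theorem E6269 : n2114 = n1494 := ((((iv F9793)).symm.trans (sb E4957 (tr F1726 E6255)))).symm
theorem E6271 : n2543 = n1588 := (((iv F1904)).symm.trans (sb E4959 F1618))
theorem E6272 : n755 = n369 := (((iv F534)).symm.trans (sb E4961 F376))
theorem E6273 : n367 = n358 := ((((iv D524)).symm.trans (sb E4961 (iv D537)))).symm
theorem F10079 : act 0 n539 = n757 := (sb E4963 F763)
theorem F10080 : act 3 n779 = n757 := (sb E4964 (iv D1069))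
theorem E6277 : n1404 = n725 := (((iv F1016)).symm.trans (sb E4965 F738))
theorem F10081 : act 2 n1007 = n1098 := (sb E4965 (iv F788))
theorem E6279 : n2811 = n877 := ((((iv D1231)).symm.trans (sb E4966 D2811))).symm
theorem E6280 : n2658 = n1238 := ((((iv F896)).symm.trans (sb E4966 (tr D2812 E5968)))).symm
theorem E6289 : n4629 = n2145 := ((((iv D2890)).symm.trans (sb E4971 F4519))).symm
theorem E6290 : n4621 = n1132 := ((((iv D1567)).symm.trans (sb E4972 (iv F3552)))).symm
theorem E6292 : n4622 = n780 := (((F571).symm.trans (sb E4973 D4622))).symm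
theorem E6296 : n1033 = n667 := ((((iv F468)).symm.trans (sb E4976 F1049))).symm
theorem E6305 : n3335 = n733 := (((F743).symm.trans (sb E4983 (iv F2533)))).symm
theorem E6309 : n950 = n730 := (((D730).symm.trans (sb E4986 (iv D1328)))).symm
theorem E6311 : n9392 = n2458 := (((F2499).symm.trans (sb E4988 (iv F7583)))).symm
theorem E6328 : n3836 = n2637 := ((((iv D3523)).symm.trans (sb E5000 F3865))).symm
theorem E6329 : n4644 = n3835 := ((D4644).symm.trans (sb E5001 F3867))
theorem E6330 : n6531 = n4651 := (((D4651).symm.trans (sb E5002 F6609))).symm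
theorem E6332 : n7774 = n6469 := ((((iv F5078)).symm.trans (sb E5003 D7774))).symm
theorem E6336 : n3355 = n1935 := (((D1935).symm.trans (sb E5007 (tr (iv D6270) E5529)))).symm
theorem E6338 : n4817 = n1935 := (E5529).trans E6336
theorem E6339 : n2741 = n1407 := ((((iv F1022)).symm.trans (sb E5010 (iv D3659)))).symm
theorem E6345 : n3660 = n1008 := (((D1008).symm.trans (sb E5015 F3271))).symm
theorem E6352 : n1020 = n487 := (((D487).symm.trans (sb E5020 (iv D1423)))).symm
theorem E6372 : n3573 = n131 := ((((iv D203)).symm.trans (sb E5033 (iv F2724)))).symm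
theorem E6376 : n4598 = n339 := (((D339).symm.trans (sb E5034 D4598))).symm
theorem E6377 : n1396 = n340 := (((D340).symm.trans (sb E5035 (iv D1918)))).symm
theorem E6380 : n8927 = n4722 := ((((iv F3634)).symm.trans (sb E5038 (iv D11166)))).symm
theorem E6382 : n4830 = n4125 := (((F3187).symm.trans (sb E5043 (tr F4890 E5488)))).symm
theorem E6384 : n4847 = n1119 := (E5486).trans E5828
theorem E6389 : n6235 = n818 := (E5050).trans E6123
theorem E6392 : n7996 = n826 := ((((iv F588)).symm.trans (sb E6389 D7996))).symm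
theorem E6393 : n3105 = n826 := (((iv F10066)).symm.trans (sb E5051 (tr F8164 E6392)))
theorem E6395 : n3408 = n1125 := (((D1125).symm.trans (sb E5053 F2780))).symm
theorem E6413 : n7084 = n1384 := (((E5944).symm.trans ((F9925).symm.trans (sb E5070 F7253)))).symm
theorem E6414 : n7082 = n2412 := (((F1807).symm.trans (sb E5070 (iv D9015)))).symm
theorem E6419 : n6148 = n1002 := (((E5643).symm.trans (((iv F5524)).symm.trans (sb E5074 (iv D7888))))).symm
theorem F10089 : act 2 n5423 = n6149 := (sb E5074 F6285)
theorem E6420 : n7648 = n1919 := (((E5642).symm.trans (((iv D5423)).symm.trans (sb E5074 F6286)))).symm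
theorem E6427 : n4693 = n80 := (((D80).symm.trans (sb E5080 F4772))).symm
theorem E6434 : n9148 = n2361 := (((D2361).symm.trans (sb E5088 (iv F8776)))).symm
theorem E6435 : n10734 = n883 := (E5089).trans E5091
theorem E6436 : n2361 = n1240 := ((((iv F898)).symm.trans (sb E6435 (tr F8777 E6434)))).symm
theorem E6441 : n4207 = n1242 := (((D1242).symm.trans (sb E5095 F4293))).symm
theorem E6444 : n7393 = n1036 := (((F1052).symm.trans (sb E5097 (iv D9370)))).symm
theorem E6445 : n4395 = n939 := ((((iv F673)).symm.trans (sb E5099 (iv F3377)))).symm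
theorem E6448 : n2483 = n1812 := (((D1812).symm.trans (sb E5100 F2528))).symm
theorem E6451 : n5742 = n3999 := (((E5824).symm.trans (((iv F9595)).symm.trans (sb E5103 F4495)))).symm
theorem E6457 : n4013 = n2446 := (((iv F3066)).symm.trans (sb E5112 F2489))
theorem E6458 : n2445 = n2249 := ((((iv D3021)).symm.trans (sb E5112 (iv D3276)))).symm
theorem E6459 : n5263 = n3277 := (((F2507).symm.trans (sb E5114 (iv F4082)))).symm
theorem F10090 : act 3 n3303 = n3021 := (sb E5114 (iv D4014))
theorem E6461 : n1247 = n1232 := ((F1213).symm.trans (sb E5115 (tr F5788 E5639)))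
theorem E6466 : n1653 = n568 := ((((iv D813)).symm.trans (sb E5121 (iv D2257)))).symm
theorem E6469 : n2544 = n568 := (E5124).trans E6466
theorem E6471 : n2022 = n722 := ((((iv F511)).symm.trans (sb E6469 F1905))).symm
theorem E6475 : n7195 = n1388 := ((((iv F1276)).symm.trans (sb E5127 F6875))).symm
theorem E6476 : n4268 = n1408 := (E5204).trans E5205
theorem E6477 : n2592 = n1408 := ((D2592).symm.trans (sb E5128 (tr F4363 E6476)))
theorem E6482 : n1186 = n861 := (((iv F854)).symm.trans (sb E5131 F841))
theorem E6487 : n2987 = n1225 := (((D1225).symm.trans (sb E5134 D2987))).symm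
theorem E6490 : n2044 = n1696 := ((((iv F1247)).symm.trans (sb E5138 (tr F4015 E5256)))).symm
theorem E6496 : n4108 = n175 := ((((iv D269)).symm.trans (sb E5142 D4108))).symm
theorem E6499 : n2292 = n404 := (((D404).symm.trans (sb E5145 (iv D3076)))).symm
theorem E6500 : n2280 = n406 := (((D406).symm.trans (sb E5147 (iv D3060)))).symm
theorem E6503 : n6995 = n122 := ((((iv F80)).symm.trans (sb E5149 F9709))).symm
theorem E6505 : n2236 = n416 := (((D416).symm.trans (sb E5150 (iv D3006)))).symm
theorem E6506 : n3995 = n324 := (((E5894).symm.trans ((D417).symm.trans (sb E5150 D3995)))).symm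
theorem E6507 : n2228 = n418 := (((D418).symm.trans (sb E5151 (iv D2995)))).symm
theorem E6510 : n10177 = n76 := (((D76).symm.trans (sb E5153 F8281))).symm
theorem E6519 : n1178 = n869 := ((((iv F623)).symm.trans (sb E5160 F1189))).symm
theorem E6526 : n3602 = n718 := ((((iv D1018)).symm.trans (sb E5163 (iv D4740)))).symm
theorem E6533 : n2226 = n527 := ((F2248).symm.trans (sb E5168 (tr (iv F5021) E6037)))
theorem E6535 : n6066 = n758 := (E5169).trans E5533
theorem E6536 : n3976 = n1070 := (((D1070).symm.trans (sb E6535 (tr (iv F6197) E5543)))).symm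
theorem E6550 : n5954 = n1249 := ((((iv D1727)).symm.trans (sb E5178 (iv F4657)))).symm
theorem E6551 : n3457 = n2356 := (((D2356).symm.trans (sb E5178 (iv D4564)))).symm
theorem E6558 : n5191 = n2039 := (((F1967).symm.trans (sb E5192 D5191))).symm
theorem E6560 : n3220 = n1009 := (((F1020).symm.trans (sb E5193 (iv D4269)))).symm
theorem E6561 : n2020 = n1234 := (((D1234).symm.trans (sb E5194 (tr (iv D2754) E5489)))).symm
theorem E6562 : n1058 = n616 := ((((iv D879)).symm.trans (sb E5194 (tr D3672 E5464)))).symm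
theorem E6563 : n3505 = n1235 := (((D1235).symm.trans (sb E5194 F2668))).symm
theorem E6564 : n2322 = n1932 := ((D2322).symm.trans (sb E5195 F1966))
theorem E6566 : n614 = n519 := (((iv D877)).symm.trans (sb E5196 (tr D6032 E5463)))
theorem E6569 : n4136 = n3475 := ((((iv F2639)).symm.trans (sb E5201 (iv F3173)))).symm
theorem E6571 : n4137 = n1914 := ((((iv D2601)).symm.trans (sb E5201 D4137))).symm
theorem F10095 : act 0 n1406 = n1713 := (sb E5203 (iv D2335))
theorem E6575 : n1933 = n1712 := ((D1933).symm.trans (sb E5205 (iv D2333)))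
theorem F10096 : act 2 n1408 = n1713 := (sb E5205 F1738)
theorem E6577 : n3216 = n3161 := (((iv F2436)).symm.trans (sb E5206 F3219))
theorem E6580 : n4266 = n1728 := (((F1759).symm.trans (sb E5208 (iv F3275)))).symm
theorem E6592 : n7034 = n3136 := (((F3085).symm.trans (sb E5215 (iv D8961)))).symm
theorem E6593 : n11206 = n3043 := ((((iv D4042)).symm.trans (sb E5215 D11206))).symm
theorem E6594 : n11135 = n2504 := (E5216).trans E6033
theorem E6595 : n3043 = n1841 := ((((iv D2504)).symm.trans (sb E6594 (tr (iv F9210) E6593)))).symm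
theorem E6597 : n3475 = n2028 := (((F2053).symm.trans (sb E5217 (tr F4204 E6569)))).symm
theorem E6598 : n4135 = n2027 := ((((iv D2746)).symm.trans (sb E5217 (iv D5411)))).symm
theorem E6600 : n6236 = n1841 := (((E6595).symm.trans (((iv D4042)).symm.trans (sb E5218 (iv D7998))))).symm
theorem E6601 : n5590 = n2338 := (E5220).trans E5426
theorem E6603 : n3233 = n2416 := ((((iv F1810)).symm.trans (sb E6601 (tr (iv D5590) E5224)))).symm
theorem E6604 : n1914 = n1866 := ((((iv D2538)).symm.trans (sb E5221 (tr F4205 E6571)))).symm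
theorem E6607 : n4271 = n2416 := (E5224).trans E6603
theorem F10098 : act 2 n2416 = n3211 := (sb E5223 (iv D4258))
theorem E6609 : n3222 = n3211 := (((F10098).symm.trans (sb E6607 (iv D4271)))).symm
theorem E6627 : n5492 = n2616 := ((((iv D3496)).symm.trans (sb E5243 (iv F4281)))).symm
theorem E6631 : n1920 = n1729 := ((((iv F1273)).symm.trans (sb E5248 (iv D2609)))).symm
theorem E6636 : n3971 = n1696 := (E5256).trans E6490
theorem E6637 : n5208 = n2313 := (((D2313).symm.trans (sb E6636 D5208))).symm
theorem E6638 : n2034 = n1234 := (E5489).trans E6561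
theorem E6639 : n1234 = n1095 := (((D1095).symm.trans (sb E5257 (tr D2034 E6638)))).symm
theorem E6640 : n2008 = n553 := (((F548).symm.trans (sb E5257 (iv F1477)))).symm
theorem E6642 : n2768 = n2313 := ((F10010).symm.trans (sb E5258 (tr F5301 E6637)))
theorem E6658 : n2373 = n1544 := (E5273).trans E5850
theorem E6661 : n1740 = n1561 := ((((iv F1139)).symm.trans (sb E6658 (iv D2373)))).symm
theorem E6662 : n1744 = n1559 := ((((iv F1137)).symm.trans (sb E5274 F1774))).symm
theorem F10102 : act 0 n2144 = n2683 := (sb E5282 F2731)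
theorem E6683 : n3271 = n3101 := (((iv F2486)).symm.trans (sb E5298 F3160))
theorem E6684 : n3100 = n1795 := ((((iv D2443)).symm.trans (sb E5298 (iv D4119)))).symm
theorem E6685 : n5389 = n3272 := (((D3272).symm.trans (sb E5298 D5389))).symm
theorem E6687 : n5898 = n3302 := ((((iv F2506)).symm.trans (sb E5300 F9650))).symm
theorem E6688 : n7405 = n5375 := ((((iv F4171)).symm.trans (sb E5302 F7243))).symm
theorem E6690 : n9000 = n2810 := (E5303).trans E5395
theorem E6691 : n7406 = n2780 := (((F2101).symm.trans (sb E6690 F7242))).symm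
theorem E6693 : n5757 = n2809 := (E5304).trans E5396
theorem E6694 : n4403 = n2617 := (((E5942).symm.trans (((iv F2857)).symm.trans (sb E6693 (iv D5757))))).symm
theorem E6695 : n2616 = n2081 := ((((iv D2809)).symm.trans (sb E6693 (tr F4498 E6627)))).symm
theorem E6708 : n7361 = n1935 := (E5546).trans E6336
theorem E6709 : n9332 = n2629 := (((D2629).symm.trans (sb E6708 D9332))).symm
theorem E6710 : n3177 = n1411 := (((F1422).symm.trans (sb E6708 (tr (iv F6196) E5542)))).symm
theorem E6711 : n6413 = n1935 := (E5322).trans E6336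
theorem E6712 : n4942 = n2629 := (((D2629).symm.trans (sb E6711 (iv D6413)))).symm
theorem E6714 : n6467 = n2630 := (((D2630).symm.trans (sb E6711 F9705))).symm
theorem E6721 : n4430 = n1410 := (((D1410).symm.trans (sb E5326 (iv F9997)))).symm
theorem E6742 : n7741 = n1528 := ((((iv D2092)).symm.trans (sb E5340 (iv F6154)))).symm
theorem E6743 : n7446 = n1088 := (((F1103).symm.trans (sb E5341 (iv F5922)))).symm
theorem E6744 : n4428 = n2067 := (((D2067).symm.trans (sb E5341 F4521))).symm
theorem E6748 : n4708 = n1834 := ((((iv D2493)).symm.trans (sb E5343 (iv D6133)))).symm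
theorem E6756 : n7411 = n1807 := ((((iv D2457)).symm.trans (sb E5350 (iv F5890)))).symm
theorem E6757 : n4407 = n1809 := (((F1838).symm.trans (sb E5350 (iv D5762)))).symm
theorem F10109 : act 0 n3130 = n3502 := (sb E5364 (iv D4620))
theorem E6773 : n4142 = n3483 := (((iv F3178)).symm.trans (sb E5365 (iv D4595)))
theorem E6774 : n6000 = n2329 := ((((iv D3128)).symm.trans (sb E5365 D6000))).symm
theorem E6779 : n2753 = n777 := ((((iv F550)).symm.trans (sb E5369 F2666))).symm
theorem F10111 : act 0 n1081 = n1105 := (sb E5375 (iv D1535))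
theorem E6791 : n5627 = n1501 := (((D1501).symm.trans (sb E5378 (iv F4395)))).symm
theorem E6799 : n11194 = n5583 := (((E5820).symm.trans (((iv F4656)).symm.trans (sb E5384 (iv F9201))))).symm
theorem E6801 : n8951 = n1728 := (E5386).trans E6580
theorem E6802 : n5583 = n1250 := (((F1272).symm.trans (sb E6801 (tr D11194 E6799)))).symm
theorem E6805 : n9162 = n3498 := (E5387).trans E5671
theorem E6806 : n9517 = n3489 := (((F2657).symm.trans (sb E6805 F7687))).symm
theorem E6808 : n5442 = n3161 := (E5389).trans E6577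
theorem E6809 : n4280 = n4197 := (((D4197).symm.trans (sb E6808 (iv F4234)))).symm
theorem E6810 : n4197 = n2401 := ((((iv D3215)).symm.trans (sb E5390 (tr D4280 E6809)))).symm
theorem E6812 : n7171 = n1956 := (((E5907).symm.trans (((iv F5007)).symm.trans (sb E5391 (iv F5679))))).symm
theorem E6813 : n5565 = n1955 := (((E5970).symm.trans (((iv D4919)).symm.trans (sb E5391 (iv D7166))))).symm
theorem E6814 : n7188 = n2618 := (E5392).trans E5673
theorem E6815 : n9137 = n2589 := (((F1962).symm.trans (sb E6814 (iv F7355)))).symm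
theorem E6816 : n9138 = n1926 := ((((iv D2618)).symm.trans (sb E6814 D9138))).symm
theorem E6819 : n4915 = n4253 := (((D4253).symm.trans (sb E5393 (iv D6387)))).symm
theorem E6821 : n5390 = n3748 := (((D3748).symm.trans (sb E5395 F9620))).symm
theorem E6822 : n4616 = n2082 := ((((iv D2810)).symm.trans (sb E5395 F4649))).symm
theorem E6823 : n4962 = n2779 := (((F2102).symm.trans (sb E5395 F4650))).symm
theorem E6824 : n4960 = n1503 := ((((iv D2055)).symm.trans (sb E5397 (iv F3842)))).symm
theorem E6827 : n3710 = n785 := (((F795).symm.trans (sb E5399 (iv F2827)))).symm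
theorem E6828 : n2767 = n553 := (E5487).trans E6640
theorem E6854 : n2960 = n2340 := ((((iv F1746)).symm.trans (sb E5422 (iv F2228)))).symm
theorem E6855 : n2158 = n1662 := ((((iv D2268)).symm.trans (sb E5422 (iv D2906)))).symm
theorem E6856 : n3872 = n3044 := (((D3044).symm.trans (sb E5422 D3872))).symm
theorem E6857 : n4165 = n3135 := ((D4165).symm.trans (sb E5423 (tr F9477 E5423)))
theorem E6860 : n2156 = n1239 := ((((iv D1715)).symm.trans (sb E5424 (iv D2904)))).symm
theorem E6861 : n4631 = n4042 := ((((iv F3085)).symm.trans (sb E5425 (iv F9527)))).symm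
theorem F10115 : act 0 n2338 = n2338 := (sb E5426 (iv D3137))
theorem E6865 : n3211 = n2599 := ((F10098).symm.trans (sb E5428 (iv D3473)))
theorem E6867 : n3661 = n1712 := (E5436).trans E6575
theorem E6873 : n6554 = n722 := (((E6471).symm.trans ((D2022).symm.trans (sb E5434 D6554)))).symm
theorem F10117 : act 1 n1712 = n2743 := (sb E6867 (iv D3661))
theorem E6884 : n3520 = n3380 := ((((iv F2569)).symm.trans (sb E5440 D3520))).symm
theorem E6885 : n5822 = n2893 := ((((iv F2172)).symm.trans (sb E5441 (iv F4552)))).symm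
theorem E6894 : n5911 = n454 := (E6209).trans E6210
theorem E6895 : n963 = n418 := (((F320).symm.trans (sb E6894 (tr D7595 E5992)))).symm
theorem E6900 : n5060 = n183 := ((D5060).symm.trans (sb E5455 (tr (iv F6314) E5720)))
theorem E6906 : n3720 = n2101 := (((F1883).symm.trans (sb E5459 (iv F2834)))).symm
theorem E6907 : n3620 = n2827 := ((((iv F2119)).symm.trans (sb E5459 (iv F2763)))).symm
theorem E6908 : n4453 = n3617 := ((F9879).symm.trans (sb E5460 F2760))
theorem F10122 : act 0 n1346 = n1461 := (sb E5461 F1469)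
theorem E6909 : n1850 = n1460 := ((D1850).symm.trans (sb E5461 (iv D1998)))
theorem E6916 : n7947 = n923 := ((((iv F9746)).symm.trans (sb E5466 D7947))).symm
theorem E6919 : n6195 = n4537 := (((D4537).symm.trans (sb E5468 F4843))).symm
theorem E6921 : n5617 = n1949 := ((((iv F1432)).symm.trans (sb E5469 (iv F4390)))).symm
theorem E6922 : n5798 = n1959 := (((D1959).symm.trans (sb E5469 D5798))).symm
theorem F10123 : act 0 n1560 = n1871 := (sb E5480 (iv D2546))
theorem E6927 : n2136 = n1873 := ((D2136).symm.trans (sb E5480 F1907))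
theorem E6928 : n2176 = n1869 := ((((iv F1376)).symm.trans (sb E5481 F2198))).symm
theorem E6935 : n3693 = n1553 := ((((iv F1132)).symm.trans (sb E6384 F3737))).symm
theorem E6936 : n1696 = n792 := (((D792).symm.trans (sb E6828 (tr (iv D2767) E6490)))).symm
theorem E6938 : n4848 = n4125 := (E5488).trans E6382
theorem E6939 : n6255 = n4153 := ((((iv F3186)).symm.trans (sb E6938 (iv F4889)))).symm
theorem E6940 : n3104 = n1553 := (((iv D4125)).symm.trans (sb E6938 (tr (iv D4848) E6935)))
theorem E6941 : n2034 = n1095 := (E6638).trans E6639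
theorem E6942 : n2755 = n1523 := (((D1523).symm.trans (sb E6941 D2755))).symm
theorem E6943 : n2137 = n1601 := ((D2137).symm.trans (sb E5490 F1633))
theorem E6944 : n2138 = n1600 := ((D2138).symm.trans (sb E5490 (iv D2191)))
theorem F10124 : act 0 n2446 = n10038 := (sb E5491 D10038)
theorem E6946 : n10040 = n2835 := (((F2611).symm.trans (sb E5493 D10040))).symm
theorem E6949 : n9359 = n3607 := (((D3607).symm.trans (sb E5495 (iv F7558)))).symm
theorem E6954 : n2677 = n952 := ((((iv D1332)).symm.trans (sb E5504 (iv D3576)))).symm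
theorem E6955 : n5785 = n1512 := (E5505).trans E6036
theorem E6956 : n7445 = n1463 := (((F1104).symm.trans (sb E6955 D7445))).symm
theorem E6957 : n3769 = n2069 := (((D2069).symm.trans (sb E6955 (tr F4520 E5590)))).symm
theorem E6959 : n8533 = n516 := (E5620).trans E6261
theorem E6960 : n2972 = n522 := (((D522).symm.trans (sb E5511 D2972))).symm
theorem E6962 : n8547 = n1085 := (E5512).trans E5604
theorem E6963 : n6763 = n1509 := (((D1509).symm.trans (sb E6962 F6859))).symm
theorem E6966 : n2825 = n1509 := (((iv D3767)).symm.trans (sb E5513 (tr D6763 E6963)))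
theorem E6972 : n3986 = n3092 := ((((iv F2331)).symm.trans (sb E5518 (iv F3045)))).symm
theorem E6973 : n2230 = n1690 := ((((iv D2305)).symm.trans (sb E5518 (iv D2999)))).symm
theorem F10127 : act 3 n1635 = n1803 := (sb E5519 F1716)
theorem E6979 : n4037 = n1739 := ((((iv F1282)).symm.trans (sb E5524 F3151))).symm
theorem E6981 : n3096 = n1741 := (((D1741).symm.trans (sb E5524 (iv D4113)))).symm
theorem E6987 : n4792 = n2504 := (E6029).trans E6033
theorem E6988 : n2629 = n2504 := ((D2629).symm.trans (sb E6338 (tr F3710 E6987)))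
theorem E6990 : n5515 = n2039 := ((D5515).symm.trans (sb E5530 (tr (iv D6717) E6558)))
theorem E6993 : n2993 = n369 := (E5535).trans E6272
theorem E6995 : n522 = n245 := ((((iv D369)).symm.trans (sb E6993 (tr F2250 E6960)))).symm
theorem E6998 : n5401 = n579 := ((((iv D830)).symm.trans (sb E5538 (iv D6975)))).symm
theorem E7003 : n7784 = n1411 := (E5542).trans E6710
theorem E7004 : n9830 = n1937 := (((D1937).symm.trans (sb E7003 D9830))).symm
theorem E7008 : n4376 = n1335 := (((F1025).symm.trans (iv (sb E5545 (tr F3565 E6721))))).symm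
theorem E7009 : n4634 = n1335 := (E5545).trans E7008
theorem E7010 : n3514 = n1837 := (((D1837).symm.trans (sb E7009 (iv D4634)))).symm
theorem E7013 : n3072 = n1324 := ((((iv D1825)).symm.trans (sb E5547 (tr D7128 E6157)))).symm
theorem E7025 : n7833 = n6434 := ((((iv F5051)).symm.trans (sb E5560 D7833))).symm
theorem E7028 : n8471 = n6433 := (((F5048).symm.trans (sb E5561 (iv F6780)))).symm
theorem E7029 : n3543 = n2081 := (((E6695).symm.trans ((F2655).symm.trans (sb E5562 (iv D4672))))).symm
theorem E7030 : n3540 = n1400 := (((F1411).symm.trans (sb E5563 (iv D4668)))).symm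
theorem E7032 : n6397 = n1436 := (((D1436).symm.trans (sb E5963 (iv D8185)))).symm
theorem E7034 : n3508 = n1436 := ((D3508).symm.trans (sb E5567 (tr F5018 E7032)))
theorem E7040 : n2401 = n1902 := ((D2401).symm.trans (sb E5572 (iv D2586)))
theorem E7047 : n6059 = n3169 := (E5577).trans E6196
theorem E7048 : n4651 = n2364 := ((((iv D3169)).symm.trans (sb E7047 (iv D6059)))).symm
theorem E7052 : n2645 = n618 := (((D618).symm.trans (sb E5579 (iv D3531)))).symm
theorem E7062 : n1688 = n585 := ((((iv D840)).symm.trans (sb E5589 (iv D2302)))).symm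
theorem E7063 : n5229 = n2069 := (E5590).trans E6957
theorem E7064 : n3989 = n2064 := (((F1527).symm.trans (sb E7063 (iv D5229)))).symm
theorem E7093 : n745 = n163 := ((D745).symm.trans (sb E6959 (tr (iv D8533) E5834)))
theorem E7115 : n1706 = n888 := ((((iv D1248)).symm.trans (sb E5638 (iv D2324)))).symm
theorem E7116 : n5423 = n340 := (((E6377).symm.trans (((iv D1919)).symm.trans (sb E5642 D5423)))).symm
theorem E7117 : n4722 = n1038 := ((((iv F744)).symm.trans (sb E5643 (tr D8927 E6380)))).symm
theorem E7136 : n5620 = n2808 := (((F2855).symm.trans (sb E5655 D5620))).symm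
theorem E7137 : n7184 = n1283 := (((F1300).symm.trans (sb E5656 D7184))).symm
theorem E7142 : n6175 = n626 := ((((iv D894)).symm.trans (sb E5664 (iv D7919)))).symm
theorem E7145 : n9145 = n3489 := (((F2657).symm.trans (sb E5671 D9145))).symm
theorem E7147 : n8177 = n2611 := ((((iv D3489)).symm.trans (sb E5674 F8321))).symm
theorem F10135 : act 2 n8800 = n8800 := (sb E5678 (iv D11024))
theorem E7154 : n7145 = n1081 := ((((iv F10111)).symm.trans (sb E5683 D7145))).symm
theorem E7156 : n1081 = n1079 := ((((iv F772)).symm.trans (sb E5684 (tr (iv F5652) E7154)))).symm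
theorem E7159 : n2054 = n1536 := (((D1536).symm.trans (sb E5685 D2054))).symm
theorem E7167 : n5015 = n2310 := ((((iv D3099)).symm.trans (sb E5693 F5101))).symm
theorem E7171 : n7143 = n5016 := ((D7143).symm.trans (sb E5695 F4947))
theorem E7181 : n1528 = n1086 := ((D1528).symm.trans (sb E5707 (iv D1510)))
theorem E7182 : n2066 = n1132 := ((((iv F816)).symm.trans (sb E5707 D2066))).symm
theorem E7183 : n1530 = n1083 := ((D1530).symm.trans (sb E5708 (iv D1506)))
theorem E7184 : n2061 = n1531 := (((D1531).symm.trans (sb E5708 D2061))).symm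
theorem E7185 : n3719 = n1532 := (((D1532).symm.trans (sb E5709 D3719))).symm
theorem E7197 : n3605 = n679 := (((F490).symm.trans (sb E6092 (iv D4745)))).symm
theorem E7198 : n679 = n605 := (((D605).symm.trans (sb E5719 (tr (iv D4744) E7197)))).symm
theorem E7209 : n8187 = n618 := (E5966).trans E7052
theorem E7213 : n2512 = n2124 := (((F2105).symm.trans (sb E5728 F2552))).symm
theorem E7214 : n4438 = n2084 := ((((iv D2813)).symm.trans (sb E5728 D4438))).symm
theorem E7216 : n3555 = n2084 := ((((iv D2813)).symm.trans (sb E5729 (iv F2709)))).symm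
theorem E7217 : n3552 = n877 := (E5730).trans E6279
theorem E7218 : n2084 = n616 := (((F627).symm.trans (sb E7217 (tr (iv F2708) E7216)))).symm
theorem E7219 : n3550 = n1231 := (((D1231).symm.trans (sb E7217 F2705))).symm
theorem E7224 : n4438 = n616 := (E7214).trans E7218
theorem E7233 : n998 = n296 := ((((iv F203)).symm.trans (sb E5737 F1003))).symm
theorem E7234 : n1894 = n299 := (((D299).symm.trans (sb E5737 D1894))).symm
theorem E7235 : n1895 = n643 := (((D643).symm.trans (sb E5738 D1895))).symm
theorem E7241 : n5835 = n667 := (E5745).trans E6296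
theorem E7243 : n1441 = n951 := (((D951).symm.trans (sb E7241 (tr (iv F4573) E5806)))).symm
theorem E7264 : n5093 = n788 := ((((iv D1112)).symm.trans (sb E5763 (iv D6604)))).symm
theorem E7265 : n5090 = n1055 := (E5764).trans E6266
theorem E7266 : n788 = n747 := ((((iv D1055)).symm.trans (sb E7265 (tr (iv F3946) E7264)))).symm
theorem F10143 : act 0 n934 = n982 := (sb E5769 F993)
theorem F10144 : act 3 n934 = n981 := (sb E5769 (iv D1370))
theorem F10145 : act 1 n1037 = n981 := (sb E5771 (iv F9974))
theorem E7284 : n6541 = n2458 := (((D2458).symm.trans (sb E5780 D6541))).symm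
theorem E7286 : n5626 = n1104 := (E6049).trans E6090
theorem F10146 : act 0 n1610 = n1563 := (sb E5796 (iv D2140))
theorem E7296 : n2884 = n2203 := (((D2203).symm.trans (sb E5796 D2884))).symm
theorem E7298 : n3939 = n3846 := ((D3939).symm.trans (sb E5798 (tr (iv D8783) E6119)))
theorem E7299 : n3293 = n3224 := ((D3293).symm.trans (sb E5799 (iv F2445)))
theorem E7300 : n5592 = n4714 := (((D4714).symm.trans (sb E5800 D5592))).symm
theorem E7305 : n1835 = n1034 := ((((iv D1442)).symm.trans (sb E5805 (iv D2495)))).symm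
theorem E7306 : n5850 = n951 := (E5806).trans E7243
theorem E7308 : n1833 = n1330 := (((D1330).symm.trans (sb E7306 (tr D7524 E6173)))).symm
theorem E7309 : n4517 = n951 := (E5807).trans E7243
theorem E7310 : n4705 = n668 := (((F681).symm.trans (sb E7309 (iv F9535)))).symm
theorem E7311 : n3427 = n1330 := (E6189).trans E7308
theorem E7314 : n1956 = n1921 := ((((iv D2611)).symm.trans (sb E5809 (tr F5972 E6812)))).symm
theorem E7315 : n5844 = n1984 := (((F1957).symm.trans (sb E5809 (iv D7517)))).symm
theorem E7316 : n7518 = n2358 := (E5810).trans E5932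
theorem E7317 : n7171 = n1921 := (E6812).trans E7314
theorem E7318 : n2485 = n1921 := (((iv F1855)).symm.trans (sb E7316 (tr F5973 E7317)))
theorem E7320 : n4748 = n3081 := (((E6153).symm.trans ((D3341).symm.trans (sb E5813 (iv F3653))))).symm
theorem E7322 : n4753 = n1886 := (((F10073).symm.trans (sb E5813 D4753))).symm
theorem E7323 : n3078 = n2705 := ((E6187).symm.trans ((D3343).symm.trans (sb E5813 (iv D3610))))
theorem E7325 : n4604 = n2484 := ((((iv F1854)).symm.trans (sb E6022 (tr F9947 E5823)))).symm
theorem E7328 : n4563 = n1728 := (((iv F3506)).symm.trans (sb E5818 (tr (iv D5584) E6580)))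
theorem E7329 : n5953 = n1250 := (E5820).trans E6802
theorem E7330 : n1919 = n891 := (((F906).symm.trans (sb E7329 (tr D7648 E6420)))).symm
theorem E7332 : n1002 = n890 := ((((iv D1250)).symm.trans (sb E7329 (tr (iv F4805) E6419)))).symm
theorem E7334 : n6904 = n3588 := ((((iv F2739)).symm.trans (sb E5821 (iv D8801)))).symm
theorem E7335 : n6147 = n4081 := ((D6147).symm.trans (sb E5822 (iv D5348)))
theorem E7336 : n8802 = n2484 := (E5823).trans E7325
theorem E7337 : n3489 = n1828 := (((F1853).symm.trans (sb E7336 (tr (iv F7363) E7145)))).symm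
theorem E7338 : n4092 = n3010 := (((F3057).symm.trans (sb E5824 F9595))).symm
theorem E7339 : n3383 = n3009 := ((((iv D3999)).symm.trans (sb E5824 (iv D4464)))).symm
theorem E7340 : n3998 = n2295 := (E5826).trans E6180
theorem E7341 : n3343 = n2705 := (E6187).trans E7323
theorem E7342 : n3080 = n3009 := ((D3080).symm.trans (sb E7340 (iv D3998)))
theorem E7345 : n4153 = n3674 := (((iv F3185)).symm.trans (sb E5829 F3719))
theorem E7347 : n6029 = n1707 := ((((iv D2325)).symm.trans (sb E5830 (iv F4714)))).symm
theorem E7348 : n8677 = n4120 := (((F3164).symm.trans (sb E5831 F8911))).symm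
theorem E7349 : n4154 = n1554 := (((D1554).symm.trans (sb E5832 (iv F9916)))).symm
theorem E7357 : n6052 = n1157 := ((((iv D1600)).symm.trans (sb E5844 (iv F4733)))).symm
theorem E7358 : n3522 = n1577 := (((F1167).symm.trans (sb E5844 (iv D4646)))).symm
theorem E7360 : n2115 = n1493 := ((D2115).symm.trans (sb E5850 (iv D2040)))
theorem E7363 : n2039 = n2027 := ((D2039).symm.trans (sb E5856 (iv D2745)))
theorem F10149 : act 2 n2015 = n2038 := (sb E5857 (iv D2760))
theorem E7365 : n7993 = n2905 := ((((iv F2181)).symm.trans (sb E5859 D7993))).symm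
theorem E7385 : n9534 = n2903 := ((((iv F2179)).symm.trans (sb E5876 D9534))).symm
theorem E7386 : n1286 = n918 := (((iv F933)).symm.trans (sb E5877 (tr F9536 E5877)))
theorem F10150 : act 1 n480 = n442 := (sb E5878 (iv D641))
theorem E7387 : n915 = n696 := (((D696).symm.trans (sb E5878 D915))).symm
theorem E7388 : n1671 = n972 := ((((iv D1360)).symm.trans (sb E5885 (iv D2281)))).symm
theorem F10152 : act 0 n438 = n485 := (sb E5888 (iv D702))
theorem E7392 : n999 = n638 := (((D638).symm.trans (sb E5888 D999))).symm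
theorem E7395 : n1807 = n1356 := (((D1356).symm.trans (sb E5891 D1807))).symm
theorem E7396 : n1808 = n1357 := (((D1357).symm.trans (sb E5891 D1808))).symm
theorem E7399 : n317 = n280 := ((F224).symm.trans (sb E5894 (iv D417)))
theorem E7408 : n3891 = n2867 := (((D2867).symm.trans (sb E5900 D3891))).symm
theorem F10153 : act 1 n3823 = n2933 := (sb E5903 F2983)
theorem E7410 : n5119 = n4920 := ((((iv F3803)).symm.trans (sb E5903 D5119))).symm
theorem E7412 : n2611 = n1823 := (((F1438).symm.trans (sb E5905 (tr (iv F6533) E7147)))).symm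
theorem E7416 : n4673 = n2809 := ((((iv F2099)).symm.trans (sb E5908 (iv F3593)))).symm
theorem E7417 : n5120 = n2810 := (((D2810).symm.trans (sb E5908 D5120))).symm
theorem F10154 : act 0 n1524 = n1962 := (sb E5909 (iv D2662))
theorem F10156 : act 2 n1523 = n1962 := (sb E5910 F1992)
theorem E7422 : n2827 = n1308 := ((D2827).symm.trans (sb E5912 (tr D5646 E6047)))
theorem E7423 : n2101 = n1305 := (((iv F1564)).symm.trans (sb E5912 (tr D5647 E6046)))
theorem E7425 : n5649 = n1509 := (((E6966).symm.trans (((iv F2118)).symm.trans (sb E5914 D5649)))).symm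
theorem E7432 : n2410 = n483 := (((D483).symm.trans (sb E5919 D2410))).symm
theorem E7441 : n851 = n261 := ((((iv D389)).symm.trans (sb E5930 (iv D1192)))).symm
theorem E7442 : n888 = n499 := ((((iv F348)).symm.trans (sb E5930 F859))).symm
theorem E7443 : n8333 = n1232 := (E5931).trans E6461
theorem E7444 : n1706 = n499 := (E7115).trans E7442
theorem E7445 : n10369 = n878 := ((((iv D1232)).symm.trans (sb E7443 (iv F8450)))).symm
theorem E7446 : n10477 = n1707 := (((D1707).symm.trans (sb E7443 D10477))).symm
theorem E7447 : n2484 = n1985 := (((iv F1854)).symm.trans (sb E5932 F1955))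
theorem E7448 : n1262 = n1148 := ((((iv F827)).symm.trans (sb E5935 F1285))).symm
theorem E7449 : n2377 = n1149 := (((D1149).symm.trans (sb E5935 D2377))).symm
theorem E7453 : n3498 = n1921 := (((E7318).symm.trans (((iv F1855)).symm.trans (sb E5939 (iv D4617))))).symm
theorem E7458 : n2808 = n1925 := ((((iv D2617)).symm.trans (sb E5942 (iv D3747)))).symm
theorem E7459 : n3230 = n1386 := ((((iv D1904)).symm.trans (sb E5943 (iv D4282)))).symm
theorem E7460 : n1383 = n773 := (((F772).symm.trans (iv (sb E5945 (tr F1088 E7156))))).symm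
theorem E7476 : n10300 = n1950 := (((D1950).symm.trans (sb E5961 D10300))).symm
theorem E7477 : n6033 = n727 := ((((iv D1030)).symm.trans (sb E5962 D6033))).symm
theorem E7482 : n1950 = n882 := (((D882).symm.trans (sb E7209 (tr (iv F8395) E7476)))).symm
theorem E7489 : n4253 = n2651 := ((((iv F1986)).symm.trans (sb E5970 (tr (iv F3798) E6819)))).symm
theorem E7492 : n5298 = n2823 := ((((iv F2116)).symm.trans (sb E5973 F4242))).symm
theorem E7495 : n5654 = n2434 := (((D2434).symm.trans (sb E5975 D5654))).symm
theorem E7498 : n5546 = n1377 := ((((iv D1892)).symm.trans (sb E5976 (iv D7144)))).symm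
theorem E7534 : n2621 = n1733 := (((iv F1965)).symm.trans (sb E6013 (iv D2362)))
theorem E7537 : n9008 = n1712 := (E6016).trans E6575
theorem E7538 : n11260 = n2334 := (((D2334).symm.trans (sb E7537 D11260))).symm
theorem E7539 : n2334 = n1916 := (((D1916).symm.trans (sb E6017 (tr (iv F9269) E7538)))).symm
theorem E7552 : n6043 = n1837 := (E6229).trans E7010
theorem E7554 : n5853 = n5450 := (((iv F4575)).symm.trans (sb E6028 F5393))
theorem F10161 : act 2 n4818 = n5297 := (sb E6028 (iv D6843))
theorem E7557 : n4793 = n3513 := (((F9761).symm.trans (sb E6030 F3712))).symm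
theorem E7559 : n3846 = n3665 := ((E7298).symm.trans ((D3939).symm.trans (sb E6030 (iv D4819))))
theorem E7560 : n6892 = n3665 := (E6119).trans E7559
theorem E7562 : n5297 = n3356 := (((D3356).symm.trans (sb E6033 D5297))).symm
theorem E7571 : n5823 = n740 := (((F747).symm.trans (sb E6042 (iv F4553)))).symm
theorem E7572 : n3380 = n739 := ((((iv D1045)).symm.trans (sb E6042 (iv D4460)))).symm
theorem E7575 : n5016 = n1801 := (((D1801).symm.trans (sb E6045 (tr (iv D9083) E7171)))).symm
theorem E7578 : n2434 = n1608 := ((((iv F1176)).symm.trans (sb E6048 (tr (iv F4417) E7495)))).symm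
theorem E7579 : n7238 = n1607 := (((F1174).symm.trans (sb E6048 (iv F5739)))).symm
theorem E7580 : n1607 = n1532 := ((((iv F1119)).symm.trans (sb E7286 (tr (iv F5738) E7579)))).symm
theorem E7586 : n193 = n76 := ((((iv D124)).symm.trans (sb E6055 (iv F128)))).symm
theorem E7587 : n182 = n82 := (((F83).symm.trans (sb E6055 (iv F121)))).symm
theorem E7595 : n829 = n7 := (((F9).symm.trans (sb E6059 (tr F6943 E6064)))).symm
theorem E7600 : n6974 = n7 := (E6064).trans E7595
theorem E7601 : n579 = n16 := (((D16).symm.trans (sb E7600 (tr (iv D6974) E6998)))).symm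
theorem E7602 : n4130 = n398 := (((D398).symm.trans (sb E6068 D4130))).symm
theorem E7608 : n5401 = n16 := (E6998).trans E7601
theorem E7610 : n277 = n49 := ((((iv D84)).symm.trans (sb E6072 (iv D413)))).symm
theorem E7614 : n1644 = n320 := (E6078).trans E6128
theorem E7615 : n861 = n472 := (((D472).symm.trans (sb E7614 (tr (iv D1644) E6482)))).symm
theorem E7627 : n414 = n211 := ((((iv D321)).symm.trans (sb E6088 (iv D602)))).symm
theorem F10162 : act 1 n1104 = n933 := (sb E6090 F949)
theorem E7657 : n5043 = n3224 := (E6162).trans E7299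
theorem E7658 : n4714 = n3842 := ((D4714).symm.trans (sb E6118 F2933))
theorem E7659 : n5592 = n3842 := (E7300).trans E7658
theorem E7660 : n4483 = n3842 := (((iv F3447)).symm.trans (sb E7560 (tr F5435 E7659)))
theorem F10165 : act 2 n1473 = n1113 := (sb E6121 F1125)
theorem E7670 : n10579 = n821 := ((((iv D1157)).symm.trans (sb E6132 D10579))).symm
theorem E7677 : n1585 = n434 := (((D434).symm.trans (sb E6140 F9864))).symm
theorem E7687 : n2451 = n1377 := (((iv F1835)).symm.trans (sb E6149 (tr F4550 E7498)))
theorem E7692 : n3999 = n3010 := (((E7338).symm.trans (((iv F3132)).symm.trans (sb E6153 (iv F3058))))).symm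
theorem E7693 : n2291 = n1356 := (E6154).trans E7395
theorem E7695 : n2407 = n1865 := (((D1865).symm.trans (sb E7693 (iv F1802)))).symm
theorem E7698 : n7128 = n1324 := (E6157).trans E7013
theorem E7700 : n4081 = n948 := ((((iv D1324)).symm.trans (sb E7698 (tr (iv F9430) E7335)))).symm
theorem E7703 : n2458 = n1865 := (((E7695).symm.trans (((iv D3224)).symm.trans (sb E7657 (tr (iv F5137) E7284))))).symm
theorem E7704 : n3224 = n2537 := (((F2444).symm.trans (sb E7657 (tr F9804 E7657)))).symm
theorem E7715 : n4642 = n404 := (E6175).trans E6499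
theorem E7716 : n3520 = n739 := (E6884).trans E7572
theorem E7717 : n739 = n271 := ((((iv D404)).symm.trans (sb E7715 (tr F3571 E7716)))).symm
theorem E7720 : n8365 = n585 := (((E7062).symm.trans ((D1688).symm.trans (sb E6177 (iv D10513))))).symm
theorem E7723 : n3382 = n2705 := (E6190).trans E7323
theorem E7724 : n1857 = n1683 := ((((iv D2295)).symm.trans (sb E6180 (iv D2525)))).symm
theorem E7728 : n4000 = n3301 := ((((iv D4362)).symm.trans (sb E6183 F4070))).symm
theorem E7729 : n4362 = n3301 := (((E7728).symm.trans ((D4000).symm.trans (iv (sb E6183 (tr (iv D5242) E7692)))))).symm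
theorem E7730 : n5242 = n3301 := (E6183).trans E7729
theorem E7731 : n6774 = n4363 := (((D4363).symm.trans (sb E7730 D6774))).symm
theorem E7732 : n8643 = n3302 := (E6184).trans E6687
theorem E7733 : n10816 = n3277 := (((F2506).symm.trans (sb E7732 (iv F8852)))).symm
theorem E7737 : n3609 = n2492 := ((D3609).symm.trans (sb E7341 F2541))
theorem E7738 : n966 = n865 := ((F707).symm.trans (sb E6188 (iv D1215)))
theorem E7739 : n3575 = n952 := (((F963).symm.trans (sb E7311 (iv F9579)))).symm
theorem E7740 : n4462 = n1338 := ((((iv F970)).symm.trans (sb E7311 (iv F3434)))).symm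
theorem E7741 : n2492 = n1338 := ((E7737).symm.trans ((D3609).symm.trans (sb E7723 (tr D4462 E7740))))
theorem E7747 : n9870 = n875 := (((F632).symm.trans (sb E6193 (iv F7972)))).symm
theorem E7753 : n4742 = n3118 := (((F2407).symm.trans (sb E6199 (iv F3647)))).symm
theorem E7763 : n7471 = n2313 := (((E6642).symm.trans (((iv F2069)).symm.trans (sb E6205 (iv F5941))))).symm
theorem E7765 : n9457 = n1553 := (E6206).trans E6935
theorem E7766 : n2313 = n1118 := ((((iv D1553)).symm.trans (sb E7765 (tr (iv D9457) E7763)))).symm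
theorem E7771 : n2364 = n855 := ((((iv D1200)).symm.trans (sb E6212 (tr (iv D6060) E7048)))).symm
theorem E7782 : n10372 = n477 := (((F487).symm.trans (sb E6220 F8457))).symm
theorem F10172 : act 3 n932 = n1104 := (sb E6221 (iv D1534))
theorem E7783 : n10780 = n3674 := (E6224).trans E7345
theorem E7784 : n8594 = n4125 := (((E6382).symm.trans ((D4830).symm.trans (sb E7783 (iv D10780))))).symm
theorem E7786 : n10779 = n1554 := (E6225).trans E7349
theorem E7787 : n4125 = n2127 := ((((iv F1578)).symm.trans (sb E7786 (tr F8823 E7784)))).symm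
theorem E7788 : n3483 = n626 := (((F635).symm.trans (sb E6226 (iv F2649)))).symm
theorem E7792 : n6362 = n2631 := ((((iv F1972)).symm.trans (sb E6228 D6362))).symm
theorem E7793 : n3729 = n2795 := (((D2795).symm.trans (sb E6228 (iv D4895)))).symm
theorem E7794 : n2631 = n2498 := (((D2498).symm.trans (sb E7552 (tr (iv F4978) E7792)))).symm
theorem E7795 : n4636 = n2204 := (((F9795).symm.trans (sb E7552 (iv D6043)))).symm
theorem E7796 : n7926 = n3607 := ((((iv F2753)).symm.trans (sb E6231 (iv D9993)))).symm
theorem E7797 : n2791 = n2064 := (((F1526).symm.trans (sb E6232 (iv D3723)))).symm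
theorem E7798 : n1501 = n766 := ((((iv F543)).symm.trans (sb E6233 F1515))).symm
theorem E7801 : n7944 = n1999 := ((((iv F1470)).symm.trans (sb E6235 (iv F6336)))).symm
theorem E7817 : n4968 = n616 := (E6246).trans E6562
theorem E7818 : n3784 = n877 := ((((iv F627)).symm.trans (sb E7817 (iv D4968)))).symm
theorem E7819 : n6445 = n879 := (((D879).symm.trans (sb E7817 D6445))).symm
theorem E7820 : n6446 = n423 := ((((iv D616)).symm.trans (sb E7817 D6446))).symm
theorem E7821 : n749 = n423 := ((F749).symm.trans (sb E6247 (tr F6513 E7820)))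
theorem E7826 : n2020 = n1095 := (E6561).trans E6639
theorem F10174 : act 1 n501 = n709 := (sb E6253 (iv D1006))
theorem E7832 : n2309 = n1494 := (E6255).trans E6269
theorem E7833 : n1693 = n1075 := (((F1093).symm.trans (sb E7832 (iv D2309)))).symm
theorem E7834 : n1741 = n1071 := ((((iv D1494)).symm.trans (sb E7832 (tr (iv F2336) E6981)))).symm
theorem E7835 : n4112 = n1493 := (E6256).trans E7360
theorem E7838 : n2041 = n1739 := ((D2041).symm.trans (sb E7835 (tr (iv F3150) E6979)))
theorem F10175 : act 2 n1055 = n789 := (sb E6266 F799)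
theorem E7849 : n2045 = n1697 := (((iv F1511)).symm.trans (sb E6267 F1254))
theorem E7850 : n1597 = n1227 := ((F9792).symm.trans (sb E6267 (iv D1700)))
theorem E7851 : n1658 = n821 := ((((iv D1157)).symm.trans (sb E6268 F1687))).symm
theorem F10176 : act 0 n1494 = n1544 := (sb E6269 (iv D2114))
theorem E7856 : n2249 = n2175 := (((D2175).symm.trans (sb E6271 (tr (iv F10040) E6458)))).symm
theorem F10178 : act 0 n369 = n524 := (sb E6272 F534)
theorem E7857 : n523 = n244 := ((D523).symm.trans (sb E6273 (iv D367)))
theorem F10179 : act 1 n725 = n1007 := (sb E6277 F1016)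
theorem E7863 : n3549 = n1713 := (((D1713).symm.trans (sb E6280 D3549))).symm
theorem E7864 : n1959 = n881 := ((((iv D1238)).symm.trans (sb E6280 (iv D2658)))).symm
theorem E7874 : n6037 = n2097 := (((F1595).symm.trans (sb E6289 D6037))).symm
theorem E7875 : n6026 = n1102 := (((F815).symm.trans (sb E6290 D6026))).symm
theorem E7878 : n6028 = n1100 := (((D1100).symm.trans (sb E6292 D6028))).symm
theorem E7888 : n3340 = n1037 := (((D1037).symm.trans (sb E6305 (iv F2539)))).symm
theorem F10180 : act 1 n730 = n667 := (sb E6309 (iv D950))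
theorem E7895 : n9392 = n1865 := (E6311).trans E7703
theorem E7896 : n9352 = n1865 := (((E7695).symm.trans (((iv F1801)).symm.trans (sb E7895 F7584)))).symm
theorem E7897 : n7411 = n1356 := (E6756).trans E7395
theorem E7909 : n2881 = n1577 := (((E7358).symm.trans ((D3522).symm.trans (sb E6328 (iv D3836))))).symm
theorem E7911 : n2880 = n1157 := (((iv D3835)).symm.trans (sb E6329 (tr D6052 E7357)))
theorem E7912 : n4651 = n855 := (E7048).trans E7771
theorem E7913 : n6531 = n855 := (E6330).trans E7912
theorem E7914 : n8338 = n596 := ((((iv D855)).symm.trans (sb E7913 (iv F6666)))).symm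
theorem E7915 : n5034 = n1196 := ((((iv F863)).symm.trans (sb E7913 (iv D6531)))).symm
theorem E7919 : n8268 = n6057 := ((D8268).symm.trans (sb E6332 F6183))
theorem E7925 : n2024 = n1932 := ((((iv F1419)).symm.trans (sb E6339 (iv D2741)))).symm
theorem E7932 : n2742 = n1406 := (((D1406).symm.trans (sb E6345 F2789))).symm
theorem E7947 : n720 = n705 := (((D705).symm.trans (sb E6352 (iv D1020)))).symm
theorem E7964 : n4704 = n204 := (((D204).symm.trans (sb E6372 D4704))).symm
theorem E7969 : n4596 = n496 := (((D496).symm.trans (sb E6376 F3530))).symm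
theorem E7970 : n890 = n497 := (((D497).symm.trans (sb E6377 (tr (iv D1396) E7332)))).symm
theorem E7971 : n891 = n498 := (((D498).symm.trans (sb E6377 (tr D1919 E7330)))).symm
theorem E7977 : n4830 = n2127 := (E6382).trans E7787
theorem E7978 : n4328 = n2867 := ((((iv F2149)).symm.trans (sb E7977 (iv F9859)))).symm
theorem E7979 : n3674 = n2087 := (((F1579).symm.trans (sb E7977 (iv D4830)))).symm
theorem E7980 : n4153 = n2087 := (E7345).trans E7979
theorem E7981 : n6255 = n2087 := (E6939).trans E7980
theorem E7989 : n2314 = n820 := (((F586).symm.trans (sb E6393 (iv D3105)))).symm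
theorem E7992 : n4498 = n1130 := ((((iv F811)).symm.trans (sb E6395 D4498))).symm
theorem E8013 : n5492 = n2081 := (E6627).trans E6695
theorem E8014 : n2081 = n1901 := (((D1901).symm.trans (sb E6413 (tr (iv D7084) E8013)))).symm
theorem E8015 : n5489 = n1386 := (((E7459).symm.trans (((iv F2449)).symm.trans (sb E6414 (iv D7082))))).symm
theorem E8022 : n1002 = n497 := (E7332).trans E7970
theorem E8023 : n6148 = n497 := (E6419).trans E8022
theorem E8024 : n1249 = n705 := (((E7947).symm.trans ((D720).symm.trans (sb E8023 (tr F4804 E6550))))).symm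
theorem E8025 : n1038 = n663 := ((((iv F465)).symm.trans (sb E8023 (tr (iv D6148) E7117)))).symm
theorem E8035 : n6112 = n121 := ((((iv F79)).symm.trans (sb E6427 D6112))).symm
theorem E8043 : n1736 = n1715 := ((((iv F1263)).symm.trans (sb E6436 F1765))).symm
theorem E8045 : n1731 = n882 := ((((iv D1240)).symm.trans (sb E6436 (iv D2361)))).symm
theorem E8049 : n5503 = n1717 := (((D1717).symm.trans (sb E6441 D5503))).symm
theorem E8054 : n5747 = n1445 := (((D1445).symm.trans (sb E6444 (iv D7393)))).symm
theorem E8057 : n5748 = n1312 := (((D1312).symm.trans (sb E6445 (iv F4491)))).symm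
theorem E8062 : n1827 = n1450 := (((F1334).symm.trans (sb E6448 (iv D2483)))).symm
theorem E8065 : n5742 = n3010 := (E6451).trans E7692
theorem E8066 : n7384 = n2240 := (((F2264).symm.trans (sb E8065 (iv F5868)))).symm
theorem E8071 : n10038 = n3021 := ((F10124).symm.trans (sb E6457 F3066))
theorem E8073 : n3020 = n1797 := ((((iv D2446)).symm.trans (sb E6457 (iv D4013)))).symm
theorem E8074 : n2445 = n2175 := (E6458).trans E7856
theorem E8075 : n2929 = n1797 := ((D2929).symm.trans (sb E8074 F1832))
theorem E8076 : n2930 = n1796 := ((D2930).symm.trans (sb E8074 (iv D2445)))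
theorem E8077 : n6798 = n3272 := (((F2490).symm.trans (sb E6459 (iv F5347)))).symm
theorem E8089 : n5585 = n1382 := (((F1008).symm.trans (sb E6475 (iv D7195)))).symm
theorem E8091 : n1907 = n1712 := (((E6575).symm.trans ((D1933).symm.trans (sb E6477 (iv D2592))))).symm
theorem E8095 : n1186 = n472 := (E6482).trans E7615
theorem E8096 : n847 = n683 := (((D683).symm.trans (sb E8095 (iv D1186)))).symm
theorem E8099 : n3972 = n1697 := (((D1697).symm.trans (sb E6487 D3972))).symm
theorem E8102 : n2044 = n792 := (E6490).trans E6936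
theorem E8103 : n1496 = n1117 := (((D1117).symm.trans (sb E8102 (iv D2044)))).symm
theorem E8108 : n5376 = n268 := (((D268).symm.trans (sb E6496 D5376))).symm
theorem E8110 : n972 = n591 := (((D591).symm.trans (sb E6500 (tr (iv D2280) E7388)))).symm
theorem E8113 : n5418 = n190 := ((((iv F126)).symm.trans (sb E6503 (iv D6995)))).symm
theorem E8114 : n1639 = n605 := (((D605).symm.trans (sb E6505 (iv D2236)))).symm
theorem F10187 : act 3 n416 = n3007 := (sb E6505 D3007)
theorem E8115 : n3007 = n477 := (((D477).symm.trans (sb E6506 F3052))).symm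
theorem E8116 : n1632 = n608 := (((D608).symm.trans (sb E6507 (iv D2228)))).symm
theorem E8120 : n8086 = n124 := (((D124).symm.trans (sb E6510 (iv D10177)))).symm
theorem E8125 : n1220 = n839 := ((D1220).symm.trans (sb E6519 (iv D1178)))
theorem E8135 : n2701 = n495 := ((((iv D718)).symm.trans (sb E6526 F2748))).symm
theorem E8145 : n1630 = n760 := ((((iv F538)).symm.trans (sb E6533 F1659))).symm
theorem E8147 : n4216 = n1492 := (((D1492).symm.trans (sb E6536 (iv F3239)))).symm
theorem E8162 : n5954 = n705 := (E6550).trans E8024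
theorem E8163 : n6147 = n948 := (E7335).trans E7700
theorem E8164 : n948 = n734 := ((((iv F519)).symm.trans (sb E8162 (tr (iv F4803) E8163)))).symm
theorem E8165 : n1728 = n1003 := (((D1003).symm.trans (sb E8162 (tr (iv D5954) E7328)))).symm
theorem E8167 : n3161 = n2587 := ((D3161).symm.trans (sb E6551 (iv D3457)))
theorem E8168 : n3216 = n2587 := (E6577).trans E8167
theorem E8175 : n4266 = n1003 := (E6580).trans E8165
theorem E8180 : n2404 = n711 := ((((iv D1009)).symm.trans (sb E6560 F2439))).symm
theorem F10193 : act 1 n1095 = n1477 := (sb E7826 (iv D2020))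
theorem E8182 : n877 = n751 := (((iv F627)).symm.trans (sb E6562 F757))
theorem E8184 : n1477 = n879 := (((D879).symm.trans (sb E6562 D1477))).symm
theorem E8185 : n1709 = n1523 := (((iv F1258)).symm.trans (sb E6563 (tr F2667 E6942)))
theorem F10194 : act 0 n1932 = n1705 := (sb E6564 (iv D2322))
theorem E8187 : n750 = n422 := ((D750).symm.trans (sb E6566 (iv D614)))
theorem E8193 : n4137 = n1866 := (E6571).trans E6604
theorem E8194 : n5413 = n1358 := ((((iv D1866)).symm.trans (sb E8193 D5413))).symm
theorem E8195 : n5414 = n1758 := (((F1374).symm.trans (sb E8193 D5414))).symm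
theorem E8200 : n2626 = n2332 := ((((iv F1735)).symm.trans (sb E6575 D2626))).symm
theorem E8201 : n2743 = n1408 := ((F10117).symm.trans (sb E6575 (iv D1933)))
theorem E8203 : n2587 = n708 := (((F501).symm.trans (iv (sb E8168 (tr F2436 E8180))))).symm
theorem E8204 : n3216 = n708 := (E8168).trans E8203
theorem E8206 : n1902 = n488 := ((((iv D708)).symm.trans (sb E8204 (tr (iv D3216) E7040)))).symm
theorem E8207 : n2401 = n488 := (E7040).trans E8206
theorem E8208 : n4197 = n488 := (E6810).trans E8207
theorem E8211 : n1397 = n1250 := (((iv F1012)).symm.trans (sb E8175 (tr (iv F4360) E6802)))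
theorem E8227 : n5449 = n4166 := ((((iv F3196)).symm.trans (sb E6592 F5552))).symm
theorem E8230 : n2267 = n1339 := ((((iv D1841)).symm.trans (sb E6595 (iv D3043)))).symm
theorem E8231 : n4042 = n2505 := (((D2505).symm.trans (sb E6595 D4042))).symm
theorem E8234 : n2600 = n2538 := ((((iv F1900)).symm.trans (sb E6597 (iv D3475)))).symm
theorem E8235 : n2625 = n1481 := ((((iv D2028)).symm.trans (sb E6597 F2640))).symm
theorem F10195 : act 2 n2027 = n5410 := (sb E6598 D5410)
theorem E8237 : n2905 = n1339 := ((((iv D1841)).symm.trans (sb E6600 (tr (iv F6373) E7365)))).symm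
theorem F10196 : act 0 n2416 = n2416 := (sb E6603 (iv D3233))
theorem E8239 : n1758 = n1393 := ((F1374).symm.trans (sb E6604 (iv D1914)))
theorem E8241 : n5414 = n1393 := (E8195).trans E8239
theorem E8242 : n3222 = n2599 := (E6609).trans E6865
theorem E8243 : n4272 = n3474 := (((D3474).symm.trans (sb E8242 D4272))).symm
theorem E8259 : n5492 = n1901 := (E8013).trans E8014
theorem E8260 : n4198 = n1904 := ((((iv F1399)).symm.trans (sb E8259 (iv D5492)))).symm
theorem E8262 : n5515 = n2027 := (E6990).trans E7363
theorem E8266 : n2357 = n1398 := (((iv F1760)).symm.trans (sb E6631 F1410))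
theorem E8269 : n5208 = n1118 := (E6637).trans E7766
theorem E8270 : n1697 = n1552 := ((((iv F1131)).symm.trans (sb E8269 (tr F4040 E8099)))).symm
theorem E8273 : n2045 = n1552 := (E7849).trans E8270
theorem E8292 : n1600 = n1259 := ((E6944).symm.trans ((D2138).symm.trans (sb E6661 (iv D1740))))
theorem E8293 : n1872 = n1263 := (((iv F10063)).symm.trans (sb E6662 (iv D1744)))
theorem E8302 : n3939 = n3665 := (E7298).trans E7559
theorem F10198 : act 0 n3101 = n2443 := (sb E6683 F2486)
theorem E8308 : n2442 = n2311 := ((((iv D3101)).symm.trans (sb E6683 (iv D3271)))).symm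
theorem E8309 : n4120 = n2867 := ((D4120).symm.trans (sb E6683 (tr D4328 E7978)))
theorem E8310 : n2310 = n1299 := ((((iv D1795)).symm.trans (sb E6684 (iv D3100)))).symm
theorem E8311 : n4343 = n4329 := (((D4329).symm.trans (sb E6685 F4183))).symm
theorem E8312 : n5710 = n4363 := ((((iv F3348)).symm.trans (sb E6687 F9977))).symm
theorem E8313 : n6087 = n5663 := (((F9887).symm.trans (sb E6688 F5882))).symm
theorem E8314 : n9386 = n4107 := ((((iv D5375)).symm.trans (sb E6688 D9386))).symm
theorem E8315 : n6086 = n2785 := ((((iv F2079)).symm.trans (sb E6691 F5883))).symm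
theorem E8316 : n9387 = n2055 := ((((iv D2780)).symm.trans (sb E6691 D9387))).symm
theorem E8319 : n1925 = n1904 := (((iv D2617)).symm.trans (sb E6694 (tr F3386 E8260)))
theorem E8320 : n2616 = n1901 := (E6695).trans E8014
theorem E8321 : n3496 = n2583 := ((((iv F1938)).symm.trans (sb E8320 D3496))).symm
theorem E8336 : n9332 = n2504 := (E6709).trans E6988
theorem E8337 : n2370 = n1937 := ((F1873).symm.trans (sb E8336 (tr (iv F7943) E7004)))
theorem E8338 : n4942 = n2504 := (E6712).trans E6988
theorem E8341 : n6415 = n3356 := (((D3356).symm.trans (sb E8338 D6415))).symm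
theorem E8344 : n3512 = n3356 := (((iv F2673)).symm.trans (sb E6714 (tr (iv F9703) E8341)))
theorem E8376 : n7741 = n1086 := (E6742).trans E7181
theorem E8377 : n1100 = n997 := (((F779).symm.trans (sb E8376 (tr F6153 E7878)))).symm
theorem E8378 : n6057 = n1073 := (((F781).symm.trans (sb E6743 F5923))).symm
theorem E8379 : n3354 = n2794 := (((D2794).symm.trans (sb E6744 F3404))).symm
theorem E8381 : n3353 = n2795 := (((D2795).symm.trans (sb E6744 (iv D4428)))).symm
theorem E8385 : n1331 = n952 := (((iv D1834)).symm.trans (sb E6748 (tr (iv D4708) E7739)))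
theorem F10200 : act 2 n1356 = n5761 := (sb E7897 (iv D7411))
theorem E8390 : n5761 = n1312 := ((((iv D1809)).symm.trans (sb E6757 (iv F4503)))).symm
theorem E8403 : n4142 = n626 := (E6773).trans E7788
theorem E8404 : n3128 = n893 := ((((iv F639)).symm.trans (sb E8403 F3178))).symm
theorem E8405 : n3117 = n430 := ((((iv D626)).symm.trans (sb E8403 (iv D4142)))).symm
theorem E8406 : n496 = n430 := (((E8405).symm.trans (((iv F2350)).symm.trans (sb E6774 (tr F4696 E7969))))).symm
theorem E8417 : n1733 = n726 := ((((iv F551)).symm.trans (sb E6779 (tr F2060 E7534)))).symm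
theorem E8430 : n5627 = n766 := (E6791).trans E7798
theorem E8432 : n1509 = n1084 := (((D1084).symm.trans (sb E8430 (tr (iv F4411) E7425)))).symm
theorem E8440 : n9517 = n1828 := (E6806).trans E7337
theorem E8441 : n7516 = n1326 := ((((iv D1828)).symm.trans (sb E8440 (iv D9517)))).symm
theorem E8447 : n5490 = n707 := (((D707).symm.trans (sb E8208 (iv F4277)))).symm
theorem E8450 : n5568 = n1398 := ((((iv D1921)).symm.trans (sb E7317 (iv D7171)))).symm
theorem E8451 : n1425 = n1398 := (((iv D1955)).symm.trans (sb E6813 (tr (iv F4351) E8450)))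
theorem E8452 : n7230 = n2617 := ((((iv F1961)).symm.trans (sb E6815 F7356))).symm
theorem E8453 : n7229 = n1401 := ((((iv D1926)).symm.trans (sb E6816 F7358))).symm
theorem E8457 : n4915 = n2651 := (E6819).trans E7489
theorem E8458 : n3744 = n1400 := (((E7030).symm.trans ((D3540).symm.trans (sb E8457 (iv D4915))))).symm
theorem E8463 : n4920 = n4329 := ((D4920).symm.trans (sb E6821 (tr F4184 E8311)))
theorem E8465 : n2583 = n1521 := ((((iv D2082)).symm.trans (sb E6822 (tr (iv D4616) E8321)))).symm
theorem E8466 : n6433 = n1536 := (((E7159).symm.trans (((iv D2779)).symm.trans (sb E6823 (iv F5047))))).symm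
theorem E8467 : n6434 = n1079 := ((((iv D1503)).symm.trans (sb E6824 D6434))).symm
theorem E8470 : n3724 = n1103 := ((((iv F793)).symm.trans (sb E6827 (iv F2836)))).symm
theorem E8493 : n3138 = n2955 := (((iv F2366)).symm.trans (sb E6854 F2227))
theorem E8494 : n2201 = n1717 := ((((iv D2340)).symm.trans (sb E6854 (iv D2960)))).symm
theorem E8495 : n3139 = n2953 := ((D3139).symm.trans (sb E6854 F2229))
theorem E8496 : n1575 = n1200 := (((F1219).symm.trans (sb E6855 F1606))).symm
theorem E8498 : n5076 = n4043 := (((D4043).symm.trans (sb E6856 D5076))).symm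
theorem F10204 : act 0 n3135 = n3135 := (sb E6857 (iv D4165))
theorem E8502 : n2903 = n1714 := (((D1714).symm.trans (sb E6860 D2903))).symm
theorem E8503 : n4631 = n2505 := (E6861).trans E8231
theorem E8504 : n4043 = n1842 := (((F1874).symm.trans (sb E8503 (tr (iv F9561) E8498)))).symm
theorem F10205 : act 2 n2599 = n2416 := (sb E6865 (iv F10098))
theorem E8510 : n3474 = n3399 := ((D3474).symm.trans (sb E6865 (iv F2583)))
theorem E8518 : n1707 = n1024 := (((D1024).symm.trans (sb E6873 (tr F9529 E7347)))).symm
theorem E8528 : n3520 = n271 := (E7716).trans E7717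
theorem E8529 : n3853 = n177 := ((((iv D271)).symm.trans (sb E8528 (iv F2941)))).symm
theorem E8532 : n4459 = n177 := (((E8529).symm.trans ((D3853).symm.trans (sb E6885 (iv D5822))))).symm
theorem E8541 : n1346 = n608 := (((D608).symm.trans (sb E6895 D1346))).symm
theorem E8547 : n4638 = n116 := ((((iv D183)).symm.trans (sb E6900 F3923))).symm
theorem E8549 : n3720 = n1305 := (E6906).trans E7423
theorem E8550 : n4883 = n1798 := ((((iv F1324)).symm.trans (sb E8549 (iv F3767)))).symm
theorem E8551 : n2789 = n1799 := (((D1799).symm.trans (sb E8549 (iv D3720)))).symm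
theorem E8552 : n3620 = n1308 := (E6907).trans E7422
theorem E8553 : n2713 = n1803 := (((D1803).symm.trans (sb E8552 (iv D3620)))).symm
theorem E8555 : n4759 = n4106 := (((iv F3662)).symm.trans (sb E6908 (iv F9488)))
theorem E8559 : n2518 = n1999 := (((D1999).symm.trans (sb E6909 D2518))).symm
theorem E8562 : n8132 = n1292 := (((D1292).symm.trans (sb E6916 (iv F6496)))).symm
theorem E8567 : n7946 = n5663 := ((((iv F9814)).symm.trans (sb E6919 D7946))).symm
theorem E8569 : n5612 = n1967 := ((((iv F1445)).symm.trans (sb E6921 F4391))).symm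
theorem E8570 : n5798 = n881 := (E6922).trans E7864
theorem E8571 : n1967 = n1237 := ((((iv F894)).symm.trans (sb E8570 (tr F4529 E8569)))).symm
theorem E8582 : n2549 = n2144 := ((D2549).symm.trans (sb E6927 (iv F1594)))
theorem F10209 : act 2 n1873 = n1560 := (sb E6927 (iv D2136))
theorem F10210 : act 3 n1869 = n1588 := (sb E6928 (iv D2176))
theorem E8588 : n8022 = n2082 := (((F1549).symm.trans (sb E7981 (iv F6396)))).symm
theorem E8590 : n3101 = n2126 := (((D2126).symm.trans (sb E6940 F2339))).symm
theorem F10211 : act 0 n1601 = n1561 := (sb E6943 (iv D2137))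
theorem E8592 : n2123 = n1497 := ((((iv F9931)).symm.trans (sb E6943 F1586))).symm
theorem E8593 : n2138 = n1259 := (E6944).trans E8292
theorem E8594 : n1738 = n1157 := (((iv F1281)).symm.trans (sb E8593 (tr (iv F2163) E7911)))
theorem F10212 : act 2 n1259 = n1561 := (sb E8593 (iv D2138))
theorem E8595 : n1577 = n897 := ((((iv D1259)).symm.trans (sb E8593 (tr D2881 E7909)))).symm
theorem E8596 : n3452 = n2082 := (((iv F2620)).symm.trans (sb E6946 (tr F8117 E8588)))
theorem E8598 : n3081 = n2240 := ((E7320).symm.trans ((D4748).symm.trans (sb E6949 (tr (iv D9359) E8066))))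
theorem E8601 : n1975 = n668 := ((((iv D952)).symm.trans (sb E6954 (iv D2677)))).symm
theorem E8602 : n6058 = n1048 := (((F1069).symm.trans (sb E6956 F5920))).symm
theorem E8603 : n9425 = n1047 := ((((iv D1463)).symm.trans (sb E6956 D9425))).symm
theorem E8606 : n6763 = n1084 := (E6963).trans E8432
theorem E8607 : n8629 = n1507 := ((((iv F1100)).symm.trans (sb E8606 (iv F6924)))).symm
theorem E8612 : n2825 = n1084 := (E6966).trans E8432
theorem E8613 : n2095 = n1507 := ((((iv F1100)).symm.trans (sb E8612 F2118))).symm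
theorem E8622 : n2998 = n2304 := ((((iv D3092)).symm.trans (sb E6972 (iv D3986)))).symm
theorem F10213 : act 0 n1690 = n1635 := (sb E6973 F1663)
theorem E8623 : n1633 = n1221 := ((((iv D1690)).symm.trans (sb E6973 (iv D2230)))).symm
theorem F10215 : act 0 n2504 = n1935 := (sb E6988 (iv D2629))
theorem E8633 : n5410 = n1492 := ((F10195).symm.trans (sb E8262 (tr (iv D5515) E8147)))
theorem E8634 : n7108 = n2746 := (((D2746).symm.trans (sb E8262 D7108))).symm
theorem F10216 : act 0 n245 = n358 := (sb E6995 (iv D522))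
theorem E8636 : n398 = n32 := (((D32).symm.trans (sb E7608 (tr (iv D5401) E7602)))).symm
theorem E8642 : n2794 = n1336 := (((F1351).symm.trans (sb E7010 F2674))).symm
theorem E8661 : n7833 = n1079 := (E7025).trans E8467
theorem E8663 : n9862 = n1503 := (((D1503).symm.trans (sb E8661 (iv F7966)))).symm
theorem E8666 : n8471 = n1536 := (E7028).trans E8466
theorem E8667 : n1505 = n1503 := ((F10002).symm.trans (sb E8666 (tr (iv F7965) E8663)))
theorem E8670 : n3543 = n1901 := (E7029).trans E8014
theorem E8672 : n2809 = n2584 := (((D2584).symm.trans (sb E8670 (tr D4673 E7416)))).symm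
theorem E8673 : n2332 = n1968 := (((D1968).symm.trans (sb E7034 (tr (iv D3508) E8200)))).symm
theorem E8708 : n3002 = n2064 := (((E7797).symm.trans (((iv F2084)).symm.trans (sb E7064 (iv D3989))))).symm
theorem E8731 : n516 = n251 := (((D251).symm.trans (sb E7093 (iv D745)))).symm
theorem E8750 : n1232 = n722 := (((D722).symm.trans (sb E7444 (iv D1706)))).symm
theorem E8751 : n6149 = n224 := ((((iv D340)).symm.trans (sb E7116 F10089))).symm
theorem E8752 : n4722 = n663 := (E7117).trans E8025
theorem E8753 : n6147 = n734 := (E8163).trans E8164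
theorem E8754 : n946 = n734 := ((D946).symm.trans (sb E8752 (tr (iv F4802) E8753)))
theorem E8756 : n3588 = n947 := (((D947).symm.trans (sb E8752 (iv D4722)))).symm
theorem E8771 : n2808 = n1904 := (E7458).trans E8319
theorem E8772 : n5620 = n1904 := (E7136).trans E8771
theorem E8773 : n2588 = n1401 := (((iv F1941)).symm.trans (sb E8772 (tr (iv F5730) E8453)))
theorem E8775 : n2617 = n2589 := (((D2589).symm.trans (sb E8772 (tr D7230 E8452)))).symm
theorem E8776 : n1770 = n1382 := ((D1770).symm.trans (sb E7137 (tr F5692 E8089)))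
theorem E8781 : n893 = n727 := (((iv F639)).symm.trans (sb E7142 (tr (iv F9349) E7477)))
theorem F10222 : act 0 n1079 = n1105 := (sb E7156 F10111)
theorem E8810 : n5015 = n1299 := (E7167).trans E8310
theorem E8811 : n3820 = n1794 := (((D1794).symm.trans (sb E8810 F3884))).symm
theorem F10224 : act 2 n1086 = n1099 := (sb E7181 (iv D1528))
theorem E8832 : n2793 = n1567 := (((D1567).symm.trans (sb E7182 D2793))).symm
theorem F10225 : act 1 n1083 = n1101 := (sb E7183 (iv D1530))
theorem E8833 : n2096 = n1799 := ((D2096).symm.trans (sb E7184 (tr D2789 E8551)))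
theorem E8834 : n4884 = n2097 := (((D2097).symm.trans (sb E7185 D4884))).symm
theorem F10226 : act 3 n605 = n692 := (sb E7198 (iv F490))
theorem E8865 : n3366 = n1551 := ((((iv D2124)).symm.trans (sb E7213 D3366))).symm
theorem E8866 : n1551 = n873 := ((((iv F626)).symm.trans (sb E7224 (tr F3414 E8865)))).symm
theorem E8870 : n4680 = n1705 := (((D1705).symm.trans (sb E7219 (iv F3598)))).symm
theorem E8882 : n4748 = n2240 := (E7320).trans E8598
theorem E8883 : n1391 = n439 := (((D439).symm.trans (sb E7233 D1391))).symm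
theorem E8884 : n444 = n299 := ((D444).symm.trans (sb E7234 (tr F9472 E7234)))
theorem E8885 : n917 = n643 := ((D917).symm.trans (sb E7235 (tr F9510 E7235)))
theorem E8909 : n549 = n517 := ((((iv D747)).symm.trans (sb E7266 (iv D788)))).symm
theorem F10227 : act 0 n2203 = n2141 := (sb E7296 F2164)
theorem E8926 : n3841 = n2963 := (((D2963).symm.trans (sb E7296 D3841))).symm
theorem E8927 : n4633 = n3645 := (((F2794).symm.trans (sb E8302 F9834))).symm
theorem F10228 : act 3 n3665 = n2963 := (sb E8302 (iv D3939))
theorem F10230 : act 1 n1034 = n1333 := (sb E7305 (iv D1835))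
theorem E8937 : n2491 = n1643 := ((((iv F1204)).symm.trans (sb E7308 D2491))).symm
theorem E8938 : n1333 = n951 := ((((iv D1330)).symm.trans (sb E7308 F1348))).symm
theorem E8939 : n3574 = n462 := (((F469).symm.trans (sb E7310 (iv D4705)))).symm
theorem F10231 : act 0 n1921 = n1426 := (sb E7314 F1436)
theorem E8942 : n2689 = n1326 := ((D2689).symm.trans (sb E7315 (tr D7516 E8441)))
theorem E8944 : n1828 = n1823 := (((E7412).symm.trans ((D2611).symm.trans (sb E7318 (iv D2485))))).symm
theorem E8947 : n4750 = n2242 := ((((iv F1670)).symm.trans (sb E8882 (iv F3654)))).symm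
theorem E8948 : n3607 = n1641 := ((((iv D2240)).symm.trans (sb E8882 (iv D4748)))).symm
theorem E8951 : n2462 = n2242 := (((iv F10069)).symm.trans (sb E7322 (tr F3657 E8947)))
theorem E8955 : n3489 = n1823 := (E7337).trans E8944
theorem E8960 : n1919 = n498 := (E7330).trans E7971
theorem E8962 : n1250 = n721 := ((((iv F510)).symm.trans (sb E8960 (tr F1409 E8211)))).symm
theorem E8963 : n1397 = n721 := (E8211).trans E8962
theorem E8964 : n6904 = n947 := (E7334).trans E8756
theorem E8965 : n8800 = n664 := (((F679).symm.trans (sb E8964 (iv F7076)))).symm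
theorem E8968 : n1326 = n1323 := ((((iv D1823)).symm.trans (sb E8955 (tr F2652 E8942)))).symm
theorem E8969 : n3009 = n2239 := ((((iv D3010)).symm.trans (sb E7338 (tr (iv D4092) E7342)))).symm
theorem E8970 : n3383 = n2239 := (E7339).trans E8969
theorem E8972 : n3091 = n2304 := (((E8622).symm.trans (((iv F2254)).symm.trans (sb E8970 F9547)))).symm
theorem E8977 : n8677 = n2867 := (E7348).trans E8309
theorem E8978 : n3823 = n3272 := (((iv F2914)).symm.trans (sb E8977 (tr F6965 E8077)))
theorem F10232 : act 2 n1493 = n1544 := (sb E7360 (iv D2115))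
theorem E8989 : n7993 = n1339 := (E7365).trans E8237
theorem E8990 : n10073 = n958 := ((((iv D1339)).symm.trans (sb E8989 D10073))).symm
theorem E9013 : n9534 = n1714 := (E7385).trans E8502
theorem E9014 : n2336 = n958 := ((D2336).symm.trans (sb E9013 (tr (iv F8162) E8990)))
theorem F10234 : act 1 n918 = n918 := (sb E7386 F933)
theorem F10235 : act 1 n696 = n642 := (sb E7387 F653)
theorem F10236 : act 0 n638 = n703 := (sb E7392 F719)
theorem E9021 : n1392 = n909 := (((D909).symm.trans (sb E7392 D1392))).symm
theorem E9023 : n1912 = n1274 := (((F984).symm.trans (sb E7396 (iv F1403)))).symm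
theorem F10237 : act 3 n280 = n324 := (sb E7399 (iv F224))
theorem E9034 : n5100 = n3748 := ((((iv F2858)).symm.trans (sb E7408 D5100))).symm
theorem E9037 : n5119 = n4329 := (E7410).trans E8463
theorem E9038 : n3748 = n3438 := ((((iv F9748)).symm.trans (sb E9037 (tr F3964 E9034)))).symm
theorem E9041 : n1985 = n1957 := ((((iv F1438)).symm.trans (sb E7412 F1956))).symm
theorem F10238 : act 2 n1823 = n1921 := (sb E7412 (iv D2611))
theorem E9045 : n2785 = n2780 := (((F2101).symm.trans (sb E7417 (tr (iv F4759) E8315)))).symm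
theorem E9056 : n3228 = n699 := (((D699).symm.trans (sb E7432 D3228))).symm
theorem E9063 : n2881 = n897 := (E7909).trans E8595
theorem E9067 : n595 = n386 := ((((iv F265)).symm.trans (sb E7441 F613))).symm
theorem E9070 : n10364 = n1233 := (((D1233).symm.trans (sb E7445 F8451))).symm
theorem E9071 : n10477 = n1024 := (E7446).trans E8518
theorem E9072 : n1429 = n1233 := (((iv F1041)).symm.trans (sb E9071 (tr F8543 E9070)))
theorem E9073 : n2484 = n1957 := (E7447).trans E9041
theorem E9074 : n1822 = n1450 := ((F1439).symm.trans (sb E9073 (tr (iv D2484) E8062)))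
theorem E9075 : n1586 = n900 := (((iv F1157)).symm.trans (sb E7448 F917))
theorem E9076 : n1648 = n1588 := (((D1588).symm.trans (sb E7448 (iv F1210)))).symm
theorem E9077 : n899 = n812 := ((((iv D1148)).symm.trans (sb E7448 (iv D1262)))).symm
theorem E9078 : n3021 = n1589 := (((D1589).symm.trans (sb E7449 (iv F2273)))).symm
theorem E9083 : n2618 = n1926 := ((((iv F1413)).symm.trans (sb E7453 (iv D3498)))).symm
theorem E9085 : n1400 = n1386 := ((((iv D1904)).symm.trans (sb E8771 (tr (iv F2855) E8458)))).symm
theorem F10239 : act 0 n773 = n990 := (sb E7460 (iv D1383))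
theorem E9087 : n1900 = n1094 := (((D1094).symm.trans (sb E7460 D1900))).symm
theorem E9115 : n1421 = n1236 := ((((iv F893)).symm.trans (sb E7482 (iv D1950)))).symm
theorem E9119 : n3764 = n1842 := (((iv F2869)).symm.trans (sb E7492 (tr (iv D5298) E8504)))
theorem E9153 : n2621 = n726 := (E7534).trans E8417
theorem E9154 : n3502 = n1029 := (((D1029).symm.trans (sb E9153 D3502))).symm
theorem F10242 : act 2 n1916 = n1772 := (sb E7539 F1740)
theorem F10243 : act 3 n1916 = n1712 := (sb E7539 (iv D2334))
theorem F10246 : act 0 n5450 = n5450 := (sb E7554 F9843)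
theorem F10247 : act 1 n5450 = n4818 := (sb E7554 F4575)
theorem E9168 : n5591 = n4484 := (((iv F9844)).symm.trans (sb E7554 (iv D5853)))
theorem E9170 : n4818 = n4632 := ((((iv F3561)).symm.trans (sb E7557 (iv F3711)))).symm
theorem E9173 : n2888 = n2747 := ((((iv D3665)).symm.trans (sb E7559 (iv D3846)))).symm
theorem E9175 : n4632 = n4432 := (((D4432).symm.trans (sb E7562 (tr (iv F10161) E9170)))).symm
theorem E9187 : n512 = n177 := (((iv D740)).symm.trans (sb E7571 (tr (iv D5823) E8532)))
theorem E9193 : n1794 = n1694 := (((F1326).symm.trans (sb E7575 (tr (iv D5016) E8811)))).symm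
theorem E9196 : n2200 = n1788 := ((D2200).symm.trans (sb E7578 (iv D2434)))
theorem E9197 : n2097 = n1161 := ((((iv D1608)).symm.trans (sb E7578 (iv F9976)))).symm
theorem F10248 : act 3 n1532 = n1304 := (sb E7580 (iv F1174))
theorem F10249 : act 2 n76 = n124 := (sb E7586 (iv D193))
theorem E9205 : n134 = n116 := ((D134).symm.trans (sb E7587 (iv D182)))
theorem E9210 : n4130 = n32 := (E7602).trans E8636
theorem E9211 : n268 = n57 := (((D57).symm.trans (sb E9210 (tr (iv F4172) E8108)))).symm
theorem E9218 : n181 = n83 := (((D83).symm.trans (sb E7610 (iv D277)))).symm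
theorem F10250 : act 0 n211 = n280 := (sb E7627 F289)
theorem E9224 : n278 = n136 := ((((iv D211)).symm.trans (sb E7627 (iv D414)))).symm
theorem F10251 : act 0 n3842 = n3665 := (sb E7660 F3447)
theorem F10252 : act 2 n3842 = n3398 := (sb E7660 (iv D4483))
theorem E9240 : n8430 = n1155 := ((((iv F833)).symm.trans (sb E7670 F8633))).symm
theorem E9247 : n1146 = n632 := (((D632).symm.trans (sb E7677 (iv D1585)))).symm
theorem E9253 : n1891 = n1801 := ((D1891).symm.trans (sb E7687 (iv D2451)))
theorem E9254 : n3285 = n1892 := (((D1892).symm.trans (sb E7687 D3285))).symm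
theorem F10254 : act 0 n3010 = n3010 := (sb E7692 F3057)
theorem F10255 : act 2 n1865 = n1865 := (sb E7695 F1801)
theorem F10256 : act 2 n2537 = n2537 := (sb E7704 F2444)
theorem E9271 : n1047 = n840 := (((D840).symm.trans (sb E7720 (tr F7613 E8603)))).symm
theorem E9272 : n9425 = n840 := (E8603).trans E9271
theorem E9276 : n1999 = n1221 := (((F1237).symm.trans (sb E7724 (tr (iv F1882) E8559)))).symm
theorem F10257 : act 2 n3301 = n3010 := (sb E7728 (iv D4000))
theorem F10258 : act 0 n3301 = n3301 := (sb E7729 (iv D4362))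
theorem E9283 : n6756 = n5663 := ((((iv F4427)).symm.trans (sb E7731 F5330))).symm
theorem E9284 : n8628 = n3272 := (((F2490).symm.trans (sb E7733 (iv D10816)))).symm
theorem F10259 : act 3 n865 = n983 := (sb E7738 (iv F707))
theorem E9288 : n1834 = n1332 := (((F968).symm.trans (sb E7741 F1860))).symm
theorem E9291 : n10595 = n1226 := ((((iv F888)).symm.trans (sb E7747 F8644))).symm
theorem E9301 : n4141 = n3604 := (((iv F3176)).symm.trans (sb E7753 (iv D4742)))
theorem F10260 : act 3 n477 = n8243 := (sb E7782 (iv D10372))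
theorem F10261 : act 2 n2795 = n2795 := (sb E7793 (iv D3729))
theorem E9340 : n3348 = n1938 := ((D3348).symm.trans (sb E7794 (iv D2631)))
theorem E9341 : n2067 = n1839 := (((F1864).symm.trans (sb E7794 F1972))).symm
theorem E9342 : n3515 = n2964 := (((F9724).symm.trans (sb E7794 D3515))).symm
theorem E9343 : n2964 = n2891 := ((((iv F2170)).symm.trans (sb E7795 (tr (iv D4636) E9342)))).symm
theorem E9344 : n7926 = n1641 := (E7796).trans E8948
theorem E9346 : n9994 = n1183 := ((((iv D1641)).symm.trans (sb E9344 D9994))).symm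
theorem F10262 : act 1 n2064 = n2064 := (sb E7797 F2084)
theorem E9348 : n2063 = n1508 := ((((iv D2064)).symm.trans (sb E7797 (iv D2791)))).symm
theorem E9352 : n7944 = n1221 := (E7801).trans E9276
theorem E9353 : n1683 = n1183 := (((iv F1237)).symm.trans (sb E9352 (tr (iv F8082) E9346)))
theorem E9368 : n3784 = n751 := (E7818).trans E8182
theorem E9369 : n4969 = n1060 := (((D1060).symm.trans (sb E9368 D4969))).symm
theorem E9371 : n1231 = n1060 := (((iv F890)).symm.trans (sb E7819 (tr F5059 E9369)))
theorem F10263 : act 0 n423 = n519 := (sb E7821 (iv D749))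
theorem E9374 : n1049 = n610 := ((((iv F429)).symm.trans (sb E7821 (iv F749)))).symm
theorem E9380 : n1223 = n761 := ((((iv D1075)).symm.trans (sb E7833 (iv D1693)))).symm
theorem E9382 : n1495 = n1260 := ((D1495).symm.trans (sb E7834 (iv D1741)))
theorem F10264 : act 3 n1739 = n1493 := (sb E7838 (iv D2041))
theorem E9384 : n2188 = n2125 := (((D2125).symm.trans (sb E8273 F9867))).symm
theorem E9385 : n2125 = n1695 := ((((iv F1246)).symm.trans (sb E7850 (tr D2188 E9384)))).symm
theorem E9386 : n1699 = n1155 := (((iv F1252)).symm.trans (sb E7850 (iv D1597)))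
theorem F10265 : act 2 n1227 = n1497 := (sb E7850 (iv F9792))
theorem E9388 : n1196 = n808 := (((F583).symm.trans (sb E7851 (iv D1658)))).symm
theorem E9395 : n1796 = n1647 := ((E8076).symm.trans ((D2930).symm.trans (sb E7856 (iv D2249))))
theorem E9396 : n363 = n362 := ((((iv F246)).symm.trans (sb E7857 F364))).symm
theorem F10266 : act 2 n244 = n358 := (sb E7857 (iv D523))
theorem E9398 : n4679 = n1406 := ((((iv F10095)).symm.trans (sb E7863 D4679))).symm
theorem E9403 : n6037 = n1161 := (E7874).trans E9197
theorem F10267 : act 1 n1161 = n7739 := (sb E9403 (iv F6150))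
theorem E9405 : n7739 = n1532 := (((D1532).symm.trans (sb E7875 D7739))).symm
theorem E9416 : n2490 = n1447 := (((D1447).symm.trans (sb E7888 (iv D3340)))).symm
theorem E9423 : n7379 = n1356 := ((((iv D1865)).symm.trans (sb E7896 (iv D9352)))).symm
theorem E9440 : n3835 = n1257 := ((((iv F913)).symm.trans (sb E9063 (iv F2925)))).symm
theorem E9443 : n1257 = n1140 := (((F835).symm.trans (sb E7911 (tr D3835 E9440)))).symm
theorem E9445 : n6530 = n853 := ((((iv F614)).symm.trans (sb E7914 (iv D8338)))).symm
theorem E9447 : n5034 = n808 := (E7915).trans E9388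
theorem E9448 : n853 = n565 := ((((iv D808)).symm.trans (sb E9447 (tr (iv F5129) E9445)))).symm
theorem E9451 : n8268 = n1073 := (E7919).trans E8378
theorem E9452 : n10398 = n1088 := ((((iv F781)).symm.trans (sb E9451 D10398))).symm
theorem E9454 : n8302 = n1463 := ((((iv F1070)).symm.trans (sb E9451 (iv F6633)))).symm
theorem E9459 : n1705 = n1479 := ((F10194).symm.trans (sb E7925 (iv D2024)))
theorem E9466 : n2025 = n1713 := (((F10095).symm.trans (sb E7932 F2049))).symm
theorem F10270 : act 0 n705 = n497 := (sb E7947 (iv D720))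
theorem E9487 : n6128 = n288 := ((((iv F196)).symm.trans (sb E7964 D6128))).symm
theorem E9488 : n4723 = n310 := (((D310).symm.trans (sb E7964 (iv F3636)))).symm
theorem E9503 : n1698 = n1156 := ((((iv F834)).symm.trans (sb E7989 (iv D2314)))).symm
theorem E9504 : n3410 = n1566 := ((((iv F1143)).symm.trans (sb E7992 F3457))).symm
theorem E9522 : n4670 = n992 := ((((iv D1386)).symm.trans (sb E8015 (iv F4275)))).symm
theorem E9532 : n5419 = n189 := (((D189).symm.trans (sb E8035 (iv F9838)))).symm
theorem E9538 : n2365 = n1662 := (((F1262).symm.trans (sb E8043 (iv F1770)))).symm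
theorem E9542 : n1251 = n1236 := ((((iv F893)).symm.trans (sb E8045 (iv D1731)))).symm
theorem E9544 : n7093 = n2339 := (((D2339).symm.trans (sb E8049 D7093))).symm
theorem E9545 : n4208 = n2340 := (((D2340).symm.trans (sb E8049 F4294))).symm
theorem E9551 : n7394 = n1809 := (((F9584).symm.trans (sb E8054 D7394))).symm
theorem F10271 : act 2 n1312 = n7395 := (sb E8057 D7395)
theorem E9559 : n10038 = n1589 := (E8071).trans E9078
theorem E9560 : n2446 = n2177 := (((D2177).symm.trans (sb E9559 (iv F10124)))).symm
theorem E9563 : n2248 = n1301 := ((((iv D1797)).symm.trans (sb E8073 (iv D3020)))).symm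
theorem F10272 : act 0 n1797 = n2175 := (sb E8075 (iv D2929))
theorem E9565 : n2930 = n1647 := (E8076).trans E9395
theorem F10273 : act 3 n1647 = n2175 := (sb E9565 (iv D2930))
theorem E9573 : n1968 = n1388 := ((E8673).symm.trans (((iv F1735)).symm.trans (sb E8091 (iv D1907))))
theorem E9574 : n1916 = n1898 := (((iv F10243)).symm.trans (sb E8091 F1401))
theorem F10274 : act 2 n683 = n590 := (sb E8096 (iv D847))
theorem F10275 : act 0 n1117 = n1075 := (sb E8103 F1095)
theorem F10276 : act 0 n591 = n683 := (sb E8110 (iv D972))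
theorem E9590 : n1360 = n848 := (((D848).symm.trans (sb E8110 D1360))).symm
theorem E9592 : n3604 = n289 := ((((iv F197)).symm.trans (sb E8113 (tr (iv D5418) E9301)))).symm
theorem E9593 : n1182 = n865 := (((D865).symm.trans (sb E8114 (iv D1639)))).symm
theorem E9595 : n8243 = n416 := ((F10260).symm.trans (sb E8115 (iv F10187)))
theorem E9596 : n1177 = n870 := (((D870).symm.trans (sb E8116 (iv D1632)))).symm
theorem E9598 : n6309 = n82 := (((F83).symm.trans (sb E8120 (iv D8086)))).symm
theorem F10277 : act 2 n839 = n869 := (sb E8125 (iv D1220))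
theorem E9609 : n339 = n289 := ((F345).symm.trans (sb E8135 (tr D3604 E9592)))
theorem E9627 : n1638 = n1072 := ((((iv F766)).symm.trans (sb E8145 (iv F1199)))).symm
theorem E9644 : n4272 = n3399 := (E8243).trans E8510
theorem F10280 : act 0 n751 = n616 := (sb E8182 F627)
theorem F10281 : act 1 n879 = n1095 := (sb E8184 (iv F10193))
theorem F10282 : act 1 n1523 = n1235 := (sb E8185 F1258)
theorem F10283 : act 2 n422 = n519 := (sb E8187 (iv D750))
theorem F10284 : act 3 n1358 = n6990 := (sb E8194 D6990)
theorem E9646 : n6990 = n1000 := ((((iv D1393)).symm.trans (sb E8241 (iv F5513)))).symm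
theorem E9648 : n2332 = n1388 := (E8673).trans E9573
theorem F10285 : act 1 n1408 = n1712 := (sb E8201 (iv F10117))
theorem F10286 : act 0 n721 = n1003 := (sb E8963 F1012)
theorem F10287 : act 0 n4166 = n4166 := (sb E8227 F4239)
theorem E9669 : n1661 = n1255 := (((F972).symm.trans (sb E8230 (iv D2267)))).symm
theorem E9670 : n3173 = n3136 := (((iv F2401)).symm.trans (sb E8231 F3085))
theorem F10288 : act 3 n2538 = n1913 := (sb E8234 (iv D2600))
theorem F10289 : act 2 n1481 = n1932 := (sb E8235 (iv D2625))
theorem F10290 : act 3 n1393 = n1866 := (sb E8239 (iv F1374))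
theorem F10291 : act 0 n3399 = n3399 := (sb E9644 F3279)
theorem F10292 : act 0 n1398 = n1729 := (sb E8266 F1760)
theorem F10293 : act 1 n1263 = n1559 := (sb E8293 F10063)
theorem E9695 : n1646 = n1362 := (((iv F1208)).symm.trans (sb E8293 (iv D1872)))
theorem F10294 : act 0 n2311 = n1795 := (sb E8308 F1830)
theorem E9701 : n5663 = n5375 := ((D5663).symm.trans (sb E8311 (iv F4171)))
theorem E9702 : n3437 = n3286 := ((F9747).symm.trans (sb E8311 (iv D4343)))
theorem F10295 : act 0 n4363 = n4363 := (sb E8312 F4462)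
theorem E9703 : n6087 = n5375 := (E8313).trans E9701
theorem E9704 : n7811 = n4107 := ((((iv D5375)).symm.trans (sb E9703 D7811))).symm
theorem E9705 : n4537 = n4107 := (((iv F9674)).symm.trans (sb E8314 (tr F7578 E9704)))
theorem E9706 : n6086 = n2780 := (E8315).trans E9045
theorem E9707 : n7810 = n2055 := ((((iv D2780)).symm.trans (sb E9706 D7810))).symm
theorem E9708 : n2058 = n2055 := (((iv F1518)).symm.trans (sb E8316 (tr F7579 E9707)))
theorem F10296 : act 1 n1937 = n1739 := (sb E8337 (iv D2370))
theorem F10297 : act 2 n1937 = n2504 := (sb E8337 (iv F1873))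
theorem F10298 : act 0 n3356 = n2630 := (sb E8344 F2673)
theorem E9721 : n3515 = n2891 := (E9342).trans E9343
theorem E9737 : n1526 = n701 := ((((iv D997)).symm.trans (sb E8377 (iv F1114)))).symm
theorem F10299 : act 2 n997 = n780 := (sb E8377 (iv D1100))
theorem E9739 : n3354 = n1336 := (E8379).trans E8642
theorem E9740 : n2503 = n1840 := (((D1840).symm.trans (sb E9739 (iv D3354)))).symm
theorem E9742 : n2795 = n2502 := ((F10261).symm.trans (sb E8381 (iv D3353)))
theorem F10301 : act 1 n952 = n952 := (sb E8385 (iv D1331))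
theorem E9750 : n7395 = n1356 := ((F10271).symm.trans (sb E8390 (iv F10200)))
theorem E9760 : n3128 = n727 := (E8404).trans E8781
theorem E9762 : n2329 = n719 := (((F514).symm.trans (sb E9760 (iv D3128)))).symm
theorem E9763 : n719 = n625 := (((D625).symm.trans (sb E8405 (tr F2350 E9762)))).symm
theorem F10302 : act 0 n430 = n341 := (sb E8406 F346)
theorem E9765 : n626 = n503 := ((D626).symm.trans (sb E8406 (iv F353)))
theorem E9788 : n1085 = n767 := (((F776).symm.trans (sb E8432 (iv D1509)))).symm
theorem E9800 : n1004 = n992 := ((D1004).symm.trans (sb E8447 (tr F4276 E9522)))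
theorem E9806 : n1729 = n1022 := ((F10292).symm.trans (sb E8451 F1039))
theorem F10303 : act 0 n1521 = n1901 := (sb E8465 F1938)
theorem E9815 : n2792 = n1531 := ((((iv F1118)).symm.trans (sb E8470 (iv D3724)))).symm
theorem E9816 : n4890 = n1533 := (((D1533).symm.trans (sb E8470 D4890))).symm
theorem F10304 : act 0 n2955 = n2340 := (sb E8493 F2366)
theorem E9833 : n1701 = n1609 := ((F1265).symm.trans (sb E8494 (iv D2201)))
theorem F10306 : act 3 n2953 = n2340 := (sb E8495 (iv D3139))
theorem E9835 : n1138 = n855 := ((((iv D1200)).symm.trans (sb E8496 (iv D1575)))).symm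
theorem E9839 : n4818 = n4432 := (E9170).trans E9175
theorem E9846 : n3044 = n2506 := (((D2506).symm.trans (sb E8504 (iv D4043)))).symm
theorem F10307 : act 3 n3399 = n2599 := (sb E8510 (iv D3474))
theorem E9873 : n1461 = n869 := (((D869).symm.trans (sb E8541 F10122))).symm
theorem F10308 : act 2 n116 = n6046 := (sb E8547 D6046)
theorem E9882 : n6349 = n2447 := (((D2447).symm.trans (sb E8550 (iv F4966)))).symm
theorem E9883 : n3617 = n2305 := ((((iv F1717)).symm.trans (sb E8553 (iv F2758)))).symm
theorem E9884 : n2453 = n2062 := ((D2453).symm.trans (sb E8553 F2027))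
theorem E9888 : n4106 = n3092 := ((((iv F2331)).symm.trans (iv (sb E8555 (tr F3662 E9883))))).symm
theorem E9897 : n2447 = n1785 := (((D1785).symm.trans (sb E8562 (tr F6495 E9882)))).symm
theorem E9902 : n7946 = n5375 := (E8567).trans E9701
theorem F10309 : act 2 n5375 = n10016 := (sb E9902 D10016)
theorem F10310 : act 0 n1237 = n1436 := (sb E8571 (iv D1967))
theorem E9913 : n2683 = n2536 := ((F10102).symm.trans (sb E8582 F1911))
theorem F10311 : act 1 n2144 = n1873 := (sb E8582 (iv D2549))
theorem E9918 : n2866 = n2443 := ((D2866).symm.trans (sb E8590 F10198))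
theorem E9919 : n2864 = n2311 := (((iv F2148)).symm.trans (sb E8590 (iv D3101)))
theorem F10312 : act 0 n1497 = n1552 := (sb E8592 F1577)
theorem F10313 : act 0 n1157 = n1259 := (sb E8594 F1281)
theorem E9922 : n2835 = n2810 := (((D2810).symm.trans (sb E8596 F2620))).symm
theorem E9924 : n2676 = n462 := (((F469).symm.trans (sb E8601 (iv F2002)))).symm
theorem E9926 : n7777 = n742 := ((((iv D1048)).symm.trans (sb E8602 D7777))).symm
theorem E9927 : n742 = n586 := (((F602).symm.trans (sb E9272 (tr F7611 E9926)))).symm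
theorem F10314 : act 1 n1507 = n10817 := (sb E8607 D10817)
theorem E9930 : n10817 = n1531 := ((F10314).symm.trans (sb E8613 F1558))
theorem E9940 : n6756 = n5375 := (E9283).trans E9701
theorem F10315 : act 2 n2304 = n2239 := (sb E8622 F2254)
theorem F10316 : act 0 n1221 = n1179 := (sb E8623 F1195)
theorem F10317 : act 2 n1492 = n2027 := (sb E8633 (iv F10195))
theorem E9946 : n5790 = n3664 := (((D3664).symm.trans (sb E8634 F5622))).symm
theorem F10318 : act 0 n1503 = n1536 := (sb E8667 (iv F10002))
theorem E9970 : n1082 = n1080 := (((F1098).symm.trans (sb E8667 F1099))).symm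
theorem F10319 : act 0 n2584 = n2082 := (sb E8672 F2099)
theorem F10320 : act 0 n1388 = n1712 := (sb E9648 F1735)
theorem E9995 : n2232 = n2069 := ((((iv F1527)).symm.trans (sb E8708 (iv D3002)))).symm
theorem E9996 : n2234 = n2068 := ((((iv F1526)).symm.trans (sb E8708 F2257))).symm
theorem E10006 : n375 = n354 := ((D375).symm.trans (sb E8731 (iv D516)))
theorem F10321 : act 1 n722 = n878 := (sb E8750 (iv D1232))
theorem E10015 : n310 = n309 := ((((iv F211)).symm.trans (sb E8751 (tr (iv D6149) E9488)))).symm
theorem E10016 : n288 = n144 := ((((iv D224)).symm.trans (sb E8751 (tr F4806 E9487)))).symm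
theorem F10322 : act 0 n734 = n663 := (sb E8754 (iv D946))
theorem E10017 : n1322 = n1039 := (((D1039).symm.trans (sb E8754 D1322))).symm
theorem F10323 : act 0 n1401 = n1904 := (sb E8773 F1941)
theorem F10324 : act 2 n2589 = n2589 := (sb E8775 F1961)
theorem F10325 : act 2 n1382 = n1284 := (sb E8776 F1301)
theorem F10326 : act 1 n1567 = n3726 := (sb E8832 D3726)
theorem E10053 : n2633 = n2146 := (((D2146).symm.trans (sb E8832 F2087))).symm
theorem E10054 : n2448 = n1533 := (((iv F1834)).symm.trans (sb E8833 F1559))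
theorem E10056 : n4884 = n1161 := (E8834).trans E9197
theorem E10058 : n3726 = n1604 := ((((iv F1169)).symm.trans (sb E10056 F3768))).symm
theorem F10327 : act 2 n873 = n1117 := (sb E8866 (iv D1551))
theorem E10089 : n4680 = n1479 := (E8870).trans E9459
theorem F10328 : act 0 n1479 = n6095 := (sb E10089 (iv F4766))
theorem E10097 : n441 = n439 := (((iv F306)).symm.trans (sb E8883 (tr F9456 E8883)))
theorem F10329 : act 2 n299 = n299 := (sb E8884 (iv D444))
theorem F10330 : act 1 n643 = n643 := (sb E8885 (iv D917))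
theorem F10331 : act 1 n517 = n376 := (sb E8909 F383)
theorem F10332 : act 0 n2963 = n2885 := (sb E8926 F2929)
theorem F10333 : act 3 n3645 = n3513 := (sb E8927 (iv D4633))
theorem E10124 : n2243 = n1886 := ((D2243).symm.trans (sb E8937 F10073))
theorem F10334 : act 1 n951 = n1034 := (sb E8938 (iv F10230))
theorem E10125 : n669 = n462 := ((D669).symm.trans (sb E8939 (tr (iv D3574) E9924)))
theorem F10335 : act 1 n1823 = n1823 := (sb E8944 F1344)
theorem E10132 : n3012 = n1811 := (((iv F2266)).symm.trans (sb E8951 F1841))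
theorem E10135 : n666 = n664 := (((iv F467)).symm.trans (sb E8965 (tr F10135 E8965)))
theorem F10336 : act 1 n1323 = n1323 := (sb E8968 F960)
theorem F10337 : act 0 n2239 = n2239 := (sb E8969 (iv D3009))
theorem F10338 : act 0 n2304 = n2304 := (sb E8972 (iv D3091))
theorem F10339 : act 0 n3272 = n2867 := (sb E8978 F2914)
theorem E10140 : n3277 = n2933 := (((iv F2490)).symm.trans (sb E8978 F10153))
theorem E10160 : n1714 = n895 := (((F686).symm.trans (sb E9014 (iv D2336)))).symm
theorem F10340 : act 0 n909 = n1000 := (sb E9021 F1010)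
theorem E10164 : n912 = n909 := (((iv F651)).symm.trans (sb E9021 (tr F9427 E9021)))
theorem E10165 : n1279 = n1274 := (((iv F927)).symm.trans (sb E9023 (tr F9437 E9023)))
theorem F10341 : act 2 n3438 = n2867 := (sb E9038 F2858)
theorem E10181 : n2655 = n2464 := ((D2655).symm.trans (sb E9041 (iv F1843)))
theorem F10342 : act 1 n2780 = n2780 := (sb E9045 F2079)
theorem F10343 : act 2 n2780 = n2584 := (sb E9045 (iv F9959))
theorem E10188 : n3130 = n995 := (((D995).symm.trans (sb E9056 F2448))).symm
theorem E10195 : n409 = n259 := ((((iv D386)).symm.trans (sb E9067 (iv D595)))).symm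
theorem F10344 : act 1 n1233 = n1024 := (sb E9072 F1041)
theorem F10345 : act 0 n1450 = n1323 := (sb E9074 F1341)
theorem F10346 : act 3 n1450 = n1957 := (sb E9074 (iv F1439))
theorem F10347 : act 0 n900 = n1148 := (sb E9075 F1157)
theorem F10348 : act 0 n1588 = n1263 := (sb E9076 F1209)
theorem E10199 : n1869 = n1188 := (((iv F10210)).symm.trans (sb E9076 (iv D1648)))
theorem F10349 : act 2 n812 = n631 := (sb E9077 (iv D899))
theorem E10200 : n3303 = n2178 := (((D2178).symm.trans (sb E9078 (iv F10090)))).symm
theorem F10350 : act 0 n1926 = n2589 := (sb E9083 F1962)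
theorem F10351 : act 2 n1926 = n1926 := (sb E9083 (iv D2618))
theorem F10352 : act 0 n1386 = n1005 := (sb E9085 F1013)
theorem F10353 : act 0 n1094 = n1384 := (sb E9087 F1397)
theorem E10222 : n1710 = n1019 := ((D1710).symm.trans (sb E9115 (iv D1421)))
theorem F10354 : act 3 n1236 = n1436 := (sb E9115 (iv F1048))
theorem E10224 : n2823 = n1939 := ((((iv F1425)).symm.trans (sb E9119 F2869))).symm
theorem E10242 : n1435 = n995 := ((D1435).symm.trans (sb E9154 (tr (iv F10109) E10188)))
theorem F10356 : act 0 n4484 = n4484 := (sb E9168 F4367)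
theorem F10357 : act 3 n4484 = n5450 := (sb E9168 F9844)
theorem E10249 : n5508 = n5450 := (((iv F4297)).symm.trans (sb E9839 (iv F10247)))
theorem F10358 : act 3 n2747 = n2144 := (sb E9173 (iv D2888))
theorem F10359 : act 0 n4432 = n3513 := (sb E9175 F3561)
theorem E10257 : n352 = n270 := ((((iv F186)).symm.trans (sb E9187 F359))).symm
theorem F10360 : act 0 n1694 = n1299 := (sb E9193 (iv D1794))
theorem F10361 : act 2 n1788 = n1608 := (sb E9196 (iv D2200))
theorem E10273 : n6046 = n82 := ((F10308).symm.trans (sb E9205 (iv D134)))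
theorem E10275 : n175 = n94 := (((D94).symm.trans (sb E9211 (iv D268)))).symm
theorem F10362 : act 0 n83 = n116 := (sb E9218 (iv D181))
theorem F10363 : act 0 n136 = n183 := (sb E9224 F190)
theorem E10292 : n1598 = n1226 := ((D1598).symm.trans (sb E9240 (tr D10595 E9291)))
theorem F10364 : act 0 n632 = n812 := (sb E9247 (iv D1146))
theorem F10365 : act 0 n1801 = n1377 := (sb E9253 (iv D1891))
theorem F10366 : act 0 n1892 = n2452 := (sb E9254 F2497)
theorem E10305 : n1463 = n1180 := (((D1180).symm.trans (sb E9271 D1463))).symm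
theorem E10306 : n741 = n585 := ((((iv D840)).symm.trans (sb E9271 (iv D1047)))).symm
theorem F10367 : act 1 n5375 = n6761 := (sb E9940 (iv F5318))
theorem E10309 : n6761 = n4329 := (((D4329).symm.trans (sb E9284 (iv D8628)))).symm
theorem F10368 : act 1 n1332 = n1332 := (sb E9288 F1349)
theorem F10369 : act 1 n1938 = n2498 := (sb E9340 (iv D3348))
theorem E10337 : n2501 = n1511 := ((D2501).symm.trans (sb E9341 (iv D2067)))
theorem E10338 : n2632 = n2147 := ((((iv D2891)).symm.trans (sb E9721 F2675))).symm
theorem F10370 : act 0 n2891 = n2204 := (sb E9343 (iv D2964))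
theorem F10371 : act 3 n2891 = n2498 := (sb E9343 (iv F9724))
theorem F10372 : act 1 n1508 = n1508 := (sb E9348 (iv D2063))
theorem F10373 : act 1 n1183 = n1221 := (sb E9353 F1237)
theorem F10374 : act 3 n1060 = n6447 := (sb E9369 D6447)
theorem F10375 : act 0 n1060 = n879 := (sb E9371 F890)
theorem E10358 : n6447 = n1238 := ((F10374).symm.trans (sb E9371 (iv F896)))
theorem E10360 : n871 = n743 := (((iv F624)).symm.trans (sb E9374 (iv D1049)))
theorem F10376 : act 0 n761 = n873 := (sb E9380 F886)
theorem F10377 : act 3 n1260 = n1071 := (sb E9382 (iv D1495))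
theorem F10378 : act 2 n1695 = n1552 := (sb E9385 (iv D2125))
theorem F10379 : act 1 n1155 = n1227 := (sb E9386 F1252)
theorem E10367 : n2241 = n1313 := (((iv F1669)).symm.trans (sb E9395 F1322))
theorem F10380 : act 2 n362 = n241 := (sb E9396 (iv D363))
theorem E10369 : n6095 = n1932 := (((D1932).symm.trans (sb E9398 D6095))).symm
theorem F10381 : act 1 n1532 = n1161 := (sb E9405 (iv F10267))
theorem E10374 : n2238 = n1373 := ((((iv F10072)).symm.trans (sb E9416 F1859))).symm
theorem F10382 : act 2 n1356 = n5737 := (sb E9423 (iv D7379))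
theorem F10384 : act 0 n1140 = n897 := (sb E9443 F913)
theorem F10385 : act 2 n1140 = n896 := (sb E9443 (iv D1257))
theorem E10386 : n806 = n596 := (((iv F575)).symm.trans (sb E9448 F614))
theorem E10388 : n10441 = n1512 := (((D1512).symm.trans (sb E9452 (iv F8512)))).symm
theorem E10390 : n8302 = n1180 := (E9454).trans E10305
theorem E10391 : n1636 = n1512 := ((D1636).symm.trans (sb E10390 (tr D10441 E10388)))
theorem F10386 : act 3 n1713 = n1479 := (sb E9466 (iv D2025))
theorem E10418 : n6128 = n144 := (E9487).trans E10016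
theorem E10419 : n223 = n189 := ((D223).symm.trans (sb E10418 (tr F9908 E9532)))
theorem F10387 : act 2 n1156 = n1228 := (sb E9503 F1249)
theorem E10432 : n3397 = n1979 := (((F10061).symm.trans (sb E9504 F2590))).symm
theorem E10454 : n3171 = n2268 := (((D2268).symm.trans (sb E9538 D3171))).symm
theorem E10456 : n1019 = n892 := ((E10222).symm.trans ((D1710).symm.trans (sb E9542 (iv D1251))))
theorem F10388 : act 2 n2339 = n5505 := (sb E9544 F5609)
theorem E10459 : n5505 = n2955 := ((((iv F10304)).symm.trans (sb E9545 D5505))).symm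
theorem E10460 : n3357 = n2953 := ((((iv F10306)).symm.trans (sb E9545 F3229))).symm
theorem F10389 : act 2 n1809 = n9373 := (sb E9551 D9373)
theorem F10390 : act 2 n2177 = n1797 := (sb E9560 (iv D2446))
theorem F10391 : act 0 n1301 = n1647 := (sb E9563 (iv D2248))
theorem F10392 : act 2 n1388 = n1436 := (sb E9573 (iv D1968))
theorem F10393 : act 1 n1898 = n1395 := (sb E9574 (iv D1916))
theorem F10394 : act 2 n1898 = n1772 := (sb E9574 F10242)
theorem F10395 : act 3 n1898 = n1712 := (sb E9574 F10243)
theorem F10396 : act 0 n848 = n974 := (sb E9590 F988)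
theorem F10397 : act 0 n865 = n843 := (sb E9593 F851)
theorem F10398 : act 2 n865 = n842 := (sb E9593 (iv D1182))
theorem E10480 : n1640 = n983 := (((F10259).symm.trans (sb E9593 D1640))).symm
theorem F10399 : act 3 n416 = n477 := (sb E9595 (iv F10260))
theorem F10400 : act 0 n870 = n839 := (sb E9596 (iv D1177))
theorem F10401 : act 1 n870 = n842 := (sb E9596 F847)
theorem F10402 : act 2 n82 = n4896 := (sb E9598 F4927)
theorem F10403 : act 0 n289 = n225 := (sb E9609 F234)
theorem F10405 : act 1 n1072 = n1260 := (sb E9627 F1200)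
theorem E10502 : n1464 = n1181 := (((iv F1072)).symm.trans (sb E9627 (iv D1638)))
theorem F10406 : act 3 n1000 = n1358 := (sb E9646 (iv F10284))
theorem F10407 : act 2 n1255 = n1199 := (sb E9669 (iv D1661))
theorem F10408 : act 2 n3136 = n2505 := (sb E9670 F2401)
theorem F10409 : act 3 n1362 = n1263 := (sb E9695 F1208)
theorem F10410 : act 0 n5375 = n5375 := (sb E9701 (iv F9887))
theorem E10535 : n10016 = n4363 := ((F10309).symm.trans (sb E9701 F4427))
theorem F10411 : act 0 n3286 = n2571 := (sb E9702 F2610)
theorem F10412 : act 3 n3286 = n4329 := (sb E9702 (iv F9747))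
theorem F10413 : act 0 n4107 = n4107 := (sb E9705 F9674)
theorem F10414 : act 0 n2055 = n2104 := (sb E9708 F10001)
theorem F10415 : act 1 n2055 = n2055 := (sb E9708 F1518)
theorem E10554 : n1097 = n994 := ((((iv F715)).symm.trans (sb E9737 (iv D1526)))).symm
theorem F10416 : act 2 n1840 = n1840 := (sb E9740 (iv D2503))
theorem F10417 : act 2 n2502 = n2502 := (sb E9742 (tr F10261 E9742))
theorem E10564 : n9373 = n1864 := (((D1864).symm.trans (sb E9750 (iv F7568)))).symm
theorem E10565 : n5737 = n1312 := ((F10382).symm.trans (sb E9750 (iv F10271)))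
theorem E10575 : n1710 = n892 := (E10222).trans E10456
theorem F10418 : act 3 n625 = n727 := (sb E9763 (iv F514))
theorem F10419 : act 3 n503 = n430 := (sb E9765 (iv D626))
theorem F10420 : act 2 n767 = n767 := (sb E9788 (iv D1085))
theorem F10421 : act 0 n992 = n707 := (sb E9800 (iv D1004))
theorem F10422 : act 0 n1022 = n1398 := (sb E9806 (iv F10292))
theorem F10423 : act 2 n1531 = n3725 := (sb E9815 D3725)
theorem F10424 : act 0 n1533 = n3725 := (sb E9816 F3775)
theorem F10425 : act 3 n1533 = n6356 := (sb E9816 D6356)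
theorem F10426 : act 0 n1609 = n1788 := (sb E9833 (iv F1316))
theorem F10427 : act 1 n1609 = n1228 := (sb E9833 (iv D1701))
theorem F10428 : act 3 n1609 = n1717 := (sb E9833 (iv F1265))
theorem F10429 : act 2 n855 = n808 := (sb E9835 F821)
theorem F10430 : act 0 n2506 = n3136 := (sb E9846 (iv F2365))
theorem E10628 : n1050 = n609 := (((F623).symm.trans (sb E9873 F1067))).symm
theorem F10431 : act 1 n2062 = n1803 := (sb E9884 (iv D2453))
theorem F10432 : act 0 n3092 = n3092 := (sb E9888 F3143)
theorem F10433 : act 1 n1785 = n1798 := (sb E9897 (iv D2447))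
theorem F10434 : act 0 n2536 = n2144 := (sb E9913 (iv F10102))
theorem F10435 : act 0 n2443 = n2126 := (sb E9918 (iv D2866))
theorem F10436 : act 1 n2443 = n2177 := (sb E9918 F10043)
theorem F10437 : act 2 n2311 = n2126 := (sb E9919 F2148)
theorem F10438 : act 1 n2810 = n3438 := (sb E9922 (iv F2611))
theorem F10439 : act 3 n2810 = n2104 := (sb E9922 (iv D2835))
theorem E10653 : n513 = n402 := ((((iv D586)).symm.trans (sb E9927 (iv D742)))).symm
theorem F10440 : act 1 n1531 = n1507 := (sb E9930 (iv F10314))
theorem F10441 : act 3 n3664 = n4432 := (sb E9946 (iv D5790))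
theorem F10442 : act 2 n1080 = n1080 := (sb E9970 F774)
theorem F10443 : act 1 n2069 = n1635 := (sb E9995 (iv D2232))
theorem F10444 : act 1 n2068 = n2502 := (sb E9996 (iv F1871))
theorem F10445 : act 1 n354 = n251 := (sb E10006 (iv D375))
theorem E10690 : n204 = n203 := ((((iv D309)).symm.trans (sb E10015 (iv D310)))).symm
theorem F10446 : act 0 n1039 = n947 := (sb E10017 F958)
theorem F10447 : act 1 n2146 = n3516 := (sb E10053 D3516)
theorem E10708 : n3725 = n1799 := ((F10424).symm.trans (sb E10054 F1834))
theorem E10709 : n6356 = n1798 := ((F10425).symm.trans (sb E10054 (iv D2448)))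
theorem F10448 : act 1 n1604 = n1567 := (sb E10058 (iv F10326))
theorem E10713 : n3516 = n2196 := (((D2196).symm.trans (sb E10058 F2838))).symm
theorem F10449 : act 2 n439 = n439 := (sb E10097 F306)
theorem F10450 : act 0 n1886 = n2242 := (sb E10124 F1671)
theorem F10451 : act 2 n1886 = n1643 := (sb E10124 (iv D2243))
theorem F10452 : act 2 n462 = n462 := (sb E10125 (iv D669))
theorem F10453 : act 1 n1811 = n2242 := (sb E10132 F2266)
theorem F10454 : act 2 n664 = n664 := (sb E10135 F467)
theorem F10455 : act 1 n2933 = n3272 := (sb E10140 F2490)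
theorem F10456 : act 2 n2933 = n3302 := (sb E10140 (iv F2506))
theorem F10457 : act 2 n895 = n1239 := (sb E10160 (iv D1714))
theorem F10458 : act 1 n909 = n909 := (sb E10164 F651)
theorem F10459 : act 1 n1274 = n1274 := (sb E10165 F927)
theorem F10460 : act 1 n2464 = n1957 := (sb E10181 (iv D2655))
theorem E10771 : n385 = n275 := (((iv F264)).symm.trans (sb E10195 F286))
theorem F10461 : act 0 n1188 = n1362 := (sb E10199 F1376)
theorem F10462 : act 3 n1188 = n1588 := (sb E10199 F10210)
theorem F10463 : act 2 n2178 = n2464 := (sb E10200 (iv D3303))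
theorem F10464 : act 1 n892 = n1236 := (sb E10575 (iv D1710))
theorem F10465 : act 2 n1939 = n2146 := (sb E10224 F2116)
theorem F10466 : act 0 n995 = n1029 := (sb E10242 (iv D1435))
theorem F10467 : act 2 n995 = n1030 := (sb E10242 F1047)
theorem F10468 : act 1 n5450 = n4432 := (sb E10249 F4297)
theorem E10797 : n232 = n176 := ((((iv D270)).symm.trans (sb E10257 (iv D352)))).symm
theorem E10806 : n4896 = n116 := ((F10402).symm.trans (sb E10273 (iv F10308)))
theorem E10808 : n151 = n111 := ((D151).symm.trans (sb E10275 (iv D175)))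
theorem F10469 : act 0 n1226 = n1156 := (sb E10292 F1165)
theorem F10470 : act 3 n1226 = n1155 := (sb E10292 (iv D1598))
theorem F10471 : act 3 n1180 = n1073 := (sb E10305 F1070)
theorem F10472 : act 2 n585 = n515 := (sb E10306 F524)
theorem F10473 : act 1 n4329 = n5375 := (sb E10309 (iv F10367))
theorem F10474 : act 1 n1511 = n1839 := (sb E10337 (iv D2501))
theorem F10475 : act 0 n2147 = n1939 := (sb E10338 F1973)
theorem F10476 : act 3 n2147 = n1938 := (sb E10338 (iv D2632))
theorem F10477 : act 3 n1238 = n1060 := (sb E10358 (iv F10374))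
theorem F10478 : act 0 n743 = n610 := (sb E10360 F624)
theorem F10479 : act 1 n1313 = n1642 := (sb E10367 (iv D2241))
theorem F10480 : act 2 n1313 = n1647 := (sb E10367 F1669)
theorem F10481 : act 0 n1932 = n1479 := (sb E10369 (iv F10328))
theorem F10482 : act 0 n1373 = n1642 := (sb E10374 F1667)
theorem F10483 : act 2 n596 = n565 := (sb E10386 F575)
theorem F10484 : act 1 n1512 = n1180 := (sb E10391 (iv D1636))
theorem F10485 : act 0 n189 = n145 := (sb E10419 F147)
theorem F10486 : act 2 n189 = n144 := (sb E10419 (iv D223))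
theorem F10487 : act 2 n1979 = n2536 := (sb E10432 (iv D3397))
theorem F10488 : act 3 n2268 = n2506 := (sb E10454 F2399)
theorem F10489 : act 3 n892 = n1030 := (sb E10456 (iv F740))
theorem F10490 : act 2 n2955 = n2339 := (sb E10459 (iv F10388))
theorem F10491 : act 1 n2953 = n2506 := (sb E10460 (iv D3357))
theorem F10492 : act 0 n983 = n1184 := (sb E10480 F1202)
theorem F10493 : act 0 n1181 = n1073 := (sb E10502 F1071)
theorem F10494 : act 2 n1181 = n1072 := (sb E10502 F1072)
theorem F10495 : act 2 n4363 = n5375 := (sb E10535 (iv F10309))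
theorem F10496 : act 1 n994 = n777 := (sb E10554 (iv D1097))
theorem F10497 : act 3 n994 = n1029 := (sb E10554 F787)
theorem F10498 : act 2 n1864 = n1809 := (sb E10564 (iv F10389))
theorem F10499 : act 2 n1312 = n1356 := (sb E10565 (iv F10382))
theorem F10500 : act 2 n609 = n743 := (sb E10628 (iv D1050))
theorem F10501 : act 2 n402 = n353 := (sb E10653 F360)
theorem F10502 : act 2 n203 = n131 := (sb E10690 (iv D204))
theorem F10503 : act 0 n1799 = n1533 := (sb E10708 (iv F10424))
theorem F10504 : act 2 n1799 = n1531 := (sb E10708 (iv F10423))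
theorem F10505 : act 3 n1798 = n1533 := (sb E10709 (iv F10425))
theorem F10506 : act 1 n2196 = n2146 := (sb E10713 (iv F10447))
theorem F10507 : act 1 n275 = n259 := (sb E10771 F264)
theorem E10979 : n258 = n179 := ((((iv D275)).symm.trans (sb E10771 (iv D385)))).symm
theorem F10508 : act 1 n176 = n152 := (sb E10797 F154)
theorem F10509 : act 2 n116 = n82 := (sb E10806 (iv F10402))
theorem F10510 : act 1 n111 = n94 := (sb E10808 (iv D151))
theorem F10511 : act 1 n179 = n168 := (sb E10979 (iv D258))

end Cfsg.Agent.Helper17.SuzP3TC
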