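import Cfsg.Agent.Helper17.SuzP3TC.Final

set_option autoImplicit false
set_option linter.all false
set_option maxRecDepth 100000

noncomputable section

namespace Cfsg.Agent.Helper17.SuzP3TC

theorem N1 : nd 1 = n1 := ndS (p := 0) (l := 1) rfl N0 D1
theorem N2 : nd 2 = n2 := ndS (p := 0) (l := 2) rfl N0 D2
theorem N3 : nd 3 = n3 := ndS (p := 0) (l := 3) rfl N0 D3
theorem N4 : nd 4 = n4 := ndS (p := 1) (l := 0) rfl N1 D4
theorem N5 : nd 5 = n5 := ndS (p := 1) (l := 2) rfl N1 D5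
theorem N6 : nd 6 = n6 := ndS (p := 1) (l := 3) rfl N1 D6
theorem N7 : nd 7 = n7 := ndS (p := 2) (l := 1) rfl N2 D7
theorem N8 : nd 8 = n8 := ndS (p := 2) (l := 3) rfl N2 D8
theorem N9 : nd 9 = n9 := ndS (p := 3) (l := 2) rfl N3 D9
theorem N10 : nd 10 = n10 := ndS (p := 4) (l := 1) rfl N4 D10
theorem N11 : nd 11 = n11 := ndS (p := 4) (l := 2) rfl N4 D11
theorem N12 : nd 12 = n12 := ndS (p := 4) (l := 3) rfl N4 D12
theorem N13 : nd 13 = n13 := ndS (p := 5) (l := 1) rfl N5 D13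
theorem N14 : nd 14 = n14 := ndS (p := 5) (l := 3) rfl N5 D14
theorem N15 : nd 15 = n15 := ndS (p := 6) (l := 2) rfl N6 D15
theorem N16 : nd 16 = n16 := ndS (p := 7) (l := 0) rfl N7 D16
theorem N17 : nd 17 = n17 := ndS (p := 7) (l := 3) rfl N7 D17
theorem N18 : nd 18 = n18 := ndS (p := 8) (l := 2) rfl N8 D18
theorem N19 : nd 19 = n19 := ndS (p := 9) (l := 1) rfl N9 D19
theorem N20 : nd 20 = n20 := ndS (p := 9) (l := 3) rfl N9 D20
theorem N21 : nd 21 = n21 := ndS (p := 10) (l := 0) rfl N10 D21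
theorem N22 : nd 22 = n22 := ndS (p := 10) (l := 2) rfl N10 D22
theorem N23 : nd 23 = n23 := ndS (p := 10) (l := 3) rfl N10 D23
theorem N24 : nd 24 = n24 := ndS (p := 11) (l := 1) rfl N11 D24
theorem N25 : nd 25 = n25 := ndS (p := 11) (l := 3) rfl N11 D25
theorem N26 : nd 26 = n26 := ndS (p := 12) (l := 2) rfl N12 D26
theorem N27 : nd 27 = n27 := ndS (p := 13) (l := 0) rfl N13 D27
theorem N28 : nd 28 = n28 := ndS (p := 13) (l := 3) rfl N13 D28
theorem N29 : nd 29 = n29 := ndS (p := 14) (l := 2) rfl N14 D29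
theorem N30 : nd 30 = n30 := ndS (p := 15) (l := 1) rfl N15 D30
theorem N31 : nd 31 = n31 := ndS (p := 15) (l := 3) rfl N15 D31
theorem N32 : nd 32 = n32 := ndS (p := 16) (l := 1) rfl N16 D32
theorem N33 : nd 33 = n33 := ndS (p := 16) (l := 3) rfl N16 D33
theorem N34 : nd 34 = n34 := ndS (p := 17) (l := 2) rfl N17 D34
theorem N35 : nd 35 = n35 := ndS (p := 18) (l := 1) rfl N18 D35
theorem N36 : nd 36 = n36 := ndS (p := 18) (l := 3) rfl N18 D36
theorem N37 : nd 37 = n37 := ndS (p := 19) (l := 0) rfl N19 D37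
theorem N38 : nd 38 = n38 := ndS (p := 19) (l := 3) rfl N19 D38
theorem N39 : nd 39 = n39 := ndS (p := 21) (l := 2) rfl N21 D39
theorem N40 : nd 40 = n40 := ndS (p := 21) (l := 3) rfl N21 D40
theorem N41 : nd 41 = n41 := ndS (p := 22) (l := 1) rfl N22 D41
theorem N42 : nd 42 = n42 := ndS (p := 22) (l := 3) rfl N22 D42
theorem N43 : nd 43 = n43 := ndS (p := 23) (l := 2) rfl N23 D43
theorem N44 : nd 44 = n44 := ndS (p := 24) (l := 0) rfl N24 D44
theorem N45 : nd 45 = n45 := ndS (p := 24) (l := 3) rfl N24 D45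
theorem N46 : nd 46 = n46 := ndS (p := 25) (l := 2) rfl N25 D46
theorem N47 : nd 47 = n47 := ndS (p := 26) (l := 1) rfl N26 D47
theorem N48 : nd 48 = n48 := ndS (p := 26) (l := 3) rfl N26 D48
theorem N49 : nd 49 = n49 := ndS (p := 27) (l := 1) rfl N27 D49
theorem N50 : nd 50 = n50 := ndS (p := 27) (l := 3) rfl N27 D50
theorem N51 : nd 51 = n51 := ndS (p := 28) (l := 2) rfl N28 D51
theorem N52 : nd 52 = n52 := ndS (p := 29) (l := 1) rfl N29 D52
theorem N53 : nd 53 = n53 := ndS (p := 29) (l := 3) rfl N29 D53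
theorem N54 : nd 54 = n54 := ndS (p := 30) (l := 0) rfl N30 D54
theorem N55 : nd 55 = n55 := ndS (p := 30) (l := 3) rfl N30 D55
theorem N56 : nd 56 = n56 := ndS (p := 31) (l := 2) rfl N31 D56
theorem N57 : nd 57 = n57 := ndS (p := 32) (l := 0) rfl N32 D57
theorem N58 : nd 58 = n58 := ndS (p := 32) (l := 2) rfl N32 D58
theorem N59 : nd 59 = n59 := ndS (p := 32) (l := 3) rfl N32 D59
theorem N60 : nd 60 = n60 := ndS (p := 33) (l := 2) rfl N33 D60
theorem N61 : nd 61 = n61 := ndS (p := 34) (l := 1) rfl N34 D61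
theorem N62 : nd 62 = n62 := ndS (p := 34) (l := 3) rfl N34 D62
theorem N63 : nd 63 = n63 := ndS (p := 35) (l := 0) rfl N35 D63
theorem N64 : nd 64 = n64 := ndS (p := 35) (l := 3) rfl N35 D64
theorem N65 : nd 65 = n65 := ndS (p := 37) (l := 1) rfl N37 D65
theorem N66 : nd 66 = n66 := ndS (p := 37) (l := 3) rfl N37 D66
theorem N67 : nd 67 = n67 := ndS (p := 38) (l := 2) rfl N38 D67
theorem N68 : nd 68 = n68 := ndS (p := 39) (l := 1) rfl N39 D68
theorem N69 : nd 69 = n69 := ndS (p := 39) (l := 3) rfl N39 D69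
theorem N70 : nd 70 = n70 := ndS (p := 40) (l := 2) rfl N40 D70
theorem N71 : nd 71 = n71 := ndS (p := 41) (l := 0) rfl N41 D71
theorem N72 : nd 72 = n72 := ndS (p := 41) (l := 3) rfl N41 D72
theorem N73 : nd 73 = n73 := ndS (p := 42) (l := 2) rfl N42 D73
theorem N74 : nd 74 = n74 := ndS (p := 43) (l := 1) rfl N43 D74
theorem N75 : nd 75 = n75 := ndS (p := 43) (l := 3) rfl N43 D75
theorem N76 : nd 76 = n76 := ndS (p := 44) (l := 1) rfl N44 D76
theorem N77 : nd 77 = n77 := ndS (p := 44) (l := 3) rfl N44 D77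
theorem N78 : nd 78 = n78 := ndS (p := 45) (l := 2) rfl N45 D78
theorem N79 : nd 79 = n79 := ndS (p := 46) (l := 1) rfl N46 D79
theorem N80 : nd 80 = n80 := ndS (p := 47) (l := 0) rfl N47 D80
theorem N81 : nd 81 = n81 := ndS (p := 47) (l := 3) rfl N47 D81
theorem N82 : nd 82 = n82 := ndS (p := 49) (l := 0) rfl N49 D82
theorem N83 : nd 83 = n83 := ndS (p := 49) (l := 2) rfl N49 D83
theorem N84 : nd 84 = n84 := ndS (p := 49) (l := 3) rfl N49 D84
theorem N85 : nd 85 = n85 := ndS (p := 50) (l := 2) rfl N50 D85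
theorem N86 : nd 86 = n86 := ndS (p := 51) (l := 1) rfl N51 D86
theorem N87 : nd 87 = n87 := ndS (p := 51) (l := 3) rfl N51 D87
theorem N88 : nd 88 = n88 := ndS (p := 52) (l := 0) rfl N52 D88
theorem N89 : nd 89 = n89 := ndS (p := 52) (l := 3) rfl N52 D89
theorem N90 : nd 90 = n90 := ndS (p := 54) (l := 1) rfl N54 D90
theorem N91 : nd 91 = n91 := ndS (p := 54) (l := 3) rfl N54 D91
theorem N92 : nd 92 = n92 := ndS (p := 55) (l := 2) rfl N55 D92
theorem N93 : nd 93 = n93 := ndS (p := 56) (l := 1) rfl N56 D93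
theorem N94 : nd 94 = n94 := ndS (p := 57) (l := 2) rfl N57 D94
theorem N95 : nd 95 = n95 := ndS (p := 57) (l := 3) rfl N57 D95
theorem N96 : nd 96 = n96 := ndS (p := 58) (l := 3) rfl N58 D96
theorem N97 : nd 97 = n97 := ndS (p := 59) (l := 2) rfl N59 D97
theorem N98 : nd 98 = n98 := ndS (p := 60) (l := 1) rfl N60 D98
theorem N99 : nd 99 = n99 := ndS (p := 60) (l := 3) rfl N60 D99
theorem N100 : nd 100 = n100 := ndS (p := 61) (l := 0) rfl N61 D100
theorem N101 : nd 101 = n101 := ndS (p := 61) (l := 3) rfl N61 D101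
theorem N102 : nd 102 = n102 := ndS (p := 62) (l := 2) rfl N62 D102
theorem N103 : nd 103 = n103 := ndS (p := 63) (l := 1) rfl N63 D103
theorem N104 : nd 104 = n104 := ndS (p := 63) (l := 3) rfl N63 D104
theorem N105 : nd 105 = n105 := ndS (p := 64) (l := 2) rfl N64 D105
theorem N106 : nd 106 = n106 := ndS (p := 65) (l := 0) rfl N65 D106
theorem N107 : nd 107 = n107 := ndS (p := 65) (l := 2) rfl N65 D107
theorem N108 : nd 108 = n108 := ndS (p := 65) (l := 3) rfl N65 D108
theorem N109 : nd 109 = n109 := ndS (p := 66) (l := 2) rfl N66 D109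
theorem N110 : nd 110 = n110 := ndS (p := 67) (l := 3) rfl N67 D110
theorem N111 : nd 111 = n111 := ndS (p := 68) (l := 0) rfl N68 D111
theorem N112 : nd 112 = n112 := ndS (p := 68) (l := 3) rfl N68 D112
theorem N113 : nd 113 = n113 := ndS (p := 69) (l := 2) rfl N69 D113
theorem N114 : nd 114 = n114 := ndS (p := 70) (l := 1) rfl N70 D114
theorem N115 : nd 115 = n115 := ndS (p := 70) (l := 3) rfl N70 D115
theorem N116 : nd 116 = n116 := ndS (p := 71) (l := 1) rfl N71 D116
theorem N117 : nd 117 = n117 := ndS (p := 71) (l := 3) rfl N71 D117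
theorem N118 : nd 118 = n118 := ndS (p := 72) (l := 2) rfl N72 D118
theorem N119 : nd 119 = n119 := ndS (p := 73) (l := 1) rfl N73 D119
theorem N120 : nd 120 = n120 := ndS (p := 73) (l := 3) rfl N73 D120
theorem N121 : nd 121 = n121 := ndS (p := 74) (l := 0) rfl N74 D121
theorem N122 : nd 122 = n122 := ndS (p := 74) (l := 3) rfl N74 D122
theorem N123 : nd 123 = n123 := ndS (p := 75) (l := 2) rfl N75 D123
theorem N124 : nd 124 = n124 := ndS (p := 76) (l := 0) rfl N76 D124
theorem N125 : nd 125 = n126 := ndS (p := 76) (l := 3) rfl N76 D126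
theorem N126 : nd 126 = n127 := ndS (p := 77) (l := 2) rfl N77 D127
theorem N127 : nd 127 = n128 := ndS (p := 78) (l := 1) rfl N78 D128
theorem N128 : nd 128 = n129 := ndS (p := 78) (l := 3) rfl N78 D129
theorem N129 : nd 129 = n130 := ndS (p := 79) (l := 0) rfl N79 D130
theorem N130 : nd 130 = n131 := ndS (p := 80) (l := 1) rfl N80 D131
theorem N131 : nd 131 = n132 := ndS (p := 80) (l := 3) rfl N80 D132
theorem N132 : nd 132 = n133 := ndS (p := 81) (l := 2) rfl N81 D133
theorem N133 : nd 133 = n135 := ndS (p := 82) (l := 3) rfl N82 D135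
theorem N134 : nd 134 = n136 := ndS (p := 83) (l := 3) rfl N83 D136
theorem N135 : nd 135 = n137 := ndS (p := 84) (l := 2) rfl N84 D137
theorem N136 : nd 136 = n138 := ndS (p := 85) (l := 1) rfl N85 D138
theorem N137 : nd 137 = n139 := ndS (p := 86) (l := 0) rfl N86 D139
theorem N138 : nd 138 = n140 := ndS (p := 86) (l := 3) rfl N86 D140
theorem N139 : nd 139 = n141 := ndS (p := 88) (l := 1) rfl N88 D141
theorem N140 : nd 140 = n142 := ndS (p := 88) (l := 3) rfl N88 D142
theorem N141 : nd 141 = n143 := ndS (p := 89) (l := 2) rfl N89 D143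
theorem N142 : nd 142 = n144 := ndS (p := 90) (l := 0) rfl N90 D144
theorem N143 : nd 143 = n145 := ndS (p := 90) (l := 2) rfl N90 D145
theorem N144 : nd 144 = n146 := ndS (p := 90) (l := 3) rfl N90 D146
theorem N145 : nd 145 = n147 := ndS (p := 91) (l := 2) rfl N91 D147
theorem N146 : nd 146 = n148 := ndS (p := 92) (l := 1) rfl N92 D148
theorem N147 : nd 147 = n149 := ndS (p := 92) (l := 3) rfl N92 D149
theorem N148 : nd 148 = n150 := ndS (p := 93) (l := 0) rfl N93 D150
theorem N149 : nd 149 = n152 := ndS (p := 94) (l := 3) rfl N94 D152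
theorem N150 : nd 150 = n153 := ndS (p := 95) (l := 2) rfl N95 D153
theorem N151 : nd 151 = n154 := ndS (p := 96) (l := 2) rfl N96 D154
theorem N152 : nd 152 = n155 := ndS (p := 97) (l := 1) rfl N97 D155
theorem N153 : nd 153 = n156 := ndS (p := 97) (l := 3) rfl N97 D156
theorem N154 : nd 154 = n157 := ndS (p := 98) (l := 0) rfl N98 D157
theorem N155 : nd 155 = n158 := ndS (p := 98) (l := 3) rfl N98 D158
theorem N156 : nd 156 = n159 := ndS (p := 100) (l := 1) rfl N100 D159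
theorem N157 : nd 157 = n160 := ndS (p := 100) (l := 3) rfl N100 D160
theorem N158 : nd 158 = n161 := ndS (p := 101) (l := 2) rfl N101 D161
theorem N159 : nd 159 = n162 := ndS (p := 102) (l := 1) rfl N102 D162
theorem N160 : nd 160 = n163 := ndS (p := 103) (l := 0) rfl N103 D163
theorem N161 : nd 161 = n164 := ndS (p := 103) (l := 2) rfl N103 D164
theorem N162 : nd 162 = n165 := ndS (p := 103) (l := 3) rfl N103 D165
theorem N163 : nd 163 = n166 := ndS (p := 104) (l := 2) rfl N104 D166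
theorem N164 : nd 164 = n167 := ndS (p := 105) (l := 3) rfl N105 D167
theorem N165 : nd 165 = n168 := ndS (p := 106) (l := 2) rfl N106 D168
theorem N166 : nd 166 = n169 := ndS (p := 106) (l := 3) rfl N106 D169
theorem N167 : nd 167 = n170 := ndS (p := 107) (l := 3) rfl N107 D170
theorem N168 : nd 168 = n171 := ndS (p := 108) (l := 2) rfl N108 D171
theorem N169 : nd 169 = n172 := ndS (p := 109) (l := 1) rfl N109 D172
theorem N170 : nd 170 = n173 := ndS (p := 109) (l := 3) rfl N109 D173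
theorem N171 : nd 171 = n174 := ndS (p := 110) (l := 2) rfl N110 D174
theorem N172 : nd 172 = n176 := ndS (p := 111) (l := 3) rfl N111 D176
theorem N173 : nd 173 = n177 := ndS (p := 112) (l := 2) rfl N112 D177
theorem N174 : nd 174 = n178 := ndS (p := 113) (l := 1) rfl N113 D178
theorem N175 : nd 175 = n179 := ndS (p := 114) (l := 0) rfl N114 D179
theorem N176 : nd 176 = n180 := ndS (p := 114) (l := 3) rfl N114 D180
theorem N177 : nd 177 = n183 := ndS (p := 116) (l := 3) rfl N116 D183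
theorem N178 : nd 178 = n184 := ndS (p := 117) (l := 2) rfl N117 D184
theorem N179 : nd 179 = n185 := ndS (p := 118) (l := 1) rfl N118 D185
theorem N180 : nd 180 = n186 := ndS (p := 118) (l := 3) rfl N118 D186
theorem N181 : nd 181 = n187 := ndS (p := 119) (l := 0) rfl N119 D187
theorem N182 : nd 182 = n188 := ndS (p := 119) (l := 3) rfl N119 D188
theorem N183 : nd 183 = n189 := ndS (p := 121) (l := 1) rfl N121 D189
theorem N184 : nd 184 = n190 := ndS (p := 121) (l := 3) rfl N121 D190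
theorem N185 : nd 185 = n191 := ndS (p := 122) (l := 2) rfl N122 D191
theorem N186 : nd 186 = n192 := ndS (p := 123) (l := 1) rfl N123 D192
theorem N187 : nd 187 = n194 := ndS (p := 124) (l := 3) rfl N124 D194
theorem N188 : nd 188 = n196 := ndS (p := 125) (l := 2) rfl N125 D196
theorem N189 : nd 189 = n197 := ndS (p := 126) (l := 1) rfl N126 D197
theorem N190 : nd 190 = n198 := ndS (p := 126) (l := 3) rfl N126 D198
theorem N191 : nd 191 = n199 := ndS (p := 127) (l := 0) rfl N127 D199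
theorem N192 : nd 192 = n200 := ndS (p := 127) (l := 3) rfl N127 D200
theorem N193 : nd 193 = n201 := ndS (p := 128) (l := 2) rfl N128 D201
theorem N194 : nd 194 = n202 := ndS (p := 129) (l := 1) rfl N129 D202
theorem N195 : nd 195 = n203 := ndS (p := 130) (l := 0) rfl N130 D203
theorem N196 : nd 196 = n205 := ndS (p := 130) (l := 3) rfl N130 D205
theorem N197 : nd 197 = n206 := ndS (p := 131) (l := 2) rfl N131 D206
theorem N198 : nd 198 = n207 := ndS (p := 132) (l := 3) rfl N132 D207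
theorem N199 : nd 199 = n210 := ndS (p := 133) (l := 2) rfl N133 D210
theorem N200 : nd 200 = n211 := ndS (p := 134) (l := 2) rfl N134 D211
theorem N201 : nd 201 = n212 := ndS (p := 135) (l := 1) rfl N135 D212
theorem N202 : nd 202 = n213 := ndS (p := 135) (l := 3) rfl N135 D213
theorem N203 : nd 203 = n214 := ndS (p := 136) (l := 0) rfl N136 D214
theorem N204 : nd 204 = n215 := ndS (p := 137) (l := 1) rfl N137 D215
theorem N205 : nd 205 = n216 := ndS (p := 137) (l := 3) rfl N137 D216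
theorem N206 : nd 206 = n217 := ndS (p := 138) (l := 2) rfl N138 D217
theorem N207 : nd 207 = n218 := ndS (p := 139) (l := 0) rfl N139 D218
theorem N208 : nd 208 = n219 := ndS (p := 139) (l := 2) rfl N139 D219
theorem N209 : nd 209 = n220 := ndS (p := 139) (l := 3) rfl N139 D220
theorem N210 : nd 210 = n221 := ndS (p := 140) (l := 2) rfl N140 D221
theorem N211 : nd 211 = n222 := ndS (p := 141) (l := 3) rfl N141 D222
theorem N212 : nd 212 = n224 := ndS (p := 142) (l := 3) rfl N142 D224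
theorem N213 : nd 213 = n225 := ndS (p := 143) (l := 3) rfl N143 D225
theorem N214 : nd 214 = n226 := ndS (p := 144) (l := 2) rfl N144 D226
theorem N215 : nd 215 = n227 := ndS (p := 145) (l := 1) rfl N145 D227
theorem N216 : nd 216 = n228 := ndS (p := 146) (l := 0) rfl N146 D228
theorem N217 : nd 217 = n229 := ndS (p := 146) (l := 3) rfl N146 D229
theorem N218 : nd 218 = n230 := ndS (p := 148) (l := 1) rfl N148 D230
theorem N219 : nd 219 = n233 := ndS (p := 149) (l := 2) rfl N149 D233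
theorem N220 : nd 220 = n234 := ndS (p := 150) (l := 1) rfl N150 D234
theorem N221 : nd 221 = n235 := ndS (p := 150) (l := 3) rfl N150 D235
theorem N222 : nd 222 = n236 := ndS (p := 151) (l := 1) rfl N151 D236
theorem N223 : nd 223 = n237 := ndS (p := 151) (l := 3) rfl N151 D237
theorem N224 : nd 224 = n238 := ndS (p := 152) (l := 0) rfl N152 D238
theorem N225 : nd 225 = n239 := ndS (p := 152) (l := 3) rfl N152 D239
theorem N226 : nd 226 = n240 := ndS (p := 153) (l := 2) rfl N153 D240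
theorem N227 : nd 227 = n241 := ndS (p := 154) (l := 1) rfl N154 D241
theorem N228 : nd 228 = n242 := ndS (p := 154) (l := 3) rfl N154 D242
theorem N229 : nd 229 = n243 := ndS (p := 155) (l := 2) rfl N155 D243
theorem N230 : nd 230 = n244 := ndS (p := 156) (l := 0) rfl N156 D244
theorem N231 : nd 231 = n245 := ndS (p := 156) (l := 2) rfl N156 D245
theorem N232 : nd 232 = n246 := ndS (p := 156) (l := 3) rfl N156 D246
theorem N233 : nd 233 = n247 := ndS (p := 157) (l := 2) rfl N157 D247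
theorem N234 : nd 234 = n248 := ndS (p := 158) (l := 1) rfl N158 D248
theorem N235 : nd 235 = n249 := ndS (p := 158) (l := 3) rfl N158 D249
theorem N236 : nd 236 = n250 := ndS (p := 159) (l := 0) rfl N159 D250
theorem N237 : nd 237 = n251 := ndS (p := 160) (l := 2) rfl N160 D251
theorem N238 : nd 238 = n252 := ndS (p := 160) (l := 3) rfl N160 D252
theorem N239 : nd 239 = n253 := ndS (p := 161) (l := 3) rfl N161 D253
theorem N240 : nd 240 = n254 := ndS (p := 162) (l := 2) rfl N162 D254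
theorem N241 : nd 241 = n255 := ndS (p := 163) (l := 1) rfl N163 D255
theorem N242 : nd 242 = n256 := ndS (p := 163) (l := 3) rfl N163 D256
theorem N243 : nd 243 = n257 := ndS (p := 164) (l := 2) rfl N164 D257
theorem N244 : nd 244 = n259 := ndS (p := 165) (l := 3) rfl N165 D259
theorem N245 : nd 245 = n260 := ndS (p := 166) (l := 2) rfl N166 D260
theorem N246 : nd 246 = n261 := ndS (p := 167) (l := 2) rfl N167 D261
theorem N247 : nd 247 = n262 := ndS (p := 168) (l := 1) rfl N168 D262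
theorem N248 : nd 248 = n263 := ndS (p := 168) (l := 3) rfl N168 D263
theorem N249 : nd 249 = n264 := ndS (p := 169) (l := 0) rfl N169 D264
theorem N250 : nd 250 = n265 := ndS (p := 169) (l := 3) rfl N169 D265
theorem N251 : nd 251 = n266 := ndS (p := 171) (l := 1) rfl N171 D266
theorem N252 : nd 252 = n270 := ndS (p := 172) (l := 2) rfl N172 D270
theorem N253 : nd 253 = n271 := ndS (p := 173) (l := 1) rfl N173 D271
theorem N254 : nd 254 = n272 := ndS (p := 173) (l := 3) rfl N173 D272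
theorem N255 : nd 255 = n273 := ndS (p := 174) (l := 0) rfl N174 D273
theorem N256 : nd 256 = n275 := ndS (p := 175) (l := 3) rfl N175 D275
theorem N257 : nd 257 = n276 := ndS (p := 176) (l := 2) rfl N176 D276
theorem N258 : nd 258 = n280 := ndS (p := 177) (l := 2) rfl N177 D280
theorem N259 : nd 259 = n281 := ndS (p := 178) (l := 1) rfl N178 D281
theorem N260 : nd 260 = n282 := ndS (p := 179) (l := 0) rfl N179 D282
theorem N261 : nd 261 = n283 := ndS (p := 179) (l := 3) rfl N179 D283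
theorem N262 : nd 262 = n284 := ndS (p := 181) (l := 1) rfl N181 D284
theorem N263 : nd 263 = n285 := ndS (p := 181) (l := 3) rfl N181 D285
theorem N264 : nd 264 = n286 := ndS (p := 182) (l := 2) rfl N182 D286
theorem N265 : nd 265 = n289 := ndS (p := 183) (l := 3) rfl N183 D289
theorem N266 : nd 266 = n290 := ndS (p := 184) (l := 2) rfl N184 D290
theorem N267 : nd 267 = n291 := ndS (p := 185) (l := 1) rfl N185 D291
theorem N268 : nd 268 = n292 := ndS (p := 185) (l := 3) rfl N185 D292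
theorem N269 : nd 269 = n293 := ndS (p := 186) (l := 0) rfl N186 D293
theorem N270 : nd 270 = n296 := ndS (p := 187) (l := 2) rfl N187 D296
theorem N271 : nd 271 = n298 := ndS (p := 188) (l := 1) rfl N188 D298
theorem N272 : nd 272 = n299 := ndS (p := 188) (l := 3) rfl N188 D299
theorem N273 : nd 273 = n300 := ndS (p := 189) (l := 0) rfl N189 D300
theorem N274 : nd 274 = n301 := ndS (p := 189) (l := 3) rfl N189 D301
theorem N275 : nd 275 = n302 := ndS (p := 191) (l := 1) rfl N191 D302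
theorem N276 : nd 276 = n303 := ndS (p := 191) (l := 3) rfl N191 D303
theorem N277 : nd 277 = n304 := ndS (p := 192) (l := 2) rfl N192 D304
theorem N278 : nd 278 = n305 := ndS (p := 193) (l := 1) rfl N193 D305
theorem N279 : nd 279 = n306 := ndS (p := 194) (l := 0) rfl N194 D306
theorem N280 : nd 280 = n307 := ndS (p := 194) (l := 2) rfl N194 D307
theorem N281 : nd 281 = n309 := ndS (p := 195) (l := 3) rfl N195 D309
theorem N282 : nd 282 = n311 := ndS (p := 196) (l := 2) rfl N196 D311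
theorem N283 : nd 283 = n312 := ndS (p := 197) (l := 1) rfl N197 D312
theorem N284 : nd 284 = n313 := ndS (p := 197) (l := 3) rfl N197 D313
theorem N285 : nd 285 = n314 := ndS (p := 198) (l := 2) rfl N198 D314
theorem N286 : nd 286 = n318 := ndS (p := 199) (l := 1) rfl N199 D318
theorem N287 : nd 287 = n319 := ndS (p := 199) (l := 3) rfl N199 D319
theorem N288 : nd 288 = n320 := ndS (p := 200) (l := 1) rfl N200 D320
theorem N289 : nd 289 = n321 := ndS (p := 200) (l := 3) rfl N200 D321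
theorem N290 : nd 290 = n322 := ndS (p := 201) (l := 0) rfl N201 D322
theorem N291 : nd 291 = n323 := ndS (p := 201) (l := 3) rfl N201 D323
theorem N292 : nd 292 = n324 := ndS (p := 202) (l := 2) rfl N202 D324
theorem N293 : nd 293 = n325 := ndS (p := 203) (l := 1) rfl N203 D325
theorem N294 : nd 294 = n326 := ndS (p := 204) (l := 0) rfl N204 D326
theorem N295 : nd 295 = n327 := ndS (p := 204) (l := 2) rfl N204 D327
theorem N296 : nd 296 = n328 := ndS (p := 204) (l := 3) rfl N204 D328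
theorem N297 : nd 297 = n329 := ndS (p := 205) (l := 2) rfl N205 D329
theorem N298 : nd 298 = n330 := ndS (p := 206) (l := 3) rfl N206 D330
theorem N299 : nd 299 = n331 := ndS (p := 207) (l := 2) rfl N207 D331
theorem N300 : nd 300 = n332 := ndS (p := 207) (l := 3) rfl N207 D332
theorem N301 : nd 301 = n333 := ndS (p := 208) (l := 3) rfl N208 D333
theorem N302 : nd 302 = n334 := ndS (p := 209) (l := 2) rfl N209 D334
theorem N303 : nd 303 = n335 := ndS (p := 210) (l := 1) rfl N210 D335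
theorem N304 : nd 304 = n336 := ndS (p := 210) (l := 3) rfl N210 D336
theorem N305 : nd 305 = n337 := ndS (p := 211) (l := 2) rfl N211 D337
theorem N306 : nd 306 = n340 := ndS (p := 212) (l := 2) rfl N212 D340
theorem N307 : nd 307 = n341 := ndS (p := 213) (l := 2) rfl N213 D341
theorem N308 : nd 308 = n342 := ndS (p := 214) (l := 1) rfl N214 D342
theorem N309 : nd 309 = n343 := ndS (p := 214) (l := 3) rfl N214 D343
theorem N310 : nd 310 = n344 := ndS (p := 215) (l := 0) rfl N215 D344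
theorem N311 : nd 311 = n345 := ndS (p := 216) (l := 1) rfl N216 D345
theorem N312 : nd 312 = n346 := ndS (p := 216) (l := 3) rfl N216 D346
theorem N313 : nd 313 = n347 := ndS (p := 217) (l := 2) rfl N217 D347
theorem N314 : nd 314 = n348 := ndS (p := 218) (l := 0) rfl N218 D348
theorem N315 : nd 315 = n349 := ndS (p := 218) (l := 2) rfl N218 D349
theorem N316 : nd 316 = n353 := ndS (p := 219) (l := 1) rfl N219 D353
theorem N317 : nd 317 = n354 := ndS (p := 220) (l := 0) rfl N220 D354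
theorem N318 : nd 318 = n355 := ndS (p := 220) (l := 3) rfl N220 D355
theorem N319 : nd 319 = n356 := ndS (p := 222) (l := 0) rfl N222 D356
theorem N320 : nd 320 = n357 := ndS (p := 222) (l := 3) rfl N222 D357
theorem N321 : nd 321 = n358 := ndS (p := 224) (l := 1) rfl N224 D358
theorem N322 : nd 322 = n359 := ndS (p := 224) (l := 3) rfl N224 D359
theorem N323 : nd 323 = n360 := ndS (p := 225) (l := 2) rfl N225 D360
theorem N324 : nd 324 = n361 := ndS (p := 226) (l := 1) rfl N226 D361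
theorem N325 : nd 325 = n362 := ndS (p := 227) (l := 0) rfl N227 D362
theorem N326 : nd 326 = n364 := ndS (p := 227) (l := 3) rfl N227 D364
theorem N327 : nd 327 = n365 := ndS (p := 228) (l := 2) rfl N228 D365
theorem N328 : nd 328 = n366 := ndS (p := 229) (l := 3) rfl N229 D366
theorem N329 : nd 329 = n368 := ndS (p := 230) (l := 3) rfl N230 D368
theorem N330 : nd 330 = n369 := ndS (p := 231) (l := 3) rfl N231 D369
theorem N331 : nd 331 = n370 := ndS (p := 232) (l := 2) rfl N232 D370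
theorem N332 : nd 332 = n371 := ndS (p := 233) (l := 1) rfl N233 D371
theorem N333 : nd 333 = n372 := ndS (p := 234) (l := 0) rfl N234 D372
theorem N334 : nd 334 = n373 := ndS (p := 234) (l := 3) rfl N234 D373
theorem N335 : nd 335 = n374 := ndS (p := 236) (l := 1) rfl N236 D374
theorem N336 : nd 336 = n376 := ndS (p := 237) (l := 3) rfl N237 D376
theorem N337 : nd 337 = n377 := ndS (p := 238) (l := 2) rfl N238 D377
theorem N338 : nd 338 = n378 := ndS (p := 239) (l := 2) rfl N239 D378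
theorem N339 : nd 339 = n379 := ndS (p := 240) (l := 1) rfl N240 D379
theorem N340 : nd 340 = n380 := ndS (p := 240) (l := 3) rfl N240 D380
theorem N341 : nd 341 = n381 := ndS (p := 241) (l := 0) rfl N241 D381
theorem N342 : nd 342 = n382 := ndS (p := 241) (l := 3) rfl N241 D382
theorem N343 : nd 343 = n383 := ndS (p := 243) (l := 1) rfl N243 D383
theorem N344 : nd 344 = n386 := ndS (p := 244) (l := 2) rfl N244 D386
theorem N345 : nd 345 = n387 := ndS (p := 245) (l := 1) rfl N245 D387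
theorem N346 : nd 346 = n388 := ndS (p := 245) (l := 3) rfl N245 D388
theorem N347 : nd 347 = n389 := ndS (p := 246) (l := 1) rfl N246 D389
theorem N348 : nd 348 = n390 := ndS (p := 246) (l := 3) rfl N246 D390
theorem N349 : nd 349 = n391 := ndS (p := 247) (l := 0) rfl N247 D391
theorem N350 : nd 350 = n392 := ndS (p := 247) (l := 3) rfl N247 D392
theorem N351 : nd 351 = n393 := ndS (p := 248) (l := 2) rfl N248 D393
theorem N352 : nd 352 = n394 := ndS (p := 249) (l := 1) rfl N249 D394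
theorem N353 : nd 353 = n395 := ndS (p := 249) (l := 3) rfl N249 D395
theorem N354 : nd 354 = n396 := ndS (p := 250) (l := 2) rfl N250 D396
theorem N355 : nd 355 = n397 := ndS (p := 251) (l := 0) rfl N251 D397
theorem N356 : nd 356 = n402 := ndS (p := 252) (l := 1) rfl N252 D402
theorem N357 : nd 357 = n403 := ndS (p := 252) (l := 3) rfl N252 D403
theorem N358 : nd 358 = n404 := ndS (p := 253) (l := 0) rfl N253 D404
theorem N359 : nd 359 = n405 := ndS (p := 253) (l := 3) rfl N253 D405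
theorem N360 : nd 360 = n406 := ndS (p := 255) (l := 1) rfl N255 D406
theorem N361 : nd 361 = n410 := ndS (p := 256) (l := 2) rfl N256 D410
theorem N362 : nd 362 = n411 := ndS (p := 257) (l := 3) rfl N257 D411
theorem N363 : nd 363 = n416 := ndS (p := 258) (l := 1) rfl N258 D416
theorem N364 : nd 364 = n418 := ndS (p := 259) (l := 0) rfl N259 D418
theorem N365 : nd 365 = n419 := ndS (p := 260) (l := 1) rfl N260 D419
theorem N366 : nd 366 = n420 := ndS (p := 260) (l := 3) rfl N260 D420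
theorem N367 : nd 367 = n421 := ndS (p := 261) (l := 2) rfl N261 D421
theorem N368 : nd 368 = n422 := ndS (p := 262) (l := 0) rfl N262 D422
theorem N369 : nd 369 = n423 := ndS (p := 262) (l := 2) rfl N262 D423
theorem N370 : nd 370 = n424 := ndS (p := 262) (l := 3) rfl N262 D424
theorem N371 : nd 371 = n425 := ndS (p := 263) (l := 2) rfl N263 D425
theorem N372 : nd 372 = n426 := ndS (p := 264) (l := 3) rfl N264 D426
theorem N373 : nd 373 = n430 := ndS (p := 265) (l := 2) rfl N265 D430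
theorem N374 : nd 374 = n431 := ndS (p := 266) (l := 1) rfl N266 D431
theorem N375 : nd 375 = n432 := ndS (p := 267) (l := 0) rfl N267 D432
theorem N376 : nd 376 = n433 := ndS (p := 267) (l := 3) rfl N267 D433
theorem N377 : nd 377 = n434 := ndS (p := 269) (l := 1) rfl N269 D434
theorem N378 : nd 378 = n438 := ndS (p := 270) (l := 1) rfl N270 D438
theorem N379 : nd 379 = n439 := ndS (p := 270) (l := 3) rfl N270 D439
theorem N380 : nd 380 = n442 := ndS (p := 271) (l := 0) rfl N271 D442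
theorem N381 : nd 381 = n443 := ndS (p := 271) (l := 3) rfl N271 D443
theorem N382 : nd 382 = n445 := ndS (p := 273) (l := 1) rfl N273 D445
theorem N383 : nd 383 = n446 := ndS (p := 273) (l := 3) rfl N273 D446
theorem N384 : nd 384 = n447 := ndS (p := 274) (l := 2) rfl N274 D447
theorem N385 : nd 385 = n448 := ndS (p := 275) (l := 0) rfl N275 D448
theorem N386 : nd 386 = n449 := ndS (p := 275) (l := 2) rfl N275 D449
theorem N387 : nd 387 = n450 := ndS (p := 275) (l := 3) rfl N275 D450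
theorem N388 : nd 388 = n451 := ndS (p := 276) (l := 2) rfl N276 D451
theorem N389 : nd 389 = n452 := ndS (p := 277) (l := 1) rfl N277 D452
theorem N390 : nd 390 = n453 := ndS (p := 277) (l := 3) rfl N277 D453
theorem N391 : nd 391 = n454 := ndS (p := 278) (l := 0) rfl N278 D454
theorem N392 : nd 392 = n455 := ndS (p := 279) (l := 2) rfl N279 D455
theorem N393 : nd 393 = n456 := ndS (p := 280) (l := 3) rfl N280 D456
theorem N394 : nd 394 = n459 := ndS (p := 281) (l := 2) rfl N281 D459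
theorem N395 : nd 395 = n461 := ndS (p := 282) (l := 1) rfl N282 D461
theorem N396 : nd 396 = n462 := ndS (p := 282) (l := 3) rfl N282 D462
theorem N397 : nd 397 = n463 := ndS (p := 283) (l := 0) rfl N283 D463
theorem N398 : nd 398 = n464 := ndS (p := 283) (l := 3) rfl N283 D464
theorem N399 : nd 399 = n465 := ndS (p := 285) (l := 1) rfl N285 D465
theorem N400 : nd 400 = n470 := ndS (p := 286) (l := 0) rfl N286 D470
theorem N401 : nd 401 = n471 := ndS (p := 286) (l := 3) rfl N286 D471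
theorem N402 : nd 402 = n472 := ndS (p := 288) (l := 0) rfl N288 D472
theorem N403 : nd 403 = n473 := ndS (p := 288) (l := 3) rfl N288 D473
theorem N404 : nd 404 = n474 := ndS (p := 290) (l := 1) rfl N290 D474
theorem N405 : nd 405 = n475 := ndS (p := 290) (l := 3) rfl N290 D475
theorem N406 : nd 406 = n476 := ndS (p := 291) (l := 2) rfl N291 D476
theorem N407 : nd 407 = n477 := ndS (p := 292) (l := 1) rfl N292 D477
theorem N408 : nd 408 = n478 := ndS (p := 293) (l := 0) rfl N293 D478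
theorem N409 : nd 409 = n479 := ndS (p := 293) (l := 2) rfl N293 D479
theorem N410 : nd 410 = n480 := ndS (p := 294) (l := 2) rfl N294 D480
theorem N411 : nd 411 = n481 := ndS (p := 294) (l := 3) rfl N294 D481
theorem N412 : nd 412 = n482 := ndS (p := 295) (l := 3) rfl N295 D482
theorem N413 : nd 413 = n483 := ndS (p := 296) (l := 2) rfl N296 D483
theorem N414 : nd 414 = n484 := ndS (p := 297) (l := 1) rfl N297 D484
theorem N415 : nd 415 = n485 := ndS (p := 299) (l := 1) rfl N299 D485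
theorem N416 : nd 416 = n486 := ndS (p := 299) (l := 3) rfl N299 D486
theorem N417 : nd 417 = n487 := ndS (p := 300) (l := 2) rfl N300 D487
theorem N418 : nd 418 = n488 := ndS (p := 301) (l := 2) rfl N301 D488
theorem N419 : nd 419 = n489 := ndS (p := 302) (l := 1) rfl N302 D489
theorem N420 : nd 420 = n490 := ndS (p := 302) (l := 3) rfl N302 D490
theorem N421 : nd 421 = n491 := ndS (p := 303) (l := 0) rfl N303 D491
theorem N422 : nd 422 = n492 := ndS (p := 303) (l := 3) rfl N303 D492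
theorem N423 : nd 423 = n493 := ndS (p := 305) (l := 1) rfl N305 D493
theorem N424 : nd 424 = n497 := ndS (p := 306) (l := 1) rfl N306 D497
theorem N425 : nd 425 = n498 := ndS (p := 306) (l := 3) rfl N306 D498
theorem N426 : nd 426 = n499 := ndS (p := 307) (l := 1) rfl N307 D499
theorem N427 : nd 427 = n500 := ndS (p := 307) (l := 3) rfl N307 D500
theorem N428 : nd 428 = n501 := ndS (p := 308) (l := 0) rfl N308 D501
theorem N429 : nd 429 = n502 := ndS (p := 308) (l := 3) rfl N308 D502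
theorem N430 : nd 430 = n503 := ndS (p := 309) (l := 2) rfl N309 D503
theorem N431 : nd 431 = n504 := ndS (p := 310) (l := 1) rfl N310 D504
theorem N432 : nd 432 = n505 := ndS (p := 311) (l := 0) rfl N311 D505
theorem N433 : nd 433 = n506 := ndS (p := 311) (l := 2) rfl N311 D506
theorem N434 : nd 434 = n507 := ndS (p := 311) (l := 3) rfl N311 D507
theorem N435 : nd 435 = n508 := ndS (p := 314) (l := 2) rfl N314 D508
theorem N436 : nd 436 = n509 := ndS (p := 315) (l := 3) rfl N315 D509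
theorem N437 : nd 437 = n515 := ndS (p := 316) (l := 0) rfl N316 D515
theorem N438 : nd 438 = n517 := ndS (p := 317) (l := 3) rfl N317 D517
theorem N439 : nd 439 = n518 := ndS (p := 318) (l := 2) rfl N318 D518
theorem N440 : nd 440 = n519 := ndS (p := 319) (l := 1) rfl N319 D519
theorem N441 : nd 441 = n520 := ndS (p := 319) (l := 3) rfl N319 D520
theorem N442 : nd 442 = n521 := ndS (p := 320) (l := 2) rfl N320 D521
theorem N443 : nd 443 = n524 := ndS (p := 321) (l := 3) rfl N321 D524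
theorem N444 : nd 444 = n525 := ndS (p := 322) (l := 2) rfl N322 D525
theorem N445 : nd 445 = n526 := ndS (p := 323) (l := 1) rfl N323 D526
theorem N446 : nd 446 = n527 := ndS (p := 323) (l := 3) rfl N323 D527
theorem N447 : nd 447 = n528 := ndS (p := 324) (l := 0) rfl N324 D528
theorem N448 : nd 448 = n530 := ndS (p := 325) (l := 3) rfl N325 D530
theorem N449 : nd 449 = n532 := ndS (p := 326) (l := 2) rfl N326 D532
theorem N450 : nd 450 = n533 := ndS (p := 327) (l := 1) rfl N327 D533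
theorem N451 : nd 451 = n534 := ndS (p := 327) (l := 3) rfl N327 D534
theorem N452 : nd 452 = n535 := ndS (p := 328) (l := 2) rfl N328 D535
theorem N453 : nd 453 = n538 := ndS (p := 329) (l := 2) rfl N329 D538
theorem N454 : nd 454 = n539 := ndS (p := 330) (l := 2) rfl N330 D539
theorem N455 : nd 455 = n540 := ndS (p := 331) (l := 1) rfl N331 D540
theorem N456 : nd 456 = n541 := ndS (p := 331) (l := 3) rfl N331 D541
theorem N457 : nd 457 = n542 := ndS (p := 332) (l := 0) rfl N332 D542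
theorem N458 : nd 458 = n543 := ndS (p := 333) (l := 1) rfl N333 D543
theorem N459 : nd 459 = n544 := ndS (p := 333) (l := 3) rfl N333 D544
theorem N460 : nd 460 = n545 := ndS (p := 334) (l := 2) rfl N334 D545
theorem N461 : nd 461 = n546 := ndS (p := 335) (l := 0) rfl N335 D546
theorem N462 : nd 462 = n547 := ndS (p := 335) (l := 2) rfl N335 D547
theorem N463 : nd 463 = n550 := ndS (p := 336) (l := 2) rfl N336 D550
theorem N464 : nd 464 = n551 := ndS (p := 337) (l := 1) rfl N337 D551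
theorem N465 : nd 465 = n552 := ndS (p := 337) (l := 3) rfl N337 D552
theorem N466 : nd 466 = n553 := ndS (p := 338) (l := 1) rfl N338 D553
theorem N467 : nd 467 = n554 := ndS (p := 338) (l := 3) rfl N338 D554
theorem N468 : nd 468 = n555 := ndS (p := 339) (l := 0) rfl N339 D555
theorem N469 : nd 469 = n556 := ndS (p := 339) (l := 3) rfl N339 D556
theorem N470 : nd 470 = n557 := ndS (p := 340) (l := 2) rfl N340 D557
theorem N471 : nd 471 = n558 := ndS (p := 341) (l := 1) rfl N341 D558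
theorem N472 : nd 472 = n559 := ndS (p := 341) (l := 3) rfl N341 D559
theorem N473 : nd 473 = n560 := ndS (p := 342) (l := 2) rfl N342 D560
theorem N474 : nd 474 = n561 := ndS (p := 343) (l := 0) rfl N343 D561
theorem N475 : nd 475 = n565 := ndS (p := 344) (l := 1) rfl N344 D565
theorem N476 : nd 476 = n567 := ndS (p := 345) (l := 3) rfl N345 D567
theorem N477 : nd 477 = n568 := ndS (p := 347) (l := 0) rfl N347 D568
theorem N478 : nd 478 = n569 := ndS (p := 347) (l := 3) rfl N347 D569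
theorem N479 : nd 479 = n571 := ndS (p := 349) (l := 3) rfl N349 D571
theorem N480 : nd 480 = n572 := ndS (p := 350) (l := 2) rfl N350 D572
theorem N481 : nd 481 = n573 := ndS (p := 351) (l := 1) rfl N351 D573
theorem N482 : nd 482 = n575 := ndS (p := 352) (l := 3) rfl N352 D575
theorem N483 : nd 483 = n576 := ndS (p := 353) (l := 2) rfl N353 D576
theorem N484 : nd 484 = n577 := ndS (p := 354) (l := 3) rfl N354 D577
theorem N485 : nd 485 = n578 := ndS (p := 355) (l := 1) rfl N355 D578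
theorem N486 : nd 486 = n585 := ndS (p := 356) (l := 0) rfl N356 D585
theorem N487 : nd 487 = n586 := ndS (p := 356) (l := 3) rfl N356 D586
theorem N488 : nd 488 = n587 := ndS (p := 358) (l := 1) rfl N358 D587
theorem N489 : nd 489 = n588 := ndS (p := 358) (l := 3) rfl N358 D588
theorem N490 : nd 490 = n589 := ndS (p := 359) (l := 2) rfl N359 D589
theorem N491 : nd 491 = n590 := ndS (p := 360) (l := 0) rfl N360 D590
theorem N492 : nd 492 = n591 := ndS (p := 360) (l := 2) rfl N360 D591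
theorem N493 : nd 493 = n596 := ndS (p := 361) (l := 1) rfl N361 D596
theorem N494 : nd 494 = n597 := ndS (p := 361) (l := 3) rfl N361 D597
theorem N495 : nd 495 = n605 := ndS (p := 363) (l := 0) rfl N363 D605
theorem N496 : nd 496 = n608 := ndS (p := 364) (l := 1) rfl N364 D608
theorem N497 : nd 497 = n609 := ndS (p := 365) (l := 0) rfl N365 D609
theorem N498 : nd 498 = n610 := ndS (p := 365) (l := 2) rfl N365 D610
theorem N499 : nd 499 = n611 := ndS (p := 365) (l := 3) rfl N365 D611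
theorem N500 : nd 500 = n612 := ndS (p := 366) (l := 2) rfl N366 D612
theorem N501 : nd 501 = n613 := ndS (p := 367) (l := 3) rfl N367 D613
theorem N502 : nd 502 = n615 := ndS (p := 368) (l := 3) rfl N368 D615
theorem N503 : nd 503 = n616 := ndS (p := 369) (l := 3) rfl N369 D616
theorem N504 : nd 504 = n617 := ndS (p := 370) (l := 2) rfl N370 D617
theorem N505 : nd 505 = n618 := ndS (p := 371) (l := 1) rfl N371 D618
theorem N506 : nd 506 = n619 := ndS (p := 371) (l := 3) rfl N371 D619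
theorem N507 : nd 507 = n620 := ndS (p := 372) (l := 2) rfl N372 D620
theorem N508 : nd 508 = n625 := ndS (p := 373) (l := 1) rfl N373 D625
theorem N509 : nd 509 = n627 := ndS (p := 374) (l := 0) rfl N374 D627
theorem N510 : nd 510 = n628 := ndS (p := 375) (l := 1) rfl N375 D628
theorem N511 : nd 511 = n629 := ndS (p := 375) (l := 3) rfl N375 D629
theorem N512 : nd 512 = n630 := ndS (p := 376) (l := 2) rfl N376 D630
theorem N513 : nd 513 = n631 := ndS (p := 377) (l := 0) rfl N377 D631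
theorem N514 : nd 514 = n632 := ndS (p := 377) (l := 2) rfl N377 D632
theorem N515 : nd 515 = n638 := ndS (p := 378) (l := 3) rfl N378 D638
theorem N516 : nd 516 = n642 := ndS (p := 380) (l := 3) rfl N380 D642
theorem N517 : nd 517 = n643 := ndS (p := 381) (l := 2) rfl N381 D643
theorem N518 : nd 518 = n647 := ndS (p := 382) (l := 3) rfl N382 D647
theorem N519 : nd 519 = n648 := ndS (p := 383) (l := 2) rfl N383 D648
theorem N520 : nd 520 = n649 := ndS (p := 384) (l := 3) rfl N384 D649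
theorem N521 : nd 521 = n651 := ndS (p := 385) (l := 3) rfl N385 D651
theorem N522 : nd 522 = n652 := ndS (p := 386) (l := 3) rfl N386 D652
theorem N523 : nd 523 = n653 := ndS (p := 387) (l := 2) rfl N387 D653
theorem N524 : nd 524 = n654 := ndS (p := 389) (l := 0) rfl N389 D654
theorem N525 : nd 525 = n655 := ndS (p := 389) (l := 3) rfl N389 D655
theorem N526 : nd 526 = n656 := ndS (p := 391) (l := 1) rfl N391 D656
theorem N527 : nd 527 = n658 := ndS (p := 392) (l := 3) rfl N392 D658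
theorem N528 : nd 528 = n659 := ndS (p := 393) (l := 2) rfl N393 D659
theorem N529 : nd 529 = n663 := ndS (p := 394) (l := 1) rfl N394 D663
theorem N530 : nd 530 = n664 := ndS (p := 394) (l := 3) rfl N394 D664
theorem N531 : nd 531 = n667 := ndS (p := 395) (l := 0) rfl N395 D667
theorem N532 : nd 532 = n668 := ndS (p := 395) (l := 3) rfl N395 D668
theorem N533 : nd 533 = n670 := ndS (p := 397) (l := 1) rfl N397 D670
theorem N534 : nd 534 = n671 := ndS (p := 397) (l := 3) rfl N397 D671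
theorem N535 : nd 535 = n672 := ndS (p := 398) (l := 2) rfl N398 D672
theorem N536 : nd 536 = n673 := ndS (p := 399) (l := 0) rfl N399 D673
theorem N537 : nd 537 = n681 := ndS (p := 400) (l := 3) rfl N400 D681
theorem N538 : nd 538 = n682 := ndS (p := 401) (l := 2) rfl N401 D682
theorem N539 : nd 539 = n683 := ndS (p := 402) (l := 1) rfl N402 D683
theorem N540 : nd 540 = n684 := ndS (p := 402) (l := 3) rfl N402 D684
theorem N541 : nd 541 = n685 := ndS (p := 403) (l := 2) rfl N403 D685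
theorem N542 : nd 542 = n688 := ndS (p := 404) (l := 3) rfl N404 D688
theorem N543 : nd 543 = n689 := ndS (p := 405) (l := 2) rfl N405 D689
theorem N544 : nd 544 = n690 := ndS (p := 406) (l := 1) rfl N406 D690
theorem N545 : nd 545 = n691 := ndS (p := 406) (l := 3) rfl N406 D691
theorem N546 : nd 546 = n692 := ndS (p := 407) (l := 0) rfl N407 D692
theorem N547 : nd 547 = n694 := ndS (p := 409) (l := 3) rfl N409 D694
theorem N548 : nd 548 = n696 := ndS (p := 410) (l := 3) rfl N410 D696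
theorem N549 : nd 549 = n697 := ndS (p := 411) (l := 2) rfl N411 D697
theorem N550 : nd 550 = n698 := ndS (p := 412) (l := 2) rfl N412 D698
theorem N551 : nd 551 = n699 := ndS (p := 413) (l := 1) rfl N413 D699
theorem N552 : nd 552 = n700 := ndS (p := 413) (l := 3) rfl N413 D700
theorem N553 : nd 553 = n701 := ndS (p := 414) (l := 0) rfl N414 D701
theorem N554 : nd 554 = n703 := ndS (p := 415) (l := 3) rfl N415 D703
theorem N555 : nd 555 = n704 := ndS (p := 416) (l := 2) rfl N416 D704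
theorem N556 : nd 556 = n705 := ndS (p := 417) (l := 1) rfl N417 D705
theorem N557 : nd 557 = n706 := ndS (p := 417) (l := 3) rfl N417 D706
theorem N558 : nd 558 = n707 := ndS (p := 418) (l := 1) rfl N418 D707
theorem N559 : nd 559 = n708 := ndS (p := 418) (l := 3) rfl N418 D708
theorem N560 : nd 560 = n709 := ndS (p := 419) (l := 0) rfl N419 D709
theorem N561 : nd 561 = n710 := ndS (p := 419) (l := 3) rfl N419 D710
theorem N562 : nd 562 = n711 := ndS (p := 420) (l := 2) rfl N420 D711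
theorem N563 : nd 563 = n712 := ndS (p := 421) (l := 1) rfl N421 D712
theorem N564 : nd 564 = n713 := ndS (p := 421) (l := 3) rfl N421 D713
theorem N565 : nd 565 = n714 := ndS (p := 422) (l := 2) rfl N422 D714
theorem N566 : nd 566 = n715 := ndS (p := 423) (l := 0) rfl N423 D715
theorem N567 : nd 567 = n721 := ndS (p := 424) (l := 3) rfl N424 D721
theorem N568 : nd 568 = n722 := ndS (p := 426) (l := 0) rfl N426 D722
theorem N569 : nd 569 = n723 := ndS (p := 426) (l := 3) rfl N426 D723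
theorem N570 : nd 570 = n725 := ndS (p := 428) (l := 3) rfl N428 D725
theorem N571 : nd 571 = n726 := ndS (p := 429) (l := 2) rfl N429 D726
theorem N572 : nd 572 = n727 := ndS (p := 430) (l := 1) rfl N430 D727
theorem N573 : nd 573 = n728 := ndS (p := 431) (l := 0) rfl N431 D728
theorem N574 : nd 574 = n730 := ndS (p := 432) (l := 2) rfl N432 D730
theorem N575 : nd 575 = n731 := ndS (p := 432) (l := 3) rfl N432 D731
theorem N576 : nd 576 = n732 := ndS (p := 433) (l := 3) rfl N433 D732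
theorem N577 : nd 577 = n733 := ndS (p := 434) (l := 2) rfl N434 D733
theorem N578 : nd 578 = n734 := ndS (p := 435) (l := 1) rfl N435 D734
theorem N579 : nd 579 = n735 := ndS (p := 435) (l := 3) rfl N435 D735
theorem N580 : nd 580 = n736 := ndS (p := 436) (l := 2) rfl N436 D736
theorem N581 : nd 581 = n743 := ndS (p := 437) (l := 1) rfl N437 D743
theorem N582 : nd 582 = n747 := ndS (p := 438) (l := 2) rfl N438 D747
theorem N583 : nd 583 = n748 := ndS (p := 439) (l := 3) rfl N439 D748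
theorem N584 : nd 584 = n751 := ndS (p := 440) (l := 3) rfl N440 D751
theorem N585 : nd 585 = n752 := ndS (p := 441) (l := 2) rfl N441 D752
theorem N586 : nd 586 = n753 := ndS (p := 442) (l := 3) rfl N442 D753
theorem N587 : nd 587 = n757 := ndS (p := 443) (l := 2) rfl N443 D757
theorem N588 : nd 588 = n758 := ndS (p := 444) (l := 1) rfl N444 D758
theorem N589 : nd 589 = n759 := ndS (p := 445) (l := 0) rfl N445 D759
theorem N590 : nd 590 = n760 := ndS (p := 445) (l := 3) rfl N445 D760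
theorem N591 : nd 591 = n761 := ndS (p := 447) (l := 1) rfl N447 D761
theorem N592 : nd 592 = n764 := ndS (p := 448) (l := 2) rfl N448 D764
theorem N593 : nd 593 = n766 := ndS (p := 449) (l := 1) rfl N449 D766
theorem N594 : nd 594 = n767 := ndS (p := 449) (l := 3) rfl N449 D767
theorem N595 : nd 595 = n768 := ndS (p := 450) (l := 0) rfl N450 D768
theorem N596 : nd 596 = n769 := ndS (p := 450) (l := 3) rfl N450 D769
theorem N597 : nd 597 = n773 := ndS (p := 453) (l := 1) rfl N453 D773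
theorem N598 : nd 598 = n774 := ndS (p := 453) (l := 3) rfl N453 D774
theorem N599 : nd 599 = n775 := ndS (p := 454) (l := 1) rfl N454 D775
theorem N600 : nd 600 = n776 := ndS (p := 454) (l := 3) rfl N454 D776
theorem N601 : nd 601 = n777 := ndS (p := 455) (l := 0) rfl N455 D777
theorem N602 : nd 602 = n778 := ndS (p := 455) (l := 3) rfl N455 D778
theorem N603 : nd 603 = n779 := ndS (p := 456) (l := 2) rfl N456 D779
theorem N604 : nd 604 = n780 := ndS (p := 457) (l := 1) rfl N457 D780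
theorem N605 : nd 605 = n781 := ndS (p := 458) (l := 0) rfl N458 D781
theorem N606 : nd 606 = n782 := ndS (p := 458) (l := 2) rfl N458 D782
theorem N607 : nd 607 = n783 := ndS (p := 458) (l := 3) rfl N458 D783
theorem N608 : nd 608 = n784 := ndS (p := 461) (l := 2) rfl N461 D784
theorem N609 : nd 609 = n785 := ndS (p := 462) (l := 3) rfl N462 D785
theorem N610 : nd 610 = n789 := ndS (p := 463) (l := 1) rfl N463 D789
theorem N611 : nd 611 = n791 := ndS (p := 464) (l := 3) rfl N464 D791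
theorem N612 : nd 612 = n792 := ndS (p := 466) (l := 0) rfl N466 D792
theorem N613 : nd 613 = n793 := ndS (p := 466) (l := 3) rfl N466 D793
theorem N614 : nd 614 = n795 := ndS (p := 468) (l := 3) rfl N468 D795
theorem N615 : nd 615 = n796 := ndS (p := 469) (l := 2) rfl N469 D796
theorem N616 : nd 616 = n797 := ndS (p := 470) (l := 1) rfl N470 D797
theorem N617 : nd 617 = n799 := ndS (p := 471) (l := 3) rfl N471 D799
theorem N618 : nd 618 = n800 := ndS (p := 472) (l := 2) rfl N472 D800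
theorem N619 : nd 619 = n801 := ndS (p := 473) (l := 3) rfl N473 D801
theorem N620 : nd 620 = n802 := ndS (p := 474) (l := 1) rfl N474 D802
theorem N621 : nd 621 = n808 := ndS (p := 475) (l := 0) rfl N475 D808
theorem N622 : nd 622 = n811 := ndS (p := 476) (l := 2) rfl N476 D811
theorem N623 : nd 623 = n812 := ndS (p := 477) (l := 1) rfl N477 D812
theorem N624 : nd 624 = n813 := ndS (p := 477) (l := 3) rfl N477 D813
theorem N625 : nd 625 = n814 := ndS (p := 478) (l := 2) rfl N478 D814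
theorem N626 : nd 626 = n818 := ndS (p := 479) (l := 2) rfl N479 D818
theorem N627 : nd 627 = n819 := ndS (p := 480) (l := 1) rfl N480 D819
theorem N628 : nd 628 = n820 := ndS (p := 480) (l := 3) rfl N480 D820
theorem N629 : nd 629 = n821 := ndS (p := 481) (l := 0) rfl N481 D821
theorem N630 : nd 630 = n823 := ndS (p := 482) (l := 2) rfl N482 D823
theorem N631 : nd 631 = n824 := ndS (p := 483) (l := 1) rfl N483 D824
theorem N632 : nd 632 = n825 := ndS (p := 483) (l := 3) rfl N483 D825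
theorem N633 : nd 633 = n826 := ndS (p := 484) (l := 2) rfl N484 D826
theorem N634 : nd 634 = n827 := ndS (p := 485) (l := 0) rfl N485 D827
theorem N635 : nd 635 = n828 := ndS (p := 485) (l := 2) rfl N485 D828
theorem N636 : nd 636 = n839 := ndS (p := 486) (l := 1) rfl N486 D839
theorem N637 : nd 637 = n840 := ndS (p := 486) (l := 3) rfl N486 D840
theorem N638 : nd 638 = n841 := ndS (p := 487) (l := 2) rfl N487 D841
theorem N639 : nd 639 = n842 := ndS (p := 488) (l := 0) rfl N488 D842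
theorem N640 : nd 640 = n843 := ndS (p := 488) (l := 2) rfl N488 D843
theorem N641 : nd 641 = n844 := ndS (p := 488) (l := 3) rfl N488 D844
theorem N642 : nd 642 = n845 := ndS (p := 489) (l := 2) rfl N489 D845
theorem N643 : nd 643 = n846 := ndS (p := 490) (l := 3) rfl N490 D846
theorem N644 : nd 644 = n848 := ndS (p := 492) (l := 3) rfl N492 D848
theorem N645 : nd 645 = n855 := ndS (p := 493) (l := 0) rfl N493 D855
theorem N646 : nd 646 = n856 := ndS (p := 493) (l := 3) rfl N493 D856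
theorem N647 : nd 647 = n865 := ndS (p := 495) (l := 1) rfl N495 D865
theorem N648 : nd 648 = n869 := ndS (p := 496) (l := 0) rfl N496 D869
theorem N649 : nd 649 = n870 := ndS (p := 496) (l := 2) rfl N496 D870
theorem N650 : nd 650 = n872 := ndS (p := 497) (l := 3) rfl N497 D872
theorem N651 : nd 651 = n873 := ndS (p := 498) (l := 3) rfl N498 D873
theorem N652 : nd 652 = n874 := ndS (p := 499) (l := 2) rfl N499 D874
theorem N653 : nd 653 = n875 := ndS (p := 500) (l := 1) rfl N500 D875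
theorem N654 : nd 654 = n878 := ndS (p := 502) (l := 2) rfl N502 D878
theorem N655 : nd 655 = n879 := ndS (p := 503) (l := 2) rfl N503 D879
theorem N656 : nd 656 = n880 := ndS (p := 504) (l := 1) rfl N504 D880
theorem N657 : nd 657 = n881 := ndS (p := 504) (l := 3) rfl N504 D881
theorem N658 : nd 658 = n882 := ndS (p := 505) (l := 0) rfl N505 D882
theorem N659 : nd 659 = n883 := ndS (p := 505) (l := 3) rfl N505 D883
theorem N660 : nd 660 = n884 := ndS (p := 507) (l := 1) rfl N507 D884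
theorem N661 : nd 661 = n892 := ndS (p := 508) (l := 0) rfl N508 D892
theorem N662 : nd 662 = n895 := ndS (p := 509) (l := 1) rfl N509 D895
theorem N663 : nd 663 = n896 := ndS (p := 510) (l := 0) rfl N510 D896
theorem N664 : nd 664 = n897 := ndS (p := 510) (l := 2) rfl N510 D897
theorem N665 : nd 665 = n898 := ndS (p := 510) (l := 3) rfl N510 D898
theorem N666 : nd 666 = n900 := ndS (p := 514) (l := 3) rfl N514 D900
theorem N667 : nd 667 = n909 := ndS (p := 515) (l := 2) rfl N515 D909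
theorem N668 : nd 668 = n916 := ndS (p := 516) (l := 2) rfl N516 D916
theorem N669 : nd 669 = n918 := ndS (p := 517) (l := 3) rfl N517 D918
theorem N670 : nd 670 = n923 := ndS (p := 518) (l := 2) rfl N518 D923
theorem N671 : nd 671 = n924 := ndS (p := 519) (l := 1) rfl N519 D924
theorem N672 : nd 672 = n925 := ndS (p := 519) (l := 3) rfl N519 D925
theorem N673 : nd 673 = n926 := ndS (p := 520) (l := 2) rfl N520 D926
theorem N674 : nd 674 = n929 := ndS (p := 521) (l := 2) rfl N521 D929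
theorem N675 : nd 675 = n930 := ndS (p := 522) (l := 2) rfl N522 D930
theorem N676 : nd 676 = n931 := ndS (p := 523) (l := 3) rfl N523 D931
theorem N677 : nd 677 = n932 := ndS (p := 524) (l := 1) rfl N524 D932
theorem N678 : nd 678 = n933 := ndS (p := 524) (l := 3) rfl N524 D933
theorem N679 : nd 679 = n934 := ndS (p := 525) (l := 2) rfl N525 D934
theorem N680 : nd 680 = n935 := ndS (p := 526) (l := 0) rfl N526 D935
theorem N681 : nd 681 = n936 := ndS (p := 526) (l := 2) rfl N526 D936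
theorem N682 : nd 682 = n939 := ndS (p := 527) (l := 2) rfl N527 D939
theorem N683 : nd 683 = n940 := ndS (p := 528) (l := 1) rfl N528 D940
theorem N684 : nd 684 = n941 := ndS (p := 528) (l := 3) rfl N528 D941
theorem N685 : nd 685 = n947 := ndS (p := 529) (l := 3) rfl N529 D947
theorem N686 : nd 686 = n951 := ndS (p := 531) (l := 3) rfl N531 D951
theorem N687 : nd 687 = n952 := ndS (p := 532) (l := 2) rfl N532 D952
theorem N688 : nd 688 = n955 := ndS (p := 533) (l := 3) rfl N533 D955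
theorem N689 : nd 689 = n956 := ndS (p := 534) (l := 2) rfl N534 D956
theorem N690 : nd 690 = n957 := ndS (p := 535) (l := 3) rfl N535 D957
theorem N691 : nd 691 = n958 := ndS (p := 536) (l := 1) rfl N536 D958
theorem N692 : nd 692 = n970 := ndS (p := 537) (l := 2) rfl N537 D970
theorem N693 : nd 693 = n971 := ndS (p := 538) (l := 3) rfl N538 D971
theorem N694 : nd 694 = n974 := ndS (p := 539) (l := 3) rfl N539 D974
theorem N695 : nd 695 = n975 := ndS (p := 540) (l := 2) rfl N540 D975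
theorem N696 : nd 696 = n976 := ndS (p := 541) (l := 3) rfl N541 D976
theorem N697 : nd 697 = n980 := ndS (p := 542) (l := 2) rfl N542 D980
theorem N698 : nd 698 = n981 := ndS (p := 544) (l := 0) rfl N544 D981
theorem N699 : nd 699 = n982 := ndS (p := 544) (l := 3) rfl N544 D982
theorem N700 : nd 700 = n983 := ndS (p := 546) (l := 1) rfl N546 D983
theorem N701 : nd 701 = n986 := ndS (p := 547) (l := 2) rfl N547 D986
theorem N702 : nd 702 = n989 := ndS (p := 548) (l := 2) rfl N548 D989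
theorem N703 : nd 703 = n990 := ndS (p := 549) (l := 1) rfl N549 D990
theorem N704 : nd 704 = n991 := ndS (p := 549) (l := 3) rfl N549 D991
theorem N705 : nd 705 = n992 := ndS (p := 550) (l := 1) rfl N550 D992
theorem N706 : nd 706 = n993 := ndS (p := 550) (l := 3) rfl N550 D993
theorem N707 : nd 707 = n994 := ndS (p := 551) (l := 0) rfl N551 D994
theorem N708 : nd 708 = n995 := ndS (p := 551) (l := 3) rfl N551 D995
theorem N709 : nd 709 = n996 := ndS (p := 552) (l := 2) rfl N552 D996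
theorem N710 : nd 710 = n997 := ndS (p := 553) (l := 1) rfl N553 D997
theorem N711 : nd 711 = n1000 := ndS (p := 554) (l := 2) rfl N554 D1000
theorem N712 : nd 712 = n1001 := ndS (p := 555) (l := 1) rfl N555 D1001
theorem N713 : nd 713 = n1003 := ndS (p := 556) (l := 3) rfl N556 D1003
theorem N714 : nd 714 = n1005 := ndS (p := 558) (l := 3) rfl N558 D1005
theorem N715 : nd 715 = n1007 := ndS (p := 560) (l := 3) rfl N560 D1007
theorem N716 : nd 716 = n1008 := ndS (p := 561) (l := 2) rfl N561 D1008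
theorem N717 : nd 717 = n1009 := ndS (p := 562) (l := 1) rfl N562 D1009
theorem N718 : nd 718 = n1011 := ndS (p := 563) (l := 3) rfl N563 D1011
theorem N719 : nd 719 = n1012 := ndS (p := 564) (l := 2) rfl N564 D1012
theorem N720 : nd 720 = n1013 := ndS (p := 566) (l := 1) rfl N566 D1013
theorem N721 : nd 721 = n1022 := ndS (p := 567) (l := 2) rfl N567 D1022
theorem N722 : nd 722 = n1024 := ndS (p := 568) (l := 3) rfl N568 D1024
theorem N723 : nd 723 = n1025 := ndS (p := 569) (l := 2) rfl N569 D1025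
theorem N724 : nd 724 = n1029 := ndS (p := 571) (l := 1) rfl N571 D1029
theorem N725 : nd 725 = n1030 := ndS (p := 572) (l := 0) rfl N572 D1030
theorem N726 : nd 726 = n1034 := ndS (p := 574) (l := 3) rfl N574 D1034
theorem N727 : nd 727 = n1035 := ndS (p := 575) (l := 2) rfl N575 D1035
theorem N728 : nd 728 = n1036 := ndS (p := 576) (l := 2) rfl N576 D1036
theorem N729 : nd 729 = n1037 := ndS (p := 577) (l := 3) rfl N577 D1037
theorem N730 : nd 730 = n1039 := ndS (p := 578) (l := 3) rfl N578 D1039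
theorem N731 : nd 731 = n1040 := ndS (p := 580) (l := 1) rfl N580 D1040
theorem N732 : nd 732 = n1055 := ndS (p := 582) (l := 1) rfl N582 D1055
theorem N733 : nd 733 = n1056 := ndS (p := 582) (l := 3) rfl N582 D1056
theorem N734 : nd 734 = n1060 := ndS (p := 584) (l := 2) rfl N584 D1060
theorem N735 : nd 735 = n1061 := ndS (p := 585) (l := 1) rfl N585 D1061
theorem N736 : nd 736 = n1062 := ndS (p := 585) (l := 3) rfl N585 D1062
theorem N737 : nd 737 = n1063 := ndS (p := 586) (l := 2) rfl N586 D1063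
theorem N738 : nd 738 = n1068 := ndS (p := 587) (l := 1) rfl N587 D1068
theorem N739 : nd 739 = n1070 := ndS (p := 588) (l := 0) rfl N588 D1070
theorem N740 : nd 740 = n1071 := ndS (p := 589) (l := 1) rfl N589 D1071
theorem N741 : nd 741 = n1072 := ndS (p := 589) (l := 3) rfl N589 D1072
theorem N742 : nd 742 = n1073 := ndS (p := 590) (l := 2) rfl N590 D1073
theorem N743 : nd 743 = n1075 := ndS (p := 591) (l := 2) rfl N591 D1075
theorem N744 : nd 744 = n1079 := ndS (p := 592) (l := 1) rfl N592 D1079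
theorem N745 : nd 745 = n1080 := ndS (p := 592) (l := 3) rfl N592 D1080
theorem N746 : nd 746 = n1083 := ndS (p := 593) (l := 0) rfl N593 D1083
theorem N747 : nd 747 = n1084 := ndS (p := 593) (l := 3) rfl N593 D1084
theorem N748 : nd 748 = n1086 := ndS (p := 595) (l := 1) rfl N595 D1086
theorem N749 : nd 749 = n1087 := ndS (p := 595) (l := 3) rfl N595 D1087
theorem N750 : nd 750 = n1088 := ndS (p := 596) (l := 2) rfl N596 D1088
theorem N751 : nd 751 = n1094 := ndS (p := 597) (l := 3) rfl N597 D1094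
theorem N752 : nd 752 = n1095 := ndS (p := 599) (l := 0) rfl N599 D1095
theorem N753 : nd 753 = n1096 := ndS (p := 599) (l := 3) rfl N599 D1096
theorem N754 : nd 754 = n1098 := ndS (p := 603) (l := 1) rfl N603 D1098
theorem N755 : nd 755 = n1099 := ndS (p := 604) (l := 0) rfl N604 D1099
theorem N756 : nd 756 = n1101 := ndS (p := 605) (l := 2) rfl N605 D1101
theorem N757 : nd 757 = n1102 := ndS (p := 605) (l := 3) rfl N605 D1102
theorem N758 : nd 758 = n1103 := ndS (p := 606) (l := 3) rfl N606 D1103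
theorem N759 : nd 759 = n1104 := ndS (p := 607) (l := 2) rfl N607 D1104
theorem N760 : nd 760 = n1105 := ndS (p := 608) (l := 1) rfl N608 D1105
theorem N761 : nd 761 = n1106 := ndS (p := 608) (l := 3) rfl N608 D1106
theorem N762 : nd 762 = n1107 := ndS (p := 609) (l := 2) rfl N609 D1107
theorem N763 : nd 763 = n1113 := ndS (p := 610) (l := 0) rfl N610 D1113
theorem N764 : nd 764 = n1116 := ndS (p := 611) (l := 2) rfl N611 D1116
theorem N765 : nd 765 = n1117 := ndS (p := 612) (l := 1) rfl N612 D1117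
theorem N766 : nd 766 = n1118 := ndS (p := 612) (l := 3) rfl N612 D1118
theorem N767 : nd 767 = n1119 := ndS (p := 613) (l := 2) rfl N613 D1119
theorem N768 : nd 768 = n1123 := ndS (p := 614) (l := 2) rfl N614 D1123
theorem N769 : nd 769 = n1124 := ndS (p := 615) (l := 1) rfl N615 D1124
theorem N770 : nd 770 = n1125 := ndS (p := 615) (l := 3) rfl N615 D1125
theorem N771 : nd 771 = n1126 := ndS (p := 616) (l := 0) rfl N616 D1126
theorem N772 : nd 772 = n1128 := ndS (p := 617) (l := 2) rfl N617 D1128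
theorem N773 : nd 773 = n1129 := ndS (p := 618) (l := 1) rfl N618 D1129
theorem N774 : nd 774 = n1130 := ndS (p := 618) (l := 3) rfl N618 D1130
theorem N775 : nd 775 = n1131 := ndS (p := 619) (l := 2) rfl N619 D1131
theorem N776 : nd 776 = n1132 := ndS (p := 620) (l := 0) rfl N620 D1132
theorem N777 : nd 777 = n1133 := ndS (p := 620) (l := 2) rfl N620 D1133
theorem N778 : nd 778 = n1140 := ndS (p := 621) (l := 1) rfl N621 D1140
theorem N779 : nd 779 = n1145 := ndS (p := 622) (l := 3) rfl N622 D1145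
theorem N780 : nd 780 = n1148 := ndS (p := 623) (l := 3) rfl N623 D1148
theorem N781 : nd 781 = n1149 := ndS (p := 624) (l := 2) rfl N624 D1149
theorem N782 : nd 782 = n1150 := ndS (p := 625) (l := 3) rfl N625 D1150
theorem N783 : nd 783 = n1155 := ndS (p := 627) (l := 0) rfl N627 D1155
theorem N784 : nd 784 = n1156 := ndS (p := 627) (l := 3) rfl N627 D1156
theorem N785 : nd 785 = n1157 := ndS (p := 629) (l := 1) rfl N629 D1157
theorem N786 : nd 786 = n1159 := ndS (p := 630) (l := 1) rfl N630 D1159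
theorem N787 : nd 787 = n1160 := ndS (p := 630) (l := 3) rfl N630 D1160
theorem N788 : nd 788 = n1161 := ndS (p := 631) (l := 0) rfl N631 D1161
theorem N789 : nd 789 = n1162 := ndS (p := 631) (l := 3) rfl N631 D1162
theorem N790 : nd 790 = n1163 := ndS (p := 634) (l := 2) rfl N634 D1163
theorem N791 : nd 791 = n1164 := ndS (p := 635) (l := 3) rfl N635 D1164
theorem N792 : nd 792 = n1179 := ndS (p := 636) (l := 3) rfl N636 D1179
theorem N793 : nd 793 = n1180 := ndS (p := 637) (l := 2) rfl N637 D1180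
theorem N794 : nd 794 = n1181 := ndS (p := 638) (l := 3) rfl N638 D1181
theorem N795 : nd 795 = n1183 := ndS (p := 639) (l := 3) rfl N639 D1183
theorem N796 : nd 796 = n1184 := ndS (p := 640) (l := 3) rfl N640 D1184
theorem N797 : nd 797 = n1185 := ndS (p := 641) (l := 2) rfl N641 D1185
theorem N798 : nd 798 = n1188 := ndS (p := 644) (l := 2) rfl N644 D1188
theorem N799 : nd 799 = n1199 := ndS (p := 645) (l := 1) rfl N645 D1199
theorem N800 : nd 800 = n1200 := ndS (p := 645) (l := 3) rfl N645 D1200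
theorem N801 : nd 801 = n1221 := ndS (p := 649) (l := 3) rfl N649 D1221
theorem N802 : nd 802 = n1224 := ndS (p := 650) (l := 2) rfl N650 D1224
theorem N803 : nd 803 = n1226 := ndS (p := 652) (l := 1) rfl N652 D1226
theorem N804 : nd 804 = n1227 := ndS (p := 652) (l := 3) rfl N652 D1227
theorem N805 : nd 805 = n1228 := ndS (p := 653) (l := 0) rfl N653 D1228
theorem N806 : nd 806 = n1233 := ndS (p := 654) (l := 3) rfl N654 D1233
theorem N807 : nd 807 = n1235 := ndS (p := 655) (l := 3) rfl N655 D1235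
theorem N808 : nd 808 = n1236 := ndS (p := 656) (l := 0) rfl N656 D1236
theorem N809 : nd 809 = n1237 := ndS (p := 656) (l := 3) rfl N656 D1237
theorem N810 : nd 810 = n1238 := ndS (p := 657) (l := 2) rfl N657 D1238
theorem N811 : nd 811 = n1239 := ndS (p := 658) (l := 1) rfl N658 D1239
theorem N812 : nd 812 = n1240 := ndS (p := 658) (l := 3) rfl N658 D1240
theorem N813 : nd 813 = n1241 := ndS (p := 659) (l := 2) rfl N659 D1241
theorem N814 : nd 814 = n1242 := ndS (p := 660) (l := 0) rfl N660 D1242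
theorem N815 : nd 815 = n1255 := ndS (p := 662) (l := 0) rfl N662 D1255
theorem N816 : nd 816 = n1258 := ndS (p := 663) (l := 3) rfl N663 D1258
theorem N817 : nd 817 = n1259 := ndS (p := 664) (l := 3) rfl N664 D1259
theorem N818 : nd 818 = n1260 := ndS (p := 665) (l := 2) rfl N665 D1260
theorem N819 : nd 819 = n1263 := ndS (p := 666) (l := 2) rfl N666 D1263
theorem N820 : nd 820 = n1274 := ndS (p := 667) (l := 3) rfl N667 D1274
theorem N821 : nd 821 = n1284 := ndS (p := 668) (l := 1) rfl N668 D1284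
theorem N822 : nd 822 = n1292 := ndS (p := 670) (l := 1) rfl N670 D1292
theorem N823 : nd 823 = n1294 := ndS (p := 671) (l := 0) rfl N671 D1294
theorem N824 : nd 824 = n1295 := ndS (p := 671) (l := 3) rfl N671 D1295
theorem N825 : nd 825 = n1299 := ndS (p := 674) (l := 1) rfl N674 D1299
theorem N826 : nd 826 = n1300 := ndS (p := 674) (l := 3) rfl N674 D1300
theorem N827 : nd 827 = n1301 := ndS (p := 675) (l := 1) rfl N675 D1301
theorem N828 : nd 828 = n1302 := ndS (p := 675) (l := 3) rfl N675 D1302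
theorem N829 : nd 829 = n1303 := ndS (p := 676) (l := 2) rfl N676 D1303
theorem N830 : nd 830 = n1304 := ndS (p := 677) (l := 0) rfl N677 D1304
theorem N831 : nd 831 = n1305 := ndS (p := 677) (l := 2) rfl N677 D1305
theorem N832 : nd 832 = n1307 := ndS (p := 680) (l := 2) rfl N680 D1307
theorem N833 : nd 833 = n1308 := ndS (p := 681) (l := 3) rfl N681 D1308
theorem N834 : nd 834 = n1312 := ndS (p := 682) (l := 1) rfl N682 D1312
theorem N835 : nd 835 = n1313 := ndS (p := 683) (l := 0) rfl N683 D1313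
theorem N836 : nd 836 = n1314 := ndS (p := 683) (l := 3) rfl N683 D1314
theorem N837 : nd 837 = n1323 := ndS (p := 685) (l := 2) rfl N685 D1323
theorem N838 : nd 838 = n1330 := ndS (p := 686) (l := 2) rfl N686 D1330
theorem N839 : nd 839 = n1332 := ndS (p := 687) (l := 3) rfl N687 D1332
theorem N840 : nd 840 = n1335 := ndS (p := 688) (l := 2) rfl N688 D1335
theorem N841 : nd 841 = n1336 := ndS (p := 689) (l := 1) rfl N689 D1336
theorem N842 : nd 842 = n1337 := ndS (p := 689) (l := 3) rfl N689 D1337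
theorem N843 : nd 843 = n1338 := ndS (p := 690) (l := 2) rfl N690 D1338
theorem N844 : nd 844 = n1339 := ndS (p := 691) (l := 0) rfl N691 D1339
theorem N845 : nd 845 = n1340 := ndS (p := 691) (l := 2) rfl N691 D1340
theorem N846 : nd 846 = n1356 := ndS (p := 692) (l := 1) rfl N692 D1356
theorem N847 : nd 847 = n1357 := ndS (p := 692) (l := 3) rfl N692 D1357
theorem N848 : nd 848 = n1358 := ndS (p := 693) (l := 2) rfl N693 D1358
theorem N849 : nd 849 = n1362 := ndS (p := 694) (l := 2) rfl N694 D1362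
theorem N850 : nd 850 = n1363 := ndS (p := 695) (l := 1) rfl N695 D1363
theorem N851 : nd 851 = n1373 := ndS (p := 700) (l := 2) rfl N700 D1373
theorem N852 : nd 852 = n1377 := ndS (p := 701) (l := 1) rfl N701 D1377
theorem N853 : nd 853 = n1378 := ndS (p := 701) (l := 3) rfl N701 D1378
theorem N854 : nd 854 = n1382 := ndS (p := 702) (l := 1) rfl N702 D1382
theorem N855 : nd 855 = n1384 := ndS (p := 703) (l := 3) rfl N703 D1384
theorem N856 : nd 856 = n1386 := ndS (p := 705) (l := 3) rfl N705 D1386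
theorem N857 : nd 857 = n1388 := ndS (p := 709) (l := 1) rfl N709 D1388
theorem N858 : nd 858 = n1393 := ndS (p := 711) (l := 1) rfl N711 D1393
theorem N859 : nd 859 = n1395 := ndS (p := 712) (l := 0) rfl N712 D1395
theorem N860 : nd 860 = n1398 := ndS (p := 713) (l := 2) rfl N713 D1398
theorem N861 : nd 861 = n1401 := ndS (p := 714) (l := 2) rfl N714 D1401
theorem N862 : nd 862 = n1406 := ndS (p := 716) (l := 1) rfl N716 D1406
theorem N863 : nd 863 = n1407 := ndS (p := 716) (l := 3) rfl N716 D1407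
theorem N864 : nd 864 = n1408 := ndS (p := 717) (l := 0) rfl N717 D1408
theorem N865 : nd 865 = n1410 := ndS (p := 718) (l := 2) rfl N718 D1410
theorem N866 : nd 866 = n1411 := ndS (p := 719) (l := 1) rfl N719 D1411
theorem N867 : nd 867 = n1412 := ndS (p := 720) (l := 0) rfl N720 D1412
theorem N868 : nd 868 = n1413 := ndS (p := 720) (l := 2) rfl N720 D1413
theorem N869 : nd 869 = n1426 := ndS (p := 721) (l := 3) rfl N721 D1426
theorem N870 : nd 870 = n1430 := ndS (p := 722) (l := 2) rfl N722 D1430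
theorem N871 : nd 871 = n1431 := ndS (p := 723) (l := 3) rfl N723 D1431
theorem N872 : nd 872 = n1436 := ndS (p := 725) (l := 1) rfl N725 D1436
theorem N873 : nd 873 = n1442 := ndS (p := 726) (l := 2) rfl N726 D1442
theorem N874 : nd 874 = n1443 := ndS (p := 727) (l := 1) rfl N727 D1443
theorem N875 : nd 875 = n1444 := ndS (p := 727) (l := 3) rfl N727 D1444
theorem N876 : nd 876 = n1445 := ndS (p := 728) (l := 1) rfl N728 D1445
theorem N877 : nd 877 = n1446 := ndS (p := 728) (l := 3) rfl N728 D1446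
theorem N878 : nd 878 = n1447 := ndS (p := 729) (l := 2) rfl N729 D1447
theorem N879 : nd 879 = n1450 := ndS (p := 730) (l := 2) rfl N730 D1450
theorem N880 : nd 880 = n1473 := ndS (p := 732) (l := 0) rfl N732 D1473
theorem N881 : nd 881 = n1474 := ndS (p := 732) (l := 3) rfl N732 D1474
theorem N882 : nd 882 = n1479 := ndS (p := 734) (l := 1) rfl N734 D1479
theorem N883 : nd 883 = n1481 := ndS (p := 735) (l := 0) rfl N735 D1481
theorem N884 : nd 884 = n1482 := ndS (p := 735) (l := 3) rfl N735 D1482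
theorem N885 : nd 885 = n1483 := ndS (p := 737) (l := 1) rfl N737 D1483
theorem N886 : nd 886 = n1492 := ndS (p := 739) (l := 1) rfl N739 D1492
theorem N887 : nd 887 = n1493 := ndS (p := 740) (l := 0) rfl N740 D1493
theorem N888 : nd 888 = n1494 := ndS (p := 740) (l := 2) rfl N740 D1494
theorem N889 : nd 889 = n1497 := ndS (p := 743) (l := 3) rfl N743 D1497
theorem N890 : nd 890 = n1503 := ndS (p := 744) (l := 3) rfl N744 D1503
theorem N891 : nd 891 = n1507 := ndS (p := 746) (l := 3) rfl N746 D1507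
theorem N892 : nd 892 = n1508 := ndS (p := 747) (l := 2) rfl N747 D1508
theorem N893 : nd 893 = n1511 := ndS (p := 749) (l := 2) rfl N749 D1511
theorem N894 : nd 894 = n1512 := ndS (p := 750) (l := 3) rfl N750 D1512
theorem N895 : nd 895 = n1521 := ndS (p := 751) (l := 2) rfl N751 D1521
theorem N896 : nd 896 = n1523 := ndS (p := 752) (l := 3) rfl N752 D1523
theorem N897 : nd 897 = n1524 := ndS (p := 753) (l := 2) rfl N753 D1524
theorem N898 : nd 898 = n1531 := ndS (p := 756) (l := 3) rfl N756 D1531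
theorem N899 : nd 899 = n1532 := ndS (p := 757) (l := 2) rfl N757 D1532
theorem N900 : nd 900 = n1533 := ndS (p := 758) (l := 2) rfl N758 D1533
theorem N901 : nd 901 = n1536 := ndS (p := 760) (l := 3) rfl N760 D1536
theorem N902 : nd 902 = n1537 := ndS (p := 762) (l := 1) rfl N762 D1537
theorem N903 : nd 903 = n1544 := ndS (p := 763) (l := 1) rfl N763 D1544
theorem N904 : nd 904 = n1549 := ndS (p := 764) (l := 3) rfl N764 D1549
theorem N905 : nd 905 = n1552 := ndS (p := 765) (l := 3) rfl N765 D1552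
theorem N906 : nd 906 = n1553 := ndS (p := 766) (l := 2) rfl N766 D1553
theorem N907 : nd 907 = n1554 := ndS (p := 767) (l := 3) rfl N767 D1554
theorem N908 : nd 908 = n1559 := ndS (p := 769) (l := 0) rfl N769 D1559
theorem N909 : nd 909 = n1560 := ndS (p := 769) (l := 3) rfl N769 D1560
theorem N910 : nd 910 = n1561 := ndS (p := 771) (l := 1) rfl N771 D1561
theorem N911 : nd 911 = n1563 := ndS (p := 772) (l := 1) rfl N772 D1563
theorem N912 : nd 912 = n1564 := ndS (p := 772) (l := 3) rfl N772 D1564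
theorem N913 : nd 913 = n1566 := ndS (p := 773) (l := 3) rfl N773 D1566
theorem N914 : nd 914 = n1567 := ndS (p := 776) (l := 2) rfl N776 D1567
theorem N915 : nd 915 = n1568 := ndS (p := 777) (l := 3) rfl N777 D1568
theorem N916 : nd 916 = n1588 := ndS (p := 780) (l := 2) rfl N780 D1588
theorem N917 : nd 917 = n1589 := ndS (p := 781) (l := 1) rfl N781 D1589
theorem N918 : nd 918 = n1590 := ndS (p := 781) (l := 3) rfl N781 D1590
theorem N919 : nd 919 = n1591 := ndS (p := 782) (l := 2) rfl N782 D1591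
theorem N920 : nd 920 = n1601 := ndS (p := 785) (l := 2) rfl N785 D1601
theorem N921 : nd 921 = n1604 := ndS (p := 786) (l := 0) rfl N786 D1604
theorem N922 : nd 922 = n1605 := ndS (p := 786) (l := 3) rfl N786 D1605
theorem N923 : nd 923 = n1608 := ndS (p := 788) (l := 3) rfl N788 D1608
theorem N924 : nd 924 = n1609 := ndS (p := 789) (l := 2) rfl N789 D1609
theorem N925 : nd 925 = n1610 := ndS (p := 790) (l := 1) rfl N790 D1610
theorem N926 : nd 926 = n1611 := ndS (p := 790) (l := 3) rfl N790 D1611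
theorem N927 : nd 927 = n1612 := ndS (p := 791) (l := 2) rfl N791 D1612
theorem N928 : nd 928 = n1635 := ndS (p := 792) (l := 2) rfl N792 D1635
theorem N929 : nd 929 = n1641 := ndS (p := 795) (l := 2) rfl N795 D1641
theorem N930 : nd 930 = n1642 := ndS (p := 796) (l := 2) rfl N796 D1642
theorem N931 : nd 931 = n1643 := ndS (p := 797) (l := 3) rfl N797 D1643
theorem N932 : nd 932 = n1647 := ndS (p := 798) (l := 1) rfl N798 D1647
theorem N933 : nd 933 = n1662 := ndS (p := 799) (l := 3) rfl N799 D1662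
theorem N934 : nd 934 = n1690 := ndS (p := 801) (l := 2) rfl N801 D1690
theorem N935 : nd 935 = n1694 := ndS (p := 802) (l := 1) rfl N802 D1694
theorem N936 : nd 936 = n1695 := ndS (p := 802) (l := 3) rfl N802 D1695
theorem N937 : nd 937 = n1712 := ndS (p := 809) (l := 2) rfl N809 D1712
theorem N938 : nd 938 = n1713 := ndS (p := 810) (l := 1) rfl N810 D1713
theorem N939 : nd 939 = n1715 := ndS (p := 811) (l := 3) rfl N811 D1715
theorem N940 : nd 940 = n1716 := ndS (p := 812) (l := 2) rfl N812 D1716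
theorem N941 : nd 941 = n1717 := ndS (p := 814) (l := 1) rfl N814 D1717
theorem N942 : nd 942 = n1739 := ndS (p := 816) (l := 2) rfl N816 D1739
theorem N943 : nd 943 = n1772 := ndS (p := 821) (l := 0) rfl N821 D1772
theorem N944 : nd 944 = n1785 := ndS (p := 822) (l := 0) rfl N822 D1785
theorem N945 : nd 945 = n1788 := ndS (p := 823) (l := 1) rfl N823 D1788
theorem N946 : nd 946 = n1789 := ndS (p := 823) (l := 3) rfl N823 D1789
theorem N947 : nd 947 = n1795 := ndS (p := 825) (l := 3) rfl N825 D1795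
theorem N948 : nd 948 = n1797 := ndS (p := 827) (l := 3) rfl N827 D1797
theorem N949 : nd 949 = n1798 := ndS (p := 830) (l := 2) rfl N830 D1798
theorem N950 : nd 950 = n1799 := ndS (p := 831) (l := 3) rfl N831 D1799
theorem N951 : nd 951 = n1801 := ndS (p := 832) (l := 1) rfl N832 D1801
theorem N952 : nd 952 = n1802 := ndS (p := 832) (l := 3) rfl N832 D1802
theorem N953 : nd 953 = n1803 := ndS (p := 833) (l := 2) rfl N833 D1803
theorem N954 : nd 954 = n1809 := ndS (p := 834) (l := 0) rfl N834 D1809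
theorem N955 : nd 955 = n1811 := ndS (p := 835) (l := 3) rfl N835 D1811
theorem N956 : nd 956 = n1812 := ndS (p := 836) (l := 2) rfl N836 D1812
theorem N957 : nd 957 = n1823 := ndS (p := 837) (l := 3) rfl N837 D1823
theorem N958 : nd 958 = n1837 := ndS (p := 840) (l := 1) rfl N840 D1837
theorem N959 : nd 959 = n1839 := ndS (p := 841) (l := 0) rfl N841 D1839
theorem N960 : nd 960 = n1840 := ndS (p := 841) (l := 3) rfl N841 D1840
theorem N961 : nd 961 = n1841 := ndS (p := 844) (l := 2) rfl N844 D1841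
theorem N962 : nd 962 = n1842 := ndS (p := 845) (l := 3) rfl N845 D1842
theorem N963 : nd 963 = n1864 := ndS (p := 846) (l := 0) rfl N846 D1864
theorem N964 : nd 964 = n1865 := ndS (p := 846) (l := 3) rfl N846 D1865
theorem N965 : nd 965 = n1866 := ndS (p := 848) (l := 1) rfl N848 D1866
theorem N966 : nd 966 = n1871 := ndS (p := 849) (l := 1) rfl N849 D1871
theorem N967 : nd 967 = n1873 := ndS (p := 850) (l := 0) rfl N850 D1873
theorem N968 : nd 968 = n1886 := ndS (p := 851) (l := 3) rfl N851 D1886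
theorem N969 : nd 969 = n1892 := ndS (p := 852) (l := 3) rfl N852 D1892
theorem N970 : nd 970 = n1898 := ndS (p := 854) (l := 0) rfl N854 D1898
theorem N971 : nd 971 = n1901 := ndS (p := 855) (l := 2) rfl N855 D1901
theorem N972 : nd 972 = n1904 := ndS (p := 856) (l := 2) rfl N856 D1904
theorem N973 : nd 973 = n1913 := ndS (p := 858) (l := 0) rfl N858 D1913
theorem N974 : nd 974 = n1921 := ndS (p := 860) (l := 3) rfl N860 D1921
theorem N975 : nd 975 = n1926 := ndS (p := 861) (l := 3) rfl N861 D1926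
theorem N976 : nd 976 = n1932 := ndS (p := 862) (l := 3) rfl N862 D1932
theorem N977 : nd 977 = n1935 := ndS (p := 865) (l := 1) rfl N865 D1935
theorem N978 : nd 978 = n1936 := ndS (p := 865) (l := 3) rfl N865 D1936
theorem N979 : nd 979 = n1937 := ndS (p := 866) (l := 0) rfl N866 D1937
theorem N980 : nd 980 = n1938 := ndS (p := 867) (l := 2) rfl N867 D1938
theorem N981 : nd 981 = n1939 := ndS (p := 868) (l := 3) rfl N868 D1939
theorem N982 : nd 982 = n1957 := ndS (p := 869) (l := 2) rfl N869 D1957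
theorem N983 : nd 983 = n1962 := ndS (p := 870) (l := 1) rfl N870 D1962
theorem N984 : nd 984 = n1979 := ndS (p := 874) (l := 3) rfl N874 D1979
theorem N985 : nd 985 = n2015 := ndS (p := 880) (l := 1) rfl N880 D2015
theorem N986 : nd 986 = n2016 := ndS (p := 880) (l := 3) rfl N880 D2016
theorem N987 : nd 987 = n2027 := ndS (p := 883) (l := 1) rfl N883 D2027
theorem N988 : nd 988 = n2028 := ndS (p := 883) (l := 3) rfl N883 D2028
theorem N989 : nd 989 = n2029 := ndS (p := 885) (l := 0) rfl N885 D2029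
theorem N990 : nd 990 = n2038 := ndS (p := 886) (l := 0) rfl N886 D2038
theorem N991 : nd 991 = n2055 := ndS (p := 890) (l := 2) rfl N890 D2055
theorem N992 : nd 992 = n2062 := ndS (p := 891) (l := 2) rfl N891 D2062
theorem N993 : nd 993 = n2064 := ndS (p := 892) (l := 3) rfl N892 D2064
theorem N994 : nd 994 = n2068 := ndS (p := 893) (l := 3) rfl N893 D2068
theorem N995 : nd 995 = n2069 := ndS (p := 894) (l := 2) rfl N894 D2069
theorem N996 : nd 996 = n2082 := ndS (p := 895) (l := 3) rfl N895 D2082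
theorem N997 : nd 997 = n2087 := ndS (p := 897) (l := 3) rfl N897 D2087
theorem N998 : nd 998 = n2099 := ndS (p := 900) (l := 1) rfl N900 D2099
theorem N999 : nd 999 = n2104 := ndS (p := 901) (l := 2) rfl N901 D2104
theorem N1000 : nd 1000 = n2126 := ndS (p := 906) (l := 1) rfl N906 D2126
theorem N1001 : nd 1001 = n2127 := ndS (p := 906) (l := 3) rfl N906 D2127
theorem N1002 : nd 1002 = n2128 := ndS (p := 907) (l := 2) rfl N907 D2128
theorem N1003 : nd 1003 = n2141 := ndS (p := 911) (l := 3) rfl N911 D2141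
theorem N1004 : nd 1004 = n2144 := ndS (p := 913) (l := 2) rfl N913 D2144
theorem N1005 : nd 1005 = n2146 := ndS (p := 914) (l := 3) rfl N914 D2146
theorem N1006 : nd 1006 = n2147 := ndS (p := 915) (l := 2) rfl N915 D2147
theorem N1007 : nd 1007 = n2175 := ndS (p := 916) (l := 1) rfl N916 D2175
theorem N1008 : nd 1008 = n2177 := ndS (p := 917) (l := 0) rfl N917 D2177
theorem N1009 : nd 1009 = n2178 := ndS (p := 917) (l := 3) rfl N917 D2178
theorem N1010 : nd 1010 = n2196 := ndS (p := 921) (l := 3) rfl N921 D2196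
theorem N1011 : nd 1011 = n2197 := ndS (p := 922) (l := 2) rfl N922 D2197
theorem N1012 : nd 1012 = n2203 := ndS (p := 925) (l := 3) rfl N925 D2203
theorem N1013 : nd 1013 = n2204 := ndS (p := 927) (l := 1) rfl N927 D2204
theorem N1014 : nd 1014 = n2239 := ndS (p := 929) (l := 1) rfl N929 D2239
theorem N1015 : nd 1015 = n2240 := ndS (p := 929) (l := 3) rfl N929 D2240
theorem N1016 : nd 1016 = n2242 := ndS (p := 930) (l := 3) rfl N930 D2242
theorem N1017 : nd 1017 = n2268 := ndS (p := 933) (l := 2) rfl N933 D2268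
theorem N1018 : nd 1018 = n2304 := ndS (p := 934) (l := 1) rfl N934 D2304
theorem N1019 : nd 1019 = n2305 := ndS (p := 934) (l := 3) rfl N934 D2305
theorem N1020 : nd 1020 = n2311 := ndS (p := 935) (l := 3) rfl N935 D2311
theorem N1021 : nd 1021 = n2337 := ndS (p := 939) (l := 2) rfl N939 D2337
theorem N1022 : nd 1022 = n2338 := ndS (p := 940) (l := 1) rfl N940 D2338
theorem N1023 : nd 1023 = n2339 := ndS (p := 941) (l := 0) rfl N941 D2339
theorem N1024 : nd 1024 = n2340 := ndS (p := 941) (l := 2) rfl N941 D2340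
theorem N1025 : nd 1025 = n2416 := ndS (p := 943) (l := 1) rfl N943 D2416
theorem N1026 : nd 1026 = n2443 := ndS (p := 947) (l := 2) rfl N947 D2443
theorem N1027 : nd 1027 = n2452 := ndS (p := 951) (l := 3) rfl N951 D2452
theorem N1028 : nd 1028 = n2463 := ndS (p := 955) (l := 2) rfl N955 D2463
theorem N1029 : nd 1029 = n2464 := ndS (p := 956) (l := 3) rfl N956 D2464
theorem N1030 : nd 1030 = n2498 := ndS (p := 958) (l := 0) rfl N958 D2498
theorem N1031 : nd 1031 = n2502 := ndS (p := 959) (l := 3) rfl N959 D2502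
theorem N1032 : nd 1032 = n2504 := ndS (p := 961) (l := 1) rfl N961 D2504
theorem N1033 : nd 1033 = n2505 := ndS (p := 961) (l := 3) rfl N961 D2505
theorem N1034 : nd 1034 = n2506 := ndS (p := 962) (l := 2) rfl N962 D2506
theorem N1035 : nd 1035 = n2536 := ndS (p := 963) (l := 1) rfl N963 D2536
theorem N1036 : nd 1036 = n2537 := ndS (p := 963) (l := 3) rfl N963 D2537
theorem N1037 : nd 1037 = n2538 := ndS (p := 965) (l := 0) rfl N965 D2538
theorem N1038 : nd 1038 = n2571 := ndS (p := 969) (l := 2) rfl N969 D2571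
theorem N1039 : nd 1039 = n2584 := ndS (p := 971) (l := 3) rfl N971 D2584
theorem N1040 : nd 1040 = n2589 := ndS (p := 972) (l := 3) rfl N972 D2589
theorem N1041 : nd 1041 = n2599 := ndS (p := 973) (l := 1) rfl N973 D2599
theorem N1042 : nd 1042 = n2630 := ndS (p := 977) (l := 3) rfl N977 D2630
theorem N1043 : nd 1043 = n2732 := ndS (p := 985) (l := 3) rfl N985 D2732
theorem N1044 : nd 1044 = n2746 := ndS (p := 987) (l := 3) rfl N987 D2746
theorem N1045 : nd 1045 = n2747 := ndS (p := 989) (l := 1) rfl N989 D2747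
theorem N1046 : nd 1046 = n2780 := ndS (p := 991) (l := 3) rfl N991 D2780
theorem N1047 : nd 1047 = n2810 := ndS (p := 996) (l := 2) rfl N996 D2810
theorem N1048 : nd 1048 = n2867 := ndS (p := 1000) (l := 3) rfl N1000 D2867
theorem N1049 : nd 1049 = n2885 := ndS (p := 1003) (l := 2) rfl N1003 D2885
theorem N1050 : nd 1050 = n2891 := ndS (p := 1006) (l := 1) rfl N1006 D2891
theorem N1051 : nd 1051 = n2933 := ndS (p := 1008) (l := 3) rfl N1008 D2933
theorem N1052 : nd 1052 = n2953 := ndS (p := 1010) (l := 2) rfl N1010 D2953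
theorem N1053 : nd 1053 = n2955 := ndS (p := 1011) (l := 3) rfl N1011 D2955
theorem N1054 : nd 1054 = n2963 := ndS (p := 1012) (l := 2) rfl N1012 D2963
theorem N1055 : nd 1055 = n3010 := ndS (p := 1014) (l := 3) rfl N1014 D3010
theorem N1056 : nd 1056 = n3092 := ndS (p := 1018) (l := 3) rfl N1018 D3092
theorem N1057 : nd 1057 = n3135 := ndS (p := 1021) (l := 1) rfl N1021 D3135
theorem N1058 : nd 1058 = n3136 := ndS (p := 1021) (l := 3) rfl N1021 D3136
theorem N1059 : nd 1059 = n3272 := ndS (p := 1026) (l := 3) rfl N1026 D3272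
theorem N1060 : nd 1060 = n3286 := ndS (p := 1027) (l := 2) rfl N1027 D3286
theorem N1061 : nd 1061 = n3301 := ndS (p := 1028) (l := 1) rfl N1028 D3301
theorem N1062 : nd 1062 = n3302 := ndS (p := 1028) (l := 3) rfl N1028 D3302
theorem N1063 : nd 1063 = n3356 := ndS (p := 1032) (l := 3) rfl N1032 D3356
theorem N1064 : nd 1064 = n3398 := ndS (p := 1035) (l := 3) rfl N1035 D3398
theorem N1065 : nd 1065 = n3399 := ndS (p := 1037) (l := 1) rfl N1037 D3399
theorem N1066 : nd 1066 = n3438 := ndS (p := 1038) (l := 3) rfl N1038 D3438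
theorem N1067 : nd 1067 = n3513 := ndS (p := 1042) (l := 2) rfl N1042 D3513
theorem N1068 : nd 1068 = n3645 := ndS (p := 1043) (l := 2) rfl N1043 D3645
theorem N1069 : nd 1069 = n3664 := ndS (p := 1044) (l := 2) rfl N1044 D3664
theorem N1070 : nd 1070 = n3665 := ndS (p := 1045) (l := 2) rfl N1045 D3665
theorem N1071 : nd 1071 = n3842 := ndS (p := 1049) (l := 3) rfl N1049 D3842
theorem N1072 : nd 1072 = n4107 := ndS (p := 1056) (l := 2) rfl N1056 D4107
theorem N1073 : nd 1073 = n4166 := ndS (p := 1057) (l := 3) rfl N1057 D4166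
theorem N1074 : nd 1074 = n4329 := ndS (p := 1059) (l := 2) rfl N1059 D4329
theorem N1075 : nd 1075 = n4363 := ndS (p := 1061) (l := 3) rfl N1061 D4363
theorem N1076 : nd 1076 = n4432 := ndS (p := 1063) (l := 2) rfl N1063 D4432
theorem N1077 : nd 1077 = n4484 := ndS (p := 1065) (l := 2) rfl N1065 D4484
theorem N1078 : nd 1078 = n5375 := ndS (p := 1072) (l := 3) rfl N1072 D5375
theorem N1079 : nd 1079 = n5450 := ndS (p := 1073) (l := 2) rfl N1073 D5450
theorem Q1 : ∀ i, i < 1 → P i := stepQ 0 Q0 (allL N0 (tt N0 F1) (tt N1 D1) (tt N2 D2) (tt N3 D3))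
theorem Q2 : ∀ i, i < 2 → P i := stepQ 1 Q1 (allL N1 (tt N4 D4) (tt N0 (iv D1)) (tt N5 D5) (tt N6 D6))
theorem Q3 : ∀ i, i < 3 → P i := stepQ 2 Q2 (allL N2 (tt N2 F2) (tt N7 D7) (tt N0 (iv D2)) (tt N8 D8))
theorem Q4 : ∀ i, i < 4 → P i := stepQ 3 Q3 (allL N3 (tt N3 F3) (tt N6 (iv F4)) (tt N9 D9) (tt N0 (iv D3)))
theorem Q5 : ∀ i, i < 5 → P i := stepQ 4 Q4 (allL N4 (tt N1 (iv D4)) (tt N10 D10) (tt N11 D11) (tt N12 D12))
theorem Q6 : ∀ i, i < 6 → P i := stepQ 5 Q5 (allL N5 (tt N11 (iv F7)) (tt N13 D13) (tt N1 (iv D5)) (tt N14 D14))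
theorem Q7 : ∀ i, i < 7 → P i := stepQ 6 Q6 (allL N6 (tt N12 (iv F8)) (tt N3 F4) (tt N15 D15) (tt N1 (iv D6)))
theorem Q8 : ∀ i, i < 8 → P i := stepQ 7 Q7 (allL N7 (tt N16 D16) (tt N2 (iv D7)) (tt N13 (iv F9)) (tt N17 D17))
theorem Q9 : ∀ i, i < 9 → P i := stepQ 8 Q8 (allL N8 (tt N8 F5) (tt N17 (iv F10)) (tt N18 D18) (tt N2 (iv D8)))
theorem Q10 : ∀ i, i < 10 → P i := stepQ 9 Q9 (allL N9 (tt N9 F6) (tt N19 D19) (tt N3 (iv D9)) (tt N20 D20))
theorem Q11 : ∀ i, i < 11 → P i := stepQ 10 Q10 (allL N10 (tt N21 D21) (tt N4 (iv D10)) (tt N22 D22) (tt N23 D23))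
theorem Q12 : ∀ i, i < 12 → P i := stepQ 11 Q11 (allL N11 (tt N5 F7) (tt N24 D24) (tt N4 (iv D11)) (tt N25 D25))
theorem Q13 : ∀ i, i < 13 → P i := stepQ 12 Q12 (allL N12 (tt N6 F8) (tt N23 (iv F14)) (tt N26 D26) (tt N4 (iv D12)))
theorem Q14 : ∀ i, i < 14 → P i := stepQ 13 Q13 (allL N13 (tt N27 D27) (tt N5 (iv D13)) (tt N7 F9) (tt N28 D28))
theorem Q15 : ∀ i, i < 15 → P i := stepQ 14 Q14 (allL N14 (tt N25 (iv F15)) (tt N28 (iv F18)) (tt N29 D29) (tt N5 (iv D14)))
theorem Q16 : ∀ i, i < 16 → P i := stepQ 15 Q15 (allL N15 (tt N26 (iv F16)) (tt N30 D30) (tt N6 (iv D15)) (tt N31 D31))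
theorem Q17 : ∀ i, i < 17 → P i := stepQ 16 Q16 (allL N16 (tt N7 (iv D16)) (tt N32 D32) (tt N27 (iv F17)) (tt N33 D33))
theorem Q18 : ∀ i, i < 18 → P i := stepQ 17 Q17 (allL N17 (tt N33 (iv F20)) (tt N8 F10) (tt N34 D34) (tt N7 (iv D17)))
theorem Q19 : ∀ i, i < 19 → P i := stepQ 18 Q18 (allL N18 (tt N18 F11) (tt N35 D35) (tt N8 (iv D18)) (tt N36 D36))
theorem Q20 : ∀ i, i < 20 → P i := stepQ 19 Q19 (allL N19 (tt N37 D37) (tt N9 (iv D19)) (tt N30 (iv F19)) (tt N38 D38))
theorem Q21 : ∀ i, i < 21 → P i := stepQ 20 Q20 (allL N20 (tt N20 F12) (tt N38 (iv F23)) (tt N36 (iv F22)) (tt N9 (iv D20)))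
theorem Q22 : ∀ i, i < 22 → P i := stepQ 21 Q21 (allL N21 (tt N10 (iv D21)) (tt N21 F13) (tt N39 D39) (tt N40 D40))
theorem Q23 : ∀ i, i < 23 → P i := stepQ 22 Q22 (allL N22 (tt N39 (iv F24)) (tt N41 D41) (tt N10 (iv D22)) (tt N42 D42))
theorem Q24 : ∀ i, i < 24 → P i := stepQ 23 Q23 (allL N23 (tt N40 (iv F25)) (tt N12 F14) (tt N43 D43) (tt N10 (iv D23)))
theorem Q25 : ∀ i, i < 25 → P i := stepQ 24 Q24 (allL N24 (tt N44 D44) (tt N11 (iv D24)) (tt N41 (iv F27)) (tt N45 D45))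
theorem Q26 : ∀ i, i < 26 → P i := stepQ 25 Q25 (allL N25 (tt N14 F15) (tt N45 (iv F28)) (tt N46 D46) (tt N11 (iv D25)))
theorem Q27 : ∀ i, i < 27 → P i := stepQ 26 Q26 (allL N26 (tt N15 F16) (tt N47 D47) (tt N12 (iv D26)) (tt N48 D48))
theorem Q28 : ∀ i, i < 28 → P i := stepQ 27 Q27 (allL N27 (tt N13 (iv D27)) (tt N49 D49) (tt N16 F17) (tt N50 D50))
theorem Q29 : ∀ i, i < 29 → P i := stepQ 28 Q28 (allL N28 (tt N50 (iv F31)) (tt N14 F18) (tt N51 D51) (tt N13 (iv D28)))
theorem Q30 : ∀ i, i < 30 → P i := stepQ 29 Q29 (allL N29 (tt N46 (iv F29)) (tt N52 D52) (tt N14 (iv D29)) (tt N53 D53))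
theorem Q31 : ∀ i, i < 31 → P i := stepQ 30 Q30 (allL N30 (tt N54 D54) (tt N15 (iv D30)) (tt N19 F19) (tt N55 D55))
theorem Q32 : ∀ i, i < 32 → P i := stepQ 31 Q31 (allL N31 (tt N48 (iv F30)) (tt N55 (iv F34)) (tt N56 D56) (tt N15 (iv D31)))
theorem Q33 : ∀ i, i < 33 → P i := stepQ 32 Q32 (allL N32 (tt N57 D57) (tt N16 (iv D32)) (tt N58 D58) (tt N59 D59))
theorem Q34 : ∀ i, i < 34 → P i := stepQ 33 Q33 (allL N33 (tt N17 F20) (tt N59 (iv F38)) (tt N60 D60) (tt N16 (iv D33)))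
theorem Q35 : ∀ i, i < 35 → P i := stepQ 34 Q34 (allL N34 (tt N60 (iv F39)) (tt N61 D61) (tt N17 (iv D34)) (tt N62 D62))
theorem Q36 : ∀ i, i < 36 → P i := stepQ 35 Q35 (allL N35 (tt N63 D63) (tt N18 (iv D35)) (tt N61 (iv F40)) (tt N64 D64))
theorem Q37 : ∀ i, i < 37 → P i := stepQ 36 Q36 (allL N36 (tt N36 F21) (tt N64 (iv F41)) (tt N20 F22) (tt N18 (iv D36)))
theorem Q38 : ∀ i, i < 38 → P i := stepQ 37 Q37 (allL N37 (tt N19 (iv D37)) (tt N65 D65) (tt N54 (iv F33)) (tt N66 D66))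
theorem Q39 : ∀ i, i < 39 → P i := stepQ 38 Q38 (allL N38 (tt N66 (iv F42)) (tt N20 F23) (tt N67 D67) (tt N19 (iv D38)))
theorem Q40 : ∀ i, i < 40 → P i := stepQ 39 Q39 (allL N39 (tt N22 F24) (tt N68 D68) (tt N21 (iv D39)) (tt N69 D69))
theorem Q41 : ∀ i, i < 41 → P i := stepQ 40 Q40 (allL N40 (tt N23 F25) (tt N40 F26) (tt N70 D70) (tt N21 (iv D40)))
theorem Q42 : ∀ i, i < 42 → P i := stepQ 41 Q41 (allL N41 (tt N71 D71) (tt N22 (iv D41)) (tt N24 F27) (tt N72 D72))
theorem Q43 : ∀ i, i < 43 → P i := stepQ 42 Q42 (allL N42 (tt N69 (iv F44)) (tt N72 (iv F47)) (tt N73 D73) (tt N22 (iv D42)))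
theorem Q44 : ∀ i, i < 44 → P i := stepQ 43 Q43 (allL N43 (tt N70 (iv F45)) (tt N74 D74) (tt N23 (iv D43)) (tt N75 D75))
theorem Q45 : ∀ i, i < 45 → P i := stepQ 44 Q44 (allL N44 (tt N24 (iv D44)) (tt N76 D76) (tt N71 (iv F46)) (tt N77 D77))
theorem Q46 : ∀ i, i < 46 → P i := stepQ 45 Q45 (allL N45 (tt N77 (iv F49)) (tt N25 F28) (tt N78 D78) (tt N24 (iv D45)))
theorem Q47 : ∀ i, i < 47 → P i := stepQ 46 Q46 (allL N46 (tt N29 F29) (tt N79 D79) (tt N25 (iv D46)) (tt N56 (iv F36)))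
theorem Q48 : ∀ i, i < 48 → P i := stepQ 47 Q47 (allL N47 (tt N80 D80) (tt N26 (iv D47)) (tt N74 (iv F48)) (tt N81 D81))
theorem Q49 : ∀ i, i < 49 → P i := stepQ 48 Q48 (allL N48 (tt N31 F30) (tt N81 (iv F50)) (tt N53 (iv F32)) (tt N26 (iv D48)))
theorem Q50 : ∀ i, i < 50 → P i := stepQ 49 Q49 (allL N49 (tt N82 D82) (tt N27 (iv D49)) (tt N83 D83) (tt N84 D84))
theorem Q51 : ∀ i, i < 51 → P i := stepQ 50 Q50 (allL N50 (tt N28 F31) (tt N84 (iv F52)) (tt N85 D85) (tt N27 (iv D50)))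
theorem Q52 : ∀ i, i < 52 → P i := stepQ 51 Q51 (allL N51 (tt N85 (iv F53)) (tt N86 D86) (tt N28 (iv D51)) (tt N87 D87))
theorem Q53 : ∀ i, i < 53 → P i := stepQ 52 Q52 (allL N52 (tt N88 D88) (tt N29 (iv D52)) (tt N86 (iv F54)) (tt N89 D89))
theorem Q54 : ∀ i, i < 54 → P i := stepQ 53 Q53 (allL N53 (tt N56 (iv F35)) (tt N89 (iv F55)) (tt N48 F32) (tt N29 (iv D53)))
theorem Q55 : ∀ i, i < 55 → P i := stepQ 54 Q54 (allL N54 (tt N30 (iv D54)) (tt N90 D90) (tt N37 F33) (tt N91 D91))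
theorem Q56 : ∀ i, i < 56 → P i := stepQ 55 Q55 (allL N55 (tt N91 (iv F56)) (tt N31 F34) (tt N92 D92) (tt N30 (iv D55)))
theorem Q57 : ∀ i, i < 57 → P i := stepQ 56 Q56 (allL N56 (tt N53 F35) (tt N93 D93) (tt N31 (iv D56)) (tt N46 F36))
theorem Q58 : ∀ i, i < 58 → P i := stepQ 57 Q57 (allL N57 (tt N32 (iv D57)) (tt N57 F37) (tt N94 D94) (tt N95 D95))
theorem Q59 : ∀ i, i < 59 → P i := stepQ 58 Q58 (allL N58 (tt N94 (iv F58)) (tt N83 (iv F51)) (tt N32 (iv D58)) (tt N96 D96))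
theorem Q60 : ∀ i, i < 60 → P i := stepQ 59 Q59 (allL N59 (tt N95 (iv F59)) (tt N33 F38) (tt N97 D97) (tt N32 (iv D59)))
theorem Q61 : ∀ i, i < 61 → P i := stepQ 60 Q60 (allL N60 (tt N34 F39) (tt N98 D98) (tt N33 (iv D60)) (tt N99 D99))
theorem Q62 : ∀ i, i < 62 → P i := stepQ 61 Q61 (allL N61 (tt N100 D100) (tt N34 (iv D61)) (tt N35 F40) (tt N101 D101))
theorem Q63 : ∀ i, i < 63 → P i := stepQ 62 Q62 (allL N62 (tt N99 (iv F61)) (tt N101 (iv F64)) (tt N102 D102) (tt N34 (iv D62)))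
theorem Q64 : ∀ i, i < 64 → P i := stepQ 63 Q63 (allL N63 (tt N35 (iv D63)) (tt N103 D103) (tt N100 (iv F63)) (tt N104 D104))
theorem Q65 : ∀ i, i < 65 → P i := stepQ 64 Q64 (allL N64 (tt N104 (iv F67)) (tt N36 F41) (tt N105 D105) (tt N35 (iv D64)))
theorem Q66 : ∀ i, i < 66 → P i := stepQ 65 Q65 (allL N65 (tt N106 D106) (tt N37 (iv D65)) (tt N107 D107) (tt N108 D108))
theorem Q67 : ∀ i, i < 67 → P i := stepQ 66 Q66 (allL N66 (tt N38 F42) (tt N108 (iv F70)) (tt N109 D109) (tt N37 (iv D66)))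
theorem Q68 : ∀ i, i < 68 → P i := stepQ 67 Q67 (allL N67 (tt N109 (iv F71)) (tt N105 (iv F68)) (tt N38 (iv D67)) (tt N110 D110))
theorem Q69 : ∀ i, i < 69 → P i := stepQ 68 Q68 (allL N68 (tt N111 D111) (tt N39 (iv D68)) (tt N68 F43) (tt N112 D112))
theorem Q70 : ∀ i, i < 70 → P i := stepQ 69 Q69 (allL N69 (tt N42 F44) (tt N112 (iv F73)) (tt N113 D113) (tt N39 (iv D69)))
theorem Q71 : ∀ i, i < 71 → P i := stepQ 70 Q70 (allL N70 (tt N43 F45) (tt N114 D114) (tt N40 (iv D70)) (tt N115 D115))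
theorem Q72 : ∀ i, i < 72 → P i := stepQ 71 Q71 (allL N71 (tt N41 (iv D71)) (tt N116 D116) (tt N44 F46) (tt N117 D117))
theorem Q73 : ∀ i, i < 73 → P i := stepQ 72 Q72 (allL N72 (tt N117 (iv F77)) (tt N42 F47) (tt N118 D118) (tt N41 (iv D72)))
theorem Q74 : ∀ i, i < 74 → P i := stepQ 73 Q73 (allL N73 (tt N113 (iv F74)) (tt N119 D119) (tt N42 (iv D73)) (tt N120 D120))
theorem Q75 : ∀ i, i < 75 → P i := stepQ 74 Q74 (allL N74 (tt N121 D121) (tt N43 (iv D74)) (tt N47 F48) (tt N122 D122))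
theorem Q76 : ∀ i, i < 76 → P i := stepQ 75 Q75 (allL N75 (tt N115 (iv F76)) (tt N122 (iv F80)) (tt N123 D123) (tt N43 (iv D75)))
theorem Q77 : ∀ i, i < 77 → P i := stepQ 76 Q76 (allL N76 (tt N124 D124) (tt N44 (iv D76)) (tt N124 F10249) (tt N125 D126))
theorem Q78 : ∀ i, i < 78 → P i := stepQ 77 Q77 (allL N77 (tt N45 F49) (tt N125 (iv F84)) (tt N126 D127) (tt N44 (iv D77)))
theorem Q79 : ∀ i, i < 79 → P i := stepQ 78 Q78 (allL N78 (tt N126 (iv F85)) (tt N127 D128) (tt N45 (iv D78)) (tt N128 D129))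
theorem Q80 : ∀ i, i < 80 → P i := stepQ 79 Q79 (allL N79 (tt N129 D130) (tt N46 (iv D79)) (tt N127 (iv F86)) (tt N93 (iv F57)))
theorem Q81 : ∀ i, i < 81 → P i := stepQ 80 Q80 (allL N80 (tt N47 (iv D80)) (tt N130 D131) (tt N121 (iv F79)) (tt N131 D132))
theorem Q82 : ∀ i, i < 82 → P i := stepQ 81 Q81 (allL N81 (tt N131 (iv F87)) (tt N48 F50) (tt N132 D133) (tt N47 (iv D81)))
theorem Q83 : ∀ i, i < 83 → P i := stepQ 82 Q82 (allL N82 (tt N49 (iv D82)) (tt N124 (iv F83)) (tt N116 (iv F10509)) (tt N133 D135))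
theorem Q84 : ∀ i, i < 84 → P i := stepQ 83 Q83 (allL N83 (tt N116 F10362) (tt N58 F51) (tt N49 (iv D83)) (tt N134 D136))
theorem Q85 : ∀ i, i < 85 → P i := stepQ 84 Q84 (allL N84 (tt N133 (iv F89)) (tt N50 F52) (tt N135 D137) (tt N49 (iv D84)))
theorem Q86 : ∀ i, i < 86 → P i := stepQ 85 Q85 (allL N85 (tt N51 F53) (tt N136 D138) (tt N50 (iv D85)) (tt N102 (iv F66)))
theorem Q87 : ∀ i, i < 87 → P i := stepQ 86 Q86 (allL N86 (tt N137 D139) (tt N51 (iv D86)) (tt N52 F54) (tt N138 D140))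
theorem Q88 : ∀ i, i < 88 → P i := stepQ 87 Q87 (allL N87 (tt N102 (iv F65)) (tt N138 (iv F92)) (tt N99 (iv F62)) (tt N51 (iv D87)))
theorem Q89 : ∀ i, i < 89 → P i := stepQ 88 Q88 (allL N88 (tt N52 (iv D88)) (tt N139 D141) (tt N137 (iv F91)) (tt N140 D142))
theorem Q90 : ∀ i, i < 90 → P i := stepQ 89 Q89 (allL N89 (tt N140 (iv F93)) (tt N53 F55) (tt N141 D143) (tt N52 (iv D89)))
theorem Q91 : ∀ i, i < 91 → P i := stepQ 90 Q90 (allL N90 (tt N142 D144) (tt N54 (iv D90)) (tt N143 D145) (tt N144 D146))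
theorem Q92 : ∀ i, i < 92 → P i := stepQ 91 Q91 (allL N91 (tt N55 F56) (tt N144 (iv F96)) (tt N145 D147) (tt N54 (iv D91)))
theorem Q93 : ∀ i, i < 93 → P i := stepQ 92 Q92 (allL N92 (tt N145 (iv F97)) (tt N146 D148) (tt N55 (iv D92)) (tt N147 D149))
theorem Q94 : ∀ i, i < 94 → P i := stepQ 93 Q93 (allL N93 (tt N148 D150) (tt N56 (iv D93)) (tt N146 (iv F98)) (tt N79 F57))
theorem Q95 : ∀ i, i < 95 → P i := stepQ 94 Q94 (allL N94 (tt N58 F58) (tt N111 (iv F10510)) (tt N57 (iv D94)) (tt N149 D152))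
theorem Q96 : ∀ i, i < 96 → P i := stepQ 95 Q95 (allL N95 (tt N59 F59) (tt N95 F60) (tt N150 D153) (tt N57 (iv D95)))
theorem Q97 : ∀ i, i < 97 → P i := stepQ 96 Q96 (allL N96 (tt N149 (iv F101)) (tt N134 (iv F90)) (tt N151 D154) (tt N58 (iv D96)))
theorem Q98 : ∀ i, i < 98 → P i := stepQ 97 Q97 (allL N97 (tt N150 (iv F102)) (tt N152 D155) (tt N59 (iv D97)) (tt N153 D156))
theorem Q99 : ∀ i, i < 99 → P i := stepQ 98 Q98 (allL N98 (tt N154 D157) (tt N60 (iv D98)) (tt N152 (iv F103)) (tt N155 D158))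
theorem Q100 : ∀ i, i < 100 → P i := stepQ 99 Q99 (allL N99 (tt N62 F61) (tt N155 (iv F104)) (tt N87 F62) (tt N60 (iv D99)))
theorem Q101 : ∀ i, i < 101 → P i := stepQ 100 Q100 (allL N100 (tt N61 (iv D100)) (tt N156 D159) (tt N63 F63) (tt N157 D160))
theorem Q102 : ∀ i, i < 102 → P i := stepQ 101 Q101 (allL N101 (tt N157 (iv F105)) (tt N62 F64) (tt N158 D161) (tt N61 (iv D101)))
theorem Q103 : ∀ i, i < 103 → P i := stepQ 102 Q102 (allL N102 (tt N87 F65) (tt N159 D162) (tt N62 (iv D102)) (tt N85 F66))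
theorem Q104 : ∀ i, i < 104 → P i := stepQ 103 Q103 (allL N103 (tt N160 D163) (tt N63 (iv D103)) (tt N161 D164) (tt N162 D165))
theorem Q105 : ∀ i, i < 105 → P i := stepQ 104 Q104 (allL N104 (tt N64 F67) (tt N162 (iv F108)) (tt N163 D166) (tt N63 (iv D104)))
theorem Q106 : ∀ i, i < 106 → P i := stepQ 105 Q105 (allL N105 (tt N163 (iv F109)) (tt N67 F68) (tt N64 (iv D105)) (tt N164 D167))
theorem Q107 : ∀ i, i < 107 → P i := stepQ 106 Q106 (allL N106 (tt N65 (iv D106)) (tt N106 F69) (tt N165 D168) (tt N166 D169))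
theorem Q108 : ∀ i, i < 108 → P i := stepQ 107 Q107 (allL N107 (tt N165 (iv F111)) (tt N143 (iv F95)) (tt N65 (iv D107)) (tt N167 D170))
theorem Q109 : ∀ i, i < 109 → P i := stepQ 108 Q108 (allL N108 (tt N166 (iv F112)) (tt N66 F70) (tt N168 D171) (tt N65 (iv D108)))
theorem Q110 : ∀ i, i < 110 → P i := stepQ 109 Q109 (allL N109 (tt N67 F71) (tt N169 D172) (tt N66 (iv D109)) (tt N170 D173))
theorem Q111 : ∀ i, i < 111 → P i := stepQ 110 Q110 (allL N110 (tt N170 (iv F114)) (tt N164 (iv F110)) (tt N171 D174) (tt N67 (iv D110)))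
theorem Q112 : ∀ i, i < 112 → P i := stepQ 111 Q111 (allL N111 (tt N68 (iv D111)) (tt N94 F10510) (tt N111 F72) (tt N172 D176))
theorem Q113 : ∀ i, i < 113 → P i := stepQ 112 Q112 (allL N112 (tt N172 (iv F118)) (tt N69 F73) (tt N173 D177) (tt N68 (iv D112)))
theorem Q114 : ∀ i, i < 114 → P i := stepQ 113 Q113 (allL N113 (tt N73 F74) (tt N174 D178) (tt N69 (iv D113)) (tt N123 (iv F82)))
theorem Q115 : ∀ i, i < 115 → P i := stepQ 114 Q114 (allL N114 (tt N175 D179) (tt N70 (iv D114)) (tt N114 F75) (tt N176 D180))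
theorem Q116 : ∀ i, i < 116 → P i := stepQ 115 Q115 (allL N115 (tt N75 F76) (tt N176 (iv F120)) (tt N120 (iv F78)) (tt N70 (iv D115)))
theorem Q117 : ∀ i, i < 117 → P i := stepQ 116 Q116 (allL N116 (tt N83 (iv F10362)) (tt N71 (iv D116)) (tt N82 F10509) (tt N177 D183))
theorem Q118 : ∀ i, i < 118 → P i := stepQ 117 Q117 (allL N117 (tt N72 F77) (tt N177 (iv F122)) (tt N178 D184) (tt N71 (iv D117)))
theorem Q119 : ∀ i, i < 119 → P i := stepQ 118 Q118 (allL N118 (tt N178 (iv F123)) (tt N179 D185) (tt N72 (iv D118)) (tt N180 D186))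
theorem Q120 : ∀ i, i < 120 → P i := stepQ 119 Q119 (allL N119 (tt N181 D187) (tt N73 (iv D119)) (tt N179 (iv F124)) (tt N182 D188))
theorem Q121 : ∀ i, i < 121 → P i := stepQ 120 Q120 (allL N120 (tt N123 (iv F81)) (tt N182 (iv F125)) (tt N115 F78) (tt N73 (iv D120)))
theorem Q122 : ∀ i, i < 122 → P i := stepQ 121 Q121 (allL N121 (tt N74 (iv D121)) (tt N183 D189) (tt N80 F79) (tt N184 D190))
theorem Q123 : ∀ i, i < 123 → P i := stepQ 122 Q122 (allL N122 (tt N184 (iv F126)) (tt N75 F80) (tt N185 D191) (tt N74 (iv D122)))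
theorem Q124 : ∀ i, i < 124 → P i := stepQ 123 Q123 (allL N123 (tt N120 F81) (tt N186 D192) (tt N75 (iv D123)) (tt N113 F82))
theorem Q125 : ∀ i, i < 125 → P i := stepQ 124 Q124 (allL N124 (tt N76 (iv D124)) (tt N82 F83) (tt N76 (iv F10249)) (tt N187 D194))
theorem Q126 : ∀ i, i < 126 → P i := stepQ 125 Q125 (allL N125 (tt N187 (iv F129)) (tt N77 F84) (tt N188 D196) (tt N76 (iv D126)))
theorem Q127 : ∀ i, i < 127 → P i := stepQ 126 Q126 (allL N126 (tt N78 F85) (tt N189 D197) (tt N77 (iv D127)) (tt N190 D198))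
theorem Q128 : ∀ i, i < 128 → P i := stepQ 127 Q127 (allL N127 (tt N191 D199) (tt N78 (iv D128)) (tt N79 F86) (tt N192 D200))
theorem Q129 : ∀ i, i < 129 → P i := stepQ 128 Q128 (allL N128 (tt N190 (iv F131)) (tt N192 (iv F134)) (tt N193 D201) (tt N78 (iv D129)))
theorem Q130 : ∀ i, i < 130 → P i := stepQ 129 Q129 (allL N129 (tt N79 (iv D130)) (tt N194 D202) (tt N191 (iv F133)) (tt N148 (iv F99)))
theorem Q131 : ∀ i, i < 131 → P i := stepQ 130 Q130 (allL N130 (tt N195 D203) (tt N80 (iv D131)) (tt N195 (iv F10502)) (tt N196 D205))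
theorem Q132 : ∀ i, i < 132 → P i := stepQ 131 Q131 (allL N131 (tt N81 F87) (tt N196 (iv F138)) (tt N197 D206) (tt N80 (iv D132)))
theorem Q133 : ∀ i, i < 133 → P i := stepQ 132 Q132 (allL N132 (tt N197 (iv F139)) (tt N141 (iv F94)) (tt N81 (iv D133)) (tt N198 D207))
theorem Q134 : ∀ i, i < 134 → P i := stepQ 133 Q133 (allL N133 (tt N84 F89) (tt N187 (iv F130)) (tt N199 D210) (tt N82 (iv D135)))
theorem Q135 : ∀ i, i < 135 → P i := stepQ 134 Q134 (allL N134 (tt N177 F10363) (tt N96 F90) (tt N200 D211) (tt N83 (iv D136)))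
theorem Q136 : ∀ i, i < 136 → P i := stepQ 135 Q135 (allL N135 (tt N199 (iv F141)) (tt N201 D212) (tt N84 (iv D137)) (tt N202 D213))
theorem Q137 : ∀ i, i < 137 → P i := stepQ 136 Q136 (allL N136 (tt N203 D214) (tt N85 (iv D138)) (tt N201 (iv F142)) (tt N159 (iv F106)))
theorem Q138 : ∀ i, i < 138 → P i := stepQ 137 Q137 (allL N137 (tt N86 (iv D139)) (tt N204 D215) (tt N88 F91) (tt N205 D216))
theorem Q139 : ∀ i, i < 139 → P i := stepQ 138 Q138 (allL N138 (tt N205 (iv F143)) (tt N87 F92) (tt N206 D217) (tt N86 (iv D140)))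
theorem Q140 : ∀ i, i < 140 → P i := stepQ 139 Q139 (allL N139 (tt N207 D218) (tt N88 (iv D141)) (tt N208 D219) (tt N209 D220))
theorem Q141 : ∀ i, i < 141 → P i := stepQ 140 Q140 (allL N140 (tt N89 F93) (tt N209 (iv F144)) (tt N210 D221) (tt N88 (iv D142)))
theorem Q142 : ∀ i, i < 142 → P i := stepQ 141 Q141 (allL N141 (tt N210 (iv F145)) (tt N132 F94) (tt N89 (iv D143)) (tt N211 D222))
theorem Q143 : ∀ i, i < 143 → P i := stepQ 142 Q142 (allL N142 (tt N90 (iv D144)) (tt N195 (iv F137)) (tt N183 (iv F10486)) (tt N212 D224))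
theorem Q144 : ∀ i, i < 144 → P i := stepQ 143 Q143 (allL N143 (tt N183 (iv F10485)) (tt N107 F95) (tt N90 (iv D145)) (tt N213 D225))
theorem Q145 : ∀ i, i < 145 → P i := stepQ 144 Q144 (allL N144 (tt N212 (iv F148)) (tt N91 F96) (tt N214 D226) (tt N90 (iv D146)))
theorem Q146 : ∀ i, i < 146 → P i := stepQ 145 Q145 (allL N145 (tt N92 F97) (tt N215 D227) (tt N91 (iv D147)) (tt N171 (iv F117)))
theorem Q147 : ∀ i, i < 147 → P i := stepQ 146 Q146 (allL N146 (tt N216 D228) (tt N92 (iv D148)) (tt N93 F98) (tt N217 D229))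
theorem Q148 : ∀ i, i < 148 → P i := stepQ 147 Q147 (allL N147 (tt N171 (iv F116)) (tt N217 (iv F151)) (tt N170 (iv F115)) (tt N92 (iv D149)))
theorem Q149 : ∀ i, i < 149 → P i := stepQ 148 Q148 (allL N148 (tt N93 (iv D150)) (tt N218 D230) (tt N216 (iv F150)) (tt N129 F99))
theorem Q150 : ∀ i, i < 150 → P i := stepQ 149 Q149 (allL N149 (tt N96 F101) (tt N172 (iv F10508)) (tt N219 D233) (tt N94 (iv D152)))
theorem Q151 : ∀ i, i < 151 → P i := stepQ 150 Q150 (allL N150 (tt N97 F102) (tt N220 D234) (tt N95 (iv D153)) (tt N221 D235))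
theorem Q152 : ∀ i, i < 152 → P i := stepQ 151 Q151 (allL N151 (tt N219 (iv F155)) (tt N222 D236) (tt N96 (iv D154)) (tt N223 D237))
theorem Q153 : ∀ i, i < 153 → P i := stepQ 152 Q152 (allL N152 (tt N224 D238) (tt N97 (iv D155)) (tt N98 F103) (tt N225 D239))
theorem Q154 : ∀ i, i < 154 → P i := stepQ 153 Q153 (allL N153 (tt N221 (iv F157)) (tt N225 (iv F160)) (tt N226 D240) (tt N97 (iv D156)))
theorem Q155 : ∀ i, i < 155 → P i := stepQ 154 Q154 (allL N154 (tt N98 (iv D157)) (tt N227 D241) (tt N224 (iv F159)) (tt N228 D242))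
theorem Q156 : ∀ i, i < 156 → P i := stepQ 155 Q155 (allL N155 (tt N228 (iv F163)) (tt N99 F104) (tt N229 D243) (tt N98 (iv D158)))
theorem Q157 : ∀ i, i < 157 → P i := stepQ 156 Q156 (allL N156 (tt N230 D244) (tt N100 (iv D159)) (tt N231 D245) (tt N232 D246))
theorem Q158 : ∀ i, i < 158 → P i := stepQ 157 Q157 (allL N157 (tt N101 F105) (tt N232 (iv F166)) (tt N233 D247) (tt N100 (iv D160)))
theorem Q159 : ∀ i, i < 159 → P i := stepQ 158 Q158 (allL N158 (tt N233 (iv F167)) (tt N234 D248) (tt N101 (iv D161)) (tt N235 D249))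
theorem Q160 : ∀ i, i < 160 → P i := stepQ 159 Q159 (allL N159 (tt N236 D250) (tt N102 (iv D162)) (tt N234 (iv F168)) (tt N136 F106))
theorem Q161 : ∀ i, i < 161 → P i := stepQ 160 Q160 (allL N160 (tt N103 (iv D163)) (tt N160 F107) (tt N237 D251) (tt N238 D252))
theorem Q162 : ∀ i, i < 162 → P i := stepQ 161 Q161 (allL N161 (tt N237 (iv F170)) (tt N231 (iv F165)) (tt N103 (iv D164)) (tt N239 D253))
theorem Q163 : ∀ i, i < 163 → P i := stepQ 162 Q162 (allL N162 (tt N238 (iv F171)) (tt N104 F108) (tt N240 D254) (tt N103 (iv D165)))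
theorem Q164 : ∀ i, i < 164 → P i := stepQ 163 Q163 (allL N163 (tt N105 F109) (tt N241 D255) (tt N104 (iv D166)) (tt N242 D256))
theorem Q165 : ∀ i, i < 165 → P i := stepQ 164 Q164 (allL N164 (tt N242 (iv F173)) (tt N110 F110) (tt N243 D257) (tt N105 (iv D167)))
theorem Q166 : ∀ i, i < 166 → P i := stepQ 165 Q165 (allL N165 (tt N107 F111) (tt N175 (iv F10511)) (tt N106 (iv D168)) (tt N244 D259))
theorem Q167 : ∀ i, i < 167 → P i := stepQ 166 Q166 (allL N166 (tt N108 F112) (tt N166 F113) (tt N245 D260) (tt N106 (iv D169)))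
theorem Q168 : ∀ i, i < 168 → P i := stepQ 167 Q167 (allL N167 (tt N244 (iv F178)) (tt N213 (iv F149)) (tt N246 D261) (tt N107 (iv D170)))
theorem Q169 : ∀ i, i < 169 → P i := stepQ 168 Q168 (allL N168 (tt N245 (iv F179)) (tt N247 D262) (tt N108 (iv D171)) (tt N248 D263))
theorem Q170 : ∀ i, i < 170 → P i := stepQ 169 Q169 (allL N169 (tt N249 D264) (tt N109 (iv D172)) (tt N247 (iv F180)) (tt N250 D265))
theorem Q171 : ∀ i, i < 171 → P i := stepQ 170 Q170 (allL N170 (tt N110 F114) (tt N250 (iv F181)) (tt N147 F115) (tt N109 (iv D173)))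
theorem Q172 : ∀ i, i < 172 → P i := stepQ 171 Q171 (allL N171 (tt N147 F116) (tt N251 D266) (tt N110 (iv D174)) (tt N145 F117))
theorem Q173 : ∀ i, i < 173 → P i := stepQ 172 Q172 (allL N172 (tt N112 F118) (tt N149 F10508) (tt N252 D270) (tt N111 (iv D176)))
theorem Q174 : ∀ i, i < 174 → P i := stepQ 173 Q173 (allL N173 (tt N252 (iv F186)) (tt N253 D271) (tt N112 (iv D177)) (tt N254 D272))
theorem Q175 : ∀ i, i < 175 → P i := stepQ 174 Q174 (allL N174 (tt N255 D273) (tt N113 (iv D178)) (tt N253 (iv F187)) (tt N186 (iv F127)))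
theorem Q176 : ∀ i, i < 176 → P i := stepQ 175 Q175 (allL N175 (tt N114 (iv D179)) (tt N165 F10511) (tt N175 F119) (tt N256 D275))
theorem Q177 : ∀ i, i < 177 → P i := stepQ 176 Q176 (allL N176 (tt N256 (iv F188)) (tt N115 F120) (tt N257 D276) (tt N114 (iv D180)))
theorem Q178 : ∀ i, i < 178 → P i := stepQ 177 Q177 (allL N177 (tt N134 (iv F10363)) (tt N117 F122) (tt N258 D280) (tt N116 (iv D183)))
theorem Q179 : ∀ i, i < 179 → P i := stepQ 178 Q178 (allL N178 (tt N118 F123) (tt N259 D281) (tt N117 (iv D184)) (tt N193 (iv F136)))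
theorem Q180 : ∀ i, i < 180 → P i := stepQ 179 Q179 (allL N179 (tt N260 D282) (tt N118 (iv D185)) (tt N119 F124) (tt N261 D283))
theorem Q181 : ∀ i, i < 181 → P i := stepQ 180 Q180 (allL N180 (tt N193 (iv F135)) (tt N261 (iv F193)) (tt N190 (iv F132)) (tt N118 (iv D186)))
theorem Q182 : ∀ i, i < 182 → P i := stepQ 181 Q181 (allL N181 (tt N119 (iv D187)) (tt N262 D284) (tt N260 (iv F192)) (tt N263 D285))
theorem Q183 : ∀ i, i < 183 → P i := stepQ 182 Q182 (allL N182 (tt N263 (iv F194)) (tt N120 F125) (tt N264 D286) (tt N119 (iv D188)))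
theorem Q184 : ∀ i, i < 184 → P i := stepQ 183 Q183 (allL N183 (tt N143 F10485) (tt N121 (iv D189)) (tt N142 F10486) (tt N265 D289))
theorem Q185 : ∀ i, i < 185 → P i := stepQ 184 Q184 (allL N184 (tt N122 F126) (tt N265 (iv F197)) (tt N266 D290) (tt N121 (iv D190)))
theorem Q186 : ∀ i, i < 186 → P i := stepQ 185 Q185 (allL N185 (tt N266 (iv F198)) (tt N267 D291) (tt N122 (iv D191)) (tt N268 D292))
theorem Q187 : ∀ i, i < 187 → P i := stepQ 186 Q186 (allL N186 (tt N269 D293) (tt N123 (iv D192)) (tt N267 (iv F199)) (tt N174 F127))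
theorem Q188 : ∀ i, i < 188 → P i := stepQ 187 Q187 (allL N187 (tt N125 F129) (tt N133 F130) (tt N270 D296) (tt N124 (iv D194)))
theorem Q189 : ∀ i, i < 189 → P i := stepQ 188 Q188 (allL N188 (tt N270 (iv F203)) (tt N271 D298) (tt N125 (iv D196)) (tt N272 D299))
theorem Q190 : ∀ i, i < 190 → P i := stepQ 189 Q189 (allL N189 (tt N273 D300) (tt N126 (iv D197)) (tt N271 (iv F204)) (tt N274 D301))
theorem Q191 : ∀ i, i < 191 → P i := stepQ 190 Q190 (allL N190 (tt N128 F131) (tt N274 (iv F205)) (tt N180 F132) (tt N126 (iv D198)))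
theorem Q192 : ∀ i, i < 192 → P i := stepQ 191 Q191 (allL N191 (tt N127 (iv D199)) (tt N275 D302) (tt N129 F133) (tt N276 D303))
theorem Q193 : ∀ i, i < 193 → P i := stepQ 192 Q192 (allL N192 (tt N276 (iv F206)) (tt N128 F134) (tt N277 D304) (tt N127 (iv D200)))
theorem Q194 : ∀ i, i < 194 → P i := stepQ 193 Q193 (allL N193 (tt N180 F135) (tt N278 D305) (tt N128 (iv D201)) (tt N178 F136))
theorem Q195 : ∀ i, i < 195 → P i := stepQ 194 Q194 (allL N194 (tt N279 D306) (tt N129 (iv D202)) (tt N280 D307) (tt N218 (iv F152)))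
theorem Q196 : ∀ i, i < 196 → P i := stepQ 195 Q195 (allL N195 (tt N130 (iv D203)) (tt N142 F137) (tt N130 F10502) (tt N281 D309))
theorem Q197 : ∀ i, i < 197 → P i := stepQ 196 Q196 (allL N196 (tt N281 (iv F210)) (tt N131 F138) (tt N282 D311) (tt N130 (iv D205)))
theorem Q198 : ∀ i, i < 198 → P i := stepQ 197 Q197 (allL N197 (tt N132 F139) (tt N283 D312) (tt N131 (iv D206)) (tt N284 D313))
theorem Q199 : ∀ i, i < 199 → P i := stepQ 198 Q198 (allL N198 (tt N284 (iv F212)) (tt N211 (iv F146)) (tt N285 D314) (tt N132 (iv D207)))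
theorem Q200 : ∀ i, i < 200 → P i := stepQ 199 Q199 (allL N199 (tt N135 F141) (tt N286 D318) (tt N133 (iv D210)) (tt N287 D319))
theorem Q201 : ∀ i, i < 201 → P i := stepQ 200 Q200 (allL N200 (tt N258 F10250) (tt N288 D320) (tt N134 (iv D211)) (tt N289 D321))
theorem Q202 : ∀ i, i < 202 → P i := stepQ 201 Q201 (allL N201 (tt N290 D322) (tt N135 (iv D212)) (tt N136 F142) (tt N291 D323))
theorem Q203 : ∀ i, i < 203 → P i := stepQ 202 Q202 (allL N202 (tt N287 (iv F218)) (tt N291 (iv F222)) (tt N292 D324) (tt N135 (iv D213)))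
theorem Q204 : ∀ i, i < 204 → P i := stepQ 203 Q203 (allL N203 (tt N136 (iv D214)) (tt N293 D325) (tt N290 (iv F221)) (tt N236 (iv F169)))
theorem Q205 : ∀ i, i < 205 → P i := stepQ 204 Q204 (allL N204 (tt N294 D326) (tt N137 (iv D215)) (tt N295 D327) (tt N296 D328))
theorem Q206 : ∀ i, i < 206 → P i := stepQ 205 Q205 (allL N205 (tt N138 F143) (tt N296 (iv F226)) (tt N297 D329) (tt N137 (iv D216)))
theorem Q207 : ∀ i, i < 207 → P i := stepQ 206 Q206 (allL N206 (tt N297 (iv F227)) (tt N229 (iv F164)) (tt N138 (iv D217)) (tt N298 D330))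
theorem Q208 : ∀ i, i < 208 → P i := stepQ 207 Q207 (allL N207 (tt N139 (iv D218)) (tt N279 (iv F208)) (tt N299 D331) (tt N300 D332))
theorem Q209 : ∀ i, i < 209 → P i := stepQ 208 Q208 (allL N208 (tt N299 (iv F228)) (tt N295 (iv F225)) (tt N139 (iv D219)) (tt N301 D333))
theorem Q210 : ∀ i, i < 210 → P i := stepQ 209 Q209 (allL N209 (tt N300 (iv F229)) (tt N140 F144) (tt N302 D334) (tt N139 (iv D220)))
theorem Q211 : ∀ i, i < 211 → P i := stepQ 210 Q210 (allL N210 (tt N141 F145) (tt N303 D335) (tt N140 (iv D221)) (tt N304 D336))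
theorem Q212 : ∀ i, i < 212 → P i := stepQ 211 Q211 (allL N211 (tt N304 (iv F230)) (tt N198 F146) (tt N305 D337) (tt N141 (iv D222)))
theorem Q213 : ∀ i, i < 213 → P i := stepQ 212 Q212 (allL N212 (tt N144 F148) (tt N281 (iv F211)) (tt N306 D340) (tt N142 (iv D224)))
theorem Q214 : ∀ i, i < 214 → P i := stepQ 213 Q213 (allL N213 (tt N265 (iv F10403)) (tt N167 F149) (tt N307 D341) (tt N143 (iv D225)))
theorem Q215 : ∀ i, i < 215 → P i := stepQ 214 Q214 (allL N214 (tt N306 (iv F235)) (tt N308 D342) (tt N144 (iv D226)) (tt N309 D343))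
theorem Q216 : ∀ i, i < 216 → P i := stepQ 215 Q215 (allL N215 (tt N310 D344) (tt N145 (iv D227)) (tt N308 (iv F236)) (tt N251 (iv F182)))
theorem Q217 : ∀ i, i < 217 → P i := stepQ 216 Q216 (allL N216 (tt N146 (iv D228)) (tt N311 D345) (tt N148 F150) (tt N312 D346))
theorem Q218 : ∀ i, i < 218 → P i := stepQ 217 Q217 (allL N217 (tt N312 (iv F237)) (tt N147 F151) (tt N313 D347) (tt N146 (iv D229)))
theorem Q219 : ∀ i, i < 219 → P i := stepQ 218 Q218 (allL N218 (tt N314 D348) (tt N148 (iv D230)) (tt N315 D349) (tt N194 F152))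
theorem Q220 : ∀ i, i < 220 → P i := stepQ 219 Q219 (allL N219 (tt N151 F155) (tt N316 D353) (tt N149 (iv D233)) (tt N226 (iv F162)))
theorem Q221 : ∀ i, i < 221 → P i := stepQ 220 Q220 (allL N220 (tt N317 D354) (tt N150 (iv D234)) (tt N220 F156) (tt N318 D355))
theorem Q222 : ∀ i, i < 222 → P i := stepQ 221 Q221 (allL N221 (tt N153 F157) (tt N318 (iv F242)) (tt N223 (iv F158)) (tt N150 (iv D235)))
theorem Q223 : ∀ i, i < 223 → P i := stepQ 222 Q222 (allL N222 (tt N319 D356) (tt N151 (iv D236)) (tt N288 (iv F219)) (tt N320 D357))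
theorem Q224 : ∀ i, i < 224 → P i := stepQ 223 Q223 (allL N223 (tt N226 (iv F161)) (tt N320 (iv F243)) (tt N221 F158) (tt N151 (iv D237)))
theorem Q225 : ∀ i, i < 225 → P i := stepQ 224 Q224 (allL N224 (tt N152 (iv D238)) (tt N321 D358) (tt N154 F159) (tt N322 D359))
theorem Q226 : ∀ i, i < 226 → P i := stepQ 225 Q225 (allL N225 (tt N322 (iv F244)) (tt N153 F160) (tt N323 D360) (tt N152 (iv D239)))
theorem Q227 : ∀ i, i < 227 → P i := stepQ 226 Q226 (allL N226 (tt N223 F161) (tt N324 D361) (tt N153 (iv D240)) (tt N219 F162))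
theorem Q228 : ∀ i, i < 228 → P i := stepQ 227 Q227 (allL N227 (tt N325 D362) (tt N154 (iv D241)) (tt N325 (iv F10380)) (tt N326 D364))
theorem Q229 : ∀ i, i < 229 → P i := stepQ 228 Q228 (allL N228 (tt N155 F163) (tt N326 (iv F247)) (tt N327 D365) (tt N154 (iv D242)))
theorem Q230 : ∀ i, i < 230 → P i := stepQ 229 Q229 (allL N229 (tt N327 (iv F248)) (tt N206 F164) (tt N155 (iv D243)) (tt N328 D366))
theorem Q231 : ∀ i, i < 231 → P i := stepQ 230 Q230 (allL N230 (tt N156 (iv D244)) (tt N325 (iv F246)) (tt N321 F10266) (tt N329 D368))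
theorem Q232 : ∀ i, i < 232 → P i := stepQ 231 Q231 (allL N231 (tt N321 F10216) (tt N161 F165) (tt N156 (iv D245)) (tt N330 D369))
theorem Q233 : ∀ i, i < 233 → P i := stepQ 232 Q232 (allL N232 (tt N329 (iv F251)) (tt N157 F166) (tt N331 D370) (tt N156 (iv D246)))
theorem Q234 : ∀ i, i < 234 → P i := stepQ 233 Q233 (allL N233 (tt N158 F167) (tt N332 D371) (tt N157 (iv D247)) (tt N243 (iv F176)))
theorem Q235 : ∀ i, i < 235 → P i := stepQ 234 Q234 (allL N234 (tt N333 D372) (tt N158 (iv D248)) (tt N159 F168) (tt N334 D373))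
theorem Q236 : ∀ i, i < 236 → P i := stepQ 235 Q235 (allL N235 (tt N243 (iv F175)) (tt N334 (iv F254)) (tt N242 (iv F174)) (tt N158 (iv D249)))
theorem Q237 : ∀ i, i < 237 → P i := stepQ 236 Q236 (allL N236 (tt N159 (iv D250)) (tt N335 D374) (tt N333 (iv F253)) (tt N203 F169))
theorem Q238 : ∀ i, i < 238 → P i := stepQ 237 Q237 (allL N237 (tt N161 F170) (tt N317 (iv F10445)) (tt N160 (iv D251)) (tt N336 D376))
theorem Q239 : ∀ i, i < 239 → P i := stepQ 238 Q238 (allL N238 (tt N162 F171) (tt N238 F172) (tt N337 D377) (tt N160 (iv D252)))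
theorem Q240 : ∀ i, i < 240 → P i := stepQ 239 Q239 (allL N239 (tt N336 (iv F257)) (tt N330 (iv F252)) (tt N338 D378) (tt N161 (iv D253)))
theorem Q241 : ∀ i, i < 241 → P i := stepQ 240 Q240 (allL N240 (tt N337 (iv F258)) (tt N339 D379) (tt N162 (iv D254)) (tt N340 D380))
theorem Q242 : ∀ i, i < 242 → P i := stepQ 241 Q241 (allL N241 (tt N341 D381) (tt N163 (iv D255)) (tt N339 (iv F259)) (tt N342 D382))
theorem Q243 : ∀ i, i < 243 → P i := stepQ 242 Q242 (allL N242 (tt N164 F173) (tt N342 (iv F260)) (tt N235 F174) (tt N163 (iv D256)))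
theorem Q244 : ∀ i, i < 244 → P i := stepQ 243 Q243 (allL N243 (tt N235 F175) (tt N343 D383) (tt N164 (iv D257)) (tt N233 F176))
theorem Q245 : ∀ i, i < 245 → P i := stepQ 244 Q244 (allL N244 (tt N167 F178) (tt N256 (iv F10507)) (tt N344 D386) (tt N165 (iv D259)))
theorem Q246 : ∀ i, i < 246 → P i := stepQ 245 Q245 (allL N245 (tt N168 F179) (tt N345 D387) (tt N166 (iv D260)) (tt N346 D388))
theorem Q247 : ∀ i, i < 247 → P i := stepQ 246 Q246 (allL N246 (tt N344 (iv F265)) (tt N347 D389) (tt N167 (iv D261)) (tt N348 D390))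
theorem Q248 : ∀ i, i < 248 → P i := stepQ 247 Q247 (allL N247 (tt N349 D391) (tt N168 (iv D262)) (tt N169 F180) (tt N350 D392))
theorem Q249 : ∀ i, i < 249 → P i := stepQ 248 Q248 (allL N248 (tt N346 (iv F267)) (tt N350 (iv F270)) (tt N351 D393) (tt N168 (iv D263)))
theorem Q250 : ∀ i, i < 250 → P i := stepQ 249 Q249 (allL N249 (tt N169 (iv D264)) (tt N352 D394) (tt N349 (iv F269)) (tt N353 D395))
theorem Q251 : ∀ i, i < 251 → P i := stepQ 250 Q250 (allL N250 (tt N353 (iv F273)) (tt N170 F181) (tt N354 D396) (tt N169 (iv D265)))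
theorem Q252 : ∀ i, i < 252 → P i := stepQ 251 Q251 (allL N251 (tt N355 D397) (tt N171 (iv D266)) (tt N343 (iv F261)) (tt N215 F182))
theorem Q253 : ∀ i, i < 253 → P i := stepQ 252 Q252 (allL N252 (tt N173 F186) (tt N356 D402) (tt N172 (iv D270)) (tt N357 D403))
theorem Q254 : ∀ i, i < 254 → P i := stepQ 253 Q253 (allL N253 (tt N358 D404) (tt N173 (iv D271)) (tt N174 F187) (tt N359 D405))
theorem Q255 : ∀ i, i < 255 → P i := stepQ 254 Q254 (allL N254 (tt N357 (iv F280)) (tt N359 (iv F283)) (tt N357 (iv F281)) (tt N173 (iv D272)))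
theorem Q256 : ∀ i, i < 256 → P i := stepQ 255 Q255 (allL N255 (tt N174 (iv D273)) (tt N360 D406) (tt N358 (iv F282)) (tt N269 (iv F200)))
theorem Q257 : ∀ i, i < 257 → P i := stepQ 256 Q256 (allL N256 (tt N176 F188) (tt N244 F10507) (tt N361 D410) (tt N175 (iv D275)))
theorem Q258 : ∀ i, i < 258 → P i := stepQ 257 Q257 (allL N257 (tt N361 (iv F287)) (tt N264 (iv F195)) (tt N176 (iv D276)) (tt N362 D411))
theorem Q259 : ∀ i, i < 259 → P i := stepQ 258 Q258 (allL N258 (tt N200 (iv F10250)) (tt N363 D416) (tt N177 (iv D280)) (tt N292 F10237))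
theorem Q260 : ∀ i, i < 260 → P i := stepQ 259 Q259 (allL N259 (tt N364 D418) (tt N178 (iv D281)) (tt N363 (iv F290)) (tt N278 (iv F207)))
theorem Q261 : ∀ i, i < 261 → P i := stepQ 260 Q260 (allL N260 (tt N179 (iv D282)) (tt N365 D419) (tt N181 F192) (tt N366 D420))
theorem Q262 : ∀ i, i < 262 → P i := stepQ 261 Q261 (allL N261 (tt N366 (iv F291)) (tt N180 F193) (tt N367 D421) (tt N179 (iv D283)))
theorem Q263 : ∀ i, i < 263 → P i := stepQ 262 Q262 (allL N262 (tt N368 D422) (tt N181 (iv D284)) (tt N369 D423) (tt N370 D424))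
theorem Q264 : ∀ i, i < 264 → P i := stepQ 263 Q263 (allL N263 (tt N182 F194) (tt N370 (iv F292)) (tt N371 D425) (tt N181 (iv D285)))
theorem Q265 : ∀ i, i < 265 → P i := stepQ 264 Q264 (allL N264 (tt N371 (iv F293)) (tt N257 F195) (tt N182 (iv D286)) (tt N372 D426))
theorem Q266 : ∀ i, i < 266 → P i := stepQ 265 Q265 (allL N265 (tt N213 F10403) (tt N184 F197) (tt N373 D430) (tt N183 (iv D289)))
theorem Q267 : ∀ i, i < 267 → P i := stepQ 266 Q266 (allL N266 (tt N185 F198) (tt N374 D431) (tt N184 (iv D290)) (tt N285 (iv F215)))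
theorem Q268 : ∀ i, i < 268 → P i := stepQ 267 Q267 (allL N267 (tt N375 D432) (tt N185 (iv D291)) (tt N186 F199) (tt N376 D433))
theorem Q269 : ∀ i, i < 269 → P i := stepQ 268 Q268 (allL N268 (tt N285 (iv F214)) (tt N376 (iv F299)) (tt N284 (iv F213)) (tt N185 (iv D292)))
theorem Q270 : ∀ i, i < 270 → P i := stepQ 269 Q269 (allL N269 (tt N186 (iv D293)) (tt N377 D434) (tt N375 (iv F298)) (tt N255 F200))
theorem Q271 : ∀ i, i < 271 → P i := stepQ 270 Q270 (allL N270 (tt N188 F203) (tt N378 D438) (tt N187 (iv D296)) (tt N379 D439))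
theorem Q272 : ∀ i, i < 272 → P i := stepQ 271 Q271 (allL N271 (tt N380 D442) (tt N188 (iv D298)) (tt N189 F204) (tt N381 D443))
theorem Q273 : ∀ i, i < 273 → P i := stepQ 272 Q272 (allL N272 (tt N379 (iv F305)) (tt N381 (iv F308)) (tt N272 F10329) (tt N188 (iv D299)))
theorem Q274 : ∀ i, i < 274 → P i := stepQ 273 Q273 (allL N273 (tt N189 (iv D300)) (tt N382 D445) (tt N380 (iv F307)) (tt N383 D446))
theorem Q275 : ∀ i, i < 275 → P i := stepQ 274 Q274 (allL N274 (tt N383 (iv F311)) (tt N190 F205) (tt N384 D447) (tt N189 (iv D301)))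
theorem Q276 : ∀ i, i < 276 → P i := stepQ 275 Q275 (allL N275 (tt N385 D448) (tt N191 (iv D302)) (tt N386 D449) (tt N387 D450))
theorem Q277 : ∀ i, i < 277 → P i := stepQ 276 Q276 (allL N276 (tt N192 F206) (tt N387 (iv F314)) (tt N388 D451) (tt N191 (iv D303)))
theorem Q278 : ∀ i, i < 278 → P i := stepQ 277 Q277 (allL N277 (tt N388 (iv F315)) (tt N389 D452) (tt N192 (iv D304)) (tt N390 D453))
theorem Q279 : ∀ i, i < 279 → P i := stepQ 278 Q278 (allL N278 (tt N391 D454) (tt N193 (iv D305)) (tt N389 (iv F317)) (tt N259 F207))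
theorem Q280 : ∀ i, i < 280 → P i := stepQ 279 Q279 (allL N279 (tt N194 (iv D306)) (tt N207 F208) (tt N392 D455) (tt N314 (iv F239)))
theorem Q281 : ∀ i, i < 281 → P i := stepQ 280 Q280 (allL N280 (tt N392 (iv F321)) (tt N386 (iv F313)) (tt N194 (iv D307)) (tt N393 D456))
theorem Q282 : ∀ i, i < 282 → P i := stepQ 281 Q281 (allL N281 (tt N196 F210) (tt N212 F211) (tt N394 D459) (tt N195 (iv D309)))
theorem Q283 : ∀ i, i < 283 → P i := stepQ 282 Q282 (allL N282 (tt N394 (iv F324)) (tt N395 D461) (tt N196 (iv D311)) (tt N396 D462))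
theorem Q284 : ∀ i, i < 284 → P i := stepQ 283 Q283 (allL N283 (tt N397 D463) (tt N197 (iv D312)) (tt N395 (iv F325)) (tt N398 D464))
theorem Q285 : ∀ i, i < 285 → P i := stepQ 284 Q284 (allL N284 (tt N198 F212) (tt N398 (iv F326)) (tt N268 F213) (tt N197 (iv D313)))
theorem Q286 : ∀ i, i < 286 → P i := stepQ 285 Q285 (allL N285 (tt N268 F214) (tt N399 D465) (tt N198 (iv D314)) (tt N266 F215))
theorem Q287 : ∀ i, i < 287 → P i := stepQ 286 Q286 (allL N286 (tt N400 D470) (tt N199 (iv D318)) (tt N378 (iv F304)) (tt N401 D471))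
theorem Q288 : ∀ i, i < 288 → P i := stepQ 287 Q287 (allL N287 (tt N202 F218) (tt N401 (iv F330)) (tt N289 (iv F220)) (tt N199 (iv D319)))
theorem Q289 : ∀ i, i < 289 → P i := stepQ 288 Q288 (allL N288 (tt N402 D472) (tt N200 (iv D320)) (tt N222 F219) (tt N403 D473))
theorem Q290 : ∀ i, i < 290 → P i := stepQ 289 Q289 (allL N289 (tt N292 (iv F223)) (tt N403 (iv F332)) (tt N287 F220) (tt N200 (iv D321)))
theorem Q291 : ∀ i, i < 291 → P i := stepQ 290 Q290 (allL N290 (tt N201 (iv D322)) (tt N404 D474) (tt N203 F221) (tt N405 D475))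
theorem Q292 : ∀ i, i < 292 → P i := stepQ 291 Q291 (allL N291 (tt N405 (iv F333)) (tt N202 F222) (tt N406 D476) (tt N201 (iv D323)))
theorem Q293 : ∀ i, i < 293 → P i := stepQ 292 Q292 (allL N292 (tt N289 F223) (tt N407 D477) (tt N202 (iv D324)) (tt N258 (iv F10237)))
theorem Q294 : ∀ i, i < 294 → P i := stepQ 293 Q293 (allL N293 (tt N408 D478) (tt N203 (iv D325)) (tt N409 D479) (tt N335 (iv F255)))
theorem Q295 : ∀ i, i < 295 → P i := stepQ 294 Q294 (allL N294 (tt N204 (iv D326)) (tt N408 (iv F335)) (tt N410 D480) (tt N411 D481))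
theorem Q296 : ∀ i, i < 296 → P i := stepQ 295 Q295 (allL N295 (tt N410 (iv F336)) (tt N208 F225) (tt N204 (iv D327)) (tt N412 D482))
theorem Q297 : ∀ i, i < 297 → P i := stepQ 296 Q296 (allL N296 (tt N411 (iv F337)) (tt N205 F226) (tt N413 D483) (tt N204 (iv D328)))
theorem Q298 : ∀ i, i < 298 → P i := stepQ 297 Q297 (allL N297 (tt N206 F227) (tt N414 D484) (tt N205 (iv D329)) (tt N305 (iv F233)))
theorem Q299 : ∀ i, i < 299 → P i := stepQ 298 Q298 (allL N298 (tt N305 (iv F232)) (tt N328 (iv F249)) (tt N304 (iv F231)) (tt N206 (iv D330)))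
theorem Q300 : ∀ i, i < 300 → P i := stepQ 299 Q299 (allL N299 (tt N208 F228) (tt N415 D485) (tt N207 (iv D331)) (tt N416 D486))
theorem Q301 : ∀ i, i < 301 → P i := stepQ 300 Q300 (allL N300 (tt N209 F229) (tt N314 (iv F238)) (tt N417 D487) (tt N207 (iv D332)))
theorem Q302 : ∀ i, i < 302 → P i := stepQ 301 Q301 (allL N301 (tt N416 (iv F339)) (tt N412 (iv F338)) (tt N418 D488) (tt N208 (iv D333)))
theorem Q303 : ∀ i, i < 303 → P i := stepQ 302 Q302 (allL N302 (tt N417 (iv F340)) (tt N419 D489) (tt N209 (iv D334)) (tt N420 D490))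
theorem Q304 : ∀ i, i < 304 → P i := stepQ 303 Q303 (allL N303 (tt N421 D491) (tt N210 (iv D335)) (tt N419 (iv F341)) (tt N422 D492))
theorem Q305 : ∀ i, i < 305 → P i := stepQ 304 Q304 (allL N304 (tt N211 F230) (tt N422 (iv F342)) (tt N298 F231) (tt N210 (iv D336)))
theorem Q306 : ∀ i, i < 306 → P i := stepQ 305 Q305 (allL N305 (tt N298 F232) (tt N423 D493) (tt N211 (iv D337)) (tt N297 F233))
theorem Q307 : ∀ i, i < 307 → P i := stepQ 306 Q306 (allL N306 (tt N214 F235) (tt N424 D497) (tt N212 (iv D340)) (tt N425 D498))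
theorem Q308 : ∀ i, i < 308 → P i := stepQ 307 Q307 (allL N307 (tt N373 (iv F10302)) (tt N426 D499) (tt N213 (iv D341)) (tt N427 D500))
theorem Q309 : ∀ i, i < 309 → P i := stepQ 308 Q308 (allL N308 (tt N428 D501) (tt N214 (iv D342)) (tt N215 F236) (tt N429 D502))
theorem Q310 : ∀ i, i < 310 → P i := stepQ 309 Q309 (allL N309 (tt N425 (iv F347)) (tt N429 (iv F351)) (tt N430 D503) (tt N214 (iv D343)))
theorem Q311 : ∀ i, i < 311 → P i := stepQ 310 Q310 (allL N310 (tt N215 (iv D344)) (tt N431 D504) (tt N428 (iv F350)) (tt N355 (iv F275)))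
theorem Q312 : ∀ i, i < 312 → P i := stepQ 311 Q311 (allL N311 (tt N432 D505) (tt N216 (iv D345)) (tt N433 D506) (tt N434 D507))
theorem Q313 : ∀ i, i < 313 → P i := stepQ 312 Q312 (allL N312 (tt N217 F237) (tt N434 (iv F355)) (tt N390 (iv F319)) (tt N216 (iv D346)))
theorem Q314 : ∀ i, i < 314 → P i := stepQ 313 Q313 (allL N313 (tt N390 (iv F318)) (tt N354 (iv F274)) (tt N217 (iv D347)) (tt N388 (iv F316)))
theorem Q315 : ∀ i, i < 315 → P i := stepQ 314 Q314 (allL N314 (tt N218 (iv D348)) (tt N300 F238) (tt N435 D508) (tt N279 F239))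
theorem Q316 : ∀ i, i < 316 → P i := stepQ 315 Q315 (allL N315 (tt N435 (iv F356)) (tt N433 (iv F354)) (tt N218 (iv D349)) (tt N436 D509))
theorem Q317 : ∀ i, i < 317 → P i := stepQ 316 Q316 (allL N316 (tt N437 D515) (tt N219 (iv D353)) (tt N356 (iv F10501)) (tt N324 (iv F245)))
theorem Q318 : ∀ i, i < 318 → P i := stepQ 317 Q317 (allL N317 (tt N220 (iv D354)) (tt N237 F10445) (tt N317 F241) (tt N438 D517))
theorem Q319 : ∀ i, i < 319 → P i := stepQ 318 Q318 (allL N318 (tt N438 (iv F361)) (tt N221 F242) (tt N439 D518) (tt N220 (iv D355)))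
theorem Q320 : ∀ i, i < 320 → P i := stepQ 319 Q319 (allL N319 (tt N222 (iv D356)) (tt N440 D519) (tt N402 (iv F331)) (tt N441 D520))
theorem Q321 : ∀ i, i < 321 → P i := stepQ 320 Q320 (allL N320 (tt N441 (iv F362)) (tt N223 F243) (tt N442 D521) (tt N222 (iv D357)))
theorem Q322 : ∀ i, i < 322 → P i := stepQ 321 Q321 (allL N321 (tt N231 (iv F10216)) (tt N224 (iv D358)) (tt N230 (iv F10266)) (tt N443 D524))
theorem Q323 : ∀ i, i < 323 → P i := stepQ 322 Q322 (allL N322 (tt N225 F244) (tt N443 (iv F365)) (tt N444 D525) (tt N224 (iv D359)))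
theorem Q324 : ∀ i, i < 324 → P i := stepQ 323 Q323 (allL N323 (tt N444 (iv F366)) (tt N445 D526) (tt N225 (iv D360)) (tt N446 D527))
theorem Q325 : ∀ i, i < 325 → P i := stepQ 324 Q324 (allL N324 (tt N447 D528) (tt N226 (iv D361)) (tt N445 (iv F367)) (tt N316 F245))
theorem Q326 : ∀ i, i < 326 → P i := stepQ 325 Q325 (allL N325 (tt N227 (iv D362)) (tt N230 F246) (tt N227 F10380) (tt N448 D530))
theorem Q327 : ∀ i, i < 327 → P i := stepQ 326 Q326 (allL N326 (tt N448 (iv F370)) (tt N228 F247) (tt N449 D532) (tt N227 (iv D364)))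
theorem Q328 : ∀ i, i < 328 → P i := stepQ 327 Q327 (allL N327 (tt N229 F248) (tt N450 D533) (tt N228 (iv D365)) (tt N451 D534))
theorem Q329 : ∀ i, i < 329 → P i := stepQ 328 Q328 (allL N328 (tt N451 (iv F372)) (tt N298 F249) (tt N452 D535) (tt N229 (iv D366)))
theorem Q330 : ∀ i, i < 330 → P i := stepQ 329 Q329 (allL N329 (tt N232 F251) (tt N448 (iv F371)) (tt N453 D538) (tt N230 (iv D368)))
theorem Q331 : ∀ i, i < 331 → P i := stepQ 330 Q330 (allL N330 (tt N443 F10178) (tt N239 F252) (tt N454 D539) (tt N231 (iv D369)))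
theorem Q332 : ∀ i, i < 332 → P i := stepQ 331 Q331 (allL N331 (tt N453 (iv F377)) (tt N455 D540) (tt N232 (iv D370)) (tt N456 D541))
theorem Q333 : ∀ i, i < 333 → P i := stepQ 332 Q332 (allL N332 (tt N457 D542) (tt N233 (iv D371)) (tt N455 (iv F378)) (tt N343 (iv F262)))
theorem Q334 : ∀ i, i < 334 → P i := stepQ 333 Q333 (allL N333 (tt N234 (iv D372)) (tt N458 D543) (tt N236 F253) (tt N459 D544))
theorem Q335 : ∀ i, i < 335 → P i := stepQ 334 Q334 (allL N334 (tt N459 (iv F379)) (tt N235 F254) (tt N460 D545) (tt N234 (iv D373)))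
theorem Q336 : ∀ i, i < 336 → P i := stepQ 335 Q335 (allL N335 (tt N461 D546) (tt N236 (iv D374)) (tt N462 D547) (tt N293 F255))
theorem Q337 : ∀ i, i < 337 → P i := stepQ 336 Q336 (allL N336 (tt N239 F257) (tt N438 (iv F10331)) (tt N463 D550) (tt N237 (iv D376)))
theorem Q338 : ∀ i, i < 338 → P i := stepQ 337 Q337 (allL N337 (tt N240 F258) (tt N464 D551) (tt N238 (iv D377)) (tt N465 D552))
theorem Q339 : ∀ i, i < 339 → P i := stepQ 338 Q338 (allL N338 (tt N463 (iv F384)) (tt N466 D553) (tt N239 (iv D378)) (tt N467 D554))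
theorem Q340 : ∀ i, i < 340 → P i := stepQ 339 Q339 (allL N339 (tt N468 D555) (tt N240 (iv D379)) (tt N241 F259) (tt N469 D556))
theorem Q341 : ∀ i, i < 341 → P i := stepQ 340 Q340 (allL N340 (tt N465 (iv F386)) (tt N469 (iv F389)) (tt N470 D557) (tt N240 (iv D380)))
theorem Q342 : ∀ i, i < 342 → P i := stepQ 341 Q341 (allL N341 (tt N241 (iv D381)) (tt N471 D558) (tt N468 (iv F388)) (tt N472 D559))
theorem Q343 : ∀ i, i < 343 → P i := stepQ 342 Q342 (allL N342 (tt N472 (iv F393)) (tt N242 F260) (tt N473 D560) (tt N241 (iv D382)))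
theorem Q344 : ∀ i, i < 344 → P i := stepQ 343 Q343 (allL N343 (tt N474 D561) (tt N243 (iv D383)) (tt N251 F261) (tt N332 F262))
theorem Q345 : ∀ i, i < 345 → P i := stepQ 344 Q344 (allL N344 (tt N246 F265) (tt N475 D565) (tt N244 (iv D386)) (tt N351 (iv F272)))
theorem Q346 : ∀ i, i < 346 → P i := stepQ 345 Q345 (allL N345 (tt N464 (iv F9885)) (tt N245 (iv D387)) (tt N345 F266) (tt N476 D567))
theorem Q347 : ∀ i, i < 347 → P i := stepQ 346 Q346 (allL N346 (tt N248 F267) (tt N476 (iv F399)) (tt N348 (iv F268)) (tt N245 (iv D388)))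
theorem Q348 : ∀ i, i < 348 → P i := stepQ 347 Q347 (allL N347 (tt N477 D568) (tt N246 (iv D389)) (tt N426 (iv F348)) (tt N478 D569))
theorem Q349 : ∀ i, i < 349 → P i := stepQ 348 Q348 (allL N348 (tt N351 (iv F271)) (tt N478 (iv F400)) (tt N346 F268) (tt N246 (iv D390)))
theorem Q350 : ∀ i, i < 350 → P i := stepQ 349 Q349 (allL N349 (tt N247 (iv D391)) (tt N468 (iv F9733)) (tt N249 F269) (tt N479 D571))
theorem Q351 : ∀ i, i < 351 → P i := stepQ 350 Q350 (allL N350 (tt N479 (iv F401)) (tt N248 F270) (tt N480 D572) (tt N247 (iv D392)))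
theorem Q352 : ∀ i, i < 352 → P i := stepQ 351 Q351 (allL N351 (tt N348 F271) (tt N481 D573) (tt N248 (iv D393)) (tt N344 F272))
theorem Q353 : ∀ i, i < 353 → P i := stepQ 352 Q352 (allL N352 (tt N471 (iv F392)) (tt N249 (iv D394)) (tt N471 (iv F9673)) (tt N482 D575))
theorem Q354 : ∀ i, i < 354 → P i := stepQ 353 Q353 (allL N353 (tt N250 F273) (tt N482 (iv F403)) (tt N483 D576) (tt N249 (iv D395)))
theorem Q355 : ∀ i, i < 355 → P i := stepQ 354 Q354 (allL N354 (tt N483 (iv F404)) (tt N313 F274) (tt N250 (iv D396)) (tt N484 D577))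
theorem Q356 : ∀ i, i < 356 → P i := stepQ 355 Q355 (allL N355 (tt N251 (iv D397)) (tt N485 D578) (tt N474 (iv F395)) (tt N310 F275))
theorem Q357 : ∀ i, i < 357 → P i := stepQ 356 Q356 (allL N356 (tt N486 D585) (tt N252 (iv D402)) (tt N316 F10501) (tt N487 D586))
theorem Q358 : ∀ i, i < 358 → P i := stepQ 357 Q357 (allL N357 (tt N254 F280) (tt N487 (iv F411)) (tt N254 F281) (tt N252 (iv D403)))
theorem Q359 : ∀ i, i < 359 → P i := stepQ 358 Q358 (allL N358 (tt N253 (iv D404)) (tt N488 D587) (tt N255 F282) (tt N489 D588))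
theorem Q360 : ∀ i, i < 360 → P i := stepQ 359 Q359 (allL N359 (tt N489 (iv F412)) (tt N254 F283) (tt N490 D589) (tt N253 (iv D405)))
theorem Q361 : ∀ i, i < 361 → P i := stepQ 360 Q360 (allL N360 (tt N491 D590) (tt N255 (iv D406)) (tt N492 D591) (tt N377 (iv F300)))
theorem Q362 : ∀ i, i < 362 → P i := stepQ 361 Q361 (allL N361 (tt N257 F287) (tt N493 D596) (tt N256 (iv D410)) (tt N494 D597))
theorem Q363 : ∀ i, i < 363 → P i := stepQ 362 Q362 (allL N362 (tt N494 (iv F418)) (tt N372 (iv F294)) (tt N494 (iv F419)) (tt N257 (iv D411)))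
theorem Q364 : ∀ i, i < 364 → P i := stepQ 363 Q363 (allL N363 (tt N495 D605) (tt N258 (iv D416)) (tt N259 F290) (tt N407 F10399))
theorem Q365 : ∀ i, i < 365 → P i := stepQ 364 Q364 (allL N364 (tt N259 (iv D418)) (tt N496 D608) (tt N495 (iv F425)) (tt N391 (iv F320)))
theorem Q366 : ∀ i, i < 366 → P i := stepQ 365 Q365 (allL N365 (tt N497 D609) (tt N260 (iv D419)) (tt N498 D610) (tt N499 D611))
theorem Q367 : ∀ i, i < 367 → P i := stepQ 366 Q366 (allL N366 (tt N261 F291) (tt N499 (iv F430)) (tt N500 D612) (tt N260 (iv D420)))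
theorem Q368 : ∀ i, i < 368 → P i := stepQ 367 Q367 (allL N367 (tt N500 (iv F431)) (tt N384 (iv F312)) (tt N261 (iv D421)) (tt N501 D613))
theorem Q369 : ∀ i, i < 369 → P i := stepQ 368 Q368 (allL N368 (tt N262 (iv D422)) (tt N491 (iv F413)) (tt N440 F10283) (tt N502 D615))
theorem Q370 : ∀ i, i < 370 → P i := stepQ 369 Q369 (allL N369 (tt N440 F10263) (tt N498 (iv F429)) (tt N262 (iv D423)) (tt N503 D616))
theorem Q371 : ∀ i, i < 371 → P i := stepQ 370 Q370 (allL N370 (tt N502 (iv F433)) (tt N263 F292) (tt N504 D617) (tt N262 (iv D424)))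
theorem Q372 : ∀ i, i < 372 → P i := stepQ 371 Q371 (allL N371 (tt N264 F293) (tt N505 D618) (tt N263 (iv D425)) (tt N506 D619))
theorem Q373 : ∀ i, i < 373 → P i := stepQ 372 Q372 (allL N372 (tt N506 (iv F434)) (tt N362 F294) (tt N507 D620) (tt N264 (iv D426)))
theorem Q374 : ∀ i, i < 374 → P i := stepQ 373 Q373 (allL N373 (tt N307 F10302) (tt N508 D625) (tt N265 (iv D430)) (tt N430 (iv F10419)))
theorem Q375 : ∀ i, i < 375 → P i := stepQ 374 Q374 (allL N374 (tt N509 D627) (tt N266 (iv D431)) (tt N508 (iv F440)) (tt N399 (iv F327)))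
theorem Q376 : ∀ i, i < 376 → P i := stepQ 375 Q375 (allL N375 (tt N267 (iv D432)) (tt N510 D628) (tt N269 F298) (tt N511 D629))
theorem Q377 : ∀ i, i < 377 → P i := stepQ 376 Q376 (allL N376 (tt N511 (iv F441)) (tt N268 F299) (tt N512 D630) (tt N267 (iv D433)))
theorem Q378 : ∀ i, i < 378 → P i := stepQ 377 Q377 (allL N377 (tt N513 D631) (tt N269 (iv D434)) (tt N514 D632) (tt N360 F300))
theorem Q379 : ∀ i, i < 379 → P i := stepQ 378 Q378 (allL N378 (tt N415 F10152) (tt N270 (iv D438)) (tt N286 F304) (tt N515 D638))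
theorem Q380 : ∀ i, i < 380 → P i := stepQ 379 Q379 (allL N379 (tt N272 F305) (tt N515 (iv F446)) (tt N379 F10449) (tt N270 (iv D439)))
theorem Q381 : ∀ i, i < 381 → P i := stepQ 380 Q380 (allL N380 (tt N271 (iv D442)) (tt N410 (iv F10150)) (tt N273 F307) (tt N516 D642))
theorem Q382 : ∀ i, i < 382 → P i := stepQ 381 Q381 (allL N381 (tt N516 (iv F448)) (tt N272 F308) (tt N517 D643) (tt N271 (iv D443)))
theorem Q383 : ∀ i, i < 383 → P i := stepQ 382 Q382 (allL N382 (tt N409 F9883) (tt N273 (iv D445)) (tt N408 (iv F9954)) (tt N518 D647))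
theorem Q384 : ∀ i, i < 384 → P i := stepQ 383 Q383 (allL N383 (tt N274 F311) (tt N518 (iv F451)) (tt N519 D648) (tt N273 (iv D446)))
theorem Q385 : ∀ i, i < 385 → P i := stepQ 384 Q384 (allL N384 (tt N519 (iv F452)) (tt N367 F312) (tt N274 (iv D447)) (tt N520 D649))
theorem Q386 : ∀ i, i < 386 → P i := stepQ 385 Q385 (allL N385 (tt N275 (iv D448)) (tt N409 (iv F9807)) (tt N404 (iv F9809)) (tt N521 D651))
theorem Q387 : ∀ i, i < 387 → P i := stepQ 386 Q386 (allL N386 (tt N404 (iv F9808)) (tt N280 F313) (tt N275 (iv D449)) (tt N522 D652))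
theorem Q388 : ∀ i, i < 388 → P i := stepQ 387 Q387 (allL N387 (tt N521 (iv F455)) (tt N276 F314) (tt N523 D653) (tt N275 (iv D450)))
theorem Q389 : ∀ i, i < 389 → P i := stepQ 388 Q388 (allL N388 (tt N277 F315) (tt N484 (iv F405)) (tt N276 (iv D451)) (tt N313 F316))
theorem Q390 : ∀ i, i < 390 → P i := stepQ 389 Q389 (allL N389 (tt N524 D654) (tt N277 (iv D452)) (tt N278 F317) (tt N525 D655))
theorem Q391 : ∀ i, i < 391 → P i := stepQ 390 Q390 (allL N390 (tt N313 F318) (tt N525 (iv F458)) (tt N312 F319) (tt N277 (iv D453)))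
theorem Q392 : ∀ i, i < 392 → P i := stepQ 391 Q391 (allL N391 (tt N278 (iv D454)) (tt N526 D656) (tt N524 (iv F457)) (tt N364 F320))
theorem Q393 : ∀ i, i < 393 → P i := stepQ 392 Q392 (allL N392 (tt N280 F321) (tt N400 (iv F9955)) (tt N279 (iv D455)) (tt N527 D658))
theorem Q394 : ∀ i, i < 394 → P i := stepQ 393 Q393 (allL N393 (tt N527 (iv F461)) (tt N522 (iv F456)) (tt N528 D659) (tt N280 (iv D456)))
theorem Q395 : ∀ i, i < 395 → P i := stepQ 394 Q394 (allL N394 (tt N282 F324) (tt N529 D663) (tt N281 (iv D459)) (tt N530 D664))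
theorem Q396 : ∀ i, i < 396 → P i := stepQ 395 Q395 (allL N395 (tt N531 D667) (tt N282 (iv D461)) (tt N283 F325) (tt N532 D668))
theorem Q397 : ∀ i, i < 397 → P i := stepQ 396 Q396 (allL N396 (tt N530 (iv F466)) (tt N532 (iv F469)) (tt N396 F10452) (tt N282 (iv D462)))
theorem Q398 : ∀ i, i < 398 → P i := stepQ 397 Q397 (allL N397 (tt N283 (iv D463)) (tt N533 D670) (tt N531 (iv F468)) (tt N534 D671))
theorem Q399 : ∀ i, i < 399 → P i := stepQ 398 Q398 (allL N398 (tt N534 (iv F472)) (tt N284 F326) (tt N535 D672) (tt N283 (iv D464)))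
theorem Q400 : ∀ i, i < 400 → P i := stepQ 399 Q399 (allL N399 (tt N536 D673) (tt N285 (iv D465)) (tt N423 (iv F343)) (tt N374 F327))
theorem Q401 : ∀ i, i < 401 → P i := stepQ 400 Q400 (allL N400 (tt N286 (iv D470)) (tt N392 F9955) (tt N415 (iv F10041)) (tt N537 D681))
theorem Q402 : ∀ i, i < 402 → P i := stepQ 401 Q401 (allL N401 (tt N537 (iv F480)) (tt N287 F330) (tt N538 D682) (tt N286 (iv D471)))
theorem Q403 : ∀ i, i < 403 → P i := stepQ 402 Q402 (allL N402 (tt N288 (iv D472)) (tt N539 D683) (tt N319 F331) (tt N540 D684))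
theorem Q404 : ∀ i, i < 404 → P i := stepQ 403 Q403 (allL N403 (tt N540 (iv F481)) (tt N289 F332) (tt N541 D685) (tt N288 (iv D473)))
theorem Q405 : ∀ i, i < 405 → P i := stepQ 404 Q404 (allL N404 (tt N386 F9808) (tt N290 (iv D474)) (tt N385 F9809) (tt N542 D688))
theorem Q406 : ∀ i, i < 406 → P i := stepQ 405 Q405 (allL N405 (tt N291 F333) (tt N542 (iv F484)) (tt N543 D689) (tt N290 (iv D475)))
theorem Q407 : ∀ i, i < 407 → P i := stepQ 406 Q406 (allL N406 (tt N543 (iv F485)) (tt N544 D690) (tt N291 (iv D476)) (tt N545 D691))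
theorem Q408 : ∀ i, i < 408 → P i := stepQ 407 Q407 (allL N407 (tt N546 D692) (tt N292 (iv D477)) (tt N544 (iv F487)) (tt N363 (iv F10399)))
theorem Q409 : ∀ i, i < 409 → P i := stepQ 408 Q408 (allL N408 (tt N293 (iv D478)) (tt N294 F335) (tt N382 F9954) (tt N461 (iv F381)))
theorem Q410 : ∀ i, i < 410 → P i := stepQ 409 Q409 (allL N409 (tt N382 (iv F9883)) (tt N385 F9807) (tt N293 (iv D479)) (tt N547 D694))
theorem Q411 : ∀ i, i < 411 → P i := stepQ 410 Q410 (allL N410 (tt N295 F336) (tt N380 F10150) (tt N294 (iv D480)) (tt N548 D696))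
theorem Q412 : ∀ i, i < 412 → P i := stepQ 411 Q411 (allL N411 (tt N296 F337) (tt N461 (iv F380)) (tt N549 D697) (tt N294 (iv D481)))
theorem Q413 : ∀ i, i < 413 → P i := stepQ 412 Q412 (allL N412 (tt N548 (iv F492)) (tt N301 F338) (tt N550 D698) (tt N295 (iv D482)))
theorem Q414 : ∀ i, i < 414 → P i := stepQ 413 Q413 (allL N413 (tt N549 (iv F493)) (tt N551 D699) (tt N296 (iv D483)) (tt N552 D700))
theorem Q415 : ∀ i, i < 415 → P i := stepQ 414 Q414 (allL N414 (tt N553 D701) (tt N297 (iv D484)) (tt N551 (iv F494)) (tt N423 (iv F344)))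
theorem Q416 : ∀ i, i < 416 → P i := stepQ 415 Q415 (allL N415 (tt N378 (iv F10152)) (tt N299 (iv D485)) (tt N400 F10041) (tt N554 D703))
theorem Q417 : ∀ i, i < 417 → P i := stepQ 416 Q416 (allL N416 (tt N301 F339) (tt N554 (iv F495)) (tt N555 D704) (tt N299 (iv D486)))
theorem Q418 : ∀ i, i < 418 → P i := stepQ 417 Q417 (allL N417 (tt N302 F340) (tt N556 D705) (tt N300 (iv D487)) (tt N557 D706))
theorem Q419 : ∀ i, i < 419 → P i := stepQ 418 Q418 (allL N418 (tt N555 (iv F496)) (tt N558 D707) (tt N301 (iv D488)) (tt N559 D708))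
theorem Q420 : ∀ i, i < 420 → P i := stepQ 419 Q419 (allL N419 (tt N560 D709) (tt N302 (iv D489)) (tt N303 F341) (tt N561 D710))
theorem Q421 : ∀ i, i < 421 → P i := stepQ 420 Q420 (allL N420 (tt N557 (iv F497)) (tt N561 (iv F500)) (tt N562 D711) (tt N302 (iv D490)))
theorem Q422 : ∀ i, i < 422 → P i := stepQ 421 Q421 (allL N421 (tt N303 (iv D491)) (tt N563 D712) (tt N560 (iv F499)) (tt N564 D713))
theorem Q423 : ∀ i, i < 423 → P i := stepQ 422 Q422 (allL N422 (tt N564 (iv F504)) (tt N304 F342) (tt N565 D714) (tt N303 (iv D492)))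
theorem Q424 : ∀ i, i < 424 → P i := stepQ 423 Q423 (allL N423 (tt N566 D715) (tt N305 (iv D493)) (tt N399 F343) (tt N414 F344))
theorem Q425 : ∀ i, i < 425 → P i := stepQ 424 Q424 (allL N424 (tt N556 (iv F10270)) (tt N306 (iv D497)) (tt N529 (iv F465)) (tt N567 D721))
theorem Q426 : ∀ i, i < 426 → P i := stepQ 425 Q425 (allL N425 (tt N309 F347) (tt N567 (iv F510)) (tt N427 (iv F349)) (tt N306 (iv D498)))
theorem Q427 : ∀ i, i < 427 → P i := stepQ 426 Q426 (allL N426 (tt N568 D722) (tt N307 (iv D499)) (tt N347 F348) (tt N569 D723))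
theorem Q428 : ∀ i, i < 428 → P i := stepQ 427 Q427 (allL N427 (tt N430 (iv F352)) (tt N569 (iv F512)) (tt N425 F349) (tt N307 (iv D500)))
theorem Q429 : ∀ i, i < 429 → P i := stepQ 428 Q428 (allL N428 (tt N308 (iv D501)) (tt N560 F10174) (tt N310 F350) (tt N570 D725))
theorem Q430 : ∀ i, i < 430 → P i := stepQ 429 Q429 (allL N429 (tt N570 (iv F513)) (tt N309 F351) (tt N571 D726) (tt N308 (iv D502)))
theorem Q431 : ∀ i, i < 431 → P i := stepQ 430 Q430 (allL N430 (tt N427 F352) (tt N572 D727) (tt N309 (iv D503)) (tt N373 F10419))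
theorem Q432 : ∀ i, i < 432 → P i := stepQ 431 Q431 (allL N431 (tt N573 D728) (tt N310 (iv D504)) (tt N563 F9981) (tt N485 (iv F406)))
theorem Q433 : ∀ i, i < 433 → P i := stepQ 432 Q432 (allL N432 (tt N311 (iv D505)) (tt N573 (iv F515)) (tt N574 D730) (tt N575 D731))
theorem Q434 : ∀ i, i < 434 → P i := stepQ 433 Q433 (allL N433 (tt N574 (iv F516)) (tt N315 F354) (tt N311 (iv D506)) (tt N576 D732))
theorem Q435 : ∀ i, i < 435 → P i := stepQ 434 Q434 (allL N434 (tt N575 (iv F517)) (tt N312 F355) (tt N577 D733) (tt N311 (iv D507)))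
theorem Q436 : ∀ i, i < 436 → P i := stepQ 435 Q435 (allL N435 (tt N315 F356) (tt N578 D734) (tt N314 (iv D508)) (tt N579 D735))
theorem Q437 : ∀ i, i < 437 → P i := stepQ 436 Q436 (allL N436 (tt N579 (iv F520)) (tt N576 (iv F518)) (tt N580 D736) (tt N315 (iv D509)))
theorem Q438 : ∀ i, i < 438 → P i := stepQ 437 Q437 (allL N437 (tt N316 (iv D515)) (tt N581 D743) (tt N486 (iv F10472)) (tt N447 (iv F368)))
theorem Q439 : ∀ i, i < 439 → P i := stepQ 438 Q438 (allL N438 (tt N318 F361) (tt N336 F10331) (tt N582 D747) (tt N317 (iv D517)))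
theorem Q440 : ∀ i, i < 440 → P i := stepQ 439 Q439 (allL N439 (tt N582 (iv F529)) (tt N442 (iv F363)) (tt N318 (iv D518)) (tt N583 D748))
theorem Q441 : ∀ i, i < 441 → P i := stepQ 440 Q440 (allL N440 (tt N369 (iv F10263)) (tt N319 (iv D519)) (tt N368 (iv F10283)) (tt N584 D751))
theorem Q442 : ∀ i, i < 442 → P i := stepQ 441 Q441 (allL N441 (tt N320 F362) (tt N584 (iv F530)) (tt N585 D752) (tt N319 (iv D520)))
theorem Q443 : ∀ i, i < 443 → P i := stepQ 442 Q442 (allL N442 (tt N585 (iv F531)) (tt N439 F363) (tt N320 (iv D521)) (tt N586 D753))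
theorem Q444 : ∀ i, i < 444 → P i := stepQ 443 Q443 (allL N443 (tt N330 (iv F10178)) (tt N322 F365) (tt N587 D757) (tt N321 (iv D524)))
theorem Q445 : ∀ i, i < 445 → P i := stepQ 444 Q444 (allL N444 (tt N323 F366) (tt N588 D758) (tt N322 (iv D525)) (tt N452 (iv F375)))
theorem Q446 : ∀ i, i < 446 → P i := stepQ 445 Q445 (allL N445 (tt N589 D759) (tt N323 (iv D526)) (tt N324 F367) (tt N590 D760))
theorem Q447 : ∀ i, i < 447 → P i := stepQ 446 Q446 (allL N446 (tt N452 (iv F374)) (tt N590 (iv F538)) (tt N451 (iv F373)) (tt N323 (iv D527)))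
theorem Q448 : ∀ i, i < 448 → P i := stepQ 447 Q447 (allL N447 (tt N324 (iv D528)) (tt N591 D761) (tt N589 (iv F537)) (tt N437 F368))
theorem Q449 : ∀ i, i < 449 → P i := stepQ 448 Q448 (allL N448 (tt N326 F370) (tt N329 F371) (tt N592 D764) (tt N325 (iv D530)))
theorem Q450 : ∀ i, i < 450 → P i := stepQ 449 Q449 (allL N449 (tt N592 (iv F542)) (tt N593 D766) (tt N326 (iv D532)) (tt N594 D767))
theorem Q451 : ∀ i, i < 451 → P i := stepQ 450 Q450 (allL N450 (tt N595 D768) (tt N327 (iv D533)) (tt N593 (iv F543)) (tt N596 D769))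
theorem Q452 : ∀ i, i < 452 → P i := stepQ 451 Q451 (allL N451 (tt N328 F372) (tt N596 (iv F544)) (tt N446 F373) (tt N327 (iv D534)))
theorem Q453 : ∀ i, i < 453 → P i := stepQ 452 Q452 (allL N452 (tt N446 F374) (tt N565 (iv F505)) (tt N328 (iv D535)) (tt N444 F375))
theorem Q454 : ∀ i, i < 454 → P i := stepQ 453 Q453 (allL N453 (tt N331 F377) (tt N597 D773) (tt N329 (iv D538)) (tt N598 D774))
theorem Q455 : ∀ i, i < 455 → P i := stepQ 454 Q454 (allL N454 (tt N587 F10079) (tt N599 D775) (tt N330 (iv D539)) (tt N600 D776))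
theorem Q456 : ∀ i, i < 456 → P i := stepQ 455 Q455 (allL N455 (tt N601 D777) (tt N331 (iv D540)) (tt N332 F378) (tt N602 D778))
theorem Q457 : ∀ i, i < 457 → P i := stepQ 456 Q456 (allL N456 (tt N598 (iv F547)) (tt N602 (iv F553)) (tt N603 D779) (tt N331 (iv D541)))
theorem Q458 : ∀ i, i < 458 → P i := stepQ 457 Q457 (allL N457 (tt N332 (iv D542)) (tt N604 D780) (tt N601 (iv F550)) (tt N474 (iv F396)))
theorem Q459 : ∀ i, i < 459 → P i := stepQ 458 Q458 (allL N458 (tt N605 D781) (tt N333 (iv D543)) (tt N606 D782) (tt N607 D783))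
theorem Q460 : ∀ i, i < 460 → P i := stepQ 459 Q459 (allL N459 (tt N334 F379) (tt N607 (iv F558)) (tt N545 (iv F489)) (tt N333 (iv D544)))
theorem Q461 : ∀ i, i < 461 → P i := stepQ 460 Q460 (allL N460 (tt N545 (iv F488)) (tt N473 (iv F394)) (tt N334 (iv D545)) (tt N543 (iv F486)))
theorem Q462 : ∀ i, i < 462 → P i := stepQ 461 Q461 (allL N461 (tt N335 (iv D546)) (tt N411 F380) (tt N608 D784) (tt N408 F381))
theorem Q463 : ∀ i, i < 463 → P i := stepQ 462 Q462 (allL N462 (tt N608 (iv F559)) (tt N606 (iv F557)) (tt N335 (iv D547)) (tt N609 D785))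
theorem Q464 : ∀ i, i < 464 → P i := stepQ 463 Q463 (allL N463 (tt N338 F384) (tt N610 D789) (tt N336 (iv D550)) (tt N470 (iv F391)))
theorem Q465 : ∀ i, i < 465 → P i := stepQ 464 Q464 (allL N464 (tt N345 F9885) (tt N337 (iv D551)) (tt N464 F385) (tt N611 D791))
theorem Q466 : ∀ i, i < 466 → P i := stepQ 465 Q465 (allL N465 (tt N340 F386) (tt N611 (iv F562)) (tt N467 (iv F387)) (tt N337 (iv D552)))
theorem Q467 : ∀ i, i < 467 → P i := stepQ 466 Q466 (allL N466 (tt N612 D792) (tt N338 (iv D553)) (tt N599 (iv F548)) (tt N613 D793))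
theorem Q468 : ∀ i, i < 468 → P i := stepQ 467 Q467 (allL N467 (tt N470 (iv F390)) (tt N613 (iv F563)) (tt N465 F387) (tt N338 (iv D554)))
theorem Q469 : ∀ i, i < 469 → P i := stepQ 468 Q468 (allL N468 (tt N339 (iv D555)) (tt N349 F9733) (tt N341 F388) (tt N614 D795))
theorem Q470 : ∀ i, i < 470 → P i := stepQ 469 Q469 (allL N469 (tt N614 (iv F564)) (tt N340 F389) (tt N615 D796) (tt N339 (iv D556)))
theorem Q471 : ∀ i, i < 471 → P i := stepQ 470 Q470 (allL N470 (tt N467 F390) (tt N616 D797) (tt N340 (iv D557)) (tt N463 F391))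
theorem Q472 : ∀ i, i < 472 → P i := stepQ 471 Q471 (allL N471 (tt N352 F392) (tt N341 (iv D558)) (tt N352 F9673) (tt N617 D799))
theorem Q473 : ∀ i, i < 473 → P i := stepQ 472 Q472 (allL N472 (tt N342 F393) (tt N617 (iv F568)) (tt N618 D800) (tt N341 (iv D559)))
theorem Q474 : ∀ i, i < 474 → P i := stepQ 473 Q473 (allL N473 (tt N618 (iv F569)) (tt N460 F394) (tt N342 (iv D560)) (tt N619 D801))
theorem Q475 : ∀ i, i < 475 → P i := stepQ 474 Q474 (allL N474 (tt N343 (iv D561)) (tt N620 D802) (tt N355 F395) (tt N457 F396))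
theorem Q476 : ∀ i, i < 476 → P i := stepQ 475 Q475 (allL N475 (tt N621 D808) (tt N344 (iv D565)) (tt N493 (iv F10483)) (tt N481 (iv F402)))
theorem Q477 : ∀ i, i < 477 → P i := stepQ 476 Q476 (allL N476 (tt N611 (iv F9812)) (tt N346 F399) (tt N622 D811) (tt N345 (iv D567)))
theorem Q478 : ∀ i, i < 478 → P i := stepQ 477 Q477 (allL N477 (tt N347 (iv D568)) (tt N623 D812) (tt N568 (iv F511)) (tt N624 D813))
theorem Q479 : ∀ i, i < 479 → P i := stepQ 478 Q478 (allL N478 (tt N624 (iv F577)) (tt N348 F400) (tt N625 D814) (tt N347 (iv D569)))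
theorem Q480 : ∀ i, i < 480 → P i := stepQ 479 Q479 (allL N479 (tt N350 F401) (tt N614 (iv F9679)) (tt N626 D818) (tt N349 (iv D571)))
theorem Q481 : ∀ i, i < 481 → P i := stepQ 480 Q480 (allL N480 (tt N626 (iv F581)) (tt N627 D819) (tt N350 (iv D572)) (tt N628 D820))
theorem Q482 : ∀ i, i < 482 → P i := stepQ 481 Q481 (allL N481 (tt N629 D821) (tt N351 (iv D573)) (tt N627 (iv F582)) (tt N475 F402))
theorem Q483 : ∀ i, i < 483 → P i := stepQ 482 Q482 (allL N482 (tt N617 (iv F567)) (tt N353 F403) (tt N630 D823) (tt N352 (iv D575)))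
theorem Q484 : ∀ i, i < 484 → P i := stepQ 483 Q483 (allL N483 (tt N354 F404) (tt N631 D824) (tt N353 (iv D576)) (tt N632 D825))
theorem Q485 : ∀ i, i < 485 → P i := stepQ 484 Q484 (allL N484 (tt N632 (iv F584)) (tt N388 F405) (tt N633 D826) (tt N354 (iv D577)))
theorem Q486 : ∀ i, i < 486 → P i := stepQ 485 Q485 (allL N485 (tt N634 D827) (tt N355 (iv D578)) (tt N635 D828) (tt N431 F406))
theorem Q487 : ∀ i, i < 487 → P i := stepQ 486 Q486 (allL N486 (tt N356 (iv D585)) (tt N636 D839) (tt N437 F10472) (tt N637 D840))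
theorem Q488 : ∀ i, i < 488 → P i := stepQ 487 Q487 (allL N487 (tt N637 (iv F602)) (tt N357 F411) (tt N638 D841) (tt N356 (iv D586)))
theorem Q489 : ∀ i, i < 489 → P i := stepQ 488 Q488 (allL N488 (tt N639 D842) (tt N358 (iv D587)) (tt N640 D843) (tt N641 D844))
theorem Q490 : ∀ i, i < 490 → P i := stepQ 489 Q489 (allL N489 (tt N359 F412) (tt N641 (iv F605)) (tt N642 D845) (tt N358 (iv D588)))
theorem Q491 : ∀ i, i < 491 → P i := stepQ 490 Q490 (allL N490 (tt N642 (iv F606)) (tt N638 (iv F603)) (tt N359 (iv D589)) (tt N643 D846))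
theorem Q492 : ∀ i, i < 492 → P i := stepQ 491 Q491 (allL N491 (tt N360 (iv D590)) (tt N368 F413) (tt N539 (iv F10274)) (tt N513 (iv F443)))
theorem Q493 : ∀ i, i < 493 → P i := stepQ 492 Q492 (allL N492 (tt N539 F10276) (tt N640 (iv F604)) (tt N360 (iv D591)) (tt N644 D848))
theorem Q494 : ∀ i, i < 494 → P i := stepQ 493 Q493 (allL N493 (tt N645 D855) (tt N361 (iv D596)) (tt N475 F10483) (tt N646 D856))
theorem Q495 : ∀ i, i < 495 → P i := stepQ 494 Q494 (allL N494 (tt N362 F418) (tt N646 (iv F615)) (tt N362 F419) (tt N361 (iv D597)))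
theorem Q496 : ∀ i, i < 496 → P i := stepQ 495 Q495 (allL N495 (tt N363 (iv D605)) (tt N647 D865) (tt N364 F425) (tt N546 F10226))
theorem Q497 : ∀ i, i < 497 → P i := stepQ 496 Q496 (allL N496 (tt N648 D869) (tt N364 (iv D608)) (tt N649 D870) (tt N526 (iv F459)))
theorem Q498 : ∀ i, i < 498 → P i := stepQ 497 Q497 (allL N497 (tt N365 (iv D609)) (tt N648 (iv F623)) (tt N581 F10500) (tt N650 D872))
theorem Q499 : ∀ i, i < 499 → P i := stepQ 498 Q498 (allL N498 (tt N581 (iv F10478)) (tt N369 F429) (tt N365 (iv D610)) (tt N651 D873))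
theorem Q500 : ∀ i, i < 500 → P i := stepQ 499 Q499 (allL N499 (tt N650 (iv F625)) (tt N366 F430) (tt N652 D874) (tt N365 (iv D611)))
theorem Q501 : ∀ i, i < 501 → P i := stepQ 500 Q500 (allL N500 (tt N367 F431) (tt N653 D875) (tt N366 (iv D612)) (tt N507 (iv F437)))
theorem Q502 : ∀ i, i < 502 → P i := stepQ 501 Q501 (allL N501 (tt N507 (iv F436)) (tt N520 (iv F453)) (tt N506 (iv F435)) (tt N367 (iv D613)))
theorem Q503 : ∀ i, i < 503 → P i := stepQ 502 Q502 (allL N502 (tt N370 F433) (tt N513 (iv F442)) (tt N654 D878) (tt N368 (iv D615)))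
theorem Q504 : ∀ i, i < 504 → P i := stepQ 503 Q503 (allL N503 (tt N584 (iv F10280)) (tt N651 (iv F626)) (tt N655 D879) (tt N369 (iv D616)))
theorem Q505 : ∀ i, i < 505 → P i := stepQ 504 Q504 (allL N504 (tt N654 (iv F628)) (tt N656 D880) (tt N370 (iv D617)) (tt N657 D881))
theorem Q506 : ∀ i, i < 506 → P i := stepQ 505 Q505 (allL N505 (tt N658 D882) (tt N371 (iv D618)) (tt N656 (iv F629)) (tt N659 D883))
theorem Q507 : ∀ i, i < 507 → P i := stepQ 506 Q506 (allL N506 (tt N372 F434) (tt N659 (iv F630)) (tt N501 F435) (tt N371 (iv D619)))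
theorem Q508 : ∀ i, i < 508 → P i := stepQ 507 Q507 (allL N507 (tt N501 F436) (tt N660 D884) (tt N372 (iv D620)) (tt N500 F437))
theorem Q509 : ∀ i, i < 509 → P i := stepQ 508 Q508 (allL N508 (tt N661 D892) (tt N373 (iv D625)) (tt N374 F440) (tt N572 F10418))
theorem Q510 : ∀ i, i < 510 → P i := stepQ 509 Q509 (allL N509 (tt N374 (iv D627)) (tt N662 D895) (tt N661 (iv F638)) (tt N536 (iv F474)))
theorem Q511 : ∀ i, i < 511 → P i := stepQ 510 Q510 (allL N510 (tt N663 D896) (tt N375 (iv D628)) (tt N664 D897) (tt N665 D898))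
theorem Q512 : ∀ i, i < 512 → P i := stepQ 511 Q511 (allL N511 (tt N376 F441) (tt N665 (iv F643)) (tt N643 (iv F609)) (tt N375 (iv D629)))
theorem Q513 : ∀ i, i < 513 → P i := stepQ 512 Q512 (allL N512 (tt N643 (iv F608)) (tt N535 (iv F473)) (tt N376 (iv D630)) (tt N642 (iv F607)))
theorem Q514 : ∀ i, i < 514 → P i := stepQ 513 Q513 (allL N513 (tt N377 (iv D631)) (tt N502 F442) (tt N623 (iv F10349)) (tt N491 F443))
theorem Q515 : ∀ i, i < 515 → P i := stepQ 514 Q514 (allL N514 (tt N623 F10364) (tt N664 (iv F642)) (tt N377 (iv D632)) (tt N666 D900))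
theorem Q516 : ∀ i, i < 516 → P i := stepQ 515 Q515 (allL N515 (tt N554 F10236) (tt N379 F446) (tt N667 D909) (tt N378 (iv D638)))
theorem Q517 : ∀ i, i < 517 → P i := stepQ 516 Q516 (allL N516 (tt N381 F448) (tt N548 (iv F10235)) (tt N668 D916) (tt N380 (iv D642)))
theorem Q518 : ∀ i, i < 518 → P i := stepQ 517 Q517 (allL N517 (tt N668 (iv F654)) (tt N517 F10330) (tt N381 (iv D643)) (tt N669 D918))
theorem Q519 : ∀ i, i < 519 → P i := stepQ 518 Q518 (allL N518 (tt N547 F9806) (tt N383 F451) (tt N670 D923) (tt N382 (iv D647)))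
theorem Q520 : ∀ i, i < 520 → P i := stepQ 519 Q519 (allL N519 (tt N384 F452) (tt N671 D924) (tt N383 (iv D648)) (tt N672 D925))
theorem Q521 : ∀ i, i < 521 → P i := stepQ 520 Q520 (allL N520 (tt N672 (iv F660)) (tt N501 F453) (tt N673 D926) (tt N384 (iv D649)))
theorem Q522 : ∀ i, i < 522 → P i := stepQ 521 Q521 (allL N521 (tt N387 F455) (tt N547 (iv F9743)) (tt N674 D929) (tt N385 (iv D651)))
theorem Q523 : ∀ i, i < 523 → P i := stepQ 522 Q522 (allL N522 (tt N542 (iv F9811)) (tt N393 F456) (tt N675 D930) (tt N386 (iv D652)))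
theorem Q524 : ∀ i, i < 524 → P i := stepQ 523 Q523 (allL N523 (tt N674 (iv F665)) (tt N633 (iv F587)) (tt N387 (iv D653)) (tt N676 D931))
theorem Q525 : ∀ i, i < 525 → P i := stepQ 524 Q524 (allL N524 (tt N389 (iv D654)) (tt N677 D932) (tt N391 F457) (tt N678 D933))
theorem Q526 : ∀ i, i < 526 → P i := stepQ 525 Q525 (allL N525 (tt N678 (iv F667)) (tt N390 F458) (tt N679 D934) (tt N389 (iv D655)))
theorem Q527 : ∀ i, i < 527 → P i := stepQ 526 Q526 (allL N526 (tt N680 D935) (tt N391 (iv D656)) (tt N681 D936) (tt N496 F459))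
theorem Q528 : ∀ i, i < 528 → P i := stepQ 527 Q527 (allL N527 (tt N393 F461) (tt N537 (iv F10042)) (tt N682 D939) (tt N392 (iv D658)))
theorem Q529 : ∀ i, i < 529 → P i := stepQ 528 Q528 (allL N528 (tt N682 (iv F673)) (tt N683 D940) (tt N393 (iv D659)) (tt N684 D941))
theorem Q530 : ∀ i, i < 530 → P i := stepQ 529 Q529 (allL N529 (tt N578 (iv F10322)) (tt N394 (iv D663)) (tt N424 F465) (tt N685 D947))
theorem Q531 : ∀ i, i < 531 → P i := stepQ 530 Q530 (allL N530 (tt N396 F466) (tt N685 (iv F679)) (tt N530 F10454) (tt N394 (iv D664)))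
theorem Q532 : ∀ i, i < 532 → P i := stepQ 531 Q531 (allL N531 (tt N395 (iv D667)) (tt N574 (iv F10180)) (tt N397 F468) (tt N686 D951))
theorem Q533 : ∀ i, i < 533 → P i := stepQ 532 Q532 (allL N532 (tt N686 (iv F681)) (tt N396 F469) (tt N687 D952) (tt N395 (iv D668)))
theorem Q534 : ∀ i, i < 534 → P i := stepQ 533 Q533 (allL N533 (tt N563 (iv F503)) (tt N397 (iv D670)) (tt N573 (iv F9980)) (tt N688 D955))
theorem Q535 : ∀ i, i < 535 → P i := stepQ 534 Q534 (allL N534 (tt N398 F472) (tt N688 (iv F683)) (tt N689 D956) (tt N397 (iv D671)))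
theorem Q536 : ∀ i, i < 536 → P i := stepQ 535 Q535 (allL N535 (tt N689 (iv F684)) (tt N512 F473) (tt N398 (iv D672)) (tt N690 D957))
theorem Q537 : ∀ i, i < 537 → P i := stepQ 536 Q536 (allL N536 (tt N399 (iv D673)) (tt N691 D958) (tt N566 (iv F506)) (tt N509 F474))
theorem Q538 : ∀ i, i < 538 → P i := stepQ 537 Q537 (allL N537 (tt N401 F480) (tt N527 F10042) (tt N692 D970) (tt N400 (iv D681)))
theorem Q539 : ∀ i, i < 539 → P i := stepQ 538 Q538 (allL N538 (tt N692 (iv F697)) (tt N541 (iv F482)) (tt N401 (iv D682)) (tt N693 D971))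
theorem Q540 : ∀ i, i < 540 → P i := stepQ 539 Q539 (allL N539 (tt N492 (iv F10276)) (tt N402 (iv D683)) (tt N491 F10274) (tt N694 D974))
theorem Q541 : ∀ i, i < 541 → P i := stepQ 540 Q540 (allL N540 (tt N403 F481) (tt N694 (iv F699)) (tt N695 D975) (tt N402 (iv D684)))
theorem Q542 : ∀ i, i < 542 → P i := stepQ 541 Q541 (allL N541 (tt N695 (iv F700)) (tt N538 F482) (tt N403 (iv D685)) (tt N696 D976))
theorem Q543 : ∀ i, i < 543 → P i := stepQ 542 Q542 (allL N542 (tt N522 F9811) (tt N405 F484) (tt N697 D980) (tt N404 (iv D688)))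
theorem Q544 : ∀ i, i < 544 → P i := stepQ 543 Q543 (allL N543 (tt N406 F485) (tt N619 (iv F570)) (tt N405 (iv D689)) (tt N460 F486))
theorem Q545 : ∀ i, i < 545 → P i := stepQ 544 Q544 (allL N544 (tt N698 D981) (tt N406 (iv D690)) (tt N407 F487) (tt N699 D982))
theorem Q546 : ∀ i, i < 546 → P i := stepQ 545 Q545 (allL N545 (tt N460 F488) (tt N699 (iv F706)) (tt N459 F489) (tt N406 (iv D691)))
theorem Q547 : ∀ i, i < 547 → P i := stepQ 546 Q546 (allL N546 (tt N407 (iv D692)) (tt N700 D983) (tt N698 (iv F705)) (tt N495 (iv F10226)))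
theorem Q548 : ∀ i, i < 548 → P i := stepQ 547 Q547 (allL N547 (tt N518 (iv F9806)) (tt N521 F9743) (tt N701 D986) (tt N409 (iv D694)))
theorem Q549 : ∀ i, i < 549 → P i := stepQ 548 Q548 (allL N548 (tt N412 F492) (tt N516 F10235) (tt N702 D989) (tt N410 (iv D696)))
theorem Q550 : ∀ i, i < 550 → P i := stepQ 549 Q549 (allL N549 (tt N413 F493) (tt N703 D990) (tt N411 (iv D697)) (tt N704 D991))
theorem Q551 : ∀ i, i < 551 → P i := stepQ 550 Q550 (allL N550 (tt N702 (iv F711)) (tt N705 D992) (tt N412 (iv D698)) (tt N706 D993))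
theorem Q552 : ∀ i, i < 552 → P i := stepQ 551 Q551 (allL N551 (tt N707 D994) (tt N413 (iv D699)) (tt N414 F494) (tt N708 D995))
theorem Q553 : ∀ i, i < 553 → P i := stepQ 552 Q552 (allL N552 (tt N704 (iv F712)) (tt N708 (iv F716)) (tt N709 D996) (tt N413 (iv D700)))
theorem Q554 : ∀ i, i < 554 → P i := stepQ 553 Q553 (allL N553 (tt N414 (iv D701)) (tt N710 D997) (tt N707 (iv F715)) (tt N566 (iv F507)))
theorem Q555 : ∀ i, i < 555 → P i := stepQ 554 Q554 (allL N554 (tt N515 (iv F10236)) (tt N416 F495) (tt N711 D1000) (tt N415 (iv D703)))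
theorem Q556 : ∀ i, i < 556 → P i := stepQ 555 Q555 (allL N555 (tt N418 F496) (tt N712 D1001) (tt N416 (iv D704)) (tt N562 (iv F502)))
theorem Q557 : ∀ i, i < 557 → P i := stepQ 556 Q556 (allL N556 (tt N424 F10270) (tt N417 (iv D705)) (tt N578 (iv F519)) (tt N713 D1003))
theorem Q558 : ∀ i, i < 558 → P i := stepQ 557 Q557 (allL N557 (tt N420 F497) (tt N713 (iv F720)) (tt N559 (iv F498)) (tt N417 (iv D706)))
theorem Q559 : ∀ i, i < 559 → P i := stepQ 558 Q558 (allL N558 (tt N705 (iv F10421)) (tt N418 (iv D707)) (tt N705 (iv F713)) (tt N714 D1005))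
theorem Q560 : ∀ i, i < 560 → P i := stepQ 559 Q559 (allL N559 (tt N562 (iv F501)) (tt N714 (iv F721)) (tt N557 F498) (tt N418 (iv D708)))
theorem Q561 : ∀ i, i < 561 → P i := stepQ 560 Q560 (allL N560 (tt N419 (iv D709)) (tt N428 (iv F10174)) (tt N421 F499) (tt N715 D1007))
theorem Q562 : ∀ i, i < 562 → P i := stepQ 561 Q561 (allL N561 (tt N715 (iv F722)) (tt N420 F500) (tt N716 D1008) (tt N419 (iv D710)))
theorem Q563 : ∀ i, i < 563 → P i := stepQ 562 Q562 (allL N562 (tt N559 F501) (tt N717 D1009) (tt N420 (iv D711)) (tt N555 F502))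
theorem Q564 : ∀ i, i < 564 → P i := stepQ 563 Q563 (allL N563 (tt N533 F503) (tt N421 (iv D712)) (tt N431 (iv F9981)) (tt N718 D1011))
theorem Q565 : ∀ i, i < 565 → P i := stepQ 564 Q564 (allL N564 (tt N422 F504) (tt N718 (iv F726)) (tt N719 D1012) (tt N421 (iv D713)))
theorem Q566 : ∀ i, i < 566 → P i := stepQ 565 Q565 (allL N565 (tt N719 (iv F727)) (tt N452 F505) (tt N422 (iv D714)) (tt N588 (iv F536)))
theorem Q567 : ∀ i, i < 567 → P i := stepQ 566 Q566 (allL N566 (tt N423 (iv D715)) (tt N720 D1013) (tt N536 F506) (tt N553 F507))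
theorem Q568 : ∀ i, i < 568 → P i := stepQ 567 Q567 (allL N567 (tt N713 F10286) (tt N425 F510) (tt N721 D1022) (tt N424 (iv D721)))
theorem Q569 : ∀ i, i < 569 → P i := stepQ 568 Q568 (allL N568 (tt N426 (iv D722)) (tt N654 F10321) (tt N477 F511) (tt N722 D1024))
theorem Q570 : ∀ i, i < 570 → P i := stepQ 569 Q569 (allL N569 (tt N722 (iv F735)) (tt N427 F512) (tt N723 D1025) (tt N426 (iv D723)))
theorem Q571 : ∀ i, i < 571 → P i := stepQ 570 Q570 (allL N570 (tt N429 F513) (tt N715 F10179) (tt N602 (iv F554)) (tt N428 (iv D725)))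
theorem Q572 : ∀ i, i < 572 → P i := stepQ 571 Q571 (allL N571 (tt N602 (iv F552)) (tt N724 D1029) (tt N429 (iv D726)) (tt N601 F551))
theorem Q573 : ∀ i, i < 573 → P i := stepQ 572 Q572 (allL N572 (tt N725 D1030) (tt N430 (iv D727)) (tt N724 (iv F739)) (tt N508 (iv F10418)))
theorem Q574 : ∀ i, i < 574 → P i := stepQ 573 Q573 (allL N573 (tt N431 (iv D728)) (tt N432 F515) (tt N533 F9980) (tt N634 (iv F590)))
theorem Q575 : ∀ i, i < 575 → P i := stepQ 574 Q574 (allL N574 (tt N433 F516) (tt N531 F10180) (tt N432 (iv D730)) (tt N726 D1034))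
theorem Q576 : ∀ i, i < 576 → P i := stepQ 575 Q575 (allL N575 (tt N434 F517) (tt N634 (iv F589)) (tt N727 D1035) (tt N432 (iv D731)))
theorem Q577 : ∀ i, i < 577 → P i := stepQ 576 Q576 (allL N576 (tt N726 (iv F742)) (tt N436 F518) (tt N728 D1036) (tt N433 (iv D732)))
theorem Q578 : ∀ i, i < 578 → P i := stepQ 577 Q577 (allL N577 (tt N727 (iv F743)) (tt N679 (iv F668)) (tt N434 (iv D733)) (tt N729 D1037))
theorem Q579 : ∀ i, i < 579 → P i := stepQ 578 Q578 (allL N578 (tt N529 F10322) (tt N435 (iv D734)) (tt N556 F519) (tt N730 D1039))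
theorem Q580 : ∀ i, i < 580 → P i := stepQ 579 Q579 (allL N579 (tt N436 F520) (tt N730 (iv F745)) (tt N684 (iv F676)) (tt N435 (iv D735)))
theorem Q581 : ∀ i, i < 581 → P i := stepQ 580 Q580 (allL N580 (tt N684 (iv F675)) (tt N731 D1040) (tt N436 (iv D736)) (tt N682 (iv F674)))
theorem Q582 : ∀ i, i < 582 → P i := stepQ 581 Q581 (allL N581 (tt N498 F10478) (tt N437 (iv D743)) (tt N497 (iv F10500)) (tt N591 (iv F539)))
theorem Q583 : ∀ i, i < 583 → P i := stepQ 582 Q582 (allL N582 (tt N439 F529) (tt N732 D1055) (tt N438 (iv D747)) (tt N733 D1056))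
theorem Q584 : ∀ i, i < 584 → P i := stepQ 583 Q583 (allL N583 (tt N733 (iv F754)) (tt N586 (iv F532)) (tt N733 (iv F755)) (tt N439 (iv D748)))
theorem Q585 : ∀ i, i < 585 → P i := stepQ 584 Q584 (allL N584 (tt N503 F10280) (tt N441 F530) (tt N734 D1060) (tt N440 (iv D751)))
theorem Q586 : ∀ i, i < 586 → P i := stepQ 585 Q585 (allL N585 (tt N442 F531) (tt N735 D1061) (tt N441 (iv D752)) (tt N736 D1062))
theorem Q587 : ∀ i, i < 587 → P i := stepQ 586 Q586 (allL N586 (tt N736 (iv F758)) (tt N583 F532) (tt N737 D1063) (tt N442 (iv D753)))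
theorem Q588 : ∀ i, i < 588 → P i := stepQ 587 Q587 (allL N587 (tt N454 (iv F10079)) (tt N738 D1068) (tt N443 (iv D757)) (tt N603 (iv F10080)))
theorem Q589 : ∀ i, i < 589 → P i := stepQ 588 Q588 (allL N588 (tt N739 D1070) (tt N444 (iv D758)) (tt N738 (iv F764)) (tt N565 F536))
theorem Q590 : ∀ i, i < 590 → P i := stepQ 589 Q589 (allL N589 (tt N445 (iv D759)) (tt N740 D1071) (tt N447 F537) (tt N741 D1072))
theorem Q591 : ∀ i, i < 591 → P i := stepQ 590 Q590 (allL N590 (tt N741 (iv F766)) (tt N446 F538) (tt N742 D1073) (tt N445 (iv D760)))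
theorem Q592 : ∀ i, i < 592 → P i := stepQ 591 Q591 (allL N591 (tt N651 F10376) (tt N447 (iv D761)) (tt N743 D1075) (tt N581 F539))
theorem Q593 : ∀ i, i < 593 → P i := stepQ 592 Q592 (allL N592 (tt N449 F542) (tt N744 D1079) (tt N448 (iv D764)) (tt N745 D1080))
theorem Q594 : ∀ i, i < 594 → P i := stepQ 593 Q593 (allL N593 (tt N746 D1083) (tt N449 (iv D766)) (tt N450 F543) (tt N747 D1084))
theorem Q595 : ∀ i, i < 595 → P i := stepQ 594 Q594 (allL N594 (tt N745 (iv F773)) (tt N747 (iv F776)) (tt N594 F10420) (tt N449 (iv D767)))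
theorem Q596 : ∀ i, i < 596 → P i := stepQ 595 Q595 (allL N595 (tt N450 (iv D768)) (tt N748 D1086) (tt N746 (iv F775)) (tt N749 D1087))
theorem Q597 : ∀ i, i < 597 → P i := stepQ 596 Q596 (allL N596 (tt N749 (iv F780)) (tt N451 F544) (tt N750 D1088) (tt N450 (iv D769)))
theorem Q598 : ∀ i, i < 598 → P i := stepQ 597 Q597 (allL N597 (tt N703 F10239) (tt N453 (iv D773)) (tt N744 (iv F772)) (tt N751 D1094))
theorem Q599 : ∀ i, i < 599 → P i := stepQ 598 Q598 (allL N598 (tt N456 F547) (tt N751 (iv F784)) (tt N600 (iv F549)) (tt N453 (iv D774)))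
theorem Q600 : ∀ i, i < 600 → P i := stepQ 599 Q599 (allL N599 (tt N752 D1095) (tt N454 (iv D775)) (tt N466 F548) (tt N753 D1096))
theorem Q601 : ∀ i, i < 601 → P i := stepQ 600 Q600 (allL N600 (tt N603 (iv F555)) (tt N753 (iv F786)) (tt N598 F549) (tt N454 (iv D776)))
theorem Q602 : ∀ i, i < 602 → P i := stepQ 601 Q601 (allL N601 (tt N455 (iv D777)) (tt N707 (iv F10496)) (tt N457 F550) (tt N571 (iv F551)))
theorem Q603 : ∀ i, i < 603 → P i := stepQ 602 Q602 (allL N602 (tt N571 F552) (tt N456 F553) (tt N570 F554) (tt N455 (iv D778)))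
theorem Q604 : ∀ i, i < 604 → P i := stepQ 603 Q603 (allL N603 (tt N600 F555) (tt N754 D1098) (tt N456 (iv D779)) (tt N587 F10080))
theorem Q605 : ∀ i, i < 605 → P i := stepQ 604 Q604 (allL N604 (tt N755 D1099) (tt N457 (iv D780)) (tt N710 (iv F10299)) (tt N620 (iv F571)))
theorem Q606 : ∀ i, i < 606 → P i := stepQ 605 Q605 (allL N605 (tt N458 (iv D781)) (tt N755 (iv F790)) (tt N756 D1101) (tt N757 D1102))
theorem Q607 : ∀ i, i < 607 → P i := stepQ 606 Q606 (allL N606 (tt N756 (iv F791)) (tt N462 F557) (tt N458 (iv D782)) (tt N758 D1103))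
theorem Q608 : ∀ i, i < 608 → P i := stepQ 607 Q607 (allL N607 (tt N757 (iv F792)) (tt N459 F558) (tt N759 D1104) (tt N458 (iv D783)))
theorem Q609 : ∀ i, i < 609 → P i := stepQ 608 Q608 (allL N608 (tt N462 F559) (tt N760 D1105) (tt N461 (iv D784)) (tt N761 D1106))
theorem Q610 : ∀ i, i < 610 → P i := stepQ 609 Q609 (allL N609 (tt N761 (iv F795)) (tt N758 (iv F793)) (tt N762 D1107) (tt N462 (iv D785)))
theorem Q611 : ∀ i, i < 611 → P i := stepQ 610 Q610 (allL N610 (tt N763 D1113) (tt N463 (iv D789)) (tt N732 (iv F10175)) (tt N616 (iv F565)))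
theorem Q612 : ∀ i, i < 612 → P i := stepQ 611 Q611 (allL N611 (tt N476 F9812) (tt N465 F562) (tt N764 D1116) (tt N464 (iv D791)))
theorem Q613 : ∀ i, i < 613 → P i := stepQ 612 Q612 (allL N612 (tt N466 (iv D792)) (tt N765 D1117) (tt N752 (iv F785)) (tt N766 D1118))
theorem Q614 : ∀ i, i < 614 → P i := stepQ 613 Q613 (allL N613 (tt N766 (iv F801)) (tt N467 F563) (tt N767 D1119) (tt N466 (iv D793)))
theorem Q615 : ∀ i, i < 615 → P i := stepQ 614 Q614 (allL N614 (tt N469 F564) (tt N479 F9679) (tt N768 D1123) (tt N468 (iv D795)))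
theorem Q616 : ∀ i, i < 616 → P i := stepQ 615 Q615 (allL N615 (tt N768 (iv F805)) (tt N769 D1124) (tt N469 (iv D796)) (tt N770 D1125))
theorem Q617 : ∀ i, i < 617 → P i := stepQ 616 Q616 (allL N616 (tt N771 D1126) (tt N470 (iv D797)) (tt N769 (iv F806)) (tt N610 F565))
theorem Q618 : ∀ i, i < 618 → P i := stepQ 617 Q617 (allL N617 (tt N482 F567) (tt N472 F568) (tt N772 D1128) (tt N471 (iv D799)))
theorem Q619 : ∀ i, i < 619 → P i := stepQ 618 Q618 (allL N618 (tt N473 F569) (tt N773 D1129) (tt N472 (iv D800)) (tt N774 D1130))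
theorem Q620 : ∀ i, i < 620 → P i := stepQ 619 Q619 (allL N619 (tt N774 (iv F810)) (tt N543 F570) (tt N775 D1131) (tt N473 (iv D801)))
theorem Q621 : ∀ i, i < 621 → P i := stepQ 620 Q620 (allL N620 (tt N776 D1132) (tt N474 (iv D802)) (tt N777 D1133) (tt N604 F571))
theorem Q622 : ∀ i, i < 622 → P i := stepQ 621 Q621 (allL N621 (tt N475 (iv D808)) (tt N778 D1140) (tt N645 (iv F10429)) (tt N629 (iv F583)))
theorem Q623 : ∀ i, i < 623 → P i := stepQ 622 Q622 (allL N622 (tt N764 (iv F9884)) (tt N625 (iv F578)) (tt N476 (iv D811)) (tt N779 D1145))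
theorem Q624 : ∀ i, i < 624 → P i := stepQ 623 Q623 (allL N623 (tt N514 (iv F10364)) (tt N477 (iv D812)) (tt N513 F10349) (tt N780 D1148))
theorem Q625 : ∀ i, i < 625 → P i := stepQ 624 Q624 (allL N624 (tt N478 F577) (tt N780 (iv F827)) (tt N781 D1149) (tt N477 (iv D813)))
theorem Q626 : ∀ i, i < 626 → P i := stepQ 625 Q625 (allL N625 (tt N781 (iv F828)) (tt N622 F578) (tt N478 (iv D814)) (tt N782 D1150))
theorem Q627 : ∀ i, i < 627 → P i := stepQ 626 Q626 (allL N626 (tt N480 F581) (tt N676 (iv F666)) (tt N479 (iv D818)) (tt N633 (iv F588)))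
theorem Q628 : ∀ i, i < 628 → P i := stepQ 627 Q627 (allL N627 (tt N783 D1155) (tt N480 (iv D819)) (tt N481 F582) (tt N784 D1156))
theorem Q629 : ∀ i, i < 629 → P i := stepQ 628 Q628 (allL N628 (tt N633 (iv F586)) (tt N784 (iv F834)) (tt N632 (iv F585)) (tt N480 (iv D820)))
theorem Q630 : ∀ i, i < 630 → P i := stepQ 629 Q629 (allL N629 (tt N481 (iv D821)) (tt N785 D1157) (tt N783 (iv F833)) (tt N621 F583))
theorem Q631 : ∀ i, i < 631 → P i := stepQ 630 Q630 (allL N630 (tt N772 (iv F809)) (tt N786 D1159) (tt N482 (iv D823)) (tt N787 D1160))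
theorem Q632 : ∀ i, i < 632 → P i := stepQ 631 Q631 (allL N631 (tt N788 D1161) (tt N483 (iv D824)) (tt N786 (iv F836)) (tt N789 D1162))
theorem Q633 : ∀ i, i < 633 → P i := stepQ 632 Q632 (allL N632 (tt N484 F584) (tt N789 (iv F837)) (tt N628 F585) (tt N483 (iv D825)))
theorem Q634 : ∀ i, i < 634 → P i := stepQ 633 Q633 (allL N633 (tt N628 F586) (tt N523 F587) (tt N484 (iv D826)) (tt N626 F588))
theorem Q635 : ∀ i, i < 635 → P i := stepQ 634 Q634 (allL N634 (tt N485 (iv D827)) (tt N575 F589) (tt N790 D1163) (tt N573 F590))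
theorem Q636 : ∀ i, i < 636 → P i := stepQ 635 Q635 (allL N635 (tt N790 (iv F838)) (tt N777 (iv F817)) (tt N485 (iv D828)) (tt N791 D1164))
theorem Q637 : ∀ i, i < 637 → P i := stepQ 636 Q636 (allL N636 (tt N649 (iv F10400)) (tt N486 (iv D839)) (tt N648 F10277) (tt N792 D1179))
theorem Q638 : ∀ i, i < 638 → P i := stepQ 637 Q637 (allL N637 (tt N487 F602) (tt N792 (iv F848)) (tt N793 D1180) (tt N486 (iv D840)))
theorem Q639 : ∀ i, i < 639 → P i := stepQ 638 Q638 (allL N638 (tt N793 (iv F849)) (tt N490 F603) (tt N487 (iv D841)) (tt N794 D1181))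
theorem Q640 : ∀ i, i < 640 → P i := stepQ 639 Q639 (allL N639 (tt N488 (iv D842)) (tt N649 (iv F10401)) (tt N647 (iv F10398)) (tt N795 D1183))
theorem Q641 : ∀ i, i < 641 → P i := stepQ 640 Q640 (allL N640 (tt N647 (iv F10397)) (tt N492 F604) (tt N488 (iv D843)) (tt N796 D1184))
theorem Q642 : ∀ i, i < 642 → P i := stepQ 641 Q641 (allL N641 (tt N795 (iv F852)) (tt N489 F605) (tt N797 D1185) (tt N488 (iv D844)))
theorem Q643 : ∀ i, i < 643 → P i := stepQ 642 Q642 (allL N642 (tt N490 F606) (tt N690 (iv F685)) (tt N489 (iv D845)) (tt N512 F607))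
theorem Q644 : ∀ i, i < 644 → P i := stepQ 643 Q643 (allL N643 (tt N512 F608) (tt N794 (iv F850)) (tt N511 F609) (tt N490 (iv D846)))
theorem Q645 : ∀ i, i < 645 → P i := stepQ 644 Q644 (allL N644 (tt N694 F10396) (tt N796 (iv F853)) (tt N798 D1188) (tt N492 (iv D848)))
theorem Q646 : ∀ i, i < 646 → P i := stepQ 645 Q645 (allL N645 (tt N493 (iv D855)) (tt N799 D1199) (tt N621 F10429) (tt N800 D1200))
theorem Q647 : ∀ i, i < 647 → P i := stepQ 646 Q646 (allL N646 (tt N800 (iv F867)) (tt N494 F615) (tt N660 (iv F631)) (tt N493 (iv D856)))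
theorem Q648 : ∀ i, i < 648 → P i := stepQ 647 Q647 (allL N647 (tt N640 F10397) (tt N495 (iv D865)) (tt N639 F10398) (tt N700 F10259))
theorem Q649 : ∀ i, i < 649 → P i := stepQ 648 Q648 (allL N648 (tt N496 (iv D869)) (tt N497 F623) (tt N636 (iv F10277)) (tt N680 (iv F670)))
theorem Q650 : ∀ i, i < 650 → P i := stepQ 649 Q649 (allL N649 (tt N636 F10400) (tt N639 F10401) (tt N496 (iv D870)) (tt N801 D1221))
theorem Q651 : ∀ i, i < 651 → P i := stepQ 650 Q650 (allL N650 (tt N499 F625) (tt N680 (iv F669)) (tt N802 D1224) (tt N497 (iv D872)))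
theorem Q652 : ∀ i, i < 652 → P i := stepQ 651 Q651 (allL N651 (tt N591 (iv F10376)) (tt N503 F626) (tt N765 F10327) (tt N498 (iv D873)))
theorem Q653 : ∀ i, i < 653 → P i := stepQ 652 Q652 (allL N652 (tt N802 (iv F887)) (tt N803 D1226) (tt N499 (iv D874)) (tt N804 D1227))
theorem Q654 : ∀ i, i < 654 → P i := stepQ 653 Q653 (allL N653 (tt N805 D1228) (tt N500 (iv D875)) (tt N803 (iv F888)) (tt N660 (iv F632)))
theorem Q655 : ∀ i, i < 655 → P i := stepQ 654 Q654 (allL N654 (tt N504 F628) (tt N568 (iv F10321)) (tt N502 (iv D878)) (tt N806 D1233))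
theorem Q656 : ∀ i, i < 656 → P i := stepQ 655 Q655 (allL N655 (tt N734 (iv F10375)) (tt N752 F10281) (tt N503 (iv D879)) (tt N807 D1235))
theorem Q657 : ∀ i, i < 657 → P i := stepQ 656 Q656 (allL N656 (tt N808 D1236) (tt N504 (iv D880)) (tt N505 F629) (tt N809 D1237))
theorem Q658 : ∀ i, i < 658 → P i := stepQ 657 Q657 (allL N657 (tt N806 (iv F891)) (tt N809 (iv F894)) (tt N810 D1238) (tt N504 (iv D881)))
theorem Q659 : ∀ i, i < 659 → P i := stepQ 658 Q658 (allL N658 (tt N505 (iv D882)) (tt N811 D1239) (tt N808 (iv F893)) (tt N812 D1240))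
theorem Q660 : ∀ i, i < 660 → P i := stepQ 659 Q659 (allL N659 (tt N812 (iv F898)) (tt N506 F630) (tt N813 D1241) (tt N505 (iv D883)))
theorem Q661 : ∀ i, i < 661 → P i := stepQ 660 Q660 (allL N660 (tt N814 D1242) (tt N507 (iv D884)) (tt N646 F631) (tt N653 F632))
theorem Q662 : ∀ i, i < 662 → P i := stepQ 661 Q661 (allL N661 (tt N508 (iv D892)) (tt N808 F10464) (tt N509 F638) (tt N725 F10489))
theorem Q663 : ∀ i, i < 663 → P i := stepQ 662 Q662 (allL N662 (tt N815 D1255) (tt N509 (iv D895)) (tt N811 F10457) (tt N691 (iv F686)))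
theorem Q664 : ∀ i, i < 664 → P i := stepQ 663 Q663 (allL N663 (tt N510 (iv D896)) (tt N815 (iv F912)) (tt N778 (iv F10385)) (tt N816 D1258))
theorem Q665 : ∀ i, i < 665 → P i := stepQ 664 Q664 (allL N664 (tt N778 (iv F10384)) (tt N514 F642) (tt N510 (iv D897)) (tt N817 D1259))
theorem Q666 : ∀ i, i < 666 → P i := stepQ 665 Q665 (allL N665 (tt N816 (iv F914)) (tt N511 F643) (tt N818 D1260) (tt N510 (iv D898)))
theorem Q667 : ∀ i, i < 667 → P i := stepQ 666 Q666 (allL N666 (tt N780 F10347) (tt N817 (iv F915)) (tt N819 D1263) (tt N514 (iv D900)))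
theorem Q668 : ∀ i, i < 668 → P i := stepQ 667 Q667 (allL N667 (tt N711 F10340) (tt N667 F10458) (tt N515 (iv D909)) (tt N820 D1274))
theorem Q669 : ∀ i, i < 669 → P i := stepQ 668 Q668 (allL N668 (tt N517 F654) (tt N821 D1284) (tt N516 (iv D916)) (tt N673 (iv F663)))
theorem Q670 : ∀ i, i < 670 → P i := stepQ 669 Q669 (allL N669 (tt N673 (iv F662)) (tt N669 F10234) (tt N672 (iv F661)) (tt N517 (iv D918)))
theorem Q671 : ∀ i, i < 671 → P i := stepQ 670 Q670 (allL N670 (tt N701 F9746) (tt N822 D1292) (tt N518 (iv D923)) (tt N762 (iv F9813)))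
theorem Q672 : ∀ i, i < 672 → P i := stepQ 671 Q671 (allL N671 (tt N823 D1294) (tt N519 (iv D924)) (tt N822 (iv F938)) (tt N824 D1295))
theorem Q673 : ∀ i, i < 673 → P i := stepQ 672 Q672 (allL N672 (tt N520 F660) (tt N824 (iv F939)) (tt N669 F661) (tt N519 (iv D925)))
theorem Q674 : ∀ i, i < 674 → P i := stepQ 673 Q673 (allL N673 (tt N669 F662) (tt N813 (iv F899)) (tt N520 (iv D926)) (tt N668 F663))
theorem Q675 : ∀ i, i < 675 → P i := stepQ 674 Q674 (allL N674 (tt N523 F665) (tt N825 D1299) (tt N521 (iv D929)) (tt N826 D1300))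
theorem Q676 : ∀ i, i < 676 → P i := stepQ 675 Q675 (allL N675 (tt N697 F9810) (tt N827 D1301) (tt N522 (iv D930)) (tt N828 D1302))
theorem Q677 : ∀ i, i < 677 → P i := stepQ 676 Q676 (allL N676 (tt N826 (iv F942)) (tt N626 F666) (tt N829 D1303) (tt N523 (iv D931)))
theorem Q678 : ∀ i, i < 678 → P i := stepQ 677 Q677 (allL N677 (tt N830 D1304) (tt N524 (iv D932)) (tt N831 D1305) (tt N759 F10172))
theorem Q679 : ∀ i, i < 679 → P i := stepQ 678 Q678 (allL N678 (tt N525 F667) (tt N759 (iv F10162)) (tt N699 F10058) (tt N524 (iv D933)))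
theorem Q680 : ∀ i, i < 680 → P i := stepQ 679 Q679 (allL N679 (tt N699 F10143) (tt N577 F668) (tt N525 (iv D934)) (tt N698 F10144))
theorem Q681 : ∀ i, i < 681 → P i := stepQ 680 Q680 (allL N680 (tt N526 (iv D935)) (tt N650 F669) (tt N832 D1307) (tt N648 F670))
theorem Q682 : ∀ i, i < 682 → P i := stepQ 681 Q681 (allL N681 (tt N832 (iv F950)) (tt N831 (iv F948)) (tt N526 (iv D936)) (tt N833 D1308))
theorem Q683 : ∀ i, i < 683 → P i := stepQ 682 Q682 (allL N682 (tt N528 F673) (tt N834 D1312) (tt N527 (iv D939)) (tt N580 F674))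
theorem Q684 : ∀ i, i < 684 → P i := stepQ 683 Q683 (allL N683 (tt N835 D1313) (tt N528 (iv D940)) (tt N827 (iv F943)) (tt N836 D1314))
theorem Q685 : ∀ i, i < 685 → P i := stepQ 684 Q684 (allL N684 (tt N580 F675) (tt N836 (iv F953)) (tt N579 F676) (tt N528 (iv D941)))
theorem Q686 : ∀ i, i < 686 → P i := stepQ 685 Q685 (allL N685 (tt N730 (iv F10446)) (tt N530 F679) (tt N837 D1323) (tt N529 (iv D947)))
theorem Q687 : ∀ i, i < 687 → P i := stepQ 686 Q686 (allL N686 (tt N532 F681) (tt N726 F10334) (tt N838 D1330) (tt N531 (iv D951)))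
theorem Q688 : ∀ i, i < 688 → P i := stepQ 687 Q687 (allL N687 (tt N838 (iv F963)) (tt N687 F10301) (tt N532 (iv D952)) (tt N839 D1332))
theorem Q689 : ∀ i, i < 689 → P i := stepQ 688 Q688 (allL N688 (tt N718 (iv F725)) (tt N534 F683) (tt N840 D1335) (tt N533 (iv D955)))
theorem Q690 : ∀ i, i < 690 → P i := stepQ 689 Q689 (allL N689 (tt N535 F684) (tt N841 D1336) (tt N534 (iv D956)) (tt N842 D1337))
theorem Q691 : ∀ i, i < 691 → P i := stepQ 690 Q690 (allL N690 (tt N842 (iv F966)) (tt N642 F685) (tt N843 D1338) (tt N535 (iv D957)))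
theorem Q692 : ∀ i, i < 692 → P i := stepQ 691 Q691 (allL N691 (tt N844 D1339) (tt N536 (iv D958)) (tt N845 D1340) (tt N662 F686))
theorem Q693 : ∀ i, i < 693 → P i := stepQ 692 Q692 (allL N692 (tt N538 F697) (tt N846 D1356) (tt N537 (iv D970)) (tt N847 D1357))
theorem Q694 : ∀ i, i < 694 → P i := stepQ 693 Q693 (allL N693 (tt N847 (iv F983)) (tt N696 (iv F701)) (tt N848 D1358) (tt N538 (iv D971)))
theorem Q695 : ∀ i, i < 695 → P i := stepQ 694 Q694 (allL N694 (tt N644 (iv F10396)) (tt N540 F699) (tt N849 D1362) (tt N539 (iv D974)))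
theorem Q696 : ∀ i, i < 696 → P i := stepQ 695 Q695 (allL N695 (tt N541 F700) (tt N850 D1363) (tt N540 (iv D975)) (tt N737 (iv F761)))
theorem Q697 : ∀ i, i < 697 → P i := stepQ 696 Q696 (allL N696 (tt N737 (iv F760)) (tt N693 F701) (tt N736 (iv F759)) (tt N541 (iv D976)))
theorem Q698 : ∀ i, i < 698 → P i := stepQ 697 Q697 (allL N697 (tt N675 (iv F9810)) (tt N775 (iv F813)) (tt N542 (iv D980)) (tt N829 F9745))
theorem Q699 : ∀ i, i < 699 → P i := stepQ 698 Q698 (allL N698 (tt N544 (iv D981)) (tt N729 (iv F10145)) (tt N546 F705) (tt N679 (iv F10144)))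
theorem Q700 : ∀ i, i < 700 → P i := stepQ 699 Q699 (allL N699 (tt N679 (iv F10143)) (tt N545 F706) (tt N678 (iv F10058)) (tt N544 (iv D982)))
theorem Q701 : ∀ i, i < 701 → P i := stepQ 700 Q700 (allL N700 (tt N796 F10492) (tt N546 (iv D983)) (tt N851 D1373) (tt N647 (iv F10259)))
theorem Q702 : ∀ i, i < 702 → P i := stepQ 701 Q701 (allL N701 (tt N670 (iv F9746)) (tt N852 D1377) (tt N547 (iv D986)) (tt N853 D1378))
theorem Q703 : ∀ i, i < 703 → P i := stepQ 702 Q702 (allL N702 (tt N550 F711) (tt N854 D1382) (tt N548 (iv D989)) (tt N709 (iv F718)))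
theorem Q704 : ∀ i, i < 704 → P i := stepQ 703 Q703 (allL N703 (tt N597 (iv F10239)) (tt N549 (iv D990)) (tt N760 (iv F794)) (tt N855 D1384))
theorem Q705 : ∀ i, i < 705 → P i := stepQ 704 Q704 (allL N704 (tt N552 F712) (tt N855 (iv F1005)) (tt N706 (iv F714)) (tt N549 (iv D991)))
theorem Q706 : ∀ i, i < 706 → P i := stepQ 705 Q705 (allL N705 (tt N558 F10421) (tt N550 (iv D992)) (tt N558 F713) (tt N856 D1386))
theorem Q707 : ∀ i, i < 707 → P i := stepQ 706 Q706 (allL N706 (tt N709 (iv F717)) (tt N856 (iv F1007)) (tt N704 F714) (tt N550 (iv D993)))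
theorem Q708 : ∀ i, i < 708 → P i := stepQ 707 Q707 (allL N707 (tt N551 (iv D994)) (tt N601 F10496) (tt N553 F715) (tt N724 F10497))
theorem Q709 : ∀ i, i < 709 → P i := stepQ 708 Q708 (allL N708 (tt N724 F10466) (tt N552 F716) (tt N725 F10467) (tt N551 (iv D995)))
theorem Q710 : ∀ i, i < 710 → P i := stepQ 709 Q709 (allL N709 (tt N706 F717) (tt N857 D1388) (tt N552 (iv D996)) (tt N702 F718))
theorem Q711 : ∀ i, i < 711 → P i := stepQ 710 Q710 (allL N710 (tt N748 (iv F779)) (tt N553 (iv D997)) (tt N604 F10299) (tt N720 (iv F728)))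
theorem Q712 : ∀ i, i < 712 → P i := stepQ 711 Q711 (allL N711 (tt N667 (iv F10340)) (tt N858 D1393) (tt N554 (iv D1000)) (tt N848 F10406))
theorem Q713 : ∀ i, i < 713 → P i := stepQ 712 Q712 (allL N712 (tt N859 D1395) (tt N555 (iv D1001)) (tt N858 (iv F1011)) (tt N717 (iv F723)))
theorem Q714 : ∀ i, i < 714 → P i := stepQ 713 Q713 (allL N713 (tt N567 (iv F10286)) (tt N557 F720) (tt N860 D1398) (tt N556 (iv D1003)))
theorem Q715 : ∀ i, i < 715 → P i := stepQ 714 Q714 (allL N714 (tt N856 (iv F10352)) (tt N559 F721) (tt N861 D1401) (tt N558 (iv D1005)))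
theorem Q716 : ∀ i, i < 716 → P i := stepQ 715 Q715 (allL N715 (tt N561 F722) (tt N570 (iv F10179)) (tt N754 F10081) (tt N560 (iv D1007)))
theorem Q717 : ∀ i, i < 717 → P i := stepQ 716 Q716 (allL N716 (tt N754 (iv F9978)) (tt N862 D1406) (tt N561 (iv D1008)) (tt N863 D1407))
theorem Q718 : ∀ i, i < 718 → P i := stepQ 717 Q717 (allL N717 (tt N864 D1408) (tt N562 (iv D1009)) (tt N862 (iv F1020)) (tt N712 F723))
theorem Q719 : ∀ i, i < 719 → P i := stepQ 718 Q718 (allL N718 (tt N688 F725) (tt N564 F726) (tt N865 D1410) (tt N563 (iv D1011)))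
theorem Q720 : ∀ i, i < 720 → P i := stepQ 719 Q719 (allL N719 (tt N565 F727) (tt N866 D1411) (tt N564 (iv D1012)) (tt N739 (iv F765)))
theorem Q721 : ∀ i, i < 721 → P i := stepQ 720 Q720 (allL N720 (tt N867 D1412) (tt N566 (iv D1013)) (tt N868 D1413) (tt N710 F728))
theorem Q722 : ∀ i, i < 722 → P i := stepQ 721 Q721 (allL N721 (tt N860 F10422) (tt N723 (iv F736)) (tt N567 (iv D1022)) (tt N869 D1426))
theorem Q723 : ∀ i, i < 723 → P i := stepQ 722 Q722 (allL N722 (tt N569 F735) (tt N806 (iv F10344)) (tt N870 D1430) (tt N568 (iv D1024)))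
theorem Q724 : ∀ i, i < 724 → P i := stepQ 723 Q723 (allL N723 (tt N870 (iv F1042)) (tt N721 F736) (tt N569 (iv D1025)) (tt N871 D1431))
theorem Q725 : ∀ i, i < 725 → P i := stepQ 724 Q724 (allL N724 (tt N708 (iv F10466)) (tt N571 (iv D1029)) (tt N572 F739) (tt N707 (iv F10497)))
theorem Q726 : ∀ i, i < 726 → P i := stepQ 725 Q725 (allL N725 (tt N572 (iv D1030)) (tt N872 D1436) (tt N708 (iv F10467)) (tt N661 (iv F10489)))
theorem Q727 : ∀ i, i < 727 → P i := stepQ 726 Q726 (allL N726 (tt N576 F742) (tt N686 (iv F10334)) (tt N873 D1442) (tt N574 (iv D1034)))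
theorem Q728 : ∀ i, i < 728 → P i := stepQ 727 Q727 (allL N727 (tt N577 F743) (tt N874 D1443) (tt N575 (iv D1035)) (tt N875 D1444))
theorem Q729 : ∀ i, i < 729 → P i := stepQ 728 Q728 (allL N728 (tt N873 (iv F1052)) (tt N876 D1445) (tt N576 (iv D1036)) (tt N877 D1446))
theorem Q730 : ∀ i, i < 730 → P i := stepQ 729 Q729 (allL N729 (tt N875 (iv F1053)) (tt N698 F10145) (tt N878 D1447) (tt N577 (iv D1037)))
theorem Q731 : ∀ i, i < 731 → P i := stepQ 730 Q730 (allL N730 (tt N685 F10446) (tt N579 F745) (tt N879 D1450) (tt N578 (iv D1039)))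
theorem Q732 : ∀ i, i < 732 → P i := stepQ 731 Q731 (allL N731 (tt N876 (iv F9583)) (tt N580 (iv D1040)) (tt N876 (iv F1054)) (tt N834 (iv F952)))
theorem Q733 : ∀ i, i < 733 → P i := stepQ 732 Q732 (allL N732 (tt N880 D1473) (tt N582 (iv D1055)) (tt N610 F10175) (tt N881 D1474))
theorem Q734 : ∀ i, i < 734 → P i := stepQ 733 Q733 (allL N733 (tt N583 F754) (tt N881 (iv F1078)) (tt N583 F755) (tt N582 (iv D1056)))
theorem Q735 : ∀ i, i < 735 → P i := stepQ 734 Q734 (allL N734 (tt N655 F10375) (tt N882 D1479) (tt N584 (iv D1060)) (tt N810 (iv F10477)))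
theorem Q736 : ∀ i, i < 736 → P i := stepQ 735 Q735 (allL N735 (tt N883 D1481) (tt N585 (iv D1061)) (tt N882 (iv F1081)) (tt N884 D1482))
theorem Q737 : ∀ i, i < 737 → P i := stepQ 736 Q736 (allL N736 (tt N586 F758) (tt N884 (iv F1082)) (tt N696 F759) (tt N585 (iv D1062)))
theorem Q738 : ∀ i, i < 738 → P i := stepQ 737 Q737 (allL N737 (tt N696 F760) (tt N885 D1483) (tt N586 (iv D1063)) (tt N695 F761))
theorem Q739 : ∀ i, i < 739 → P i := stepQ 738 Q738 (allL N738 (tt N863 (iv F1021)) (tt N587 (iv D1068)) (tt N588 F764) (tt N754 (iv F9979)))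
theorem Q740 : ∀ i, i < 740 → P i := stepQ 739 Q739 (allL N739 (tt N588 (iv D1070)) (tt N886 D1492) (tt N863 (iv F1022)) (tt N719 F765))
theorem Q741 : ∀ i, i < 741 → P i := stepQ 740 Q740 (allL N740 (tt N887 D1493) (tt N589 (iv D1071)) (tt N888 D1494) (tt N818 (iv F10377)))
theorem Q742 : ∀ i, i < 742 → P i := stepQ 741 Q741 (allL N741 (tt N590 F766) (tt N818 F10405) (tt N794 (iv F10494)) (tt N589 (iv D1072)))
theorem Q743 : ∀ i, i < 743 → P i := stepQ 742 Q742 (allL N742 (tt N794 (iv F10493)) (tt N750 (iv F781)) (tt N590 (iv D1073)) (tt N793 (iv F10471)))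
theorem Q744 : ∀ i, i < 744 → P i := stepQ 743 Q743 (allL N743 (tt N765 (iv F10275)) (tt N888 (iv F1093)) (tt N591 (iv D1075)) (tt N889 D1497))
theorem Q745 : ∀ i, i < 745 → P i := stepQ 744 Q744 (allL N744 (tt N760 F10222) (tt N592 (iv D1079)) (tt N597 F772) (tt N890 D1503))
theorem Q746 : ∀ i, i < 746 → P i := stepQ 745 Q745 (allL N745 (tt N594 F773) (tt N890 (iv F1098)) (tt N745 F10442) (tt N592 (iv D1080)))
theorem Q747 : ∀ i, i < 747 → P i := stepQ 746 Q746 (allL N746 (tt N593 (iv D1083)) (tt N756 F10225) (tt N595 F775) (tt N891 D1507))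
theorem Q748 : ∀ i, i < 748 → P i := stepQ 747 Q747 (allL N747 (tt N891 (iv F1100)) (tt N594 F776) (tt N892 D1508) (tt N593 (iv D1084)))
theorem Q749 : ∀ i, i < 749 → P i := stepQ 748 Q748 (allL N748 (tt N710 F779) (tt N595 (iv D1086)) (tt N755 F10224) (tt N867 (iv F1027)))
theorem Q750 : ∀ i, i < 750 → P i := stepQ 749 Q749 (allL N749 (tt N596 F780) (tt N867 (iv F1026)) (tt N893 D1511) (tt N595 (iv D1087)))
theorem Q751 : ∀ i, i < 751 → P i := stepQ 750 Q750 (allL N750 (tt N893 (iv F1103)) (tt N742 F781) (tt N596 (iv D1088)) (tt N894 D1512))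
theorem Q752 : ∀ i, i < 752 → P i := stepQ 751 Q751 (allL N751 (tt N855 F10353) (tt N598 F784) (tt N895 D1521) (tt N597 (iv D1094)))
theorem Q753 : ∀ i, i < 753 → P i := stepQ 752 Q752 (allL N752 (tt N599 (iv D1095)) (tt N655 (iv F10281)) (tt N612 F785) (tt N896 D1523))
theorem Q754 : ∀ i, i < 754 → P i := stepQ 753 Q753 (allL N753 (tt N896 (iv F1111)) (tt N600 F786) (tt N897 D1524) (tt N599 (iv D1096)))
theorem Q755 : ∀ i, i < 755 → P i := stepQ 754 Q754 (allL N754 (tt N716 F9978) (tt N603 (iv D1098)) (tt N715 (iv F10081)) (tt N738 F9979))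
theorem Q756 : ∀ i, i < 756 → P i := stepQ 755 Q755 (allL N755 (tt N604 (iv D1099)) (tt N605 F790) (tt N748 (iv F10224)) (tt N776 (iv F816)))
theorem Q757 : ∀ i, i < 757 → P i := stepQ 756 Q756 (allL N756 (tt N606 F791) (tt N746 (iv F10225)) (tt N605 (iv D1101)) (tt N898 D1531))
theorem Q758 : ∀ i, i < 758 → P i := stepQ 757 Q757 (allL N757 (tt N607 F792) (tt N776 (iv F815)) (tt N899 D1532) (tt N605 (iv D1102)))
theorem Q759 : ∀ i, i < 759 → P i := stepQ 758 Q758 (allL N758 (tt N898 (iv F1118)) (tt N609 F793) (tt N900 D1533) (tt N606 (iv D1103)))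
theorem Q760 : ∀ i, i < 760 → P i := stepQ 759 Q759 (allL N759 (tt N899 (iv F1119)) (tt N678 F10162) (tt N607 (iv D1104)) (tt N677 (iv F10172)))
theorem Q761 : ∀ i, i < 761 → P i := stepQ 760 Q760 (allL N760 (tt N744 (iv F10222)) (tt N608 (iv D1105)) (tt N703 F794) (tt N901 D1536))
theorem Q762 : ∀ i, i < 762 → P i := stepQ 761 Q761 (allL N761 (tt N609 F795) (tt N901 (iv F1121)) (tt N853 (iv F1002)) (tt N608 (iv D1106)))
theorem Q763 : ∀ i, i < 763 → P i := stepQ 762 Q762 (allL N762 (tt N853 (iv F1001)) (tt N902 D1537) (tt N609 (iv D1107)) (tt N670 F9813))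
theorem Q764 : ∀ i, i < 764 → P i := stepQ 763 Q763 (allL N763 (tt N610 (iv D1113)) (tt N903 D1544) (tt N880 (iv F10165)) (tt N771 (iv F807)))
theorem Q765 : ∀ i, i < 765 → P i := stepQ 764 Q764 (allL N764 (tt N622 F9884) (tt N767 (iv F802)) (tt N611 (iv D1116)) (tt N904 D1549))
theorem Q766 : ∀ i, i < 766 → P i := stepQ 765 Q765 (allL N765 (tt N743 F10275) (tt N612 (iv D1117)) (tt N651 (iv F10327)) (tt N905 D1552))
theorem Q767 : ∀ i, i < 767 → P i := stepQ 766 Q766 (allL N766 (tt N613 F801) (tt N905 (iv F1131)) (tt N906 D1553) (tt N612 (iv D1118)))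
theorem Q768 : ∀ i, i < 768 → P i := stepQ 767 Q767 (allL N767 (tt N906 (iv F1132)) (tt N764 F802) (tt N613 (iv D1119)) (tt N907 D1554))
theorem Q769 : ∀ i, i < 769 → P i := stepQ 768 Q768 (allL N768 (tt N615 F805) (tt N829 F9744) (tt N614 (iv D1123)) (tt N775 (iv F814)))
theorem Q770 : ∀ i, i < 770 → P i := stepQ 769 Q769 (allL N769 (tt N908 D1559) (tt N615 (iv D1124)) (tt N616 F806) (tt N909 D1560))
theorem Q771 : ∀ i, i < 771 → P i := stepQ 770 Q770 (allL N770 (tt N775 (iv F812)) (tt N909 (iv F1138)) (tt N774 (iv F811)) (tt N615 (iv D1125)))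
theorem Q772 : ∀ i, i < 772 → P i := stepQ 771 Q771 (allL N771 (tt N616 (iv D1126)) (tt N910 D1561) (tt N908 (iv F1137)) (tt N763 F807))
theorem Q773 : ∀ i, i < 773 → P i := stepQ 772 Q772 (allL N772 (tt N630 F809) (tt N911 D1563) (tt N617 (iv D1128)) (tt N912 D1564))
theorem Q774 : ∀ i, i < 774 → P i := stepQ 773 Q773 (allL N773 (tt N874 (iv F10062)) (tt N618 (iv D1129)) (tt N911 (iv F1141)) (tt N913 D1566))
theorem Q775 : ∀ i, i < 775 → P i := stepQ 774 Q774 (allL N774 (tt N619 F810) (tt N913 (iv F1143)) (tt N770 F811) (tt N618 (iv D1130)))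
theorem Q776 : ∀ i, i < 776 → P i := stepQ 775 Q775 (allL N775 (tt N770 F812) (tt N697 F813) (tt N619 (iv D1131)) (tt N768 F814))
theorem Q777 : ∀ i, i < 777 → P i := stepQ 776 Q776 (allL N776 (tt N620 (iv D1132)) (tt N757 F815) (tt N914 D1567) (tt N755 F816))
theorem Q778 : ∀ i, i < 778 → P i := stepQ 777 Q777 (allL N777 (tt N914 (iv F1144)) (tt N635 F817) (tt N620 (iv D1133)) (tt N915 D1568))
theorem Q779 : ∀ i, i < 779 → P i := stepQ 778 Q778 (allL N778 (tt N664 F10384) (tt N621 (iv D1140)) (tt N663 F10385) (tt N785 (iv F835)))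
theorem Q780 : ∀ i, i < 780 → P i := stepQ 779 Q779 (allL N779 (tt N904 (iv F9956)) (tt N782 (iv F829)) (tt N904 (iv F9957)) (tt N622 (iv D1145)))
theorem Q781 : ∀ i, i < 781 → P i := stepQ 780 Q780 (allL N780 (tt N666 (iv F10347)) (tt N624 F827) (tt N916 D1588) (tt N623 (iv D1148)))
theorem Q782 : ∀ i, i < 782 → P i := stepQ 781 Q781 (allL N781 (tt N625 F828) (tt N917 D1589) (tt N624 (iv D1149)) (tt N918 D1590))
theorem Q783 : ∀ i, i < 783 → P i := stepQ 782 Q782 (allL N782 (tt N918 (iv F1158)) (tt N779 F829) (tt N919 D1591) (tt N625 (iv D1150)))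
theorem Q784 : ∀ i, i < 784 → P i := stepQ 783 Q783 (allL N783 (tt N627 (iv D1155)) (tt N804 F10379) (tt N629 F833) (tt N803 (iv F10470)))
theorem Q785 : ∀ i, i < 785 → P i := stepQ 784 Q784 (allL N784 (tt N803 (iv F10469)) (tt N628 F834) (tt N805 F10387) (tt N627 (iv D1156)))
theorem Q786 : ∀ i, i < 786 → P i := stepQ 785 Q785 (allL N785 (tt N817 F10313) (tt N629 (iv D1157)) (tt N920 D1601) (tt N778 F835))
theorem Q787 : ∀ i, i < 787 → P i := stepQ 786 Q786 (allL N786 (tt N921 D1604) (tt N630 (iv D1159)) (tt N631 F836) (tt N922 D1605))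
theorem Q788 : ∀ i, i < 788 → P i := stepQ 787 Q787 (allL N787 (tt N912 (iv F1142)) (tt N922 (iv F1170)) (tt N787 F9504) (tt N630 (iv D1160)))
theorem Q789 : ∀ i, i < 789 → P i := stepQ 788 Q788 (allL N788 (tt N631 (iv D1161)) (tt N899 (iv F10381)) (tt N921 (iv F1169)) (tt N923 D1608))
theorem Q790 : ∀ i, i < 790 → P i := stepQ 789 Q789 (allL N789 (tt N923 (iv F1175)) (tt N632 F837) (tt N924 D1609) (tt N631 (iv D1162)))
theorem Q791 : ∀ i, i < 791 → P i := stepQ 790 Q790 (allL N790 (tt N635 F838) (tt N925 D1610) (tt N634 (iv D1163)) (tt N926 D1611))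
theorem Q792 : ∀ i, i < 792 → P i := stepQ 791 Q791 (allL N791 (tt N926 (iv F1179)) (tt N915 (iv F1145)) (tt N927 D1612) (tt N635 (iv D1164)))
theorem Q793 : ∀ i, i < 793 → P i := stepQ 792 Q792 (allL N792 (tt N801 (iv F10316)) (tt N637 F848) (tt N928 D1635) (tt N636 (iv D1179)))
theorem Q794 : ∀ i, i < 794 → P i := stepQ 793 Q793 (allL N793 (tt N638 F849) (tt N894 (iv F10484)) (tt N637 (iv D1180)) (tt N742 F10471))
theorem Q795 : ∀ i, i < 795 → P i := stepQ 794 Q794 (allL N794 (tt N742 F10493) (tt N643 F850) (tt N741 F10494) (tt N638 (iv D1181)))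
theorem Q796 : ∀ i, i < 796 → P i := stepQ 795 Q795 (allL N795 (tt N641 F852) (tt N801 F10373) (tt N929 D1641) (tt N639 (iv D1183)))
theorem Q797 : ∀ i, i < 797 → P i := stepQ 796 Q796 (allL N796 (tt N700 (iv F10492)) (tt N644 F853) (tt N930 D1642) (tt N640 (iv D1184)))
theorem Q798 : ∀ i, i < 798 → P i := stepQ 797 Q797 (allL N797 (tt N929 (iv F1203)) (tt N843 (iv F969)) (tt N641 (iv D1185)) (tt N931 D1643))
theorem Q799 : ∀ i, i < 799 → P i := stepQ 798 Q798 (allL N798 (tt N849 F10461) (tt N932 D1647) (tt N644 (iv D1188)) (tt N916 F10462))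
theorem Q800 : ∀ i, i < 800 → P i := stepQ 799 Q799 (allL N799 (tt N811 (iv F897)) (tt N645 (iv D1199)) (tt N815 (iv F10407)) (tt N933 D1662))
theorem Q801 : ∀ i, i < 801 → P i := stepQ 800 Q800 (allL N800 (tt N646 F867) (tt N933 (iv F1219)) (tt N814 (iv F900)) (tt N645 (iv D1200)))
theorem Q802 : ∀ i, i < 802 → P i := stepQ 801 Q801 (allL N801 (tt N792 F10316) (tt N795 (iv F10373)) (tt N934 D1690) (tt N649 (iv D1221)))
theorem Q803 : ∀ i, i < 803 → P i := stepQ 802 Q802 (allL N802 (tt N652 F887) (tt N935 D1694) (tt N650 (iv D1224)) (tt N936 D1695))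
theorem Q804 : ∀ i, i < 804 → P i := stepQ 803 Q803 (allL N803 (tt N784 F10469) (tt N652 (iv D1226)) (tt N653 F888) (tt N783 F10470))
theorem Q805 : ∀ i, i < 805 → P i := stepQ 804 Q804 (allL N804 (tt N936 (iv F1246)) (tt N783 (iv F10379)) (tt N889 F10265) (tt N652 (iv D1227)))
theorem Q806 : ∀ i, i < 806 → P i := stepQ 805 Q805 (allL N805 (tt N653 (iv D1228)) (tt N924 (iv F10427)) (tt N784 (iv F10387)) (tt N814 (iv F901)))
theorem Q807 : ∀ i, i < 807 → P i := stepQ 806 Q806 (allL N806 (tt N657 F891) (tt N722 F10344) (tt N807 (iv F892)) (tt N654 (iv D1233)))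
theorem Q808 : ∀ i, i < 808 → P i := stepQ 807 Q807 (allL N807 (tt N810 (iv F895)) (tt N896 (iv F10282)) (tt N806 F892) (tt N655 (iv D1235)))
theorem Q809 : ∀ i, i < 809 → P i := stepQ 808 Q808 (allL N808 (tt N656 (iv D1236)) (tt N661 (iv F10464)) (tt N658 F893) (tt N872 F10354))
theorem Q810 : ∀ i, i < 810 → P i := stepQ 809 Q809 (allL N809 (tt N872 F10310) (tt N657 F894) (tt N937 D1712) (tt N656 (iv D1237)))
theorem Q811 : ∀ i, i < 811 → P i := stepQ 810 Q810 (allL N810 (tt N807 F895) (tt N938 D1713) (tt N657 (iv D1238)) (tt N734 F10477))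
theorem Q812 : ∀ i, i < 812 → P i := stepQ 811 Q811 (allL N811 (tt N799 F897) (tt N658 (iv D1239)) (tt N662 (iv F10457)) (tt N939 D1715))
theorem Q813 : ∀ i, i < 813 → P i := stepQ 812 Q812 (allL N812 (tt N659 F898) (tt N939 (iv F1263)) (tt N940 D1716) (tt N658 (iv D1240)))
theorem Q814 : ∀ i, i < 814 → P i := stepQ 813 Q813 (allL N813 (tt N940 (iv F1264)) (tt N673 F899) (tt N659 (iv D1241)) (tt N821 (iv F931)))
theorem Q815 : ∀ i, i < 815 → P i := stepQ 814 Q814 (allL N814 (tt N660 (iv D1242)) (tt N941 D1717) (tt N800 F900) (tt N805 F901))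
theorem Q816 : ∀ i, i < 816 → P i := stepQ 815 Q815 (allL N815 (tt N662 (iv D1255)) (tt N663 F912) (tt N799 F10407) (tt N844 (iv F972)))
theorem Q817 : ∀ i, i < 817 → P i := stepQ 816 Q816 (allL N816 (tt N665 F914) (tt N844 (iv F971)) (tt N942 D1739) (tt N663 (iv D1258)))
theorem Q818 : ∀ i, i < 818 → P i := stepQ 817 Q817 (allL N817 (tt N785 (iv F10313)) (tt N666 F915) (tt N910 F10212) (tt N664 (iv D1259)))
theorem Q819 : ∀ i, i < 819 → P i := stepQ 818 Q818 (allL N818 (tt N942 (iv F1282)) (tt N741 (iv F10405)) (tt N665 (iv D1260)) (tt N740 F10377))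
theorem Q820 : ∀ i, i < 820 → P i := stepQ 819 Q819 (allL N819 (tt N916 (iv F10348)) (tt N908 F10293) (tt N666 (iv D1263)) (tt N849 (iv F10409)))
theorem Q821 : ∀ i, i < 821 → P i := stepQ 820 Q820 (allL N820 (tt N848 (iv F985)) (tt N820 F10459) (tt N847 (iv F984)) (tt N667 (iv D1274)))
theorem Q822 : ∀ i, i < 822 → P i := stepQ 821 Q821 (allL N821 (tt N943 D1772) (tt N668 (iv D1284)) (tt N854 (iv F10325)) (tt N813 F931))
theorem Q823 : ∀ i, i < 823 → P i := stepQ 822 Q822 (allL N822 (tt N944 D1785) (tt N670 (iv D1292)) (tt N671 F938) (tt N902 (iv F9886)))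
theorem Q824 : ∀ i, i < 824 → P i := stepQ 823 Q823 (allL N823 (tt N671 (iv D1294)) (tt N945 D1788) (tt N944 (iv F1312)) (tt N946 D1789))
theorem Q825 : ∀ i, i < 825 → P i := stepQ 824 Q824 (allL N824 (tt N946 (iv F1317)) (tt N672 F939) (tt N824 F10045) (tt N671 (iv D1295)))
theorem Q826 : ∀ i, i < 826 → P i := stepQ 825 Q825 (allL N825 (tt N935 (iv F10360)) (tt N674 (iv D1299)) (tt N852 (iv F9625)) (tt N947 D1795))
theorem Q827 : ∀ i, i < 827 → P i := stepQ 826 Q826 (allL N826 (tt N676 F942) (tt N947 (iv F1321)) (tt N828 (iv F944)) (tt N674 (iv D1300)))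
theorem Q828 : ∀ i, i < 828 → P i := stepQ 827 Q827 (allL N827 (tt N932 F10391) (tt N675 (iv D1301)) (tt N683 F943) (tt N948 D1797))
theorem Q829 : ∀ i, i < 829 → P i := stepQ 828 Q828 (allL N828 (tt N829 (iv F945)) (tt N948 (iv F1323)) (tt N826 F944) (tt N675 (iv D1302)))
theorem Q830 : ∀ i, i < 830 → P i := stepQ 829 Q829 (allL N829 (tt N828 F945) (tt N768 (iv F9744)) (tt N676 (iv D1303)) (tt N697 (iv F9745)))
theorem Q831 : ∀ i, i < 831 → P i := stepQ 830 Q830 (allL N830 (tt N677 (iv D1304)) (tt N923 (iv F1176)) (tt N949 D1798) (tt N899 (iv F10248)))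
theorem Q832 : ∀ i, i < 832 → P i := stepQ 831 Q831 (allL N831 (tt N949 (iv F1324)) (tt N681 F948) (tt N677 (iv D1305)) (tt N950 D1799))
theorem Q833 : ∀ i, i < 833 → P i := stepQ 832 Q832 (allL N832 (tt N681 F950) (tt N951 D1801) (tt N680 (iv D1307)) (tt N952 D1802))
theorem Q834 : ∀ i, i < 834 → P i := stepQ 833 Q833 (allL N833 (tt N952 (iv F1327)) (tt N950 (iv F1325)) (tt N953 D1803) (tt N681 (iv D1308)))
theorem Q835 : ∀ i, i < 835 → P i := stepQ 834 Q834 (allL N834 (tt N954 D1809) (tt N682 (iv D1312)) (tt N846 F10499) (tt N731 F952))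
theorem Q836 : ∀ i, i < 836 → P i := stepQ 835 Q835 (allL N835 (tt N683 (iv D1313)) (tt N930 F10479) (tt N932 F10480) (tt N955 D1811))
theorem Q837 : ∀ i, i < 837 → P i := stepQ 836 Q836 (allL N836 (tt N955 (iv F1333)) (tt N684 F953) (tt N956 D1812) (tt N683 (iv D1314)))
theorem Q838 : ∀ i, i < 838 → P i := stepQ 837 Q837 (allL N837 (tt N879 (iv F10345)) (tt N837 F10336) (tt N685 (iv D1323)) (tt N957 D1823))
theorem Q839 : ∀ i, i < 839 → P i := stepQ 838 Q838 (allL N838 (tt N687 F963) (tt N931 (iv F1204)) (tt N686 (iv D1330)) (tt N843 (iv F970)))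
theorem Q840 : ∀ i, i < 840 → P i := stepQ 839 Q839 (allL N839 (tt N843 (iv F968)) (tt N839 F10368) (tt N842 (iv F967)) (tt N687 (iv D1332)))
theorem Q841 : ∀ i, i < 841 → P i := stepQ 840 Q840 (allL N840 (tt N865 (iv F1025)) (tt N958 D1837) (tt N688 (iv D1335)) (tt N927 F9833))
theorem Q842 : ∀ i, i < 842 → P i := stepQ 841 Q841 (allL N841 (tt N959 D1839) (tt N689 (iv D1336)) (tt N958 (iv F1351)) (tt N960 D1840))
theorem Q843 : ∀ i, i < 843 → P i := stepQ 842 Q842 (allL N842 (tt N690 F966) (tt N960 (iv F1352)) (tt N839 F967) (tt N689 (iv D1337)))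
theorem Q844 : ∀ i, i < 844 → P i := stepQ 843 Q843 (allL N843 (tt N839 F968) (tt N797 F969) (tt N690 (iv D1338)) (tt N838 F970))
theorem Q845 : ∀ i, i < 845 → P i := stepQ 844 Q844 (allL N844 (tt N691 (iv D1339)) (tt N816 F971) (tt N961 D1841) (tt N815 F972))
theorem Q846 : ∀ i, i < 846 → P i := stepQ 845 Q845 (allL N845 (tt N961 (iv F1353)) (tt N868 (iv F1028)) (tt N691 (iv D1340)) (tt N962 D1842))
theorem Q847 : ∀ i, i < 847 → P i := stepQ 846 Q846 (allL N846 (tt N963 D1864) (tt N692 (iv D1356)) (tt N834 (iv F10499)) (tt N964 D1865))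
theorem Q848 : ∀ i, i < 848 → P i := stepQ 847 Q847 (allL N847 (tt N693 F983) (tt N964 (iv F1372)) (tt N820 F984) (tt N692 (iv D1357)))
theorem Q849 : ∀ i, i < 849 → P i := stepQ 848 Q848 (allL N848 (tt N820 F985) (tt N965 D1866) (tt N693 (iv D1358)) (tt N711 (iv F10406)))
theorem Q850 : ∀ i, i < 850 → P i := stepQ 849 Q849 (allL N849 (tt N798 (iv F10461)) (tt N966 D1871) (tt N694 (iv D1362)) (tt N819 F10409))
theorem Q851 : ∀ i, i < 851 → P i := stepQ 850 Q850 (allL N850 (tt N967 D1873) (tt N695 (iv D1363)) (tt N966 (iv F1377)) (tt N885 (iv F1084)))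
theorem Q852 : ∀ i, i < 852 → P i := stepQ 851 Q851 (allL N851 (tt N930 F10482) (tt N878 F10072) (tt N700 (iv D1373)) (tt N968 D1886))
theorem Q853 : ∀ i, i < 853 → P i := stepQ 852 Q852 (allL N852 (tt N951 (iv F10365)) (tt N701 (iv D1377)) (tt N825 F9625) (tt N969 D1892))
theorem Q854 : ∀ i, i < 854 → P i := stepQ 853 Q853 (allL N853 (tt N762 F1001) (tt N969 (iv F1391)) (tt N761 F1002) (tt N701 (iv D1378)))
theorem Q855 : ∀ i, i < 855 → P i := stepQ 854 Q854 (allL N854 (tt N970 D1898) (tt N702 (iv D1382)) (tt N821 F10325) (tt N857 (iv F1008)))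
theorem Q856 : ∀ i, i < 856 → P i := stepQ 855 Q855 (allL N855 (tt N751 (iv F10353)) (tt N704 F1005) (tt N971 D1901) (tt N703 (iv D1384)))
theorem Q857 : ∀ i, i < 857 → P i := stepQ 856 Q856 (allL N856 (tt N714 F10352) (tt N706 F1007) (tt N972 D1904) (tt N705 (iv D1386)))
theorem Q858 : ∀ i, i < 858 → P i := stepQ 857 Q857 (allL N857 (tt N937 F10320) (tt N709 (iv D1388)) (tt N872 F10392) (tt N854 F1008))
theorem Q859 : ∀ i, i < 859 → P i := stepQ 858 Q858 (allL N858 (tt N973 D1913) (tt N711 (iv D1393)) (tt N712 F1011) (tt N965 F10290))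
theorem Q860 : ∀ i, i < 860 → P i := stepQ 859 Q859 (allL N859 (tt N712 (iv D1395)) (tt N970 (iv F10393)) (tt N973 (iv F1404)) (tt N864 (iv F1023)))
theorem Q861 : ∀ i, i < 861 → P i := stepQ 860 Q860 (allL N860 (tt N721 (iv F10422)) (tt N861 (iv F1014)) (tt N713 (iv D1398)) (tt N974 D1921))
theorem Q862 : ∀ i, i < 862 → P i := stepQ 861 Q861 (allL N861 (tt N972 F10323) (tt N860 F1014) (tt N714 (iv D1401)) (tt N975 D1926))
theorem Q863 : ∀ i, i < 863 → P i := stepQ 862 Q862 (allL N862 (tt N938 F10095) (tt N716 (iv D1406)) (tt N717 F1020) (tt N976 D1932))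
theorem Q864 : ∀ i, i < 864 → P i := stepQ 863 Q863 (allL N863 (tt N738 F1021) (tt N976 (iv F1419)) (tt N739 F1022) (tt N716 (iv D1407)))
theorem Q865 : ∀ i, i < 865 → P i := stepQ 864 Q864 (allL N864 (tt N717 (iv D1408)) (tt N937 F10285) (tt N938 F10096) (tt N859 F1023))
theorem Q866 : ∀ i, i < 866 → P i := stepQ 865 Q865 (allL N865 (tt N840 F1025) (tt N977 D1935) (tt N718 (iv D1410)) (tt N978 D1936))
theorem Q867 : ∀ i, i < 867 → P i := stepQ 866 Q866 (allL N866 (tt N979 D1937) (tt N719 (iv D1411)) (tt N977 (iv F1422)) (tt N886 (iv F1092)))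
theorem Q868 : ∀ i, i < 868 → P i := stepQ 867 Q867 (allL N867 (tt N720 (iv D1412)) (tt N749 F1026) (tt N980 D1938) (tt N748 F1027))
theorem Q869 : ∀ i, i < 869 → P i := stepQ 868 Q868 (allL N868 (tt N980 (iv F1424)) (tt N845 F1028) (tt N720 (iv D1413)) (tt N981 D1939))
theorem Q870 : ∀ i, i < 870 → P i := stepQ 869 Q869 (allL N869 (tt N974 (iv F10231)) (tt N871 (iv F1043)) (tt N982 D1957) (tt N721 (iv D1426)))
theorem Q871 : ∀ i, i < 871 → P i := stepQ 870 Q870 (allL N870 (tt N723 F1042) (tt N983 D1962) (tt N722 (iv D1430)) (tt N919 (iv F1161)))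
theorem Q872 : ∀ i, i < 872 → P i := stepQ 871 Q871 (allL N871 (tt N919 (iv F1160)) (tt N869 F1043) (tt N918 (iv F1159)) (tt N723 (iv D1431)))
theorem Q873 : ∀ i, i < 873 → P i := stepQ 872 Q872 (allL N872 (tt N809 (iv F10310)) (tt N725 (iv D1436)) (tt N857 (iv F10392)) (tt N808 (iv F10354)))
theorem Q874 : ∀ i, i < 874 → P i := stepQ 873 Q873 (allL N873 (tt N728 F1052) (tt N968 F10070) (tt N726 (iv D1442)) (tt N878 (iv F1057)))
theorem Q875 : ∀ i, i < 875 → P i := stepQ 874 Q874 (allL N874 (tt N773 F10062) (tt N727 (iv D1443)) (tt N925 (iv F1178)) (tt N984 D1979))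
theorem Q876 : ∀ i, i < 876 → P i := stepQ 875 Q875 (allL N875 (tt N729 F1053) (tt N984 (iv F1455)) (tt N877 (iv F1055)) (tt N727 (iv D1444)))
theorem Q877 : ∀ i, i < 877 → P i := stepQ 876 Q876 (allL N876 (tt N731 F9583) (tt N728 (iv D1445)) (tt N731 F1054) (tt N954 F9584))
theorem Q878 : ∀ i, i < 878 → P i := stepQ 877 Q877 (allL N877 (tt N878 (iv F1056)) (tt N954 F9582) (tt N875 F1055) (tt N728 (iv D1446)))
theorem Q879 : ∀ i, i < 879 → P i := stepQ 878 Q878 (allL N878 (tt N877 F1056) (tt N851 (iv F10072)) (tt N729 (iv D1447)) (tt N873 F1057))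
theorem Q880 : ∀ i, i < 880 → P i := stepQ 879 Q879 (allL N879 (tt N837 F10345) (tt N956 (iv F1334)) (tt N730 (iv D1450)) (tt N982 F10346))
theorem Q881 : ∀ i, i < 881 → P i := stepQ 880 Q880 (allL N880 (tt N732 (iv D1473)) (tt N985 D2015) (tt N763 F10165) (tt N986 D2016))
theorem Q882 : ∀ i, i < 882 → P i := stepQ 881 Q881 (allL N881 (tt N986 (iv F1485)) (tt N733 F1078) (tt N885 (iv F1083)) (tt N732 (iv D1474)))
theorem Q883 : ∀ i, i < 883 → P i := stepQ 882 Q882 (allL N882 (tt N976 (iv F10481)) (tt N734 (iv D1479)) (tt N735 F1081) (tt N938 (iv F10386)))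
theorem Q884 : ∀ i, i < 884 → P i := stepQ 883 Q883 (allL N883 (tt N735 (iv D1481)) (tt N987 D2027) (tt N976 F10289) (tt N988 D2028))
theorem Q885 : ∀ i, i < 885 → P i := stepQ 884 Q884 (allL N884 (tt N988 (iv F1495)) (tt N736 F1082) (tt N965 (iv F1373)) (tt N735 (iv D1482)))
theorem Q886 : ∀ i, i < 886 → P i := stepQ 885 Q885 (allL N885 (tt N989 D2029) (tt N737 (iv D1483)) (tt N881 F1083) (tt N850 F1084))
theorem Q887 : ∀ i, i < 887 → P i := stepQ 886 Q886 (allL N886 (tt N990 D2038) (tt N739 (iv D1492)) (tt N987 F10317) (tt N866 F1092))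
theorem Q888 : ∀ i, i < 888 → P i := stepQ 887 Q887 (allL N887 (tt N740 (iv D1493)) (tt N990 (iv F1504)) (tt N903 F10232) (tt N942 (iv F10264)))
theorem Q889 : ∀ i, i < 889 → P i := stepQ 888 Q888 (allL N888 (tt N903 F10176) (tt N743 F1093) (tt N740 (iv D1494)) (tt N920 F9793))
theorem Q890 : ∀ i, i < 890 → P i := stepQ 889 Q889 (allL N889 (tt N905 F10312) (tt N920 F9931) (tt N804 (iv F10265)) (tt N743 (iv D1497)))
theorem Q891 : ∀ i, i < 891 → P i := stepQ 890 Q890 (allL N890 (tt N901 F10318) (tt N745 F1098) (tt N991 D2055) (tt N744 (iv D1503)))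
theorem Q892 : ∀ i, i < 892 → P i := stepQ 891 Q891 (allL N891 (tt N747 F1100) (tt N898 (iv F10440)) (tt N992 D2062) (tt N746 (iv D1507)))
theorem Q893 : ∀ i, i < 893 → P i := stepQ 892 Q892 (allL N892 (tt N992 (iv F1521)) (tt N892 F10372) (tt N747 (iv D1508)) (tt N993 D2064))
theorem Q894 : ∀ i, i < 894 → P i := stepQ 893 Q893 (allL N893 (tt N750 F1103) (tt N959 F10474) (tt N749 (iv D1511)) (tt N994 D2068))
theorem Q895 : ∀ i, i < 895 → P i := stepQ 894 Q894 (allL N894 (tt N994 (iv F1525)) (tt N793 F10484) (tt N995 D2069) (tt N750 (iv D1512)))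
theorem Q896 : ∀ i, i < 896 → P i := stepQ 895 Q895 (allL N895 (tt N971 F10303) (tt N897 (iv F1112)) (tt N751 (iv D1521)) (tt N996 D2082))
theorem Q897 : ∀ i, i < 897 → P i := stepQ 896 Q896 (allL N896 (tt N753 F1111) (tt N807 F10282) (tt N983 F10156) (tt N752 (iv D1523)))
theorem Q898 : ∀ i, i < 898 → P i := stepQ 897 Q897 (allL N897 (tt N983 F10154) (tt N895 F1112) (tt N753 (iv D1524)) (tt N997 D2087))
theorem Q899 : ∀ i, i < 899 → P i := stepQ 898 Q898 (allL N898 (tt N758 F1118) (tt N891 F10440) (tt N950 (iv F10504)) (tt N756 (iv D1531)))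
theorem Q900 : ∀ i, i < 900 → P i := stepQ 899 Q899 (allL N899 (tt N759 F1119) (tt N788 F10381) (tt N757 (iv D1532)) (tt N830 F10248))
theorem Q901 : ∀ i, i < 901 → P i := stepQ 900 Q900 (allL N900 (tt N950 (iv F10503)) (tt N998 D2099) (tt N758 (iv D1533)) (tt N949 (iv F10505)))
theorem Q902 : ∀ i, i < 902 → P i := stepQ 901 Q901 (allL N901 (tt N890 (iv F10318)) (tt N761 F1121) (tt N999 D2104) (tt N760 (iv D1536)))
theorem Q903 : ∀ i, i < 903 → P i := stepQ 902 Q902 (allL N902 (tt N998 (iv F9830)) (tt N762 (iv D1537)) (tt N998 (iv F1561)) (tt N822 F9886))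
theorem Q904 : ∀ i, i < 904 → P i := stepQ 903 Q903 (allL N903 (tt N888 (iv F10176)) (tt N763 (iv D1544)) (tt N887 (iv F10232)) (tt N910 (iv F1139)))
theorem Q905 : ∀ i, i < 905 → P i := stepQ 904 Q904 (allL N904 (tt N779 F9956) (tt N907 (iv F1133)) (tt N779 F9957) (tt N764 (iv D1549)))
theorem Q906 : ∀ i, i < 906 → P i := stepQ 905 Q905 (allL N905 (tt N889 (iv F10312)) (tt N766 F1131) (tt N936 (iv F10378)) (tt N765 (iv D1552)))
theorem Q907 : ∀ i, i < 907 → P i := stepQ 906 Q906 (allL N906 (tt N767 F1132) (tt N1000 D2126) (tt N766 (iv D1553)) (tt N1001 D2127))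
theorem Q908 : ∀ i, i < 908 → P i := stepQ 907 Q907 (allL N907 (tt N1001 (iv F1578)) (tt N904 F1133) (tt N1002 D2128) (tt N767 (iv D1554)))
theorem Q909 : ∀ i, i < 909 → P i := stepQ 908 Q908 (allL N908 (tt N769 (iv D1559)) (tt N819 (iv F10293)) (tt N771 F1137) (tt N966 (iv F10064)))
theorem Q910 : ∀ i, i < 910 → P i := stepQ 909 Q909 (allL N909 (tt N966 F10123) (tt N770 F1138) (tt N967 (iv F10209)) (tt N769 (iv D1560)))
theorem Q911 : ∀ i, i < 911 → P i := stepQ 910 Q910 (allL N910 (tt N920 (iv F10211)) (tt N771 (iv D1561)) (tt N817 (iv F10212)) (tt N903 F1139))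
theorem Q912 : ∀ i, i < 912 → P i := stepQ 911 Q911 (allL N911 (tt N925 (iv F10146)) (tt N772 (iv D1563)) (tt N773 F1141) (tt N1003 D2141))
theorem Q913 : ∀ i, i < 913 → P i := stepQ 912 Q912 (allL N912 (tt N787 F1142) (tt N1003 (iv F1589)) (tt N912 F9531) (tt N772 (iv D1564)))
theorem Q914 : ∀ i, i < 914 → P i := stepQ 913 Q913 (allL N913 (tt N984 F10061) (tt N774 F1143) (tt N1004 D2144) (tt N773 (iv D1566)))
theorem Q915 : ∀ i, i < 915 → P i := stepQ 914 Q914 (allL N914 (tt N777 F1144) (tt N921 (iv F10448)) (tt N776 (iv D1567)) (tt N1005 D2146))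
theorem Q916 : ∀ i, i < 916 → P i := stepQ 915 Q915 (allL N915 (tt N1005 (iv F1596)) (tt N791 F1145) (tt N1006 D2147) (tt N777 (iv D1568)))
theorem Q917 : ∀ i, i < 917 → P i := stepQ 916 Q916 (allL N916 (tt N819 F10348) (tt N1007 D2175) (tt N780 (iv D1588)) (tt N798 (iv F10462)))
theorem Q918 : ∀ i, i < 918 → P i := stepQ 917 Q917 (allL N917 (tt N1008 D2177) (tt N781 (iv D1589)) (tt N1007 (iv F1619)) (tt N1009 D2178))
theorem Q919 : ∀ i, i < 919 → P i := stepQ 918 Q918 (allL N918 (tt N782 F1158) (tt N1009 (iv F1620)) (tt N871 F1159) (tt N781 (iv D1590)))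
theorem Q920 : ∀ i, i < 920 → P i := stepQ 919 Q919 (allL N919 (tt N871 F1160) (tt N1002 (iv F9958)) (tt N782 (iv D1591)) (tt N870 F1161))
theorem Q921 : ∀ i, i < 921 → P i := stepQ 920 Q920 (allL N920 (tt N910 F10211) (tt N889 (iv F9931)) (tt N785 (iv D1601)) (tt N888 (iv F9793)))
theorem Q922 : ∀ i, i < 922 → P i := stepQ 921 Q921 (allL N921 (tt N786 (iv D1604)) (tt N914 F10448) (tt N788 F1169) (tt N1010 D2196))
theorem Q923 : ∀ i, i < 923 → P i := stepQ 922 Q922 (allL N922 (tt N1010 (iv F1635)) (tt N787 F1170) (tt N1011 D2197) (tt N786 (iv D1605)))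
theorem Q924 : ∀ i, i < 924 → P i := stepQ 923 Q923 (allL N923 (tt N789 F1175) (tt N830 F1176) (tt N945 (iv F10361)) (tt N788 (iv D1608)))
theorem Q925 : ∀ i, i < 925 → P i := stepQ 924 Q924 (allL N924 (tt N945 F10426) (tt N805 F10427) (tt N789 (iv D1609)) (tt N941 F10428))
theorem Q926 : ∀ i, i < 926 → P i := stepQ 925 Q925 (allL N925 (tt N911 F10146) (tt N790 (iv D1610)) (tt N874 F1178) (tt N1012 D2203))
theorem Q927 : ∀ i, i < 927 → P i := stepQ 926 Q926 (allL N926 (tt N791 F1179) (tt N1012 (iv F1641)) (tt N978 F9760) (tt N790 (iv D1611)))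
theorem Q928 : ∀ i, i < 928 → P i := stepQ 927 Q927 (allL N927 (tt N978 F9759) (tt N1013 D2204) (tt N791 (iv D1612)) (tt N840 (iv F9833)))
theorem Q929 : ∀ i, i < 929 → P i := stepQ 928 Q928 (allL N928 (tt N934 (iv F10213)) (tt N995 (iv F10443)) (tt N792 (iv D1635)) (tt N953 F10127))
theorem Q930 : ∀ i, i < 930 → P i := stepQ 929 Q929 (allL N929 (tt N797 F1203) (tt N1014 D2239) (tt N795 (iv D1641)) (tt N1015 D2240))
theorem Q931 : ∀ i, i < 931 → P i := stepQ 930 Q930 (allL N930 (tt N851 (iv F10482)) (tt N835 (iv F10479)) (tt N796 (iv D1642)) (tt N1016 D2242))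
theorem Q932 : ∀ i, i < 932 → P i := stepQ 931 Q931 (allL N931 (tt N1015 (iv F1668)) (tt N838 F1204) (tt N968 (iv F10451)) (tt N797 (iv D1643)))
theorem Q933 : ∀ i, i < 933 → P i := stepQ 932 Q932 (allL N932 (tt N827 (iv F10391)) (tt N798 (iv D1647)) (tt N835 (iv F10480)) (tt N1007 F10273))
theorem Q934 : ∀ i, i < 934 → P i := stepQ 933 Q933 (allL N933 (tt N939 (iv F1262)) (tt N800 F1219) (tt N1017 D2268) (tt N799 (iv D1662)))
theorem Q935 : ∀ i, i < 935 → P i := stepQ 934 Q934 (allL N934 (tt N928 F10213) (tt N1018 D2304) (tt N801 (iv D1690)) (tt N1019 D2305))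
theorem Q936 : ∀ i, i < 936 → P i := stepQ 935 Q935 (allL N935 (tt N825 F10360) (tt N802 (iv D1694)) (tt N951 (iv F1326)) (tt N1020 D2311))
theorem Q937 : ∀ i, i < 937 → P i := stepQ 936 Q936 (allL N936 (tt N804 F1246) (tt N1020 (iv F1721)) (tt N905 F10378) (tt N802 (iv D1695)))
theorem Q938 : ∀ i, i < 938 → P i := stepQ 937 Q937 (allL N937 (tt N857 (iv F10320)) (tt N864 (iv F10285)) (tt N809 (iv D1712)) (tt N970 (iv F10395)))
theorem Q939 : ∀ i, i < 939 → P i := stepQ 938 Q938 (allL N938 (tt N862 (iv F10095)) (tt N810 (iv D1713)) (tt N864 (iv F10096)) (tt N882 F10386))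
theorem Q940 : ∀ i, i < 940 → P i := stepQ 939 Q939 (allL N939 (tt N933 F1262) (tt N812 F1263) (tt N1021 D2337) (tt N811 (iv D1715)))
theorem Q941 : ∀ i, i < 941 → P i := stepQ 940 Q940 (allL N940 (tt N813 F1264) (tt N1022 D2338) (tt N812 (iv D1716)) (tt N943 (iv F1302)))
theorem Q942 : ∀ i, i < 942 → P i := stepQ 941 Q941 (allL N941 (tt N1023 D2339) (tt N814 (iv D1717)) (tt N1024 D2340) (tt N924 (iv F10428)))
theorem Q943 : ∀ i, i < 943 → P i := stepQ 942 Q942 (allL N942 (tt N818 F1282) (tt N979 (iv F10296)) (tt N816 (iv D1739)) (tt N887 F10264))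
theorem Q944 : ∀ i, i < 944 → P i := stepQ 943 Q943 (allL N943 (tt N821 (iv D1772)) (tt N1025 D2416) (tt N970 (iv F10394)) (tt N940 F1302))
theorem Q945 : ∀ i, i < 945 → P i := stepQ 944 Q944 (allL N944 (tt N822 (iv D1785)) (tt N949 F10433) (tt N823 F1312) (tt N998 (iv F9815)))
theorem Q946 : ∀ i, i < 946 → P i := stepQ 945 Q945 (allL N945 (tt N924 (iv F10426)) (tt N823 (iv D1788)) (tt N923 F10361) (tt N1023 (iv F1745)))
theorem Q947 : ∀ i, i < 947 → P i := stepQ 946 Q946 (allL N946 (tt N824 F1317) (tt N1023 (iv F1744)) (tt N946 F9961) (tt N823 (iv D1789)))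
theorem Q948 : ∀ i, i < 948 → P i := stepQ 947 Q947 (allL N947 (tt N1020 (iv F10294)) (tt N826 F1321) (tt N1026 D2443) (tt N825 (iv D1795)))
theorem Q949 : ∀ i, i < 949 → P i := stepQ 948 Q948 (allL N948 (tt N1007 F10272) (tt N828 F1323) (tt N1008 (iv F10390)) (tt N827 (iv D1797)))
theorem Q950 : ∀ i, i < 950 → P i := stepQ 949 Q949 (allL N949 (tt N831 F1324) (tt N944 (iv F10433)) (tt N830 (iv D1798)) (tt N900 F10505))
theorem Q951 : ∀ i, i < 951 → P i := stepQ 950 Q950 (allL N950 (tt N900 F10503) (tt N833 F1325) (tt N898 F10504) (tt N831 (iv D1799)))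
theorem Q952 : ∀ i, i < 952 → P i := stepQ 951 Q951 (allL N951 (tt N852 F10365) (tt N832 (iv D1801)) (tt N935 F1326) (tt N1027 D2452))
theorem Q953 : ∀ i, i < 953 → P i := stepQ 952 Q952 (allL N952 (tt N833 F1327) (tt N1027 (iv F1836)) (tt N1019 (iv F1718)) (tt N832 (iv D1802)))
theorem Q954 : ∀ i, i < 954 → P i := stepQ 953 Q953 (allL N953 (tt N1019 (iv F1717)) (tt N992 (iv F10431)) (tt N833 (iv D1803)) (tt N928 (iv F10127)))
theorem Q955 : ∀ i, i < 955 → P i := stepQ 954 Q954 (allL N954 (tt N834 (iv D1809)) (tt N877 (iv F9582)) (tt N963 (iv F10498)) (tt N876 (iv F9584)))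
theorem Q956 : ∀ i, i < 956 → P i := stepQ 955 Q955 (allL N955 (tt N836 F1333) (tt N1016 F10453) (tt N1028 D2463) (tt N835 (iv D1811)))
theorem Q957 : ∀ i, i < 957 → P i := stepQ 956 Q956 (allL N956 (tt N1028 (iv F1842)) (tt N879 F1334) (tt N836 (iv D1812)) (tt N1029 D2464))
theorem Q958 : ∀ i, i < 958 → P i := stepQ 957 Q957 (allL N957 (tt N982 (iv F1438)) (tt N957 F10335) (tt N974 F10238) (tt N837 (iv D1823)))
theorem Q959 : ∀ i, i < 959 → P i := stepQ 958 Q958 (allL N958 (tt N1030 D2498) (tt N840 (iv D1837)) (tt N841 F1351) (tt N1013 F9795))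
theorem Q960 : ∀ i, i < 960 → P i := stepQ 959 Q959 (allL N959 (tt N841 (iv D1839)) (tt N893 (iv F10474)) (tt N1030 (iv F1864)) (tt N1031 D2502))
theorem Q961 : ∀ i, i < 961 → P i := stepQ 960 Q960 (allL N960 (tt N1031 (iv F1870)) (tt N842 F1352) (tt N960 F10416) (tt N841 (iv D1840)))
theorem Q962 : ∀ i, i < 962 → P i := stepQ 961 Q961 (allL N961 (tt N845 F1353) (tt N1032 D2504) (tt N844 (iv D1841)) (tt N1033 D2505))
theorem Q963 : ∀ i, i < 963 → P i := stepQ 962 Q962 (allL N962 (tt N1033 (iv F1874)) (tt N981 (iv F1425)) (tt N1034 D2506) (tt N845 (iv D1842)))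
theorem Q964 : ∀ i, i < 964 → P i := stepQ 963 Q963 (allL N963 (tt N846 (iv D1864)) (tt N1035 D2536) (tt N954 F10498) (tt N1036 D2537))
theorem Q965 : ∀ i, i < 965 → P i := stepQ 964 Q964 (allL N964 (tt N1036 (iv F1899)) (tt N847 F1372) (tt N964 F10255) (tt N846 (iv D1865)))
theorem Q966 : ∀ i, i < 966 → P i := stepQ 965 Q965 (allL N965 (tt N1037 D2538) (tt N848 (iv D1866)) (tt N884 F1373) (tt N858 (iv F10290)))
theorem Q967 : ∀ i, i < 967 → P i := stepQ 966 Q966 (allL N966 (tt N909 (iv F10123)) (tt N849 (iv D1871)) (tt N850 F1377) (tt N908 F10064))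
theorem Q968 : ∀ i, i < 968 → P i := stepQ 967 Q967 (allL N967 (tt N850 (iv D1873)) (tt N1004 (iv F10311)) (tt N909 F10209) (tt N989 (iv F1497)))
theorem Q969 : ∀ i, i < 969 → P i := stepQ 968 Q968 (allL N968 (tt N1016 F10450) (tt N873 (iv F10070)) (tt N931 F10451) (tt N851 (iv D1886)))
theorem Q970 : ∀ i, i < 970 → P i := stepQ 969 Q969 (allL N969 (tt N1027 F10366) (tt N853 F1391) (tt N1038 D2571) (tt N852 (iv D1892)))
theorem Q971 : ∀ i, i < 971 → P i := stepQ 970 Q970 (allL N970 (tt N854 (iv D1898)) (tt N859 F10393) (tt N943 F10394) (tt N937 F10395))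
theorem Q972 : ∀ i, i < 972 → P i := stepQ 971 Q971 (allL N971 (tt N895 (iv F10303)) (tt N972 (iv F1399)) (tt N855 (iv D1901)) (tt N1039 D2584))
theorem Q973 : ∀ i, i < 973 → P i := stepQ 972 Q972 (allL N972 (tt N861 (iv F10323)) (tt N971 F1399) (tt N856 (iv D1904)) (tt N1040 D2589))
theorem Q974 : ∀ i, i < 974 → P i := stepQ 973 Q973 (allL N973 (tt N858 (iv D1913)) (tt N1041 D2599) (tt N859 F1404) (tt N1037 (iv F10288)))
theorem Q975 : ∀ i, i < 975 → P i := stepQ 974 Q974 (allL N974 (tt N869 F10231) (tt N975 (iv F1413)) (tt N957 (iv F10238)) (tt N860 (iv D1921)))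
theorem Q976 : ∀ i, i < 976 → P i := stepQ 975 Q975 (allL N975 (tt N1040 F10350) (tt N974 F1413) (tt N975 F10351) (tt N861 (iv D1926)))
theorem Q977 : ∀ i, i < 977 → P i := stepQ 976 Q976 (allL N976 (tt N882 F10481) (tt N863 F1419) (tt N883 (iv F10289)) (tt N862 (iv D1932)))
theorem Q978 : ∀ i, i < 978 → P i := stepQ 977 Q977 (allL N977 (tt N1032 (iv F10215)) (tt N865 (iv D1935)) (tt N866 F1422) (tt N1042 D2630))
theorem Q979 : ∀ i, i < 979 → P i := stepQ 978 Q978 (allL N978 (tt N927 (iv F9759)) (tt N1042 (iv F1971)) (tt N926 (iv F9760)) (tt N865 (iv D1936)))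
theorem Q980 : ∀ i, i < 980 → P i := stepQ 979 Q979 (allL N979 (tt N866 (iv D1937)) (tt N942 F10296) (tt N1032 F10297) (tt N990 (iv F1505)))
theorem Q981 : ∀ i, i < 981 → P i := stepQ 980 Q980 (allL N980 (tt N868 F1424) (tt N1030 F10369) (tt N867 (iv D1938)) (tt N1006 (iv F10476)))
theorem Q982 : ∀ i, i < 982 → P i := stepQ 981 Q981 (allL N981 (tt N1006 (iv F10475)) (tt N962 F1425) (tt N1005 F10465) (tt N868 (iv D1939)))
theorem Q983 : ∀ i, i < 983 → P i := stepQ 982 Q982 (allL N982 (tt N957 F1438) (tt N1029 (iv F10460)) (tt N869 (iv D1957)) (tt N879 (iv F10346)))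
theorem Q984 : ∀ i, i < 984 → P i := stepQ 983 Q983 (allL N983 (tt N897 (iv F10154)) (tt N870 (iv D1962)) (tt N896 (iv F10156)) (tt N1002 F10044))
theorem Q985 : ∀ i, i < 985 → P i := stepQ 984 Q984 (allL N984 (tt N913 (iv F10061)) (tt N875 F1455) (tt N1035 F10487) (tt N874 (iv D1979)))
theorem Q986 : ∀ i, i < 986 → P i := stepQ 985 Q985 (allL N985 (tt N987 (iv F1494)) (tt N880 (iv D2015)) (tt N990 F10149) (tt N1043 D2732))
theorem Q987 : ∀ i, i < 987 → P i := stepQ 986 Q986 (allL N986 (tt N881 F1485) (tt N1043 (iv F2045)) (tt N989 (iv F1496)) (tt N880 (iv D2016)))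
theorem Q988 : ∀ i, i < 988 → P i := stepQ 987 Q987 (allL N987 (tt N985 F1494) (tt N883 (iv D2027)) (tt N886 (iv F10317)) (tt N1044 D2746))
theorem Q989 : ∀ i, i < 989 → P i := stepQ 988 Q988 (allL N988 (tt N884 F1495) (tt N1044 (iv F2053)) (tt N1037 (iv F1900)) (tt N883 (iv D2028)))
theorem Q990 : ∀ i, i < 990 → P i := stepQ 989 Q989 (allL N989 (tt N885 (iv D2029)) (tt N1045 D2747) (tt N986 F1496) (tt N967 F1497))
theorem Q991 : ∀ i, i < 991 → P i := stepQ 990 Q990 (allL N990 (tt N886 (iv D2038)) (tt N887 F1504) (tt N985 (iv F10149)) (tt N979 F1505))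
theorem Q992 : ∀ i, i < 992 → P i := stepQ 991 Q991 (allL N991 (tt N999 F10414) (tt N991 F10415) (tt N890 (iv D2055)) (tt N1046 D2780))
theorem Q993 : ∀ i, i < 993 → P i := stepQ 992 Q992 (allL N992 (tt N892 F1521) (tt N953 F10431) (tt N891 (iv D2062)) (tt N995 (iv F1529)))
theorem Q994 : ∀ i, i < 994 → P i := stepQ 993 Q993 (allL N993 (tt N995 (iv F1527)) (tt N993 F10262) (tt N994 (iv F1526)) (tt N892 (iv D2064)))
theorem Q995 : ∀ i, i < 995 → P i := stepQ 994 Q994 (allL N994 (tt N894 F1525) (tt N1031 F10444) (tt N993 F1526) (tt N893 (iv D2068)))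
theorem Q996 : ∀ i, i < 996 → P i := stepQ 995 Q995 (allL N995 (tt N993 F1527) (tt N928 F10443) (tt N894 (iv D2069)) (tt N992 F1529))
theorem Q997 : ∀ i, i < 997 → P i := stepQ 996 Q996 (allL N996 (tt N1039 (iv F10319)) (tt N997 (iv F1549)) (tt N1047 D2810) (tt N895 (iv D2082)))
theorem Q998 : ∀ i, i < 998 → P i := stepQ 997 Q997 (allL N997 (tt N1002 (iv F1580)) (tt N996 F1549) (tt N1001 (iv F1579)) (tt N897 (iv D2087)))
theorem Q999 : ∀ i, i < 999 → P i := stepQ 998 Q998 (allL N998 (tt N902 F9830) (tt N900 (iv D2099)) (tt N902 F1561) (tt N944 F9815))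
theorem Q1000 : ∀ i, i < 1000 → P i := stepQ 999 Q999 (allL N999 (tt N991 (iv F10414)) (tt N1038 (iv F1927)) (tt N901 (iv D2104)) (tt N1047 (iv F10439)))
theorem Q1001 : ∀ i, i < 1001 → P i := stepQ 1000 Q1000 (allL N1000 (tt N1026 (iv F10435)) (tt N906 (iv D2126)) (tt N1020 (iv F10437)) (tt N1048 D2867))
theorem Q1002 : ∀ i, i < 1002 → P i := stepQ 1001 Q1001 (allL N1001 (tt N907 F1578) (tt N1048 (iv F2149)) (tt N997 F1579) (tt N906 (iv D2127)))
theorem Q1003 : ∀ i, i < 1003 → P i := stepQ 1002 Q1002 (allL N1002 (tt N997 F1580) (tt N919 F9958) (tt N907 (iv D2128)) (tt N983 (iv F10044)))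
theorem Q1004 : ∀ i, i < 1004 → P i := stepQ 1003 Q1003 (allL N1003 (tt N1012 (iv F10227)) (tt N912 F1589) (tt N1049 D2885) (tt N911 (iv D2141)))
theorem Q1005 : ∀ i, i < 1005 → P i := stepQ 1004 Q1004 (allL N1004 (tt N1035 (iv F10434)) (tt N967 F10311) (tt N913 (iv D2144)) (tt N1045 (iv F10358)))
theorem Q1006 : ∀ i, i < 1006 → P i := stepQ 1005 Q1005 (allL N1005 (tt N915 F1596) (tt N1010 (iv F10506)) (tt N981 (iv F10465)) (tt N914 (iv D2146)))
theorem Q1007 : ∀ i, i < 1007 → P i := stepQ 1006 Q1006 (allL N1006 (tt N981 F10475) (tt N1050 D2891) (tt N915 (iv D2147)) (tt N980 F10476))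
theorem Q1008 : ∀ i, i < 1008 → P i := stepQ 1007 Q1007 (allL N1007 (tt N948 (iv F10272)) (tt N916 (iv D2175)) (tt N917 F1619) (tt N932 (iv F10273)))
theorem Q1009 : ∀ i, i < 1009 → P i := stepQ 1008 Q1008 (allL N1008 (tt N917 (iv D2177)) (tt N1026 (iv F10436)) (tt N948 F10390) (tt N1051 D2933))
theorem Q1010 : ∀ i, i < 1010 → P i := stepQ 1009 Q1009 (allL N1009 (tt N1051 (iv F2205)) (tt N918 F1620) (tt N1029 F10463) (tt N917 (iv D2178)))
theorem Q1011 : ∀ i, i < 1011 → P i := stepQ 1010 Q1010 (allL N1010 (tt N922 F1635) (tt N1005 F10506) (tt N1052 D2953) (tt N921 (iv D2196)))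
theorem Q1012 : ∀ i, i < 1012 → P i := stepQ 1011 Q1011 (allL N1011 (tt N1052 (iv F2220)) (tt N1011 F9466) (tt N922 (iv D2197)) (tt N1053 D2955))
theorem Q1013 : ∀ i, i < 1013 → P i := stepQ 1012 Q1012 (allL N1012 (tt N1003 F10227) (tt N926 F1641) (tt N1054 D2963) (tt N925 (iv D2203)))
theorem Q1014 : ∀ i, i < 1014 → P i := stepQ 1013 Q1013 (allL N1013 (tt N1050 (iv F10370)) (tt N927 (iv D2204)) (tt N1050 (iv F2170)) (tt N958 (iv F9795)))
theorem Q1015 : ∀ i, i < 1015 → P i := stepQ 1014 Q1014 (allL N1014 (tt N1014 F10337) (tt N929 (iv D2239)) (tt N1018 (iv F10315)) (tt N1055 D3010))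
theorem Q1016 : ∀ i, i < 1016 → P i := stepQ 1015 Q1015 (allL N1015 (tt N931 F1668) (tt N1055 (iv F2264)) (tt N1016 (iv F1670)) (tt N929 (iv D2240)))
theorem Q1017 : ∀ i, i < 1017 → P i := stepQ 1016 Q1016 (allL N1016 (tt N968 (iv F10450)) (tt N955 (iv F10453)) (tt N1015 F1670) (tt N930 (iv D2242)))
theorem Q1018 : ∀ i, i < 1018 → P i := stepQ 1017 Q1017 (allL N1017 (tt N1021 (iv F1743)) (tt N1024 (iv F1746)) (tt N933 (iv D2268)) (tt N1034 F10488))
theorem Q1019 : ∀ i, i < 1019 → P i := stepQ 1018 Q1018 (allL N1018 (tt N1018 F10338) (tt N934 (iv D2304)) (tt N1014 F10315) (tt N1056 D3092))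
theorem Q1020 : ∀ i, i < 1020 → P i := stepQ 1019 Q1019 (allL N1019 (tt N953 F1717) (tt N1056 (iv F2331)) (tt N952 F1718) (tt N934 (iv D2305)))
theorem Q1021 : ∀ i, i < 1021 → P i := stepQ 1020 Q1020 (allL N1020 (tt N947 F10294) (tt N936 F1721) (tt N1000 F10437) (tt N935 (iv D2311)))
theorem Q1022 : ∀ i, i < 1022 → P i := stepQ 1021 Q1021 (allL N1021 (tt N1017 F1743) (tt N1057 D3135) (tt N939 (iv D2337)) (tt N1058 D3136))
theorem Q1023 : ∀ i, i < 1023 → P i := stepQ 1022 Q1022 (allL N1022 (tt N1022 F10115) (tt N940 (iv D2338)) (tt N1057 (iv F2364)) (tt N1025 (iv F1810)))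
theorem Q1024 : ∀ i, i < 1024 → P i := stepQ 1023 Q1023 (allL N1023 (tt N941 (iv D2339)) (tt N946 F1744) (tt N1053 (iv F10490)) (tt N945 F1745))
theorem Q1025 : ∀ i, i < 1025 → P i := stepQ 1024 Q1024 (allL N1024 (tt N1053 (iv F10304)) (tt N1017 F1746) (tt N941 (iv D2340)) (tt N1052 (iv F10306)))
theorem Q1026 : ∀ i, i < 1026 → P i := stepQ 1025 Q1025 (allL N1025 (tt N1025 F10196) (tt N943 (iv D2416)) (tt N1041 (iv F10205)) (tt N1022 F1810))
theorem Q1027 : ∀ i, i < 1027 → P i := stepQ 1026 Q1026 (allL N1026 (tt N1000 F10435) (tt N1008 F10436) (tt N947 (iv D2443)) (tt N1059 D3272))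
theorem Q1028 : ∀ i, i < 1028 → P i := stepQ 1027 Q1027 (allL N1027 (tt N969 (iv F10366)) (tt N952 F1836) (tt N1060 D3286) (tt N951 (iv D2452)))
theorem Q1029 : ∀ i, i < 1029 → P i := stepQ 1028 Q1028 (allL N1028 (tt N956 F1842) (tt N1061 D3301) (tt N955 (iv D2463)) (tt N1062 D3302))
theorem Q1030 : ∀ i, i < 1030 → P i := stepQ 1029 Q1029 (allL N1029 (tt N1062 (iv F2505)) (tt N982 F10460) (tt N1009 (iv F10463)) (tt N956 (iv D2464)))
theorem Q1031 : ∀ i, i < 1031 → P i := stepQ 1030 Q1030 (allL N1030 (tt N958 (iv D2498)) (tt N980 (iv F10369)) (tt N959 F1864) (tt N1050 (iv F10371)))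
theorem Q1032 : ∀ i, i < 1032 → P i := stepQ 1031 Q1031 (allL N1031 (tt N960 F1870) (tt N994 (iv F10444)) (tt N1031 F10417) (tt N959 (iv D2502)))
theorem Q1033 : ∀ i, i < 1033 → P i := stepQ 1032 Q1032 (allL N1032 (tt N977 F10215) (tt N961 (iv D2504)) (tt N979 (iv F10297)) (tt N1063 D3356))
theorem Q1034 : ∀ i, i < 1034 → P i := stepQ 1033 Q1033 (allL N1033 (tt N962 F1874) (tt N1063 (iv F2550)) (tt N1058 (iv F10408)) (tt N961 (iv D2505)))
theorem Q1035 : ∀ i, i < 1035 → P i := stepQ 1034 Q1034 (allL N1034 (tt N1058 F10430) (tt N1052 (iv F10491)) (tt N962 (iv D2506)) (tt N1017 (iv F10488)))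
theorem Q1036 : ∀ i, i < 1036 → P i := stepQ 1035 Q1035 (allL N1035 (tt N1004 F10434) (tt N963 (iv D2536)) (tt N984 (iv F10487)) (tt N1064 D3398))
theorem Q1037 : ∀ i, i < 1037 → P i := stepQ 1036 Q1036 (allL N1036 (tt N964 F1899) (tt N1064 (iv F2582)) (tt N1036 F10256) (tt N963 (iv D2537)))
theorem Q1038 : ∀ i, i < 1038 → P i := stepQ 1037 Q1037 (allL N1037 (tt N965 (iv D2538)) (tt N1065 D3399) (tt N988 F1900) (tt N973 F10288))
theorem Q1039 : ∀ i, i < 1039 → P i := stepQ 1038 Q1038 (allL N1038 (tt N1060 (iv F10411)) (tt N999 F1927) (tt N969 (iv D2571)) (tt N1066 D3438))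
theorem Q1040 : ∀ i, i < 1040 → P i := stepQ 1039 Q1039 (allL N1039 (tt N996 F10319) (tt N1040 (iv F1942)) (tt N1046 (iv F10343)) (tt N971 (iv D2584)))
theorem Q1041 : ∀ i, i < 1041 → P i := stepQ 1040 Q1040 (allL N1040 (tt N975 (iv F10350)) (tt N1039 F1942) (tt N1040 F10324) (tt N972 (iv D2589)))
theorem Q1042 : ∀ i, i < 1042 → P i := stepQ 1041 Q1041 (allL N1041 (tt N1041 F9391) (tt N973 (iv D2599)) (tt N1025 F10205) (tt N1065 (iv F10307)))
theorem Q1043 : ∀ i, i < 1043 → P i := stepQ 1042 Q1042 (allL N1042 (tt N1063 (iv F10298)) (tt N978 F1971) (tt N1067 D3513) (tt N977 (iv D2630)))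
theorem Q1044 : ∀ i, i < 1044 → P i := stepQ 1043 Q1043 (allL N1043 (tt N1044 (iv F2052)) (tt N986 F2045) (tt N1068 D3645) (tt N985 (iv D2732)))
theorem Q1045 : ∀ i, i < 1045 → P i := stepQ 1044 Q1044 (allL N1044 (tt N1043 F2052) (tt N988 F2053) (tt N1069 D3664) (tt N987 (iv D2746)))
theorem Q1046 : ∀ i, i < 1046 → P i := stepQ 1045 Q1045 (allL N1045 (tt N1064 (iv F2581)) (tt N989 (iv D2747)) (tt N1070 D3665) (tt N1004 F10358))
theorem Q1047 : ∀ i, i < 1047 → P i := stepQ 1046 Q1046 (allL N1046 (tt N1047 (iv F2101)) (tt N1046 F10342) (tt N1039 F10343) (tt N991 (iv D2780)))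
theorem Q1048 : ∀ i, i < 1048 → P i := stepQ 1047 Q1047 (allL N1047 (tt N1046 F2101) (tt N1066 F10438) (tt N996 (iv D2810)) (tt N999 F10439))
theorem Q1049 : ∀ i, i < 1049 → P i := stepQ 1048 Q1048 (allL N1048 (tt N1059 (iv F10339)) (tt N1001 F2149) (tt N1066 (iv F10341)) (tt N1000 (iv D2867)))
theorem Q1050 : ∀ i, i < 1050 → P i := stepQ 1049 Q1049 (allL N1049 (tt N1054 (iv F10332)) (tt N1049 F9618) (tt N1003 (iv D2885)) (tt N1071 D3842))
theorem Q1051 : ∀ i, i < 1051 → P i := stepQ 1050 Q1050 (allL N1050 (tt N1013 F10370) (tt N1006 (iv D2891)) (tt N1013 F2170) (tt N1030 F10371))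
theorem Q1052 : ∀ i, i < 1052 → P i := stepQ 1051 Q1051 (allL N1051 (tt N1009 F2205) (tt N1059 F10455) (tt N1062 F10456) (tt N1008 (iv D2933)))
theorem Q1053 : ∀ i, i < 1053 → P i := stepQ 1052 Q1052 (allL N1052 (tt N1011 F2220) (tt N1034 F10491) (tt N1010 (iv D2953)) (tt N1024 F10306))
theorem Q1054 : ∀ i, i < 1054 → P i := stepQ 1053 Q1053 (allL N1053 (tt N1024 F10304) (tt N1053 F9453) (tt N1023 F10490) (tt N1011 (iv D2955)))
theorem Q1055 : ∀ i, i < 1055 → P i := stepQ 1054 Q1054 (allL N1054 (tt N1049 F10332) (tt N1067 F9761) (tt N1012 (iv D2963)) (tt N1070 (iv F10228)))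
theorem Q1056 : ∀ i, i < 1056 → P i := stepQ 1055 Q1055 (allL N1055 (tt N1055 F10254) (tt N1015 F2264) (tt N1061 (iv F10257)) (tt N1014 (iv D3010)))
theorem Q1057 : ∀ i, i < 1057 → P i := stepQ 1056 Q1056 (allL N1056 (tt N1056 F10432) (tt N1019 F2331) (tt N1072 D4107) (tt N1018 (iv D3092)))
theorem Q1058 : ∀ i, i < 1058 → P i := stepQ 1057 Q1057 (allL N1057 (tt N1057 F10204) (tt N1021 (iv D3135)) (tt N1022 F2364) (tt N1073 D4166))
theorem Q1059 : ∀ i, i < 1059 → P i := stepQ 1058 Q1058 (allL N1058 (tt N1034 (iv F10430)) (tt N1073 (iv F3196)) (tt N1033 F10408) (tt N1021 (iv D3136)))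
theorem Q1060 : ∀ i, i < 1060 → P i := stepQ 1059 Q1059 (allL N1059 (tt N1048 F10339) (tt N1051 (iv F10455)) (tt N1074 D4329) (tt N1026 (iv D3272)))
theorem Q1061 : ∀ i, i < 1061 → P i := stepQ 1060 Q1060 (allL N1060 (tt N1038 F10411) (tt N1072 (iv F3144)) (tt N1027 (iv D3286)) (tt N1074 F10412))
theorem Q1062 : ∀ i, i < 1062 → P i := stepQ 1061 Q1061 (allL N1061 (tt N1061 F10258) (tt N1028 (iv D3301)) (tt N1055 F10257) (tt N1075 D4363))
theorem Q1063 : ∀ i, i < 1063 → P i := stepQ 1062 Q1062 (allL N1062 (tt N1029 F2505) (tt N1075 (iv F3348)) (tt N1051 (iv F10456)) (tt N1028 (iv D3302)))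
theorem Q1064 : ∀ i, i < 1064 → P i := stepQ 1063 Q1063 (allL N1063 (tt N1042 F10298) (tt N1033 F2550) (tt N1076 D4432) (tt N1032 (iv D3356)))
theorem Q1065 : ∀ i, i < 1065 → P i := stepQ 1064 Q1064 (allL N1064 (tt N1045 F2581) (tt N1036 F2582) (tt N1071 (iv F10252)) (tt N1035 (iv D3398)))
theorem Q1066 : ∀ i, i < 1066 → P i := stepQ 1065 Q1065 (allL N1065 (tt N1065 F10291) (tt N1037 (iv D3399)) (tt N1077 D4484) (tt N1041 F10307))
theorem Q1067 : ∀ i, i < 1067 → P i := stepQ 1066 Q1066 (allL N1066 (tt N1074 F9748) (tt N1047 (iv F10438)) (tt N1048 F10341) (tt N1038 (iv D3438)))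
theorem Q1068 : ∀ i, i < 1068 → P i := stepQ 1067 Q1067 (allL N1067 (tt N1076 (iv F10359)) (tt N1054 (iv F9761)) (tt N1042 (iv D3513)) (tt N1068 (iv F10333)))
theorem Q1069 : ∀ i, i < 1069 → P i := stepQ 1068 Q1068 (allL N1068 (tt N1069 (iv F2793)) (tt N1070 (iv F2794)) (tt N1043 (iv D3645)) (tt N1067 F10333))
theorem Q1070 : ∀ i, i < 1070 → P i := stepQ 1069 Q1069 (allL N1069 (tt N1068 F2793) (tt N1077 (iv F3448)) (tt N1044 (iv D3664)) (tt N1076 F10441))
theorem Q1071 : ∀ i, i < 1071 → P i := stepQ 1070 Q1070 (allL N1070 (tt N1071 (iv F10251)) (tt N1068 F2794) (tt N1045 (iv D3665)) (tt N1054 F10228))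
theorem Q1072 : ∀ i, i < 1072 → P i := stepQ 1071 Q1071 (allL N1071 (tt N1070 F10251) (tt N1071 F9672) (tt N1064 F10252) (tt N1049 (iv D3842)))
theorem Q1073 : ∀ i, i < 1073 → P i := stepQ 1072 Q1072 (allL N1072 (tt N1072 F10413) (tt N1060 F3144) (tt N1056 (iv D4107)) (tt N1078 D5375))
theorem Q1074 : ∀ i, i < 1074 → P i := stepQ 1073 Q1073 (allL N1073 (tt N1073 F10287) (tt N1058 F3196) (tt N1079 D5450) (tt N1057 (iv D4166)))
theorem Q1075 : ∀ i, i < 1075 → P i := stepQ 1074 Q1074 (allL N1074 (tt N1066 (iv F9748)) (tt N1078 F10473) (tt N1059 (iv D4329)) (tt N1060 (iv F10412)))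
theorem Q1076 : ∀ i, i < 1076 → P i := stepQ 1075 Q1075 (allL N1075 (tt N1075 F10295) (tt N1062 F3348) (tt N1078 F10495) (tt N1061 (iv D4363)))
theorem Q1077 : ∀ i, i < 1077 → P i := stepQ 1076 Q1076 (allL N1076 (tt N1067 F10359) (tt N1079 (iv F10468)) (tt N1063 (iv D4432)) (tt N1069 (iv F10441)))
theorem Q1078 : ∀ i, i < 1078 → P i := stepQ 1077 Q1077 (allL N1077 (tt N1077 F10356) (tt N1069 F3448) (tt N1065 (iv D4484)) (tt N1079 F10357))
theorem Q1079 : ∀ i, i < 1079 → P i := stepQ 1078 Q1078 (allL N1078 (tt N1078 F10410) (tt N1074 (iv F10473)) (tt N1075 (iv F10495)) (tt N1072 (iv D5375)))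
theorem Q1080 : ∀ i, i < 1080 → P i := stepQ 1079 Q1079 (allL N1079 (tt N1079 F10246) (tt N1076 F10468) (tt N1073 (iv D5450)) (tt N1077 (iv F10357)))

theorem closedN : ∀ i, i < N → P i := Q1080

end Cfsg.Agent.Helper17.SuzP3TC
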