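import Cfsg.Agent.Helper17.SuzP3TC.Base

set_option autoImplicit false
set_option linter.all false

noncomputable section

namespace Cfsg.Agent.Helper17.SuzP3TC

theorem c3_6 {p0 p1 p2 p3 p4 p5 p6 : Q} (h0 : act 2 p0 = p1) (h1 : act 1 p1 = p2) (h2 : act 2 p2 = p3) (h3 : act 1 p3 = p4) (h4 : act 2 p4 = p5) (h5 : act 1 p5 = p6) : p6 = p0 := by
  have hr := R3 p0
  subst h0
  subst h1
  subst h2
  subst h3
  subst h4
  subst h5
  exact hr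

theorem d0_0 {p0 q1 q2 q3 q4 q5 q6 q7 q8 q9 : Q} (h1 : act 0 q1 = q2) (h2 : act 1 q2 = q3) (h3 : act 0 q3 = q4) (h4 : act 1 q4 = q5) (h5 : act 0 q5 = q6) (h6 : act 1 q6 = q7) (h7 : act 0 q7 = q8) (h8 : act 1 q8 = q9) (h9 : act 0 q9 = p0) : act 1 p0 = q1 := by
  have hr := R0 p0
  subst h9
  subst h8
  subst h7
  subst h6
  subst h5
  subst h4
  subst h3
  subst h2
  subst h1
  exact ij (ij (ij (ij (ij (ij (ij (ij (ij (hr)))))))))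

theorem d0_1 {p0 p1 q2 q3 q4 q5 q6 q7 q8 q9 : Q} (h0 : act 1 p0 = p1) (h2 : act 1 q2 = q3) (h3 : act 0 q3 = q4) (h4 : act 1 q4 = q5) (h5 : act 0 q5 = q6) (h6 : act 1 q6 = q7) (h7 : act 0 q7 = q8) (h8 : act 1 q8 = q9) (h9 : act 0 q9 = p0) : act 0 p1 = q2 := by
  have hr := R0 p0
  subst h0
  subst h9
  subst h8
  subst h7
  subst h6
  subst h5
  subst h4
  subst h3
  subst h2
  exact ij (ij (ij (ij (ij (ij (ij (ij (hr))))))))

theorem d0_2 {p0 p1 p2 q3 q4 q5 q6 q7 q8 q9 : Q} (h0 : act 1 p0 = p1) (h1 : act 0 p1 = p2) (h3 : act 0 q3 = q4) (h4 : act 1 q4 = q5) (h5 : act 0 q5 = q6) (h6 : act 1 q6 = q7) (h7 : act 0 q7 = q8) (h8 : act 1 q8 = q9) (h9 : act 0 q9 = p0) : act 1 p2 = q3 := by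
  have hr := R0 p0
  subst h0
  subst h1
  subst h9
  subst h8
  subst h7
  subst h6
  subst h5
  subst h4
  subst h3
  exact ij (ij (ij (ij (ij (ij (ij (hr)))))))

theorem d0_3 {p0 p1 p2 p3 q4 q5 q6 q7 q8 q9 : Q} (h0 : act 1 p0 = p1) (h1 : act 0 p1 = p2) (h2 : act 1 p2 = p3) (h4 : act 1 q4 = q5) (h5 : act 0 q5 = q6) (h6 : act 1 q6 = q7) (h7 : act 0 q7 = q8) (h8 : act 1 q8 = q9) (h9 : act 0 q9 = p0) : act 0 p3 = q4 := by
  have hr := R0 p0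
  subst h0
  subst h1
  subst h2
  subst h9
  subst h8
  subst h7
  subst h6
  subst h5
  subst h4
  exact ij (ij (ij (ij (ij (ij (hr))))))

theorem d0_4 {p0 p1 p2 p3 p4 q5 q6 q7 q8 q9 : Q} (h0 : act 1 p0 = p1) (h1 : act 0 p1 = p2) (h2 : act 1 p2 = p3) (h3 : act 0 p3 = p4) (h5 : act 0 q5 = q6) (h6 : act 1 q6 = q7) (h7 : act 0 q7 = q8) (h8 : act 1 q8 = q9) (h9 : act 0 q9 = p0) : act 1 p4 = q5 := by
  have hr := R0 p0
  subst h0
  subst h1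
  subst h2
  subst h3
  subst h9
  subst h8
  subst h7
  subst h6
  subst h5
  exact ij (ij (ij (ij (ij (hr)))))

theorem d0_5 {p0 p1 p2 p3 p4 p5 q6 q7 q8 q9 : Q} (h0 : act 1 p0 = p1) (h1 : act 0 p1 = p2) (h2 : act 1 p2 = p3) (h3 : act 0 p3 = p4) (h4 : act 1 p4 = p5) (h6 : act 1 q6 = q7) (h7 : act 0 q7 = q8) (h8 : act 1 q8 = q9) (h9 : act 0 q9 = p0) : act 0 p5 = q6 := by
  have hr := R0 p0
  subst h0
  subst h1
  subst h2
  subst h3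
  subst h4
  subst h9
  subst h8
  subst h7
  subst h6
  exact ij (ij (ij (ij (hr))))

theorem d0_6 {p0 p1 p2 p3 p4 p5 p6 q7 q8 q9 : Q} (h0 : act 1 p0 = p1) (h1 : act 0 p1 = p2) (h2 : act 1 p2 = p3) (h3 : act 0 p3 = p4) (h4 : act 1 p4 = p5) (h5 : act 0 p5 = p6) (h7 : act 0 q7 = q8) (h8 : act 1 q8 = q9) (h9 : act 0 q9 = p0) : act 1 p6 = q7 := by
  have hr := R0 p0
  subst h0
  subst h1
  subst h2
  subst h3
  subst h4
  subst h5
  subst h9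
  subst h8
  subst h7
  exact ij (ij (ij (hr)))

theorem d0_7 {p0 p1 p2 p3 p4 p5 p6 p7 q8 q9 : Q} (h0 : act 1 p0 = p1) (h1 : act 0 p1 = p2) (h2 : act 1 p2 = p3) (h3 : act 0 p3 = p4) (h4 : act 1 p4 = p5) (h5 : act 0 p5 = p6) (h6 : act 1 p6 = p7) (h8 : act 1 q8 = q9) (h9 : act 0 q9 = p0) : act 0 p7 = q8 := by
  have hr := R0 p0
  subst h0
  subst h1
  subst h2
  subst h3
  subst h4
  subst h5
  subst h6
  subst h9
  subst h8
  exact ij (ij (hr))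

theorem d0_9 {p0 p1 p2 p3 p4 p5 p6 p7 p8 p9 : Q} (h0 : act 1 p0 = p1) (h1 : act 0 p1 = p2) (h2 : act 1 p2 = p3) (h3 : act 0 p3 = p4) (h4 : act 1 p4 = p5) (h5 : act 0 p5 = p6) (h6 : act 1 p6 = p7) (h7 : act 0 p7 = p8) (h8 : act 1 p8 = p9) : act 0 p9 = p0 := by
  have hr := R0 p0
  subst h0
  subst h1
  subst h2
  subst h3
  subst h4
  subst h5
  subst h6
  subst h7
  subst h8
  exact hr

theorem d1_0 {p0 q1 q2 q3 : Q} (h1 : act 0 q1 = q2) (h2 : act 2 q2 = q3) (h3 : act 0 q3 = p0) : act 2 p0 = q1 := by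
  have hr := R1 p0
  subst h3
  subst h2
  subst h1
  exact ij (ij (ij (hr)))

theorem d1_1 {p0 p1 q2 q3 : Q} (h0 : act 2 p0 = p1) (h2 : act 2 q2 = q3) (h3 : act 0 q3 = p0) : act 0 p1 = q2 := by
  have hr := R1 p0
  subst h0
  subst h3
  subst h2
  exact ij (ij (hr))

theorem d1_2 {p0 p1 p2 q3 : Q} (h0 : act 2 p0 = p1) (h1 : act 0 p1 = p2) (h3 : act 0 q3 = p0) : act 2 p2 = q3 := by
  have hr := R1 p0
  subst h0
  subst h1
  subst h3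
  exact ij (hr)

theorem d2_0 {p0 q1 q2 q3 : Q} (h1 : act 0 q1 = q2) (h2 : act 3 q2 = q3) (h3 : act 0 q3 = p0) : act 3 p0 = q1 := by
  have hr := R2 p0
  subst h3
  subst h2
  subst h1
  exact ij (ij (ij (hr)))

theorem d2_1 {p0 p1 q2 q3 : Q} (h0 : act 3 p0 = p1) (h2 : act 3 q2 = q3) (h3 : act 0 q3 = p0) : act 0 p1 = q2 := by
  have hr := R2 p0
  subst h0
  subst h3
  subst h2
  exact ij (ij (hr))

theorem d2_2 {p0 p1 p2 q3 : Q} (h0 : act 3 p0 = p1) (h1 : act 0 p1 = p2) (h3 : act 0 q3 = p0) : act 3 p2 = q3 := by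
  have hr := R2 p0
  subst h0
  subst h1
  subst h3
  exact ij (hr)

theorem d2_3 {p0 p1 p2 p3 : Q} (h0 : act 3 p0 = p1) (h1 : act 0 p1 = p2) (h2 : act 3 p2 = p3) : act 0 p3 = p0 := by
  have hr := R2 p0
  subst h0
  subst h1
  subst h2
  exact hr

theorem d3_0 {p0 q1 q2 q3 q4 q5 : Q} (h1 : act 1 q1 = q2) (h2 : act 2 q2 = q3) (h3 : act 1 q3 = q4) (h4 : act 2 q4 = q5) (h5 : act 1 q5 = p0) : act 2 p0 = q1 := by
  have hr := R3 p0
  subst h5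
  subst h4
  subst h3
  subst h2
  subst h1
  exact ij (ij (ij (ij (ij (hr)))))

theorem d3_1 {p0 p1 q2 q3 q4 q5 : Q} (h0 : act 2 p0 = p1) (h2 : act 2 q2 = q3) (h3 : act 1 q3 = q4) (h4 : act 2 q4 = q5) (h5 : act 1 q5 = p0) : act 1 p1 = q2 := by
  have hr := R3 p0
  subst h0
  subst h5
  subst h4
  subst h3
  subst h2
  exact ij (ij (ij (ij (hr))))

theorem d3_2 {p0 p1 p2 q3 q4 q5 : Q} (h0 : act 2 p0 = p1) (h1 : act 1 p1 = p2) (h3 : act 1 q3 = q4) (h4 : act 2 q4 = q5) (h5 : act 1 q5 = p0) : act 2 p2 = q3 := by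
  have hr := R3 p0
  subst h0
  subst h1
  subst h5
  subst h4
  subst h3
  exact ij (ij (ij (hr)))

theorem d3_3 {p0 p1 p2 p3 q4 q5 : Q} (h0 : act 2 p0 = p1) (h1 : act 1 p1 = p2) (h2 : act 2 p2 = p3) (h4 : act 2 q4 = q5) (h5 : act 1 q5 = p0) : act 1 p3 = q4 := by
  have hr := R3 p0
  subst h0
  subst h1
  subst h2
  subst h5
  subst h4
  exact ij (ij (hr))

theorem d3_4 {p0 p1 p2 p3 p4 q5 : Q} (h0 : act 2 p0 = p1) (h1 : act 1 p1 = p2) (h2 : act 2 p2 = p3) (h3 : act 1 p3 = p4) (h5 : act 1 q5 = p0) : act 2 p4 = q5 := by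
  have hr := R3 p0
  subst h0
  subst h1
  subst h2
  subst h3
  subst h5
  exact ij (hr)

theorem d3_5 {p0 p1 p2 p3 p4 p5 : Q} (h0 : act 2 p0 = p1) (h1 : act 1 p1 = p2) (h2 : act 2 p2 = p3) (h3 : act 1 p3 = p4) (h4 : act 2 p4 = p5) : act 1 p5 = p0 := by
  have hr := R3 p0
  subst h0
  subst h1
  subst h2
  subst h3
  subst h4
  exact hr

theorem d4_0 {p0 q1 q2 q3 : Q} (h1 : act 1 q1 = q2) (h2 : act 3 q2 = q3) (h3 : act 1 q3 = p0) : act 3 p0 = q1 := by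
  have hr := R4 p0
  subst h3
  subst h2
  subst h1
  exact ij (ij (ij (hr)))

theorem d4_1 {p0 p1 q2 q3 : Q} (h0 : act 3 p0 = p1) (h2 : act 3 q2 = q3) (h3 : act 1 q3 = p0) : act 1 p1 = q2 := by
  have hr := R4 p0
  subst h0
  subst h3
  subst h2
  exact ij (ij (hr))

theorem d4_2 {p0 p1 p2 q3 : Q} (h0 : act 3 p0 = p1) (h1 : act 1 p1 = p2) (h3 : act 1 q3 = p0) : act 3 p2 = q3 := by
  have hr := R4 p0
  subst h0
  subst h1
  subst h3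
  exact ij (hr)

theorem d4_3 {p0 p1 p2 p3 : Q} (h0 : act 3 p0 = p1) (h1 : act 1 p1 = p2) (h2 : act 3 p2 = p3) : act 1 p3 = p0 := by
  have hr := R4 p0
  subst h0
  subst h1
  subst h2
  exact hr

theorem d5_1 {p0 p1 q2 q3 q4 q5 q6 q7 q8 q9 q10 q11 q12 q13 q14 q15 : Q} (h0 : act 3 p0 = p1) (h2 : act 3 q2 = q3) (h3 : act 2 q3 = q4) (h4 : act 3 q4 = q5) (h5 : act 2 q5 = q6) (h6 : act 3 q6 = q7) (h7 : act 2 q7 = q8) (h8 : act 3 q8 = q9) (h9 : act 2 q9 = q10) (h10 : act 3 q10 = q11) (h11 : act 2 q11 = q12) (h12 : act 3 q12 = q13) (h13 : act 2 q13 = q14) (h14 : act 3 q14 = q15) (h15 : act 2 q15 = p0) : act 2 p1 = q2 := by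
  have hr := R5 p0
  subst h0
  subst h15
  subst h14
  subst h13
  subst h12
  subst h11
  subst h10
  subst h9
  subst h8
  subst h7
  subst h6
  subst h5
  subst h4
  subst h3
  subst h2
  exact ij (ij (ij (ij (ij (ij (ij (ij (ij (ij (ij (ij (ij (ij (hr))))))))))))))

theorem d5_2 {p0 p1 p2 q3 q4 q5 q6 q7 q8 q9 q10 q11 q12 q13 q14 q15 : Q} (h0 : act 3 p0 = p1) (h1 : act 2 p1 = p2) (h3 : act 2 q3 = q4) (h4 : act 3 q4 = q5) (h5 : act 2 q5 = q6) (h6 : act 3 q6 = q7) (h7 : act 2 q7 = q8) (h8 : act 3 q8 = q9) (h9 : act 2 q9 = q10) (h10 : act 3 q10 = q11) (h11 : act 2 q11 = q12) (h12 : act 3 q12 = q13) (h13 : act 2 q13 = q14) (h14 : act 3 q14 = q15) (h15 : act 2 q15 = p0) : act 3 p2 = q3 := by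
  have hr := R5 p0
  subst h0
  subst h1
  subst h15
  subst h14
  subst h13
  subst h12
  subst h11
  subst h10
  subst h9
  subst h8
  subst h7
  subst h6
  subst h5
  subst h4
  subst h3
  exact ij (ij (ij (ij (ij (ij (ij (ij (ij (ij (ij (ij (ij (hr)))))))))))))

theorem d6_0 {p0 q1 q2 q3 q4 q5 q6 q7 q8 : Q} (h1 : act 3 q1 = q2) (h2 : act 2 q2 = q3) (h3 : act 3 q3 = q4) (h4 : act 2 q4 = q5) (h5 : act 3 q5 = q6) (h6 : act 2 q6 = q7) (h7 : act 3 q7 = q8) (h8 : act 0 q8 = p0) : act 2 p0 = q1 := by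
  have hr := R6 p0
  subst h8
  subst h7
  subst h6
  subst h5
  subst h4
  subst h3
  subst h2
  subst h1
  exact ij (ij (ij (ij (ij (ij (ij (ij (hr))))))))

theorem d6_1 {p0 p1 q2 q3 q4 q5 q6 q7 q8 : Q} (h0 : act 2 p0 = p1) (h2 : act 2 q2 = q3) (h3 : act 3 q3 = q4) (h4 : act 2 q4 = q5) (h5 : act 3 q5 = q6) (h6 : act 2 q6 = q7) (h7 : act 3 q7 = q8) (h8 : act 0 q8 = p0) : act 3 p1 = q2 := by
  have hr := R6 p0
  subst h0
  subst h8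
  subst h7
  subst h6
  subst h5
  subst h4
  subst h3
  subst h2
  exact ij (ij (ij (ij (ij (ij (ij (hr)))))))

theorem d6_2 {p0 p1 p2 q3 q4 q5 q6 q7 q8 : Q} (h0 : act 2 p0 = p1) (h1 : act 3 p1 = p2) (h3 : act 3 q3 = q4) (h4 : act 2 q4 = q5) (h5 : act 3 q5 = q6) (h6 : act 2 q6 = q7) (h7 : act 3 q7 = q8) (h8 : act 0 q8 = p0) : act 2 p2 = q3 := by
  have hr := R6 p0
  subst h0
  subst h1
  subst h8
  subst h7
  subst h6
  subst h5
  subst h4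
  subst h3
  exact ij (ij (ij (ij (ij (ij (hr))))))

theorem d6_4 {p0 p1 p2 p3 p4 q5 q6 q7 q8 : Q} (h0 : act 2 p0 = p1) (h1 : act 3 p1 = p2) (h2 : act 2 p2 = p3) (h3 : act 3 p3 = p4) (h5 : act 3 q5 = q6) (h6 : act 2 q6 = q7) (h7 : act 3 q7 = q8) (h8 : act 0 q8 = p0) : act 2 p4 = q5 := by
  have hr := R6 p0
  subst h0
  subst h1
  subst h2
  subst h3
  subst h8
  subst h7
  subst h6
  subst h5
  exact ij (ij (ij (ij (hr))))

theorem d6_7 {p0 p1 p2 p3 p4 p5 p6 p7 q8 : Q} (h0 : act 2 p0 = p1) (h1 : act 3 p1 = p2) (h2 : act 2 p2 = p3) (h3 : act 3 p3 = p4) (h4 : act 2 p4 = p5) (h5 : act 3 p5 = p6) (h6 : act 2 p6 = p7) (h8 : act 0 q8 = p0) : act 3 p7 = q8 := by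
  have hr := R6 p0
  subst h0
  subst h1
  subst h2
  subst h3
  subst h4
  subst h5
  subst h6
  subst h8
  exact ij (hr)

theorem d6_8 {p0 p1 p2 p3 p4 p5 p6 p7 p8 : Q} (h0 : act 2 p0 = p1) (h1 : act 3 p1 = p2) (h2 : act 2 p2 = p3) (h3 : act 3 p3 = p4) (h4 : act 2 p4 = p5) (h5 : act 3 p5 = p6) (h6 : act 2 p6 = p7) (h7 : act 3 p7 = p8) : act 0 p8 = p0 := by
  have hr := R6 p0
  subst h0
  subst h1
  subst h2
  subst h3
  subst h4
  subst h5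
  subst h6
  subst h7
  exact hr

theorem d7_0 {p0 : Q} (hr : act 0 p0 = p0) : act 0 p0 = p0 := by
  exact hr


end Cfsg.Agent.Helper17.SuzP3TC
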